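import Mathlib
import Groth.Prelude.Def_StMod6
import Groth.Agent.QDescent.Cat
import Groth.Agent.QDescent.Sheaf
import Groth.Agent.QDescent.Hom

/-!
# Morphisms of quasi-coherent modules on a category over schemes, read on affine objects
-/

universe u

open CategoryTheory CategoryTheory.Limits AlgebraicGeometry TopologicalSpace Opposite TensorProduct

set_option autoImplicit false
set_option backward.isDefEq.respectTransparency false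
set_option backward.isDefEq.respectTransparency.types false
set_option linter.style.haveILetI false

noncomputable section

namespace Groth.Agent.RelGen

open Groth.Agent.QC Groth.Agent.QDescent

variable {S : Scheme.{u}} {𝒵 : AlgSt.Cat S}

/-- An fppf morphism of objects through a given point. -/
structure Hits {x' x : 𝒵.obj} (φ : x' ⟶ x) (t : StMod.sch 𝒵 x) : Prop where
  flat : Flat (StMod.bmap 𝒵 φ)
  lfp : LocallyOfFinitePresentation (StMod.bmap 𝒵 φ)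
  mem : t ∈ Set.range (StMod.bmap 𝒵 φ).base

theorem top_le {x' x : 𝒵.obj} (φ : x' ⟶ x) :
    (⊤ : (StMod.sch 𝒵 x').Opens) ≤ StMod.bmap 𝒵 φ ⁻¹ᵁ ⊤ := le_rfl

/-- Transport of global sections. -/
abbrev trT (F : StMod.Mod 𝒵) {x' x : 𝒵.obj} (φ : x' ⟶ x) : Γ(F.obj x, ⊤) →+ Γ(F.obj x', ⊤) :=
  tr F φ ⊤ ⊤ (top_le φ)

theorem trT_comp (F : StMod.Mod 𝒵) {x'' x' x : 𝒵.obj} (ψ : x'' ⟶ x') (φ : x' ⟶ x) (s : Γ(F.obj x, ⊤)) :
    trT F ψ (trT F φ s) = trT F (ψ ≫ φ) s :=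
  tr_tr F ψ φ ⊤ ⊤ ⊤ _ _ s

theorem trT_id (F : StMod.Mod 𝒵) (x : 𝒵.obj) (s : Γ(F.obj x, ⊤)) : trT F (𝟙 x) s = s := by
  show tr F (𝟙 x) ⊤ ⊤ _ s = s
  rw [tr_id F ⊤ ⊤ le_rfl]
  exact res_self _ _ _

theorem trT_congr (F : StMod.Mod 𝒵) {x' x : 𝒵.obj} {φ φ' : x' ⟶ x} (h : φ = φ') (s : Γ(F.obj x, ⊤)) :
    trT F φ s = trT F φ' s := by
  subst h; rfl

theorem trT_smul (F : StMod.Mod 𝒵) {x' x : 𝒵.obj} (φ : x' ⟶ x) (r : Γ(StMod.sch 𝒵 x, ⊤)) (s : Γ(F.obj x, ⊤)) :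
    trT F φ (r • s) = (StMod.bmap 𝒵 φ).appTop.hom r • trT F φ s := by
  show tr F φ ⊤ ⊤ _ _ = _
  rw [tr_smul]
  have hh : (StMod.bmap 𝒵 φ).appLE ⊤ ⊤ (top_le φ) = (StMod.bmap 𝒵 φ).appTop :=
    (Scheme.Hom.appLE_eq_app (StMod.bmap 𝒵 φ) :)
  rw [hh]

theorem tr_hom {F G : StMod.Mod 𝒵} (u : F ⟶ G) {x' x : 𝒵.obj} (φ : x' ⟶ x) (U : (StMod.sch 𝒵 x).Opens)
    (V : (StMod.sch 𝒵 x').Opens) (e : V ≤ StMod.bmap 𝒵 φ ⁻¹ᵁ U) (s : Γ(F.obj x, U)) :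
    tr G φ U V e ((u.app x).app U s) = (u.app x').app V (tr F φ U V e s) :=
  tr_app_of_comm F G φ _ _ (u.comm φ rfl) U V e s

/-- The sections over the top of a cartesian module on an affine object are generated by those of any affine object
below. -/
theorem top_induction (F : StMod.QCoh 𝒵) {x' x : 𝒵.obj} (φ : x' ⟶ x) [IsAffine (StMod.sch 𝒵 x)]
    [IsAffine (StMod.sch 𝒵 x')] {p : Γ(F.obj.obj x', ⊤) → Prop} (h0 : p 0) (hadd : ∀ a b, p a → p b → p (a + b))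
    (hgen : ∀ (r : Γ(StMod.sch 𝒵 x', ⊤)) (s : Γ(F.obj.obj x, ⊤)), p (r • trT F.obj φ s))
    (t : Γ(F.obj.obj x', ⊤)) : p t := by
  letI : Algebra Γ(StMod.sch 𝒵 x, ⊤) Γ(StMod.sch 𝒵 x', ⊤) :=
    ((StMod.bmap 𝒵 φ).appLE ⊤ ⊤ (top_le φ)).hom.toAlgebra
  obtain ⟨Φ, hΦ⟩ := exists_bijective_tr F φ (isAffineOpen_top (StMod.sch 𝒵 x)) (isAffineOpen_top (StMod.sch 𝒵 x'))
    (top_le φ)
  obtain ⟨z, rfl⟩ := Φ.surjective t
  induction z using TensorProduct.induction_on with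
  | zero => rwa [map_zero]
  | add a b ha hb => rw [map_add]; exact hadd _ _ ha hb
  | tmul r s =>
    rw [show (r ⊗ₜ[Γ(StMod.sch 𝒵 x, ⊤)] s) = r • ((1 : Γ(StMod.sch 𝒵 x', ⊤)) ⊗ₜ[Γ(StMod.sch 𝒵 x, ⊤)] s) by
      rw [TensorProduct.smul_tmul', smul_eq_mul, mul_one], map_smul, hΦ]
    exact hgen r s

/-- An object over every open subscheme. -/
theorem exists_open (hZ : FibCat.IsFibGrpd 𝒵.p) (x : 𝒵.obj) (U : (StMod.sch 𝒵 x).Opens) :
    ∃ (x' : 𝒵.obj) (φ : x' ⟶ x), IsOpenImmersion (StMod.bmap 𝒵 φ) ∧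
      Set.range (StMod.bmap 𝒵 φ).base = (U : Set (StMod.sch 𝒵 x)) ∧
      (⊤ : (StMod.sch 𝒵 x').Opens) ≤ StMod.bmap 𝒵 φ ⁻¹ᵁ U ∧ (IsAffineOpen U → IsAffine (StMod.sch 𝒵 x')) := by
  obtain ⟨x', e, φ, hφ⟩ := exists_lift_scheme hZ (x := x) U.ι
  have hr : Set.range (StMod.bmap 𝒵 φ).base = (U : Set (StMod.sch 𝒵 x)) := by
    ext y
    rw [hφ]
    constructor
    · rintro ⟨w, rfl⟩
      exact ((eqToHom e : StMod.sch 𝒵 x' ⟶ U.toScheme).base w).2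
    · intro hy
      refine ⟨(eqToHom e.symm : U.toScheme ⟶ StMod.sch 𝒵 x').base ⟨y, hy⟩, ?_⟩
      rw [Scheme.Hom.comp_apply, eqToHom_apply_cancel]
      rfl
  refine ⟨x', φ, ?_, hr, fun w _ => ?_, fun hU => ?_⟩
  · rw [hφ]; infer_instance
  · show (StMod.bmap 𝒵 φ).base w ∈ (U : Set (StMod.sch 𝒵 x))
    rw [← hr]
    exact ⟨w, rfl⟩
  · haveI : IsAffine U.toScheme := hU
    exact IsAffine.of_isIso (eqToHom e)

/-- An affine fppf neighbourhood below an open, refining a given fppf neighbourhood. -/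
theorem exists_affine_hit (hZ : FibCat.IsFibGrpd 𝒵.p) {x' x : 𝒵.obj} (φ : x' ⟶ x) {t : StMod.sch 𝒵 x}
    (h : Hits φ t) {U : (StMod.sch 𝒵 x).Opens} (ht : t ∈ U) :
    ∃ (x'' : 𝒵.obj) (ι : x'' ⟶ x'), IsAffine (StMod.sch 𝒵 x'') ∧ Hits (ι ≫ φ) t ∧
      (⊤ : (StMod.sch 𝒵 x'').Opens) ≤ StMod.bmap 𝒵 (ι ≫ φ) ⁻¹ᵁ U := by
  haveI := h.flat
  haveI := h.lfp
  obtain ⟨y, hy⟩ := h.mem
  obtain ⟨W, hW, hyW, hWU⟩ := exists_isAffineOpen_mem_and_subset (X := StMod.sch 𝒵 x') (x := y)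
    (U := StMod.bmap 𝒵 φ ⁻¹ᵁ U) (by show (StMod.bmap 𝒵 φ).base y ∈ U; rw [hy]; exact ht)
  obtain ⟨x'', ι, hι, hr, hle, haff⟩ := exists_open hZ x' W
  haveI := hι
  refine ⟨x'', ι, haff hW, ⟨?_, ?_, ?_⟩, ?_⟩
  · rw [StMod.bmap_comp]; infer_instance
  · rw [StMod.bmap_comp]; infer_instance
  · obtain ⟨w, hw⟩ : y ∈ Set.range (StMod.bmap 𝒵 ι).base := by rw [hr]; exact hyW
    refine ⟨w, ?_⟩
    rw [StMod.bmap_comp, Scheme.Hom.comp_apply, hw, hy]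
  · rw [StMod.bmap_comp, Scheme.Hom.comp_preimage]
    exact hle.trans ((StMod.bmap 𝒵 ι).preimage_mono hWU)

theorem hits_id (x : 𝒵.obj) (t : StMod.sch 𝒵 x) : Hits (𝟙 x) t := by
  refine ⟨?_, ?_, ?_⟩ <;> rw [StMod.bmap_id]
  · infer_instance
  · infer_instance
  · exact ⟨t, rfl⟩

/-- A morphism of quasi-coherent modules vanishing on enough affine objects is zero. -/
theorem eq_zero_of_cover (hZ : FibCat.IsFibGrpd 𝒵.p) {M N : StMod.QCoh 𝒵} (u : M ⟶ N)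
    (h : ∀ (x : 𝒵.obj) (t : StMod.sch 𝒵 x), ∃ (x' : 𝒵.obj) (φ : x' ⟶ x), Hits φ t ∧
      ∀ (x'' : 𝒵.obj), (x'' ⟶ x') → IsAffine (StMod.sch 𝒵 x'') →
        ∀ s : Γ(M.obj.obj x'', ⊤), (u.hom.app x'').app ⊤ s = 0) :
    u = 0 := by
  refine InducedCategory.hom_ext (StMod.Mod.hom_ext fun x => Scheme.Modules.hom_ext _ _ fun U => ?_)
  ext s
  show (u.hom.app x).app U s = 0
  choose x' φ hφ hz using h x
  choose x'' ι haff hhit hle using fun t : U => exists_affine_hit hZ (φ t.1) (hφ t.1) t.2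
  refine sect_ext N (φ := fun t : U => ι t ≫ φ t.1) (V := U)
    ⟨fun t => ⟨(hhit t).flat, (hhit t).lfp⟩, fun y hy => ⟨⟨y, hy⟩, (hhit ⟨y, hy⟩).mem⟩⟩ fun t => ?_
  rw [map_zero, tr_hom]
  have key : ∀ (V : (StMod.sch 𝒵 (x'' t)).Opens), ⊤ ≤ V → ∀ a : Γ(M.obj.obj (x'' t), V),
      (u.hom.app (x'' t)).app V a = 0 := by
    intro V hV a
    obtain rfl : V = ⊤ := top_le_iff.1 hV
    exact hz t.1 _ (ι t) (haff t) a
  exact key _ (hle t) _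

theorem app_top_eq_zero {M N : StMod.QCoh 𝒵} (u : M ⟶ N) {x' x : 𝒵.obj} (φ : x' ⟶ x) [IsAffine (StMod.sch 𝒵 x)]
    [IsAffine (StMod.sch 𝒵 x')] (h : ∀ s : Γ(M.obj.obj x, ⊤), (u.hom.app x).app ⊤ s = 0)
    (t : Γ(M.obj.obj x', ⊤)) : (u.hom.app x').app ⊤ t = 0 := by
  refine top_induction M φ (p := fun t => (u.hom.app x').app ⊤ t = 0) (map_zero _)
    (fun a b ha hb => by rw [map_add, ha, hb, add_zero]) (fun r s => ?_) t
  rw [Scheme.Modules.Hom.app_smul, ← tr_hom, h, map_zero, smul_zero]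

/-- Global sections on an affine object are determined by fppf local data. -/
theorem top_ext (F : StMod.QCoh 𝒵) {x : 𝒵.obj} {s s' : Γ(F.obj.obj x, ⊤)}
    (h : ∀ t : StMod.sch 𝒵 x, ∃ (x' : 𝒵.obj) (φ : x' ⟶ x), Hits φ t ∧ trT F.obj φ s = trT F.obj φ s') : s = s' := by
  choose x' φ hφ he using h
  refine sect_ext F (φ := φ) (V := ⊤) ⟨fun t => ⟨(hφ t).flat, (hφ t).lfp⟩, fun y _ => ⟨y, (hφ y).mem⟩⟩ fun t => ?_
  exact he t

section Glue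

variable {M N : StMod.QCoh 𝒵} (Dec : 𝒵.obj → Type (u + 1))
  (L : ∀ x, IsAffine (StMod.sch 𝒵 x) → Dec x → (Γ(M.obj.obj x, ⊤) →+ Γ(N.obj.obj x, ⊤)))

/-- Locally defined, compatible linear maps of global sections on decorated affine objects. -/
structure LocData : Prop where
  grpd : FibCat.IsFibGrpd 𝒵.p
  pull : ∀ {x' x : 𝒵.obj}, (x' ⟶ x) → Dec x → Nonempty (Dec x')
  cov : ∀ (x : 𝒵.obj) (t : StMod.sch 𝒵 x), ∃ (x' : 𝒵.obj) (φ : x' ⟶ x), Hits φ t ∧ Nonempty (Dec x')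
  smul : ∀ x hx d (r : Γ(StMod.sch 𝒵 x, ⊤)) s, L x hx d (r • s) = r • L x hx d s
  compat : ∀ {x' x : 𝒵.obj} (φ : x' ⟶ x) hx hx' d d' s, trT N.obj φ (L x hx d s) = L x' hx' d' (trT M.obj φ s)

/-- The indices of the canonical covering of an open by decorated affine objects. -/
structure Piece (x : 𝒵.obj) (U : (StMod.sch 𝒵 x).Opens) where
  z : 𝒵.obj
  φ : z ⟶ x
  aff : IsAffine (StMod.sch 𝒵 z)
  flat : Flat (StMod.bmap 𝒵 φ)
  lfp : LocallyOfFinitePresentation (StMod.bmap 𝒵 φ)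
  le : (⊤ : (StMod.sch 𝒵 z).Opens) ≤ StMod.bmap 𝒵 φ ⁻¹ᵁ U
  dec : Dec z

variable {Dec L}

theorem LocData.indep (h : LocData Dec L) (x : 𝒵.obj) (hx : IsAffine (StMod.sch 𝒵 x)) (d d' : Dec x)
    (s : Γ(M.obj.obj x, ⊤)) : L x hx d s = L x hx d' s := by
  have := h.compat (𝟙 x) hx hx d d' s
  rwa [trT_id, trT_id] at this

theorem LocData.covers (h : LocData Dec L) (x : 𝒵.obj) (U : (StMod.sch 𝒵 x).Opens) :
    CoversOn (fun k : Piece Dec x U => k.φ) U := by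
  refine ⟨fun k => ⟨k.flat, k.lfp⟩, fun t ht => ?_⟩
  obtain ⟨x', φ, hφ, ⟨d⟩⟩ := h.cov x t
  obtain ⟨x'', ι, ha, hh, hle⟩ := exists_affine_hit h.grpd φ hφ ht
  obtain ⟨d'⟩ := h.pull ι d
  exact ⟨⟨x'', ι ≫ φ, ha, hh.flat, hh.lfp, hle, d'⟩, hh.mem⟩

/-- The glued value on a section. -/
theorem LocData.exists_value (h : LocData Dec L) (x : 𝒵.obj) (U : (StMod.sch 𝒵 x).Opens) (s : Γ(M.obj.obj x, U)) :
    ∃ v : Γ(N.obj.obj x, U), ∀ k : Piece Dec x U,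
      tr N.obj k.φ U ⊤ k.le v = L k.z k.aff k.dec (tr M.obj k.φ U ⊤ k.le s) := by
  have e : ∀ k : Piece Dec x U, StMod.bmap 𝒵 k.φ ⁻¹ᵁ U ≤ ⊤ := fun k => le_top
  obtain ⟨v, hv⟩ := glue N h.grpd (h.covers x U)
    (fun k => res (N.obj.obj k.z) (e k) (L k.z k.aff k.dec (tr M.obj k.φ U ⊤ k.le s))) fun k l z' a b hab W e₁ e₂ => by
      rw [tr_res, tr_res]
      refine section_eq_of_locally fun y hy => ?_
      obtain ⟨W', hW', hyW', hW'W⟩ :=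
        exists_isAffineOpen_mem_and_subset (X := StMod.sch 𝒵 z') (x := y) (U := W) hy
      refine ⟨W', hW'W, hyW', ?_⟩
      obtain ⟨z'', ι, hι, hr, hle, haff⟩ := exists_open h.grpd z' W'
      haveI := hι
      obtain ⟨d⟩ := h.pull (ι ≫ a) k.dec
      refine sect_ext N (φ := fun _ : PUnit.{1} => ι) (V := W') ⟨fun _ => ⟨inferInstance, inferInstance⟩,
        fun w hw => ⟨⟨⟩, by rw [hr]; exact hw⟩⟩ fun _ => ?_
      rw [res_tr, res_tr, tr_tr, tr_tr]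
      have key : ∀ (V : (StMod.sch 𝒵 z'').Opens) (_ : ⊤ ≤ V) (e' : V ≤ StMod.bmap 𝒵 (ι ≫ a) ⁻¹ᵁ ⊤)
          (e'' : V ≤ StMod.bmap 𝒵 (ι ≫ b) ⁻¹ᵁ ⊤),
          tr N.obj (ι ≫ a) ⊤ V e' (L k.z k.aff k.dec (tr M.obj k.φ U ⊤ k.le s)) =
            tr N.obj (ι ≫ b) ⊤ V e'' (L l.z l.aff l.dec (tr M.obj l.φ U ⊤ l.le s)) := by
        intro V hV e' e''
        obtain rfl : V = ⊤ := top_le_iff.1 hV
        show trT N.obj (ι ≫ a) _ = trT N.obj (ι ≫ b) _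
        rw [h.compat (ι ≫ a) k.aff (haff hW') k.dec d, h.compat (ι ≫ b) l.aff (haff hW') l.dec d]
        congr 1
        show tr M.obj _ ⊤ ⊤ _ _ = tr M.obj _ ⊤ ⊤ _ _
        rw [tr_tr, tr_tr]
        exact tr_congr M.obj (by rw [Category.assoc, Category.assoc, hab]) _ _ _ _ _
      exact key _ hle _ _
  refine ⟨v, fun k => ?_⟩
  have := hv k
  rw [← res_tr N.obj k.φ U k.le le_rfl v, this, res_res, res_self]

theorem LocData.value_ext (h : LocData Dec L) (x : 𝒵.obj) (U : (StMod.sch 𝒵 x).Opens) {v v' : Γ(N.obj.obj x, U)}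
    (hv : ∀ k : Piece Dec x U, tr N.obj k.φ U ⊤ k.le v = tr N.obj k.φ U ⊤ k.le v') : v = v' := by
  refine sect_ext N (h.covers x U) fun k => ?_
  rw [← res_tr N.obj k.φ U le_top k.le v, ← res_tr N.obj k.φ U le_top k.le v', hv k]

/-- Compatible local linear maps glue to a morphism of modules. -/
theorem LocData.exists_hom (h : LocData Dec L) :
    ∃ u : M ⟶ N, ∀ (x : 𝒵.obj) (hx : IsAffine (StMod.sch 𝒵 x)) (d : Dec x) (s : Γ(M.obj.obj x, ⊤)),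
      (u.hom.app x).app ⊤ s = L x hx d s := by
  choose v hv using h.exists_value
  let f : ∀ (x : 𝒵.obj) (U : (StMod.sch 𝒵 x).Opens), Γ(M.obj.obj x, U) →+ Γ(N.obj.obj x, U) := fun x U =>
    AddMonoidHom.mk' (v x U) fun s s' => h.value_ext x U fun k => by
      rw [map_add, hv, hv, hv, map_add, map_add]
  have hnat : ∀ (x : 𝒵.obj) {V U : (StMod.sch 𝒵 x).Opens} (hVU : V ≤ U) (s : Γ(M.obj.obj x, U)),
      f x V (res (M.obj.obj x) hVU s) = res (N.obj.obj x) hVU (f x U s) := fun x V U hVU s =>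
    h.value_ext x V fun k => by
      rw [tr_res]
      show tr N.obj k.φ V ⊤ k.le (v x V _) = _
      let k' : Piece Dec x U :=
        ⟨k.z, k.φ, k.aff, k.flat, k.lfp, k.le.trans ((StMod.bmap 𝒵 k.φ).preimage_mono hVU), k.dec⟩
      rw [hv, tr_res]
      exact (hv x U s k').symm
  have hsmul : ∀ (x : 𝒵.obj) (U : (StMod.sch 𝒵 x).Opens) (r : Γ(StMod.sch 𝒵 x, U)) (s : Γ(M.obj.obj x, U)),
      f x U (r • s) = r • f x U s := fun x U r s =>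
    h.value_ext x U fun k => by
      show tr N.obj k.φ U ⊤ k.le (v x U _) = tr N.obj k.φ U ⊤ k.le (r • v x U s)
      rw [hv, tr_smul, tr_smul, h.smul, hv]
  let a : ∀ x, M.obj.obj x ⟶ N.obj.obj x := fun x => mkHom (f x) (hnat x) (hsmul x)
  have hcomm : ∀ {x' x : 𝒵.obj} (φ : x' ⟶ x) (U : (StMod.sch 𝒵 x).Opens) (V : (StMod.sch 𝒵 x').Opens)
      (e : V ≤ StMod.bmap 𝒵 φ ⁻¹ᵁ U) (s : Γ(M.obj.obj x, U)),
      tr N.obj φ U V e (v x U s) = v x' V (tr M.obj φ U V e s) := fun {x' x} φ U V e s =>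
    h.value_ext x' V fun k => by
      rw [hv, tr_tr, tr_tr]
      -- compare with a piece of `x` through which the composite factors locally
      refine top_ext N fun t => ?_
      obtain ⟨p, hp⟩ := (h.covers x U).surj ((StMod.bmap 𝒵 (k.φ ≫ φ)).base t)
        (le_preimage_comp k.φ φ e k.le (trivial : t ∈ (⊤ : (StMod.sch 𝒵 k.z).Opens)))
      obtain ⟨w, hw⟩ := hp
      haveI := p.flat
      haveI := p.lfp
      obtain ⟨q, hq, hq'⟩ := Scheme.Pullback.exists_preimage_pullback (f := StMod.bmap 𝒵 (k.φ ≫ φ))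
        (g := StMod.bmap 𝒵 p.φ) t w hw.symm
      obtain ⟨z₁, ez, c, hc⟩ := exists_lift_scheme h.grpd (x := k.z)
        (pullback.fst (StMod.bmap 𝒵 (k.φ ≫ φ)) (StMod.bmap 𝒵 p.φ))
      have hit : Hits c t := by
        refine ⟨?_, ?_, ?_⟩
        · rw [hc]; infer_instance
        · rw [hc]; infer_instance
        · refine ⟨(eqToHom ez.symm : _ ⟶ StMod.sch 𝒵 z₁).base q, ?_⟩
          rw [hc, Scheme.Hom.comp_apply, eqToHom_apply_cancel, hq]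
      obtain ⟨z₂, ι, haff₂, hit₂, -⟩ := exists_affine_hit h.grpd c hit (U := ⊤) trivial
      obtain ⟨g, -, hg⟩ := exists_factor h.grpd p.φ (c ≫ k.φ ≫ φ)
        (eqToHom ez ≫ pullback.snd (StMod.bmap 𝒵 (k.φ ≫ φ)) (StMod.bmap 𝒵 p.φ)) (by
          rw [Category.assoc, ← pullback.condition, StMod.bmap_comp c, hc, Category.assoc])
      refine ⟨z₂, ι ≫ c, hit₂, ?_⟩
      obtain ⟨d₂⟩ := h.pull (ι ≫ c) k.dec
      have e₁ : (⊤ : (StMod.sch 𝒵 z₂).Opens) ≤ StMod.bmap 𝒵 ((ι ≫ g) ≫ p.φ) ⁻¹ᵁ U :=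
        le_preimage_comp (ι ≫ g) p.φ p.le le_rfl
      have heq : (ι ≫ c) ≫ k.φ ≫ φ = (ι ≫ g) ≫ p.φ := by rw [Category.assoc, Category.assoc, hg]
      show tr N.obj (ι ≫ c) ⊤ ⊤ _ _ = trT N.obj (ι ≫ c) _
      rw [h.compat (ι ≫ c) k.aff haff₂ k.dec d₂, tr_tr,
        tr_congr N.obj heq U ⊤ _ e₁, ← tr_tr N.obj (ι ≫ g) p.φ U ⊤ ⊤ p.le le_rfl, hv]
      show trT N.obj (ι ≫ g) _ = _
      rw [h.compat (ι ≫ g) p.aff haff₂ p.dec d₂]
      congr 1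
      show tr M.obj _ ⊤ ⊤ _ _ = tr M.obj _ ⊤ ⊤ _ _
      rw [tr_tr, tr_tr]
      exact (tr_congr M.obj heq _ _ _ _ _).symm
  refine ⟨ObjectProperty.homMk ⟨a, fun {x' x} φ g hg => ?_⟩, fun x hx d s => ?_⟩
  · subst hg
    refine Scheme.Modules.hom_ext _ _ fun U => ?_
    ext s
    have hk : ∀ (G : StMod.Mod 𝒵) (t : Γ(G.obj x, U)), (G.map φ rfl).app U t = tr G φ U _ le_rfl t :=
      fun G t => (res_self _ le_rfl _).symm
    show v x' _ ((M.obj.map φ rfl).app U s) = (N.obj.map φ rfl).app U (v x U s)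
    rw [hk, hk]
    exact (hcomm φ U _ le_rfl s).symm
  · show v x ⊤ s = L x hx d s
    refine h.value_ext x ⊤ fun k => ?_
    rw [hv]
    exact (h.compat k.φ hx k.aff d k.dec s).symm

end Glue

end Groth.Agent.RelGen
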