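import Mathlib
import Groth.Agent.RelGen.Basic
import Groth.Agent.QDescent.Stack

/-!
# Finite affine coverings of categories over schemes, and the category over an object of the base
-/

universe u

open CategoryTheory CategoryTheory.Limits AlgebraicGeometry TopologicalSpace Opposite

set_option autoImplicit false
set_option backward.isDefEq.respectTransparency false
set_option backward.isDefEq.respectTransparency.types false
set_option linter.style.haveILetI false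

noncomputable section

namespace Groth.Agent.RelGen

open Groth.Agent.QC Groth.Agent.QDescent

variable {S : Scheme.{u}}

/-- Finitely many affine objects to which every object maps fppf locally. -/
def IsQC (𝒵 : AlgSt.Cat S) : Prop :=
  ∃ (I : Type u) (_ : Finite I) (a : I → 𝒵.obj), (∀ i, IsAffine (StMod.sch 𝒵 (a i))) ∧
    ∀ (x : 𝒵.obj) (t : StMod.sch 𝒵 x), ∃ (x' : 𝒵.obj) (φ : x' ⟶ x), Hits φ t ∧ ∃ i, Nonempty (x' ⟶ a i)

/-- Any two affine objects have finitely many affine overlaps through which all common refinements factor fppf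
locally. -/
def IsQS (𝒵 : AlgSt.Cat S) : Prop :=
  ∀ A B : 𝒵.obj, IsAffine (StMod.sch 𝒵 A) → IsAffine (StMod.sch 𝒵 B) →
    ∃ (K : Type u) (_ : Finite K) (z : K → 𝒵.obj) (p : ∀ k, z k ⟶ A) (q : ∀ k, z k ⟶ B),
      (∀ k, IsAffine (StMod.sch 𝒵 (z k))) ∧
      ∀ (w : 𝒵.obj) (c : w ⟶ A) (d : w ⟶ B) (t : StMod.sch 𝒵 w),
        ∃ (w' : 𝒵.obj) (φ : w' ⟶ w) (k : K) (v : w' ⟶ z k), Hits φ t ∧ v ≫ p k = φ ≫ c ∧ v ≫ q k = φ ≫ d

variable {𝒳 𝒴 : AlgSt.Cat S} (π : 𝒳 ⥤ᵇ 𝒴)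

/-- An object over `η'`, pushed to `η`. -/
abbrev push {η' η : 𝒴.obj} (ψ : η' ⟶ η) (x : (StMod.fibCat π η').obj) : (StMod.fibCat π η).obj :=
  CostructuredArrow.mk (x.hom ≫ ψ)

/-- The functor between categories over objects of the base. -/
def fibMap {η' η : 𝒴.obj} (ψ : η' ⟶ η) : StMod.fibCat π η' ⥤ᵇ StMod.fibCat π η where
  toFunctor :=
    { obj := fun x => push π ψ x
      map := fun {x y} φ => CostructuredArrow.homMk φ.left (by
        show π.map φ.left ≫ y.hom ≫ ψ = x.hom ≫ ψ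
        rw [← Category.assoc, CostructuredArrow.w φ])
      map_id := fun x => CostructuredArrow.hom_ext _ _ rfl
      map_comp := fun φ φ' => CostructuredArrow.hom_ext _ _ rfl }
  w := rfl

theorem fibMap_map_left {η' η : 𝒴.obj} (ψ : η' ⟶ η) {x y : (StMod.fibCat π η').obj} (φ : x ⟶ y) :
    ((fibMap π ψ).map φ).left = φ.left := rfl

/-- The inverse image to the category over `η'`. -/
abbrev restrQ {η' η : 𝒴.obj} (ψ : η' ⟶ η) (F : StMod.QCoh (StMod.fibCat π η)) : StMod.QCoh (StMod.fibCat π η') :=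
  (StMod.comapQ (fibMap π ψ)).obj F

theorem tr_restrQ {η' η : 𝒴.obj} (ψ : η' ⟶ η) (F : StMod.QCoh (StMod.fibCat π η))
    {x' x : (StMod.fibCat π η').obj} (φ : x' ⟶ x) (U : (StMod.sch 𝒳 x.left).Opens)
    (V : (StMod.sch 𝒳 x'.left).Opens) (e : V ≤ StMod.bmap 𝒳 φ.left ⁻¹ᵁ U) (s : Γ(F.obj.obj (push π ψ x), U)) :
    tr (restrQ π ψ F).obj φ U V e s = tr F.obj ((fibMap π ψ).map φ) U V e s := by
  have h : (StMod.Mod.comap (fibMap π ψ) F.obj).map φ (g := StMod.bmap 𝒳 φ.left) rfl =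
      F.obj.map ((fibMap π ψ).map φ) rfl := by
    rw [StMod.Mod.comap_map]
    exact (StMod.castMap_rfl _ _).trans (StMod.Mod.map_comp_pushforwardCongr _ _ _ _)
  exact congrArg (res (F.obj.obj (push π ψ x')) e) congr($(h).app U s)

theorem uFib_push {η' η : 𝒴.obj} (ψ : η' ⟶ η) (x : (StMod.fibCat π η').obj) :
    uFib π η (push π ψ x) = uFib π η' x ≫ StMod.bmap 𝒴 ψ :=
  (uFib_comp π ψ x).symm

theorem uFib_nat {η : 𝒴.obj} {x' x : (StMod.fibCat π η).obj} (φ : x' ⟶ x) :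
    StMod.bmap 𝒳 φ.left ≫ uFib π η x = uFib π η x' := by
  have h := StMod.bmap_comp_baseOver_left π φ.left x.hom
  rw [CostructuredArrow.w φ] at h
  exact h

theorem bmap_hom_eq {η : 𝒴.obj} (x : (StMod.fibCat π η).obj) :
    StMod.bmap 𝒴 x.hom = eqToHom (StMod.sch_obj_eq π x.left) ≫ uFib π η x := by
  rw [uFib_eq, ← Category.assoc, eqToHom_trans, eqToHom_refl, Category.id_comp]

/-- A morphism of underlying objects is a morphism over `η'` once it is one over `η` and over the scheme. -/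
theorem hom_w_of (h𝒴 : FibCat.IsFibGrpd 𝒴.p) {η' η : 𝒴.obj} (ψ : η' ⟶ η) {w x : (StMod.fibCat π η').obj}
    (v : w.left ⟶ x.left) (h₁ : StMod.bmap 𝒳 v ≫ uFib π η' x = uFib π η' w)
    (h₂ : π.map v ≫ x.hom ≫ ψ = w.hom ≫ ψ) : π.map v ≫ x.hom = w.hom := by
  refine eq_of_bmap h𝒴 ψ ?_ (by rw [Category.assoc, h₂])
  rw [StMod.bmap_comp, bmap_map, bmap_hom_eq, bmap_hom_eq, ← h₁]
  simp

variable {π}

/-- The square exhibiting an object over `η'` as the base change of an object over `η`. -/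
abbrev IsBC {η' η : 𝒴.obj} (ψ : η' ⟶ η) {x : (StMod.fibCat π η).obj} (x' : (StMod.fibCat π η').obj)
    (φ : push π ψ x' ⟶ x) : Prop :=
  IsPullback (StMod.bmap 𝒳 φ.left) (uFib π η' x') (uFib π η x) (StMod.bmap 𝒴 ψ)

variable (h𝒳 : FibCat.IsFibGrpd 𝒳.p) (h𝒴 : FibCat.IsFibGrpd 𝒴.p)

include h𝒳 h𝒴

theorem exists_pullObj {η' η : 𝒴.obj} (ψ : η' ⟶ η) (x : (StMod.fibCat π η).obj) :
    ∃ (x' : (StMod.fibCat π η').obj) (φ : push π ψ x' ⟶ x), IsBC ψ x' φ := by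
  obtain ⟨ξ', e, φ, hφ⟩ := exists_lift_scheme h𝒳 (x := x.left) (pullback.fst (uFib π η x) (StMod.bmap 𝒴 ψ))
  obtain ⟨α', hα', hα⟩ := exists_factor h𝒴 ψ (π.map φ ≫ x.hom)
    (eqToHom ((StMod.sch_obj_eq π ξ').trans e) ≫ pullback.snd (uFib π η x) (StMod.bmap 𝒴 ψ)) (by
      rw [StMod.bmap_comp, bmap_map, hφ, bmap_hom_eq, Category.assoc, ← pullback.condition]
      simp)
  refine ⟨CostructuredArrow.mk α', CostructuredArrow.homMk φ hα.symm, ?_⟩
  have hu : uFib π η' (CostructuredArrow.mk α') = eqToHom e ≫ pullback.snd _ _ := by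
    rw [uFib_eq]
    show _ ≫ StMod.bmap 𝒴 α' = _
    rw [hα', ← Category.assoc, eqToHom_trans]
  refine IsPullback.of_iso_pullback ⟨?_⟩ (eqToIso e) hφ.symm hu.symm
  show StMod.bmap 𝒳 φ ≫ uFib π η x = uFib π η' (CostructuredArrow.mk α') ≫ StMod.bmap 𝒴 ψ
  rw [hu, hφ, Category.assoc, Category.assoc, pullback.condition]

theorem exists_bcLift {η' η : 𝒴.obj} {ψ : η' ⟶ η} {x : (StMod.fibCat π η).obj} {x' : (StMod.fibCat π η').obj}
    {φ : push π ψ x' ⟶ x} (h : IsBC ψ x' φ) {w : (StMod.fibCat π η').obj} (c : push π ψ w ⟶ x) :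
    ∃ v : w ⟶ x', (fibMap π ψ).map v ≫ φ = c := by
  have hc : StMod.bmap 𝒳 c.left ≫ uFib π η x = uFib π η' w ≫ StMod.bmap 𝒴 ψ :=
    (uFib_nat π c).trans (uFib_push π ψ w)
  obtain ⟨v, hv, hvφ⟩ := exists_factor h𝒳 φ.left c.left (h.lift _ _ hc) (h.lift_fst _ _ _)
  refine ⟨CostructuredArrow.homMk v (hom_w_of π h𝒴 ψ v ?_ ?_), CostructuredArrow.hom_ext _ _ hvφ⟩
  · rw [hv]; exact h.lift_snd _ _ _
  · have h1 : π.map φ.left ≫ x.hom = x'.hom ≫ ψ := CostructuredArrow.w φ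
    have h2 : π.map c.left ≫ x.hom = w.hom ≫ ψ := CostructuredArrow.w c
    rw [← h1, ← Category.assoc, ← π.toFunctor.map_comp, hvφ, h2]

omit h𝒴 in
theorem bcLift_unique {η' η : 𝒴.obj} {ψ : η' ⟶ η} {x : (StMod.fibCat π η).obj} {x' : (StMod.fibCat π η').obj}
    {φ : push π ψ x' ⟶ x} (h : IsBC ψ x' φ) {w : (StMod.fibCat π η').obj} {v v' : w ⟶ x'}
    (hv : (fibMap π ψ).map v ≫ φ = (fibMap π ψ).map v' ≫ φ) : v = v' := by
  have e : v.left ≫ φ.left = v'.left ≫ φ.left := congrArg CommaMorphism.left hv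
  refine CostructuredArrow.hom_ext _ _ (eq_of_bmap h𝒳 φ.left (h.hom_ext ?_ ?_) e)
  · have := congrArg (StMod.bmap 𝒳) e
    rwa [StMod.bmap_comp, StMod.bmap_comp] at this
  · rw [uFib_nat π v, uFib_nat π v']

omit h𝒳 h𝒴 in
/-- A morphism to the push of an object comes from the category over `η'`. -/
theorem exists_down {η' η : 𝒴.obj} (ψ : η' ⟶ η) {w : (StMod.fibCat π η').obj} {x : (StMod.fibCat π η).obj}
    (φ₀ : x ⟶ push π ψ w) :
    ∃ (w' : (StMod.fibCat π η').obj) (φ : w' ⟶ w) (c : push π ψ w' ⟶ x),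
      (fibMap π ψ).map φ = c ≫ φ₀ ∧ ∀ t : StMod.sch 𝒳 w.left, Hits φ₀ t → Hits φ t := by
  refine ⟨CostructuredArrow.mk (π.map φ₀.left ≫ w.hom), CostructuredArrow.homMk φ₀.left rfl,
    CostructuredArrow.homMk (𝟙 x.left) ?_, ?_, fun t ht => ⟨ht.flat, ht.lfp, ht.mem⟩⟩
  · show π.map (𝟙 x.left) ≫ x.hom = (π.map φ₀.left ≫ w.hom) ≫ ψ
    have h1 : π.map φ₀.left ≫ w.hom ≫ ψ = x.hom := CostructuredArrow.w φ₀
    rw [π.toFunctor.map_id, Category.id_comp, Category.assoc]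
    exact h1.symm
  · exact CostructuredArrow.hom_ext _ _ (Category.id_comp φ₀.left).symm

theorem IsQC.baseChange {η' η : 𝒴.obj} (ψ : η' ⟶ η) [IsAffine (StMod.sch 𝒴 η')] [IsAffine (StMod.sch 𝒴 η)]
    (h : IsQC (StMod.fibCat π η)) : IsQC (StMod.fibCat π η') := by
  obtain ⟨I, _, a, ha, hcov⟩ := h
  choose a' φ hbc using fun i => exists_pullObj h𝒳 h𝒴 ψ (a i)
  refine ⟨I, inferInstance, a', fun i => ?_, fun w t => ?_⟩
  · haveI : IsAffine (StMod.sch 𝒳 (a i).left) := ha i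
    exact IsAffine.of_isPullback (hbc i)
  · obtain ⟨x, φ₀, h₀, i, ⟨c₀⟩⟩ := hcov (push π ψ w) t
    obtain ⟨w', φ', c, -, hh⟩ := exists_down ψ φ₀
    obtain ⟨v, -⟩ := exists_bcLift h𝒳 h𝒴 (hbc i) (c ≫ c₀)
    exact ⟨w', φ', hh t h₀, i, ⟨v⟩⟩

theorem IsQS.baseChange {η' η : 𝒴.obj} (ψ : η' ⟶ η) [IsAffine (StMod.sch 𝒴 η')] [IsAffine (StMod.sch 𝒴 η)]
    (h : IsQS (StMod.fibCat π η)) : IsQS (StMod.fibCat π η') := by
  intro A B hA hB
  obtain ⟨K, _, z, p, q, hz, hcov⟩ := h (push π ψ A) (push π ψ B) hA hB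
  let a : ∀ k, StMod.sch 𝒳 (z k).left ⟶ StMod.sch 𝒴 η' := fun k => StMod.bmap 𝒳 (p k).left ≫ uFib π η' A
  let b : ∀ k, StMod.sch 𝒳 (z k).left ⟶ StMod.sch 𝒴 η' := fun k => StMod.bmap 𝒳 (q k).left ≫ uFib π η' B
  have hab : ∀ k, a k ≫ StMod.bmap 𝒴 ψ = b k ≫ StMod.bmap 𝒴 ψ := fun k => by
    simp only [a, b, Category.assoc, ← uFib_push]
    rw [uFib_nat π (p k), uFib_nat π (q k)]
  let g : ∀ k, StMod.sch 𝒳 (z k).left ⟶ pullback (StMod.bmap 𝒴 ψ) (StMod.bmap 𝒴 ψ) :=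
    fun k => pullback.lift (a k) (b k) (hab k)
  choose ξ e ι hι using fun k => exists_lift_scheme h𝒳 (x := (z k).left)
    (pullback.fst (g k) (pullback.diagonal (StMod.bmap 𝒴 ψ)))
  have hq : ∀ k, π.map (ι k ≫ (q k).left) ≫ B.hom = π.map (ι k ≫ (p k).left) ≫ A.hom := fun k => by
    refine eq_of_bmap h𝒴 ψ ?_ ?_
    · have h1 := pullback.condition (f := g k) (g := pullback.diagonal (StMod.bmap 𝒴 ψ))
      have ha : pullback.fst (g k) (pullback.diagonal (StMod.bmap 𝒴 ψ)) ≫ a k =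
          pullback.snd (g k) (pullback.diagonal (StMod.bmap 𝒴 ψ)) := by
        simpa [g] using h1 =≫ pullback.fst _ _
      have hb : pullback.fst (g k) (pullback.diagonal (StMod.bmap 𝒴 ψ)) ≫ b k =
          pullback.snd (g k) (pullback.diagonal (StMod.bmap 𝒴 ψ)) := by
        simpa [g] using h1 =≫ pullback.snd _ _
      simp only [a, b] at ha hb
      rw [StMod.bmap_comp, StMod.bmap_comp, bmap_map, bmap_map, bmap_hom_eq, bmap_hom_eq, StMod.bmap_comp,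
        StMod.bmap_comp, hι k]
      simp [ha, hb]
    · have h1 : π.map (p k).left ≫ A.hom ≫ ψ = (z k).hom := CostructuredArrow.w (p k)
      have h2 : π.map (q k).left ≫ B.hom ≫ ψ = (z k).hom := CostructuredArrow.w (q k)
      rw [π.toFunctor.map_comp, π.toFunctor.map_comp]
      simp only [Category.assoc]
      rw [h1, h2]
  let z' : K → (StMod.fibCat π η').obj := fun k => CostructuredArrow.mk (π.map (ι k ≫ (p k).left) ≫ A.hom)
  refine ⟨K, inferInstance, z', fun k => CostructuredArrow.homMk (ι k ≫ (p k).left) rfl,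
    fun k => CostructuredArrow.homMk (ι k ≫ (q k).left) (hq k), fun k => ?_, fun w c d t => ?_⟩
  · haveI : IsAffine (StMod.sch 𝒳 (z k).left) := hz k
    exact IsAffine.of_isIso (eqToHom (e k))
  · obtain ⟨x, φ₀, k, v, h₀, hv₁, hv₂⟩ := hcov (push π ψ w) ((fibMap π ψ).map c) ((fibMap π ψ).map d) t
    obtain ⟨w', φ', c', hc', hh⟩ := exists_down ψ φ₀
    have hp : (c'.left ≫ v.left) ≫ (p k).left = φ'.left ≫ c.left := by
      have := congrArg CommaMorphism.left hv₁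
      rw [Category.assoc]
      exact (congrArg (c'.left ≫ ·) this).trans (by
        show c'.left ≫ φ₀.left ≫ c.left = _
        rw [← Category.assoc]
        exact congrArg (· ≫ c.left) (congrArg CommaMorphism.left hc').symm)
    have hq' : (c'.left ≫ v.left) ≫ (q k).left = φ'.left ≫ d.left := by
      have := congrArg CommaMorphism.left hv₂
      rw [Category.assoc]
      exact (congrArg (c'.left ≫ ·) this).trans (by
        show c'.left ≫ φ₀.left ≫ d.left = _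
        rw [← Category.assoc]
        exact congrArg (· ≫ d.left) (congrArg CommaMorphism.left hc').symm)
    have h1 : StMod.bmap 𝒳 (c'.left ≫ v.left) ≫ a k = uFib π η' w' := by
      simp only [a]
      rw [← Category.assoc, ← StMod.bmap_comp, hp, StMod.bmap_comp, Category.assoc, uFib_nat π c, uFib_nat π φ']
    have h2 : StMod.bmap 𝒳 (c'.left ≫ v.left) ≫ b k = uFib π η' w' := by
      simp only [b]
      rw [← Category.assoc, ← StMod.bmap_comp, hq', StMod.bmap_comp, Category.assoc, uFib_nat π d, uFib_nat π φ']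
    obtain ⟨v', hv', hv''⟩ := exists_factor h𝒳 (ι k) (c'.left ≫ v.left)
      (pullback.lift (StMod.bmap 𝒳 (c'.left ≫ v.left)) (uFib π η' w') (pullback.hom_ext
        (by simpa [g, StMod.bmap_comp] using h1) (by simpa [g, StMod.bmap_comp] using h2)) ≫ eqToHom (e k).symm) (by
        rw [hι k]; simp)
    refine ⟨w', φ', k, CostructuredArrow.homMk v' ?_, hh t h₀, CostructuredArrow.hom_ext _ _ ?_,
      CostructuredArrow.hom_ext _ _ ?_⟩
    · show π.map v' ≫ π.map (ι k ≫ (p k).left) ≫ A.hom = w'.hom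
      rw [← Category.assoc, ← π.toFunctor.map_comp, ← Category.assoc v', hv'', hp, π.toFunctor.map_comp,
        Category.assoc, CostructuredArrow.w c, CostructuredArrow.w φ']
    · show v' ≫ ι k ≫ (p k).left = φ'.left ≫ c.left
      rw [← Category.assoc, hv'', hp]
    · show v' ≫ ι k ≫ (q k).left = φ'.left ≫ d.left
      rw [← Category.assoc, hv'', hq']

section Comp

omit h𝒳 h𝒴

theorem exists_over (h𝒳 : FibCat.IsFibGrpd 𝒳.p) (h𝒴 : FibCat.IsFibGrpd 𝒴.p) {x : 𝒳.obj} {w : 𝒴.obj}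
    (α : w ⟶ π.obj x) :
    ∃ (x' : 𝒳.obj) (φ : x' ⟶ x) (χ : π.obj x' ⟶ w), χ ≫ α = π.map φ ∧
      StMod.bmap 𝒳 φ = eqToHom (StMod.sch_obj_eq π x').symm ≫ StMod.bmap 𝒴 χ ≫ StMod.bmap 𝒴 α ≫
        eqToHom (StMod.sch_obj_eq π x) ∧ IsIso (StMod.bmap 𝒴 χ) := by
  obtain ⟨x', e, φ, hφ⟩ := exists_lift_scheme h𝒳 (x := x) (StMod.bmap 𝒴 α ≫ eqToHom (StMod.sch_obj_eq π x))
  obtain ⟨χ, hχ, hχ'⟩ := exists_factor h𝒴 α (π.map φ) (eqToHom ((StMod.sch_obj_eq π x').trans e)) (by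
    rw [bmap_map, hφ]; simp)
  refine ⟨x', φ, χ, hχ', ?_, ?_⟩
  · rw [hχ, hφ]; simp
  · rw [hχ]; infer_instance

/-- Quasi-compactness of a composite. -/
theorem IsQC.comp (h𝒳 : FibCat.IsFibGrpd 𝒳.p) (h𝒴 : FibCat.IsFibGrpd 𝒴.p) (hQ : IsQC 𝒴)
    (hπ : ∀ η, IsAffine (StMod.sch 𝒴 η) → IsQC (StMod.fibCat π η)) : IsQC 𝒳 := by
  obtain ⟨I, _, a, ha, hcov⟩ := hQ
  choose J hJ b hb hbcov using fun i => hπ (a i) (ha i)
  haveI := hJ
  refine ⟨Σ i, J i, inferInstance, fun j => (b j.1 j.2).left, fun j => hb j.1 j.2, fun x t => ?_⟩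
  obtain ⟨w, α, hα, i, ⟨β⟩⟩ := hcov (π.obj x) ((eqToHom (StMod.sch_obj_eq π x).symm).base t)
  obtain ⟨x', φ, χ, hχ, hφ, hiso⟩ := exists_over h𝒳 h𝒴 α
  haveI := hiso
  haveI := hα.flat
  haveI := hα.lfp
  have hit : Hits φ t := by
    refine ⟨?_, ?_, ?_⟩
    · rw [hφ]; infer_instance
    · rw [hφ]; infer_instance
    · obtain ⟨y, hy⟩ := hα.mem
      refine ⟨(eqToHom (StMod.sch_obj_eq π x')).base ((inv (StMod.bmap 𝒴 χ)).base y), ?_⟩
      rw [hφ]
      simp only [Scheme.Hom.comp_apply, eqToHom_apply_cancel]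
      rw [← Scheme.Hom.comp_apply (inv (StMod.bmap 𝒴 χ)), IsIso.inv_hom_id, Scheme.Hom.id_base, TopCat.id_app, hy,
        eqToHom_apply_cancel]
  obtain ⟨y, hy⟩ := hit.mem
  let xη : (StMod.fibCat π (a i)).obj := CostructuredArrow.mk (χ ≫ β)
  obtain ⟨x'', φ', h', j, ⟨c⟩⟩ := hbcov i xη y
  refine ⟨x''.left, φ'.left ≫ φ, ⟨?_, ?_, ?_⟩, ⟨i, j⟩, ⟨c.left⟩⟩
  · haveI := hit.flat
    haveI : Flat (StMod.bmap 𝒳 φ'.left) := h'.flat
    rw [StMod.bmap_comp]; infer_instance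
  · haveI := hit.lfp
    haveI : LocallyOfFinitePresentation (StMod.bmap 𝒳 φ'.left) := h'.lfp
    rw [StMod.bmap_comp]; infer_instance
  · obtain ⟨y', hy'⟩ := h'.mem
    refine ⟨y', ?_⟩
    rw [StMod.bmap_comp, Scheme.Hom.comp_apply]
    exact (congrArg (StMod.bmap 𝒳 φ).base hy').trans hy

/-- Quasi-separatedness of a composite. -/
theorem IsQS.comp (h𝒳 : FibCat.IsFibGrpd 𝒳.p) (h𝒴 : FibCat.IsFibGrpd 𝒴.p) (hQ : IsQS 𝒴)
    (hπ : ∀ η, IsAffine (StMod.sch 𝒴 η) → IsQS (StMod.fibCat π η)) : IsQS 𝒳 := by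
  intro A B hA hB
  haveI := hA
  haveI := hB
  obtain ⟨K, _, z, p, q, hz, hcov⟩ := hQ (π.obj A) (π.obj B)
    (IsAffine.of_isIso (eqToHom (StMod.sch_obj_eq π A))) (IsAffine.of_isIso (eqToHom (StMod.sch_obj_eq π B)))
  choose A' φA χA hA₁ hA₂ hA₃ using fun k => exists_over h𝒳 h𝒴 (p k)
  choose B' φB χB hB₁ hB₂ hB₃ using fun k => exists_over h𝒳 h𝒴 (q k)
  have haffA : ∀ k, IsAffine (StMod.sch 𝒳 (A' k)) := fun k => by
    haveI := hz k
    haveI := hA₃ k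
    haveI : IsAffine (StMod.sch 𝒴 (π.obj (A' k))) := IsAffine.of_isIso (StMod.bmap 𝒴 (χA k))
    exact IsAffine.of_isIso (eqToHom (StMod.sch_obj_eq π (A' k)).symm)
  have haffB : ∀ k, IsAffine (StMod.sch 𝒳 (B' k)) := fun k => by
    haveI := hz k
    haveI := hB₃ k
    haveI : IsAffine (StMod.sch 𝒴 (π.obj (B' k))) := IsAffine.of_isIso (StMod.bmap 𝒴 (χB k))
    exact IsAffine.of_isIso (eqToHom (StMod.sch_obj_eq π (B' k)).symm)
  choose L hL y r s hy hycov using fun k => hπ (z k) (hz k) (CostructuredArrow.mk (χA k))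
    (CostructuredArrow.mk (χB k)) (haffA k) (haffB k)
  haveI := hL
  refine ⟨Σ k, L k, inferInstance, fun l => (y l.1 l.2).left, fun l => (r l.1 l.2).left ≫ φA l.1,
    fun l => (s l.1 l.2).left ≫ φB l.1, fun l => hy l.1 l.2, fun w c d t => ?_⟩
  obtain ⟨w₁, φ, k, v, hφ, hv₁, hv₂⟩ := hcov (π.obj w) (π.map c) (π.map d)
    ((eqToHom (StMod.sch_obj_eq π w).symm).base t)
  obtain ⟨w', ψ, χ, hχ, hψ, hiso⟩ := exists_over h𝒳 h𝒴 φ
  haveI := hiso
  haveI := hφ.flat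
  haveI := hφ.lfp
  have hit : Hits ψ t := by
    refine ⟨?_, ?_, ?_⟩
    · rw [hψ]; infer_instance
    · rw [hψ]; infer_instance
    · obtain ⟨y, hy⟩ := hφ.mem
      refine ⟨(eqToHom (StMod.sch_obj_eq π w')).base ((inv (StMod.bmap 𝒴 χ)).base y), ?_⟩
      rw [hψ]
      simp only [Scheme.Hom.comp_apply, eqToHom_apply_cancel]
      rw [← Scheme.Hom.comp_apply (inv (StMod.bmap 𝒴 χ)), IsIso.inv_hom_id, Scheme.Hom.id_base, TopCat.id_app, hy,
        eqToHom_apply_cancel]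
  have key : ∀ {E : 𝒳.obj} {E' : 𝒳.obj} (φE : E' ⟶ E) (χE : π.obj E' ⟶ z k) (pE : z k ⟶ π.obj E)
      (hE : χE ≫ pE = π.map φE) (hE' : StMod.bmap 𝒳 φE = eqToHom (StMod.sch_obj_eq π E').symm ≫
        StMod.bmap 𝒴 χE ≫ StMod.bmap 𝒴 pE ≫ eqToHom (StMod.sch_obj_eq π E)) (_ : IsIso (StMod.bmap 𝒴 χE))
      (e : w ⟶ E) (he : v ≫ pE = φ ≫ π.map e),
      ∃ m : (CostructuredArrow.mk (χ ≫ v) : (StMod.fibCat π (z k)).obj) ⟶ CostructuredArrow.mk χE,
        m.left ≫ φE = ψ ≫ e := by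
    intro E E' φE χE pE hE hE' hiE e he
    obtain ⟨m, hm, hm'⟩ := exists_factor h𝒳 φE (ψ ≫ e)
      (eqToHom (StMod.sch_obj_eq π w').symm ≫ StMod.bmap 𝒴 (χ ≫ v) ≫ inv (StMod.bmap 𝒴 χE) ≫
        eqToHom (StMod.sch_obj_eq π E')) (by
        have h3 : π.map (ψ ≫ e) = (χ ≫ v) ≫ pE := by
          rw [π.toFunctor.map_comp, ← hχ, Category.assoc, Category.assoc, he]
        have h4 := congrArg (StMod.bmap 𝒴) h3
        rw [bmap_map, StMod.bmap_comp] at h4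
        rw [hE']
        simp only [Category.assoc, eqToHom_trans_assoc, eqToHom_refl, Category.id_comp, IsIso.inv_hom_id_assoc]
        rw [StMod.bmap_comp (χ ≫ v) pE] at h4
        rw [← Category.assoc (StMod.bmap 𝒴 (χ ≫ v)), ← h4, StMod.bmap_comp ψ e]
        simp)
    refine ⟨CostructuredArrow.homMk m ?_, hm'⟩
    show π.map m ≫ χE = χ ≫ v
    refine eq_of_bmap h𝒴 pE ?_ ?_
    · rw [StMod.bmap_comp, bmap_map, hm]
      simp
    · rw [Category.assoc, hE, ← π.toFunctor.map_comp, hm', Category.assoc, he, π.toFunctor.map_comp, ← hχ,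
        Category.assoc]
  obtain ⟨mA, hmA⟩ := key (φA k) (χA k) (p k) (hA₁ k) (hA₂ k) (hA₃ k) c hv₁
  obtain ⟨mB, hmB⟩ := key (φB k) (χB k) (q k) (hB₁ k) (hB₂ k) (hB₃ k) d hv₂
  obtain ⟨y₀, hy₀⟩ := hit.mem
  obtain ⟨w'', ψ', l, m, hit', hm₁, hm₂⟩ := hycov k (CostructuredArrow.mk (χ ≫ v)) mA mB y₀
  refine ⟨w''.left, ψ'.left ≫ ψ, ⟨k, l⟩, m.left, ⟨?_, ?_, ?_⟩, ?_, ?_⟩
  · haveI := hit.flat
    haveI : Flat (StMod.bmap 𝒳 ψ'.left) := hit'.flat
    rw [StMod.bmap_comp]; infer_instance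
  · haveI := hit.lfp
    haveI : LocallyOfFinitePresentation (StMod.bmap 𝒳 ψ'.left) := hit'.lfp
    rw [StMod.bmap_comp]; infer_instance
  · obtain ⟨y', hy'⟩ := hit'.mem
    refine ⟨y', ?_⟩
    rw [StMod.bmap_comp, Scheme.Hom.comp_apply]
    exact (congrArg (StMod.bmap 𝒳 ψ).base hy').trans hy₀
  · have := congrArg CommaMorphism.left hm₁
    show m.left ≫ (r k l).left ≫ φA k = (ψ'.left ≫ ψ) ≫ c
    rw [← Category.assoc]
    exact (congrArg (· ≫ φA k) this).trans (by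
      show (ψ'.left ≫ mA.left) ≫ φA k = _
      rw [Category.assoc, hmA, Category.assoc])
  · have := congrArg CommaMorphism.left hm₂
    show m.left ≫ (s k l).left ≫ φB k = (ψ'.left ≫ ψ) ≫ d
    rw [← Category.assoc]
    exact (congrArg (· ≫ φB k) this).trans (by
      show (ψ'.left ≫ mB.left) ≫ φB k = _
      rw [Category.assoc, hmB, Category.assoc])

end Comp

end Groth.Agent.RelGen
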