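import Mathlib
import Groth.Agent.RelGen.Atl
import Groth.Agent.W7AffBC.Basic
import Groth.Agent.QDescent.Adjoint

/-!
# Generating families are stable under affine base change of the base
-/

universe u

open CategoryTheory CategoryTheory.Limits AlgebraicGeometry TopologicalSpace Opposite

set_option autoImplicit false
set_option backward.isDefEq.respectTransparency false
set_option backward.isDefEq.respectTransparency.types false
set_option linter.style.haveILetI false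

noncomputable section

namespace Groth.Agent.RelGen

open Groth.Agent.QC Groth.Agent.QDescent

variable {S : Scheme.{u}} {𝒳 𝒴 : AlgSt.Cat S} {π : 𝒳 ⥤ᵇ 𝒴} {η' η : 𝒴.obj} (ψ : η' ⟶ η)

/-- Chosen base changes of the objects over `η`. -/
structure BCData where
  h𝒳 : FibCat.IsFibGrpd 𝒳.p
  h𝒴 : FibCat.IsFibGrpd 𝒴.p
  affine : IsAffineHom (StMod.bmap 𝒴 ψ)
  obj : (StMod.fibCat π η).obj → (StMod.fibCat π η').obj
  hom : ∀ x, push π ψ (obj x) ⟶ x
  isBC : ∀ x, IsBC ψ (obj x) (hom x)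

theorem exists_bcData (h𝒳 : FibCat.IsFibGrpd 𝒳.p) (h𝒴 : FibCat.IsFibGrpd 𝒴.p) [IsAffineHom (StMod.bmap 𝒴 ψ)] :
    Nonempty (BCData (π := π) ψ) := by
  choose o h hbc using exists_pullObj h𝒳 h𝒴 ψ (π := π)
  exact ⟨⟨h𝒳, h𝒴, inferInstance, o, h, hbc⟩⟩

namespace BCData

variable {ψ} (d : BCData (π := π) ψ)

/-- The lift of a morphism over `η`. -/
def lift {w : (StMod.fibCat π η').obj} {x : (StMod.fibCat π η).obj} (c : push π ψ w ⟶ x) : w ⟶ d.obj x :=
  (exists_bcLift d.h𝒳 d.h𝒴 (d.isBC x) c).choose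

theorem lift_hom {w : (StMod.fibCat π η').obj} {x : (StMod.fibCat π η).obj} (c : push π ψ w ⟶ x) :
    (fibMap π ψ).map (d.lift c) ≫ d.hom x = c :=
  (exists_bcLift d.h𝒳 d.h𝒴 (d.isBC x) c).choose_spec

theorem hom_ext {w : (StMod.fibCat π η').obj} {x : (StMod.fibCat π η).obj} {v v' : w ⟶ d.obj x}
    (h : v.left ≫ (d.hom x).left = v'.left ≫ (d.hom x).left) : v = v' :=
  bcLift_unique d.h𝒳 (d.isBC x) (CostructuredArrow.hom_ext _ _ h)

theorem lift_left {w : (StMod.fibCat π η').obj} {x : (StMod.fibCat π η).obj} (c : push π ψ w ⟶ x) :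
    (d.lift c).left ≫ (d.hom x).left = c.left :=
  congrArg CommaMorphism.left (d.lift_hom c)

/-- The morphism between base changes. -/
def mapObj {x₁ x₀ : (StMod.fibCat π η).obj} (c : x₁ ⟶ x₀) : d.obj x₁ ⟶ d.obj x₀ := d.lift (d.hom x₁ ≫ c)

theorem mapObj_left {x₁ x₀ : (StMod.fibCat π η).obj} (c : x₁ ⟶ x₀) :
    (d.mapObj c).left ≫ (d.hom x₀).left = (d.hom x₁).left ≫ c.left :=
  d.lift_left _

theorem mapObj_id (x : (StMod.fibCat π η).obj) : d.mapObj (𝟙 x) = 𝟙 _ :=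
  d.hom_ext ((d.mapObj_left _).trans ((Category.comp_id _).trans (Category.id_comp _).symm))

theorem mapObj_comp {x₂ x₁ x₀ : (StMod.fibCat π η).obj} (c' : x₂ ⟶ x₁) (c : x₁ ⟶ x₀) :
    d.mapObj (c' ≫ c) = d.mapObj c' ≫ d.mapObj c := d.hom_ext (by
  rw [mapObj_left]
  show (d.hom x₂).left ≫ c'.left ≫ c.left = ((d.mapObj c').left ≫ (d.mapObj c).left) ≫ (d.hom x₀).left
  rw [Category.assoc, mapObj_left, ← Category.assoc, ← Category.assoc, mapObj_left])

/-- The projection of a base change. -/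
abbrev prj (x : (StMod.fibCat π η).obj) :
    StMod.sch (StMod.fibCat π η') (d.obj x) ⟶ StMod.sch (StMod.fibCat π η) x := StMod.bmap 𝒳 (d.hom x).left

theorem bmap_mapObj {x₁ x₀ : (StMod.fibCat π η).obj} (c : x₁ ⟶ x₀) :
    StMod.bmap (StMod.fibCat π η') (d.mapObj c) ≫ d.prj x₀ = d.prj x₁ ≫ StMod.bmap (StMod.fibCat π η) c := by
  show StMod.bmap 𝒳 (d.mapObj c).left ≫ StMod.bmap 𝒳 (d.hom x₀).left =
    StMod.bmap 𝒳 (d.hom x₁).left ≫ StMod.bmap 𝒳 c.left
  rw [← StMod.bmap_comp, ← StMod.bmap_comp, mapObj_left]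

theorem isPullback_prj {x₁ x₀ : (StMod.fibCat π η).obj} (c : x₁ ⟶ x₀) :
    IsPullback (StMod.bmap (StMod.fibCat π η') (d.mapObj c)) (d.prj x₁) (d.prj x₀)
      (StMod.bmap (StMod.fibCat π η) c) := by
  have h₁ : IsPullback (d.prj x₁) (uFib π η' (d.obj x₁)) (uFib π η x₁) (StMod.bmap 𝒴 ψ) := d.isBC x₁
  have h₀ : IsPullback (d.prj x₀) (uFib π η' (d.obj x₀)) (uFib π η x₀) (StMod.bmap 𝒴 ψ) := d.isBC x₀
  have e₁ : StMod.bmap (StMod.fibCat π η) c ≫ uFib π η x₀ = uFib π η x₁ := uFib_nat π c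
  have e₀ : StMod.bmap (StMod.fibCat π η') (d.mapObj c) ≫ uFib π η' (d.obj x₀) = uFib π η' (d.obj x₁) :=
    uFib_nat π (d.mapObj c)
  rw [← e₁, ← e₀] at h₁
  exact IsPullback.of_right h₁.flip (d.bmap_mapObj c) h₀.flip

theorem isAffineHom_prj (x : (StMod.fibCat π η).obj) : IsAffineHom (d.prj x) :=
  MorphismProperty.of_isPullback (d.isBC x).flip d.affine

variable (M : StMod.QCoh (StMod.fibCat π η'))

theorem pre_le {x₁ x₀ : (StMod.fibCat π η).obj} (c : x₁ ⟶ x₀) {g : StMod.sch (StMod.fibCat π η) x₁ ⟶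
    StMod.sch (StMod.fibCat π η) x₀} (hg : StMod.bmap (StMod.fibCat π η) c = g)
    (U : (StMod.sch (StMod.fibCat π η) x₀).Opens) :
    d.prj x₁ ⁻¹ᵁ (g ⁻¹ᵁ U) ≤ StMod.bmap (StMod.fibCat π η') (d.mapObj c) ⁻¹ᵁ (d.prj x₀ ⁻¹ᵁ U) := by
  rw [← hg, ← Scheme.Hom.comp_preimage, ← Scheme.Hom.comp_preimage, bmap_mapObj]

/-- The comparison maps of the pushforward. -/
def pmap {x₁ x₀ : (StMod.fibCat π η).obj} (c : x₁ ⟶ x₀) {g : StMod.sch (StMod.fibCat π η) x₁ ⟶
    StMod.sch (StMod.fibCat π η) x₀} (hg : StMod.bmap (StMod.fibCat π η) c = g) :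
    (Scheme.Modules.pushforward (d.prj x₀)).obj (M.obj.obj (d.obj x₀)) ⟶
      (Scheme.Modules.pushforward g).obj ((Scheme.Modules.pushforward (d.prj x₁)).obj (M.obj.obj (d.obj x₁))) :=
  mkHom (fun U => (tr M.obj (d.mapObj c) (d.prj x₀ ⁻¹ᵁ U) (d.prj x₁ ⁻¹ᵁ (g ⁻¹ᵁ U)) (d.pre_le c hg U) :))
    (fun {V U} hVU s =>
      (tr_res M.obj (d.mapObj c) ((d.prj x₀).preimage_mono hVU) _ (d.pre_le c hg V)
        (show Γ(M.obj.obj (d.obj x₀), d.prj x₀ ⁻¹ᵁ U) from s)).trans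
        (res_tr M.obj (d.mapObj c) _ ((d.prj x₁).preimage_mono (g.preimage_mono hVU)) (d.pre_le c hg U)
          (show Γ(M.obj.obj (d.obj x₀), d.prj x₀ ⁻¹ᵁ U) from s)).symm)
    (fun U r s => by
      refine (tr_smul M.obj (d.mapObj c) _ _ (d.pre_le c hg U) ((d.prj x₀).app U r)
        (show Γ(M.obj.obj (d.obj x₀), d.prj x₀ ⁻¹ᵁ U) from s)).trans ?_
      refine congrArg (fun k : Γ(StMod.sch (StMod.fibCat π η') (d.obj x₁), d.prj x₁ ⁻¹ᵁ (g ⁻¹ᵁ U)) =>
        k • tr M.obj (d.mapObj c) _ _ (d.pre_le c hg U) (show Γ(M.obj.obj (d.obj x₀), d.prj x₀ ⁻¹ᵁ U) from s)) ?_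
      subst hg
      show ((d.prj x₀).app U ≫ (StMod.bmap (StMod.fibCat π η') (d.mapObj c)).appLE _ _ _).hom r =
        ((StMod.bmap (StMod.fibCat π η) c).app U ≫ (d.prj x₁).app _).hom r
      rw [← Scheme.Hom.comp_appLE, ← Scheme.Hom.comp_app]
      simp only [Scheme.Hom.app_eq_appLE, d.bmap_mapObj]
      rfl)

theorem pmap_app {x₁ x₀ : (StMod.fibCat π η).obj} (c : x₁ ⟶ x₀) {g : StMod.sch (StMod.fibCat π η) x₁ ⟶
    StMod.sch (StMod.fibCat π η) x₀} (hg : StMod.bmap (StMod.fibCat π η) c = g)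
    (U : (StMod.sch (StMod.fibCat π η) x₀).Opens) (s : Γ(M.obj.obj (d.obj x₀), d.prj x₀ ⁻¹ᵁ U)) :
    (d.pmap M c hg).app U s = tr M.obj (d.mapObj c) (d.prj x₀ ⁻¹ᵁ U) _ (d.pre_le c hg U) s := rfl

attribute [local irreducible] pmap

/-- The pushforward along the base change. -/
def pushMod : StMod.Mod (StMod.fibCat π η) where
  obj x := (Scheme.Modules.pushforward (d.prj x)).obj (M.obj.obj (d.obj x))
  map c _ hg := d.pmap M c hg
  map_id x := by
    refine Scheme.Modules.hom_ext _ _ fun U => ?_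
    ext s
    simp only [Scheme.Modules.Hom.comp_app, Scheme.Modules.pushforwardId_hom_app_app, Category.comp_id,
      Scheme.Modules.Hom.id_app]
    refine (d.pmap_app M (𝟙 x) (StMod.bmap_id x) U s).trans ?_
    have e : d.prj x ⁻¹ᵁ (𝟙 (StMod.sch (StMod.fibCat π η) x) ⁻¹ᵁ U) ≤
        StMod.bmap (StMod.fibCat π η') (𝟙 (d.obj x)) ⁻¹ᵁ (d.prj x ⁻¹ᵁ U) := by
      rw [StMod.bmap_id]; exact le_refl _
    refine (tr_congr M.obj (d.mapObj_id x) _ _ _ e _).trans ?_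
    exact (tr_id M.obj (d.prj x ⁻¹ᵁ U) (d.prj x ⁻¹ᵁ U) le_rfl _ s).trans (res_self _ _ _)
  map_comp {x₂ x₁ x₀} c' c h g hh hg := by
    refine Scheme.Modules.hom_ext _ _ fun U => ?_
    ext s
    simp only [Scheme.Modules.Hom.comp_app, Scheme.Modules.pushforwardComp_hom_app_app,
      Scheme.Modules.pushforward_map_app, Category.comp_id]
    refine (d.pmap_app M (c' ≫ c) _ U s).trans ?_
    refine Eq.symm ?_
    refine (congrArg ((d.pmap M c' hh).app (g ⁻¹ᵁ U)).hom (d.pmap_app M c hg U s)).trans ?_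
    refine (d.pmap_app M c' hh (g ⁻¹ᵁ U) _).trans ?_
    refine (tr_tr M.obj (d.mapObj c') (d.mapObj c) _ _ _ (d.pre_le c hg U) (d.pre_le c' hh (g ⁻¹ᵁ U)) s).trans ?_
    exact tr_congr M.obj (d.mapObj_comp c' c).symm _ _ _ _ _

theorem isCartesian_pushMod : (d.pushMod M).IsCartesian := by
  intro x₁ x₀ c g hg
  subst hg
  let v := StMod.bmap (StMod.fibCat π η') (d.mapObj c)
  let a := ((Scheme.Modules.pullbackPushforwardAdjunction v).homEquiv (M.obj.obj (d.obj x₀)) (M.obj.obj (d.obj x₁))).symm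
    (M.obj.map (d.mapObj c) rfl)
  haveI : IsIso a := M.property.1 (d.mapObj c) rfl
  haveI := d.isAffineHom_prj x₀
  have hth := W7AffBC.isIso_baseChange (d.isPullback_prj c) (M.obj.obj (d.obj x₀)) (M.property.2 _)
  have key : (d.pushMod M).map c rfl = W7AffBC.theta (d.isPullback_prj c) (M.obj.obj (d.obj x₀)) ≫
      (Scheme.Modules.pushforward (StMod.bmap (StMod.fibCat π η) c)).map
        ((Scheme.Modules.pushforward (d.prj x₁)).map a) := by
    refine Scheme.Modules.hom_ext _ _ fun U => ?_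
    ext s
    show (d.pmap M c rfl).app U s = a.app _
      ((W7AffBC.theta (d.isPullback_prj c) (M.obj.obj (d.obj x₀))).app U s)
    refine (d.pmap_app M c rfl U s).trans (Eq.trans ?_
      (congrArg (a.app _).hom (W7AffBC.theta_app (d.isPullback_prj c) _ U s (d.pre_le c rfl U))).symm)
    refine Eq.trans ?_ (app_res a (d.pre_le c rfl U) _)
    refine congrArg (res (M.obj.obj (d.obj x₁)) (d.pre_le c rfl U)) ?_
    have h : (Scheme.Modules.pullbackPushforwardAdjunction v).homEquiv _ _ a = M.obj.map (d.mapObj c) rfl :=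
      Equiv.apply_symm_apply _ _
    rw [← h, Adjunction.homEquiv_unit, Scheme.Modules.Hom.comp_app]
    rfl
  rw [key, Adjunction.homEquiv_naturality_right_symm]
  exact @IsIso.comp_isIso _ _ _ _ _ _ _ hth inferInstance

/-- The pushforward, as a quasi-coherent module. -/
def pushQ : StMod.QCoh (StMod.fibCat π η) :=
  ⟨d.pushMod M, d.isCartesian_pushMod M, fun x => by
    haveI := d.isAffineHom_prj x
    haveI : (M.obj.obj (d.obj x)).IsQuasicoherent := M.property.2 _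
    exact QC.isQCoh_pushforward (d.prj x)⟩

theorem tr_pushQ {x₁ x₀ : (StMod.fibCat π η).obj} (c : x₁ ⟶ x₀) (U : (StMod.sch (StMod.fibCat π η) x₀).Opens)
    (V : (StMod.sch (StMod.fibCat π η) x₁).Opens) (e : V ≤ StMod.bmap (StMod.fibCat π η) c ⁻¹ᵁ U)
    (s : Γ(M.obj.obj (d.obj x₀), d.prj x₀ ⁻¹ᵁ U)) :
    (tr (d.pushQ M).obj c U V e s : Γ(M.obj.obj (d.obj x₁), d.prj x₁ ⁻¹ᵁ V)) =
      tr M.obj (d.mapObj c) (d.prj x₀ ⁻¹ᵁ U) (d.prj x₁ ⁻¹ᵁ V)
        (((d.prj x₁).preimage_mono e).trans (d.pre_le c rfl U)) s := by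
  show res (M.obj.obj (d.obj x₁)) ((d.prj x₁).preimage_mono e) ((d.pmap M c rfl).app U s) = _
  rw [pmap_app, res_tr]

variable {M} {N : StMod.QCoh (StMod.fibCat π η')}

/-- The pushforward of a morphism. -/
def pushHomQ (u : M ⟶ N) : d.pushQ M ⟶ d.pushQ N :=
  ObjectProperty.homMk ⟨fun x => (Scheme.Modules.pushforward (d.prj x)).map (u.hom.app (d.obj x)),
    fun {x₁ x₀} c g hg => by
      refine Scheme.Modules.hom_ext _ _ fun U => ?_
      ext s
      show (u.hom.app (d.obj x₁)).app _ ((d.pmap M c hg).app U s) =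
        (d.pmap N c hg).app U ((u.hom.app (d.obj x₀)).app _ s)
      rw [pmap_app, pmap_app]
      exact (tr_hom u.hom (d.mapObj c) _ _ _ s).symm⟩

/-- The section of a pushed object. -/
def sec (w : (StMod.fibCat π η').obj) : w ⟶ d.obj (push π ψ w) := d.lift (𝟙 _)

theorem sec_left (w : (StMod.fibCat π η').obj) : (d.sec w).left ≫ (d.hom (push π ψ w)).left = 𝟙 w.left :=
  d.lift_left _

theorem le_sec (w : (StMod.fibCat π η').obj) (U : (StMod.sch (StMod.fibCat π η') w).Opens) :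
    U ≤ StMod.bmap (StMod.fibCat π η') (d.sec w) ⁻¹ᵁ
      (d.prj (push π ψ w) ⁻¹ᵁ (show (StMod.sch (StMod.fibCat π η) (push π ψ w)).Opens from U)) := by
  rw [← Scheme.Hom.comp_preimage]
  have : StMod.bmap (StMod.fibCat π η') (d.sec w) ≫ d.prj (push π ψ w) = 𝟙 _ := by
    show StMod.bmap 𝒳 (d.sec w).left ≫ StMod.bmap 𝒳 (d.hom (push π ψ w)).left = _
    rw [← StMod.bmap_comp, sec_left, StMod.bmap_id]
    rfl
  rw [this]
  exact le_rfl

/-- A morphism into the pushforward, transposed. -/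
theorem exists_transpose {E : StMod.QCoh (StMod.fibCat π η)} (φ : E ⟶ d.pushQ M) :
    ∃ φ' : restrQ π ψ E ⟶ M, ∀ (w : (StMod.fibCat π η').obj) (U : (StMod.sch (StMod.fibCat π η') w).Opens)
      (s : Γ(E.obj.obj (push π ψ w), U)), (φ'.hom.app w).app U s =
        tr M.obj (d.sec w) (d.prj (push π ψ w) ⁻¹ᵁ U) U (d.le_sec w U) ((φ.hom.app (push π ψ w)).app U s) := by
  refine ⟨ObjectProperty.homMk ⟨fun w => mkHom
    (fun U => AddMonoidHom.mk' (fun s => tr M.obj (d.sec w) (d.prj (push π ψ w) ⁻¹ᵁ U) U (d.le_sec w U)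
      ((φ.hom.app (push π ψ w)).app U s)) fun a b => by
        rw [← map_add]
        exact congrArg _ (map_add ((φ.hom.app (push π ψ w)).app U).hom a b))
    (fun {V U} hVU s => ?_) (fun U r s => ?_), fun {w₁ w₀} c g hg => ?_⟩, fun w U s => rfl⟩
  · show tr M.obj (d.sec w) _ V _ ((φ.hom.app (push π ψ w)).app V (res (E.obj.obj (push π ψ w)) hVU s)) =
      res (M.obj.obj w) hVU (tr M.obj (d.sec w) _ U _ ((φ.hom.app (push π ψ w)).app U s))
    rw [← app_res]
    show tr M.obj (d.sec w) _ V _ (res (M.obj.obj (d.obj (push π ψ w))) ((d.prj (push π ψ w)).preimage_mono hVU) _) = _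
    rw [tr_res, res_tr]
  · show tr M.obj (d.sec w) _ U _ ((φ.hom.app (push π ψ w)).app U (r • (show Γ(E.obj.obj (push π ψ w), U) from s))) = _
    rw [Scheme.Modules.Hom.app_smul]
    show tr M.obj (d.sec w) _ U _ ((d.prj (push π ψ w)).app U r •
      (show Γ(M.obj.obj (d.obj (push π ψ w)), _) from (φ.hom.app (push π ψ w)).app U s)) = r • _
    rw [tr_smul]
    congr 1
    show (((d.prj (push π ψ w)).app U) ≫ (StMod.bmap (StMod.fibCat π η') (d.sec w)).appLE _ _ _).hom r = r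
    rw [← Scheme.Hom.comp_appLE]
    have key : ∀ {q : StMod.sch (StMod.fibCat π η') w ⟶ StMod.sch (StMod.fibCat π η') w} (_ : q = 𝟙 _)
        (e : U ≤ q ⁻¹ᵁ U), (q.appLE U U e).hom r = r := by
      rintro q rfl e
      have h3 : (𝟙 (StMod.sch (StMod.fibCat π η') w) : _ ⟶ _).appLE U U e = 𝟙 _ := by
        simp only [Scheme.Hom.appLE, Scheme.Hom.id_app, Category.id_comp]
        exact (StMod.sch (StMod.fibCat π η') w).presheaf.map_id _
      rw [h3]; rfl
    refine key ?_ _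
    show StMod.bmap 𝒳 (d.sec w).left ≫ StMod.bmap 𝒳 (d.hom (push π ψ w)).left = _
    rw [← StMod.bmap_comp, sec_left, StMod.bmap_id]
    rfl
  · subst hg
    refine Scheme.Modules.hom_ext _ _ fun U => ?_
    ext s
    have hk : ∀ (G : StMod.Mod (StMod.fibCat π η')) (t : Γ(G.obj w₀, U)),
        (G.map c rfl).app U t = tr G c U _ le_rfl t := fun G t => (res_self _ le_rfl _).symm
    show tr M.obj (d.sec w₁) _ _ _ ((φ.hom.app (push π ψ w₁)).app _ (((restrQ π ψ E).obj.map c rfl).app U s)) =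
      (M.obj.map c rfl).app U (tr M.obj (d.sec w₀) _ U _ ((φ.hom.app (push π ψ w₀)).app U s))
    rw [hk, hk]
    let pc : push π ψ w₁ ⟶ push π ψ w₀ := (fibMap π ψ).map c
    have h1 : (φ.hom.app (push π ψ w₁)).app (StMod.bmap (StMod.fibCat π η') c ⁻¹ᵁ U)
        (tr (restrQ π ψ E).obj c U (StMod.bmap (StMod.fibCat π η') c ⁻¹ᵁ U) le_rfl s) =
        tr (d.pushQ M).obj pc U (StMod.bmap (StMod.fibCat π η') c ⁻¹ᵁ U) le_rfl ((φ.hom.app (push π ψ w₀)).app U s) :=
      (congrArg ((φ.hom.app (push π ψ w₁)).app _).hom (tr_restrQ π ψ E c U _ le_rfl s)).trans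
        (tr_hom φ.hom pc U _ le_rfl s).symm
    have h2 := d.tr_pushQ M pc U (StMod.bmap (StMod.fibCat π η') c ⁻¹ᵁ U) le_rfl ((φ.hom.app (push π ψ w₀)).app U s)
    refine (congrArg (tr M.obj (d.sec w₁) _ _ _) (h1.trans h2)).trans ?_
    refine (tr_tr M.obj (d.sec w₁) (d.mapObj pc) _ _ _ _ _ _).trans (Eq.trans ?_
      (tr_tr M.obj c (d.sec w₀) _ _ _ _ _ _).symm)
    refine tr_congr M.obj (d.hom_ext ?_) _ _ _ _ _
    show ((d.sec w₁).left ≫ (d.mapObj pc).left) ≫ (d.hom (push π ψ w₀)).left =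
      (c.left ≫ (d.sec w₀).left) ≫ (d.hom (push π ψ w₀)).left
    have e1 : ((d.sec w₁).left ≫ (d.mapObj pc).left) ≫ (d.hom (push π ψ w₀)).left = pc.left := by
      rw [Category.assoc, mapObj_left, ← Category.assoc, sec_left, Category.id_comp]
    have e2 : (c.left ≫ (d.sec w₀).left) ≫ (d.hom (push π ψ w₀)).left = c.left := by
      rw [Category.assoc, sec_left, Category.comp_id]
    exact e1.trans e2.symm

include d in
/-- Generating families are stable under affine base change of the base object. -/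
theorem isGenFam {ι : Type*} {E : ι → StMod.QCoh (StMod.fibCat π η)} (hE : StMod.IsGenFam E) :
    StMod.IsGenFam fun i => restrQ π ψ (E i) := by
  rw [StMod.isGenFam_iff] at hE ⊢
  intro M N u hu
  have hR : d.pushHomQ u = 0 := by
    refine hE (d.pushHomQ u) fun i φ₀ => ?_
    refine StMod.Mod.hom_ext fun x => Scheme.Modules.hom_ext _ _ fun U => ?_
    ext s
    obtain ⟨φ', hφ'⟩ := d.exists_transpose (M := M) (E := E i) (ObjectProperty.homMk φ₀)
    have h0 := hu i φ'.hom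
    show (u.hom.app (d.obj x)).app (d.prj x ⁻¹ᵁ U) ((φ₀.app x).app U s) = 0
    let t := tr (E i).obj (d.hom x) U (d.prj x ⁻¹ᵁ U) le_rfl s
    have h1 : (u.hom.app (d.obj x)).app (d.prj x ⁻¹ᵁ U) ((φ'.hom.app (d.obj x)).app (d.prj x ⁻¹ᵁ U) t) = 0 :=
      congr(((($h0).app (d.obj x)).app (d.prj x ⁻¹ᵁ U)) t)
    rw [hφ'] at h1
    refine Eq.trans (congrArg ((u.hom.app (d.obj x)).app (d.prj x ⁻¹ᵁ U)) ?_) h1
    show _ = tr M.obj (d.sec (d.obj x)) _ _ _
      ((φ₀.app (push π ψ (d.obj x))).app (d.prj x ⁻¹ᵁ U) (tr (E i).obj (d.hom x) U (d.prj x ⁻¹ᵁ U) le_rfl s))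
    rw [← tr_hom φ₀ (d.hom x)]
    have h2 := d.tr_pushQ M (d.hom x) U (d.prj x ⁻¹ᵁ U) le_rfl ((φ₀.app x).app U s)
    rw [h2, tr_tr]
    have hid : d.sec (d.obj x) ≫ d.mapObj (d.hom x) = 𝟙 _ := d.hom_ext (by
      show ((d.sec (d.obj x)).left ≫ (d.mapObj (d.hom x)).left) ≫ (d.hom x).left = 𝟙 (d.obj x).left ≫ (d.hom x).left
      rw [Category.assoc, mapObj_left, ← Category.assoc, sec_left])
    rw [tr_congr M.obj hid _ _ _ (by rw [StMod.bmap_id]; exact le_rfl), tr_id M.obj _ _ le_rfl]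
    exact (res_self (M.obj.obj (d.obj x)) (le_refl (d.prj x ⁻¹ᵁ U)) _).symm
  refine eq_zero_of_cover (isFibGrpd_fibCat d.h𝒳 π η') u fun w t => ⟨w, 𝟙 _, hits_id w t, fun w' _ hw' s => ?_⟩
  haveI : IsAffine (StMod.sch (StMod.fibCat π η') w') := hw'
  haveI : IsAffine (StMod.sch (StMod.fibCat π η') (d.obj (push π ψ w'))) := by
    haveI := d.isAffineHom_prj (push π ψ w')
    haveI : IsAffine (StMod.sch (StMod.fibCat π η) (push π ψ w')) := hw'
    exact isAffine_of_isAffineHom (d.prj (push π ψ w'))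
  refine app_top_eq_zero u (d.sec w') (fun s' => ?_) s
  exact congr((($hR).hom.app (push π ψ w')).app ⊤ s')

end BCData

/-- Generating families are stable under affine base change of the base object. -/
theorem isGenFam_baseChange (h𝒳 : FibCat.IsFibGrpd 𝒳.p) (h𝒴 : FibCat.IsFibGrpd 𝒴.p)
    [IsAffine (StMod.sch 𝒴 η')] [IsAffine (StMod.sch 𝒴 η)] {ι : Type*} {E : ι → StMod.QCoh (StMod.fibCat π η)}
    (hE : StMod.IsGenFam E) : StMod.IsGenFam fun i => restrQ π ψ (E i) :=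
  (exists_bcData (π := π) ψ h𝒳 h𝒴).some.isGenFam hE

end Groth.Agent.RelGen
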