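import Mathlib
import Groth.Agent.RelGen.Atl
import Groth.Agent.FibCatRep.Cart

/-!
# Equivalences of categories over schemes, and categories over objects of the base
-/

universe u

open CategoryTheory CategoryTheory.Limits AlgebraicGeometry TopologicalSpace Opposite

set_option autoImplicit false
set_option backward.isDefEq.respectTransparency false
set_option backward.isDefEq.respectTransparency.types false
set_option linter.style.haveILetI false

noncomputable section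

namespace Groth.Agent.RelGen

open Groth.Agent.QDescent

variable {S : Scheme.{u}}

/-- A fully faithful functor over the base which is essentially surjective over identities. -/
structure IsEqv {𝒜 ℬ : AlgSt.Cat S} (F : 𝒜 ⥤ᵇ ℬ) : Prop where
  faithful : F.toFunctor.Faithful
  full : F.toFunctor.Full
  ess : ∀ η : ℬ.obj, ∃ (ξ : 𝒜.obj) (e : F.obj ξ ≅ η) (hξ : ℬ.p.obj (F.obj ξ) = ℬ.p.obj η),
    ℬ.p.map e.hom = eqToHom hξ
  srcFib : FibCat.IsFibGrpd 𝒜.p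
  tgtFib : FibCat.IsFibGrpd ℬ.p

theorem hits_of_bmap {𝒵 : AlgSt.Cat S} {x' x : 𝒵.obj} (φ : x' ⟶ x) {Y : Scheme.{u}} (g : Y ⟶ StMod.sch 𝒵 x)
    (e : StMod.sch 𝒵 x' ⟶ Y) [IsIso e] (h : StMod.bmap 𝒵 φ = e ≫ g) [Flat g] [LocallyOfFinitePresentation g]
    {t : StMod.sch 𝒵 x} (ht : t ∈ Set.range g.base) : Hits φ t := by
  refine ⟨?_, ?_, ?_⟩
  · rw [h]; infer_instance
  · rw [h]; infer_instance
  · obtain ⟨y, hy⟩ := ht
    refine ⟨(inv e).base y, ?_⟩
    rw [h, ← Scheme.Hom.comp_apply, IsIso.inv_hom_id_assoc, hy]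

theorem hits_comp {𝒵 : AlgSt.Cat S} {x'' x' x : 𝒵.obj} {ψ : x'' ⟶ x'} {φ : x' ⟶ x} {s : StMod.sch 𝒵 x'}
    {t : StMod.sch 𝒵 x} (hψ : Hits ψ s) (hφ : Hits φ t) (hs : (StMod.bmap 𝒵 φ).base s = t) : Hits (ψ ≫ φ) t := by
  haveI := hψ.flat
  haveI := hψ.lfp
  haveI := hφ.flat
  haveI := hφ.lfp
  refine ⟨?_, ?_, ?_⟩
  · rw [StMod.bmap_comp]; infer_instance
  · rw [StMod.bmap_comp]; infer_instance
  · obtain ⟨y, hy⟩ := hψ.mem
    exact ⟨y, by rw [StMod.bmap_comp, Scheme.Hom.comp_apply, hy, hs]⟩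

namespace IsEqv

variable {𝒜 ℬ : AlgSt.Cat S} {F : 𝒜 ⥤ᵇ ℬ} (h : IsEqv F)

include h

omit h in
theorem bmap_of_ess {ξ : 𝒜.obj} {y : ℬ.obj} (e : F.obj ξ ≅ y) (hξ : ℬ.p.obj (F.obj ξ) = ℬ.p.obj y)
    (he : ℬ.p.map e.hom = eqToHom hξ) :
    StMod.bmap ℬ e.hom = eqToHom (congrArg Comma.left hξ) := by
  show (ℬ.p.map e.hom).left = _
  rw [he, Over.eqToHom_left]

theorem exists_obj (y : ℬ.obj) :
    ∃ (ξ : 𝒜.obj) (e : F.obj ξ ≅ y) (hs : StMod.sch ℬ (F.obj ξ) = StMod.sch ℬ y),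
      StMod.bmap ℬ e.hom = eqToHom hs := by
  obtain ⟨ξ, e, hξ, he⟩ := h.ess y
  exact ⟨ξ, e, congrArg Comma.left hξ, bmap_of_ess e hξ he⟩

theorem exists_pre {x' x : 𝒜.obj} (φ : F.obj x' ⟶ F.obj x) : ∃ ψ : x' ⟶ x, F.map ψ = φ :=
  ⟨(haveI := h.full; F.toFunctor.preimage φ), (haveI := h.full; F.toFunctor.map_preimage φ)⟩

omit h in
theorem hits_map {x' x : 𝒜.obj} (φ : x' ⟶ x) {t : StMod.sch 𝒜 x} (ht : Hits φ t) :
    Hits (F.map φ) ((eqToHom (StMod.sch_obj_eq F x).symm).base t) := by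
  haveI := ht.flat
  haveI := ht.lfp
  refine hits_of_bmap _ (StMod.bmap 𝒜 φ ≫ eqToHom (StMod.sch_obj_eq F x).symm) (eqToHom (StMod.sch_obj_eq F x'))
    (bmap_map F φ) ?_
  obtain ⟨y, hy⟩ := ht.mem
  exact ⟨y, by rw [Scheme.Hom.comp_apply, hy]⟩

omit h in
theorem hits_of_map {x' x : 𝒜.obj} (φ : x' ⟶ x) {s : StMod.sch ℬ (F.obj x)} (ht : Hits (F.map φ) s) :
    Hits φ ((eqToHom (StMod.sch_obj_eq F x)).base s) := by
  haveI := ht.flat
  haveI := ht.lfp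
  have e : StMod.bmap 𝒜 φ = eqToHom (StMod.sch_obj_eq F x').symm ≫ StMod.bmap ℬ (F.map φ) ≫
      eqToHom (StMod.sch_obj_eq F x) := by rw [bmap_map]; simp
  refine hits_of_bmap _ (StMod.bmap ℬ (F.map φ) ≫ eqToHom (StMod.sch_obj_eq F x)) _ e ?_
  obtain ⟨y, hy⟩ := ht.mem
  exact ⟨y, by rw [Scheme.Hom.comp_apply, hy]⟩

theorem isGerbeOver : Gerb.IsGerbeOver (QuotSh.J Scheme.fppfPrecoverage S) F := by
  refine ⟨fun y => ?_, fun x x' b hb => ?_⟩
  · obtain ⟨ξ, e, hξ, he⟩ := h.ess y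
    refine ⟨⊤, GrothendieckTopology.top_mem _ _, fun V f _ => ?_⟩
    obtain ⟨x, φ, hφ⟩ := GerbLib.lift_at h.srcFib rfl (f ≫ eqToHom (hξ.symm.trans (F.w_obj ξ)))
    haveI := hφ
    haveI : ℬ.p.IsHomLift (f ≫ eqToHom (hξ.symm.trans (F.w_obj ξ))) (F.map φ) :=
      (BasedFunctor.isHomLift_iff F _ _).2 hφ
    refine ⟨x, F.map φ ≫ e.hom, IsHomLift.of_fac' _ _ _
      (IsHomLift.domain_eq ℬ.p (f ≫ eqToHom (hξ.symm.trans (F.w_obj ξ))) (F.map φ)) rfl ?_⟩
    rw [ℬ.p.map_comp, he, IsHomLift.fac' ℬ.p (f ≫ eqToHom (hξ.symm.trans (F.w_obj ξ))) (F.map φ)]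
    simp
  · obtain ⟨b₀, hb₀⟩ := h.exists_pre b
    refine ⟨⊤, GrothendieckTopology.top_mem _ _, fun V f _ => ?_⟩
    obtain ⟨x₀, φ, hφ⟩ := GerbLib.lift_at h.srcFib rfl f
    haveI := hφ
    haveI : 𝒜.p.IsHomLift (𝟙 (𝒜.p.obj x)) b₀ := (BasedFunctor.isHomLift_iff F _ _).1 (by rwa [hb₀])
    exact ⟨x₀, φ, φ ≫ b₀, hφ, by
      have : 𝒜.p.IsHomLift (f ≫ 𝟙 (𝒜.p.obj x)) (φ ≫ b₀) := inferInstance
      simpa using this, by rw [F.toFunctor.map_comp, hb₀]⟩

/-- Generating families transfer along equivalences. -/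
theorem isGenFam {ι : Type*} {E : ι → StMod.QCoh ℬ} (hE : StMod.IsGenFam fun i => (StMod.comapQ F).obj (E i)) :
    StMod.IsGenFam E := by
  rw [StMod.isGenFam_iff] at hE ⊢
  intro M N u hu
  haveI := comapQ_faithful F h.isGerbeOver.1
  haveI := comapQ_full h.srcFib h.tgtFib F h.isGerbeOver
  refine (StMod.comapQ F).map_injective ?_
  rw [show (StMod.comapQ F).map (0 : M ⟶ N) = 0 from InducedCategory.hom_ext ((StMod.comapFunctor F).map_zero M.obj N.obj)]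
  refine hE _ fun i φ => ?_
  obtain ⟨φ₀, hφ₀⟩ := (StMod.comapQ F).map_surjective (ObjectProperty.homMk φ : (StMod.comapQ F).obj (E i) ⟶ _)
  have h0 : φ₀ ≫ u = 0 := InducedCategory.hom_ext (hu i φ₀.hom)
  have h1 : (StMod.comapQ F).map φ₀ ≫ (StMod.comapQ F).map u = 0 := by
    rw [← Functor.map_comp, h0]
    exact InducedCategory.hom_ext ((StMod.comapFunctor F).map_zero (E i).obj N.obj)
  rw [hφ₀] at h1
  exact congrArg InducedCategory.Hom.hom h1

theorem isQC_tgt (hq : IsQC 𝒜) : IsQC ℬ := by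
  obtain ⟨I, _, a, ha, hcov⟩ := hq
  refine ⟨I, inferInstance, fun i => F.obj (a i), fun i => ?_, fun y t => ?_⟩
  · haveI := ha i
    exact IsAffine.of_isIso (eqToHom (StMod.sch_obj_eq F (a i)))
  · obtain ⟨ξ, e, hs, he⟩ := h.exists_obj y
    obtain ⟨x', φ, hφ, i, ⟨c⟩⟩ := hcov ξ ((eqToHom (StMod.sch_obj_eq F ξ)).base ((eqToHom hs.symm).base t))
    refine ⟨F.obj x', F.map φ ≫ e.hom, hits_comp (hits_map φ hφ) ?_ ?_, i, ⟨F.map c⟩⟩
    · refine hits_of_bmap e.hom (𝟙 _) (eqToHom hs) (by rw [he, Category.comp_id]) ⟨t, rfl⟩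
    · rw [he, eqToHom_apply_cancel, eqToHom_apply_cancel]

theorem isQS_tgt (hq : IsQS 𝒜) : IsQS ℬ := by
  intro A B hA hB
  obtain ⟨A', eA, hsA, heA⟩ := h.exists_obj A
  obtain ⟨B', eB, hsB, heB⟩ := h.exists_obj B
  haveI := hA
  haveI := hB
  obtain ⟨K, _, z, p, q, hz, hcov⟩ := hq A' B'
    (IsAffine.of_isIso (eqToHom ((StMod.sch_obj_eq F A').symm.trans hsA)))
    (IsAffine.of_isIso (eqToHom ((StMod.sch_obj_eq F B').symm.trans hsB)))
  refine ⟨K, inferInstance, fun k => F.obj (z k), fun k => F.map (p k) ≫ eA.hom, fun k => F.map (q k) ≫ eB.hom,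
    fun k => ?_, fun y c d t => ?_⟩
  · haveI := hz k
    exact IsAffine.of_isIso (eqToHom (StMod.sch_obj_eq F (z k)))
  · obtain ⟨ξ, e, hs, he⟩ := h.exists_obj y
    obtain ⟨c', hc'⟩ := h.exists_pre (e.hom ≫ c ≫ eA.inv)
    obtain ⟨d', hd'⟩ := h.exists_pre (e.hom ≫ d ≫ eB.inv)
    obtain ⟨x', φ, k, v, hφ, hv₁, hv₂⟩ := hcov ξ c' d'
      ((eqToHom (StMod.sch_obj_eq F ξ)).base ((eqToHom hs.symm).base t))
    refine ⟨F.obj x', F.map φ ≫ e.hom, k, F.map v, hits_comp (hits_map φ hφ) ?_ ?_, ?_, ?_⟩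
    · refine hits_of_bmap e.hom (𝟙 _) (eqToHom hs) (by rw [he, Category.comp_id]) ⟨t, rfl⟩
    · rw [he, eqToHom_apply_cancel, eqToHom_apply_cancel]
    · rw [← Category.assoc, ← F.toFunctor.map_comp, hv₁, F.toFunctor.map_comp, hc']
      simp
    · rw [← Category.assoc, ← F.toFunctor.map_comp, hv₂, F.toFunctor.map_comp, hd']
      simp

theorem isQC_src (hq : IsQC ℬ) : IsQC 𝒜 := by
  obtain ⟨I, _, b, hb, hcov⟩ := hq
  choose a e hs he using fun i => h.exists_obj (b i)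
  refine ⟨I, inferInstance, a, fun i => ?_, fun x t => ?_⟩
  · haveI := hb i
    exact IsAffine.of_isIso (eqToHom ((StMod.sch_obj_eq F (a i)).symm.trans (hs i)))
  · obtain ⟨y, φ, hφ, i, ⟨c⟩⟩ := hcov (F.obj x) ((eqToHom (StMod.sch_obj_eq F x).symm).base t)
    obtain ⟨ξ, ey, hsy, hey⟩ := h.exists_obj y
    obtain ⟨φ', hφ'⟩ := h.exists_pre (ey.hom ≫ φ)
    obtain ⟨c', -⟩ := h.exists_pre (ey.hom ≫ c ≫ (e i).inv)
    have h1 : Hits (F.map φ') ((eqToHom (StMod.sch_obj_eq F x).symm).base t) := by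
      rw [hφ']
      obtain ⟨s, hs'⟩ := hφ.mem
      exact hits_comp (hits_of_bmap ey.hom (𝟙 _) (eqToHom hsy) (by rw [hey, Category.comp_id]) ⟨s, rfl⟩) hφ hs'
    have h2 := hits_of_map φ' h1
    rw [eqToHom_apply_cancel] at h2
    exact ⟨ξ, φ', h2, i, ⟨c'⟩⟩

theorem isQS_src (hq : IsQS ℬ) : IsQS 𝒜 := by
  intro A B hA hB
  haveI := hA
  haveI := hB
  haveI := h.faithful
  obtain ⟨K, _, z, p, q, hz, hcov⟩ := hq (F.obj A) (F.obj B)
    (IsAffine.of_isIso (eqToHom (StMod.sch_obj_eq F A))) (IsAffine.of_isIso (eqToHom (StMod.sch_obj_eq F B)))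
  choose z' ez hsz hez using fun k => h.exists_obj (z k)
  choose p' hp' using fun k => h.exists_pre ((ez k).hom ≫ p k)
  choose q' hq' using fun k => h.exists_pre ((ez k).hom ≫ q k)
  refine ⟨K, inferInstance, z', p', q', fun k => ?_, fun x c d t => ?_⟩
  · haveI := hz k
    exact IsAffine.of_isIso (eqToHom ((StMod.sch_obj_eq F (z' k)).symm.trans (hsz k)))
  · obtain ⟨y, φ, k, v, hφ, hv₁, hv₂⟩ := hcov (F.obj x) (F.map c) (F.map d)
      ((eqToHom (StMod.sch_obj_eq F x).symm).base t)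
    obtain ⟨ξ, ey, hsy, hey⟩ := h.exists_obj y
    obtain ⟨φ', hφ'⟩ := h.exists_pre (ey.hom ≫ φ)
    obtain ⟨v', hv'⟩ := h.exists_pre (ey.hom ≫ v ≫ (ez k).inv)
    have h1 : Hits (F.map φ') ((eqToHom (StMod.sch_obj_eq F x).symm).base t) := by
      rw [hφ']
      obtain ⟨s, hs'⟩ := hφ.mem
      exact hits_comp (hits_of_bmap ey.hom (𝟙 _) (eqToHom hsy) (by rw [hey, Category.comp_id]) ⟨s, rfl⟩) hφ hs'
    have h2 := hits_of_map φ' h1
    rw [eqToHom_apply_cancel] at h2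
    refine ⟨ξ, φ', k, v', h2, F.toFunctor.map_injective ?_, F.toFunctor.map_injective ?_⟩
    · rw [F.toFunctor.map_comp, F.toFunctor.map_comp, hv', hp', hφ']
      simp [hv₁]
    · rw [F.toFunctor.map_comp, F.toFunctor.map_comp, hv', hq', hφ']
      simp [hv₂]

end IsEqv

section Fib

variable {𝒳 𝒴 𝒴' : AlgSt.Cat S} (f : 𝒳 ⥤ᵇ 𝒴) (u : 𝒴' ⥤ᵇ 𝒴)
  (h𝒳 : FibCat.IsFibGrpd 𝒳.p) (h𝒴 : FibCat.IsFibGrpd 𝒴.p) (h𝒴' : FibCat.IsFibGrpd 𝒴'.p)

/-- The category of a base change over an object, compared with the category over its image. -/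
def fibOfSnd (o : 𝒴'.obj) : StMod.fibCat (FibCat.fpSnd f u) o ⥤ᵇ StMod.fibCat f (u.obj o) where
  toFunctor :=
    { obj := fun w => CostructuredArrow.mk (w.left.obj.iso.hom ≫ u.map w.hom)
      map := fun {w' w} φ => CostructuredArrow.homMk φ.left.hom.fst (by
        show f.map φ.left.hom.fst ≫ w.left.obj.iso.hom ≫ u.map w.hom = w'.left.obj.iso.hom ≫ u.map w'.hom
        have h1 : φ.left.hom.snd ≫ w.hom = w'.hom := CostructuredArrow.w φ
        rw [← Category.assoc]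
        erw [φ.left.hom.w]
        rw [Category.assoc, ← u.toFunctor.map_comp, h1])
      map_id := fun w => CostructuredArrow.hom_ext _ _ rfl
      map_comp := fun φ φ' => CostructuredArrow.hom_ext _ _ rfl }
  w := rfl

theorem bmap_of_isHomLift_id {𝒵 : AlgSt.Cat S} {U : Over S} {z z' : 𝒵.obj} (φ : z ⟶ z')
    (h : 𝒵.p.IsHomLift (𝟙 U) φ) :
    ∃ e : StMod.sch 𝒵 z = StMod.sch 𝒵 z', StMod.bmap 𝒵 φ = eqToHom e := by
  haveI := h
  refine ⟨congrArg Comma.left ((IsHomLift.domain_eq 𝒵.p (𝟙 U) φ).trans (IsHomLift.codomain_eq 𝒵.p (𝟙 U) φ).symm), ?_⟩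
  rw [show StMod.bmap 𝒵 φ = (𝒵.p.map φ).left from rfl, IsHomLift.fac' 𝒵.p (𝟙 U) φ]
  simp [Over.eqToHom_left]

include h𝒳 h𝒴 h𝒴'

theorem isEqv_fibOfSnd (o : 𝒴'.obj) : IsEqv (fibOfSnd f u o) := by
  have hsnd : ∀ {w' w : (StMod.fibCat (FibCat.fpSnd f u) o).obj} (φ φ' : w' ⟶ w),
      φ.left.hom.fst = φ'.left.hom.fst → φ = φ' := fun {w' w} φ φ' h => by
    refine CostructuredArrow.hom_ext _ _ (ObjectProperty.hom_ext _ (CategoricalPullback.hom_ext h ?_))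
    refine eq_of_bmap h𝒴' w.hom ?_ ?_
    · have := congrArg (fun k => StMod.bmap 𝒴' ((FibCat.fpSnd f u).map k)) (rfl : φ.left = φ.left)
      show StMod.bmap 𝒴' ((FibCat.fpSnd f u).map φ.left) = StMod.bmap 𝒴' ((FibCat.fpSnd f u).map φ'.left)
      rw [bmap_map, bmap_map]
      congr 2
      show StMod.bmap 𝒳 φ.left.hom.fst = StMod.bmap 𝒳 φ'.left.hom.fst
      rw [h]
    · exact (CostructuredArrow.w φ).trans (CostructuredArrow.w φ').symm
  refine ⟨⟨fun {w' w} φ φ' h => hsnd φ φ' (congrArg CommaMorphism.left h)⟩, ⟨fun {w' w} ψ => ?_⟩, fun ξ => ?_,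
    isFibGrpd_fibCat (FibCatRep.isFibGrpd_fp h𝒳 h𝒴' h𝒴 f u) _ _, isFibGrpd_fibCat h𝒳 _ _⟩
  · let a : w'.left.obj.fst ⟶ w.left.obj.fst := ψ.left
    have hψ : f.map a ≫ w.left.obj.iso.hom ≫ u.map w.hom = w'.left.obj.iso.hom ≫ u.map w'.hom :=
      CostructuredArrow.w ψ
    obtain ⟨e', he'⟩ := bmap_of_isHomLift_id _ w'.left.property
    obtain ⟨e, he⟩ := bmap_of_isHomLift_id _ w.left.property
    obtain ⟨b, hb, hb'⟩ := exists_factor h𝒴' w.hom w'.hom
      (eqToHom (StMod.sch_obj_eq (FibCat.fpSnd f u) w'.left) ≫ StMod.bmap 𝒳 a ≫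
        eqToHom (StMod.sch_obj_eq (FibCat.fpSnd f u) w.left).symm) (by
        have h1 := congrArg (StMod.bmap 𝒴) hψ
        rw [StMod.bmap_comp, StMod.bmap_comp, StMod.bmap_comp, bmap_map, bmap_map, bmap_map, he, he'] at h1
        simp only [Category.assoc, eqToHom_trans_assoc] at h1 ⊢
        have h2 := congrArg (fun k => eqToHom ((StMod.sch_obj_eq (FibCat.fpSnd f u) w'.left).trans
          (StMod.sch_obj_eq f w'.left.obj.fst).symm) ≫ k ≫ eqToHom (StMod.sch_obj_eq u o)) h1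
        simpa using h2)
    have hab : f.map a ≫ w.left.obj.iso.hom = w'.left.obj.iso.hom ≫ u.map b := by
      refine eq_of_bmap h𝒴 (u.map w.hom) ?_ ?_
      · rw [StMod.bmap_comp, StMod.bmap_comp, bmap_map, bmap_map, he, he', hb]
        simp
      · rw [Category.assoc, hψ, Category.assoc, ← u.toFunctor.map_comp, hb']
    exact ⟨CostructuredArrow.homMk (ObjectProperty.homMk { fst := a, snd := b, w := hab }) hb',
      CostructuredArrow.hom_ext _ _ rfl⟩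
  · -- lift `o` to the scheme under `ξ`
    obtain ⟨o', φ, hφl⟩ := GerbLib.lift_at h𝒴' rfl (StMod.baseOver f ξ.left ξ.hom ≫ eqToHom (u.w_obj o))
    haveI := hφl
    have ho : 𝒴'.p.obj o' = 𝒳.p.obj ξ.left :=
      IsHomLift.domain_eq 𝒴'.p (StMod.baseOver f ξ.left ξ.hom ≫ eqToHom (u.w_obj o)) φ
    have hφ : StMod.bmap 𝒴' φ = eqToHom (congrArg Comma.left ho) ≫ uFib f (u.obj o) ξ ≫
        eqToHom (StMod.sch_obj_eq u o) := by
      rw [show StMod.bmap 𝒴' φ = (𝒴'.p.map φ).left from rfl,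
        IsHomLift.fac' 𝒴'.p (StMod.baseOver f ξ.left ξ.hom ≫ eqToHom (u.w_obj o)) φ]
      simp [Over.eqToHom_left, uFib]
    obtain ⟨χ, hχ, hχ'⟩ := exists_factor h𝒴 (u.map φ) ξ.hom
      (eqToHom ((StMod.sch_obj_eq f ξ.left).trans ((congrArg Comma.left ho).symm.trans (StMod.sch_obj_eq u o').symm))) (by
        rw [bmap_map, hφ, bmap_hom_eq]
        simp)
    haveI : IsIso (𝒴.p.map χ) := by
      haveI : IsIso (𝒴.p.map χ).left := by
        rw [show (𝒴.p.map χ).left = StMod.bmap 𝒴 χ from rfl, hχ]; infer_instance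
      haveI : IsIso ((Over.forget S).map (𝒴.p.map χ)) := by assumption
      exact isIso_of_reflects_iso (𝒴.p.map χ) (Over.forget S)
    haveI : IsIso χ := FibCatRep.isIso_of_map h𝒴 χ
    let P : (FibCat.fp f u).obj := ⟨{ fst := ξ.left, snd := o', iso := asIso χ }, by
      refine IsHomLift.of_fac' _ _ _ (f.w_obj ξ.left) ((u.w_obj o').trans ho) (Over.OverMorphism.ext ?_)
      show StMod.bmap 𝒴 χ = _
      rw [hχ]
      simp [Over.eqToHom_left]⟩
    let w : (StMod.fibCat (FibCat.fpSnd f u) o).obj := CostructuredArrow.mk (show (FibCat.fpSnd f u).obj P ⟶ o from φ)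
    refine ⟨w, CostructuredArrow.isoMk (Iso.refl _) ?_, rfl, ?_⟩
    · show f.map (𝟙 ξ.left) ≫ ξ.hom = χ ≫ u.map φ
      rw [f.toFunctor.map_id, Category.id_comp, hχ']
    · show 𝒳.p.map (𝟙 ξ.left) = 𝟙 _
      exact 𝒳.p.map_id _

omit h𝒳 h𝒴 h𝒴'

/-- The restriction to the category over an object agrees. -/
theorem comap_fibOfSnd (o : 𝒴'.obj) (E : StMod.QCoh 𝒳) :
    Nonempty ((StMod.comapQ (fibOfSnd f u o)).obj (onFib f E (u.obj o)) ≅
      (StMod.comapQ (StMod.fibFst (FibCat.fpSnd f u) o)).obj ((StMod.comapQ (FibCat.fpFst f u)).obj E)) :=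
  ⟨ObjectProperty.isoMk _ ((StMod.comapCompIso (StMod.fibFst f (u.obj o)) (fibOfSnd f u o) E.obj).symm ≪≫
    StMod.comapCompIso (FibCat.fpFst f u) (StMod.fibFst (FibCat.fpSnd f u) o) E.obj)⟩

end Fib

section Top

variable {𝒲 : AlgSt.Cat S} {T : Over S} (P : 𝒲 ⥤ᵇ FibCat.overCat T)

/-- The final object of a slice. -/
def topObj (T : Over S) : (FibCat.overCat T).obj := Over.mk (𝟙 T)

/-- The morphism to the final object of a slice. -/
def toTop (o : (FibCat.overCat T).obj) : o ⟶ topObj T :=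
  (Over.homMk (show Over T from o).hom (Category.comp_id _) : (show Over T from o) ⟶ Over.mk (𝟙 T))

theorem toTop_unique {o : (FibCat.overCat T).obj} (a b : o ⟶ topObj T) : a = b := by
  have h1 : (show (show Over T from o) ⟶ Over.mk (𝟙 T) from a).left ≫ 𝟙 T = (show Over T from o).hom :=
    Over.w (show (show Over T from o) ⟶ Over.mk (𝟙 T) from a)
  have h2 : (show (show Over T from o) ⟶ Over.mk (𝟙 T) from b).left ≫ 𝟙 T = (show Over T from o).hom :=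
    Over.w (show (show Over T from o) ⟶ Over.mk (𝟙 T) from b)
  exact Over.OverMorphism.ext (by
    have := h1.trans h2.symm
    simpa using this)

/-- A category over a slice is the category over its final object. -/
def topFib : 𝒲 ⥤ᵇ StMod.fibCat P (topObj T) where
  toFunctor :=
    { obj := fun x => CostructuredArrow.mk (toTop (P.obj x))
      map := fun φ => CostructuredArrow.homMk φ (toTop_unique _ _)
      map_id := fun x => CostructuredArrow.hom_ext _ _ rfl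
      map_comp := fun φ φ' => CostructuredArrow.hom_ext _ _ rfl }
  w := rfl

theorem isEqv_topFib (h𝒲 : FibCat.IsFibGrpd 𝒲.p) : IsEqv (topFib P) :=
  ⟨⟨fun h => congrArg CommaMorphism.left h⟩, ⟨fun ψ => ⟨ψ.left, CostructuredArrow.hom_ext _ _ rfl⟩⟩,
    fun w => ⟨w.left, CostructuredArrow.isoMk (Iso.refl _) (toTop_unique _ _), rfl, by
      show 𝒲.p.map (𝟙 w.left) = 𝟙 _
      exact 𝒲.p.map_id _⟩, h𝒲, isFibGrpd_fibCat h𝒲 _ _⟩

theorem comap_topFib (E : StMod.QCoh 𝒲) :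
    Nonempty ((StMod.comapQ (topFib P)).obj (onFib P E (topObj T)) ≅ E) :=
  ⟨ObjectProperty.isoMk _ ((StMod.comapCompIso (StMod.fibFst P (topObj T)) (topFib P) E.obj).symm ≪≫
    StMod.comapIdIso E.obj)⟩

end Top

/-- Generating is invariant under isomorphisms of the members. -/
theorem isGenFam_of_iso {𝒵 : AlgSt.Cat S} {ι : Type*} {E E' : ι → StMod.QCoh 𝒵} (i : ∀ j, E j ≅ E' j)
    (h : StMod.IsGenFam E) : StMod.IsGenFam E' := by
  rw [StMod.isGenFam_iff] at h ⊢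
  intro M N u hu
  refine h u fun j φ => ?_
  have h0 := hu j ((i j).inv.hom ≫ φ)
  have h1 : (i j).hom.hom ≫ (i j).inv.hom = 𝟙 _ := congrArg InducedCategory.Hom.hom (i j).hom_inv_id
  calc φ ≫ u.hom = ((i j).hom.hom ≫ (i j).inv.hom) ≫ φ ≫ u.hom := by rw [h1, Category.id_comp]
    _ = (i j).hom.hom ≫ ((i j).inv.hom ≫ φ) ≫ u.hom := by simp only [Category.assoc]
    _ = 0 := by rw [h0, comp_zero]

end Groth.Agent.RelGen
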