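import Mathlib
import Groth.Agent.RelGen.Equiv
import Groth.Agent.AlgStLib.LiftFamily

/-!
# Local lifts of objects along flat functors; quasi-compact algebraic stacks have finite affine coverings
-/

universe u

open CategoryTheory CategoryTheory.Limits AlgebraicGeometry TopologicalSpace Opposite

set_option autoImplicit false
set_option backward.isDefEq.respectTransparency false
set_option backward.isDefEq.respectTransparency.types false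
set_option linter.style.haveILetI false

noncomputable section

namespace Groth.Agent.RelGen

open Groth.Agent.QDescent Groth.Agent.AlgSpLib Groth.Agent.AlgStLib Groth.Agent.FibCatRep
  Groth.Agent.FibCat2Misc Groth.Agent.StkBasic
open _root_.AlgSp _root_.AlgSt

variable {S : Scheme.{u}}

local notation "AS" => IsAlgStack Scheme.fppfPrecoverage

/-- Local lifts of charts along a flat functor. -/
theorem exists_flat_lift {𝒳 𝒴 : AlgSt.Cat S} (h𝒳 : AS 𝒳) (h𝒴 : AS 𝒴) (f : 𝒴 ⥤ᵇ 𝒳)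
    (hf : LocQ (LocP @Flat) f) {U : Over S} (x : FibCat.overCat U ⥤ᵇ 𝒳) (t : ↥U.left)
    (ht : AlgSt.Points.ofChart x t ∈ Set.range (AlgSt.Points.map f)) :
    ∃ (W : Over S) (γ : W ⟶ U), Flat γ.left ∧ t ∈ Set.range γ.left ∧
      ∃ x' : FibCat.overCat W ⥤ᵇ 𝒴, Nonempty (BasedFunctor.comp x' f ≅ BasedFunctor.comp (AlgSt.overMap γ) x) := by
  let y : AlgSt.ofSp (spOf U).obj ⥤ᵇ 𝒳 := BasedFunctor.comp (AlgSt.toOverCat U) x
  have hU := isAlgStack_spOf U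
  have hA := algFp h𝒳 hU h𝒴 y f
  obtain ⟨W, w, hw, hw'⟩ := exists_atlas_sp hA
  let Φ := BasedFunctor.comp w (FibCat.fpFst y f)
  obtain ⟨γ, hγ⟩ := exists_map_eq (ObjectProperty.homMk (mapOf Φ) : (yon S).obj W ⟶ (yon S).obj U)
  let Γ : spOf W ⟶ spOf U := ObjectProperty.homMk ((yon S).map γ)
  let j : Φ ≅ AlgSt.ofSpMap Γ.hom := (mapOfIso Φ).symm ≪≫
    eqToIso (congrArg (fun r : (yon S).obj W ⟶ (yon S).obj U => Stk.ofPshMap r.hom) hγ.symm)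
  have hflat : Flat γ.left := by
    have h₁ : LocQ (LocP @Flat) Φ := locQ_comp st_flat cls_flat.comp (isAlgStack_spOf W) hA hU
      (locQ_of_repWith st_flat cls_flat.bc cls_flat.loc (isAlgStack_spOf W) hA (repWith_flat_of_smooth hw))
      (locQ_fpFst_of_bc st_flat cls_flat.bc h𝒴 h𝒳 hU hf)
    exact (locP_yon_iff etST_flat γ).1 ((locQ_ofSpMap_iff st_flat Γ).1 (locQ_congr j.symm h₁))
  refine ⟨W, γ, hflat, ?_, ?_⟩
  · obtain ⟨q, hq⟩ := ht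
    obtain ⟨t', ht'⟩ : ∃ t' : AlgSt.Points (AlgSt.ofSp (spOf U).obj), t' = stPts _ (AlgSp.Points.ofScheme U t) :=
      ⟨_, rfl⟩
    have hy : AlgSt.Points.map y t' = AlgSt.Points.map f q := by
      rw [hq, ht']
      rfl
    obtain ⟨p, hp, -⟩ := exists_points_fp h𝒴.isStack.1 h𝒳.isStack.1 hU.isStack.1 f y t' q hy
    obtain ⟨r, rfl⟩ := isSurjective_of_repWith (isFibGrpd_ofSpace _) hA.isStack.1 hw' p
    obtain ⟨r, rfl⟩ := (bijective_stPts _).2 r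
    rw [← map_comp_points, map_congr_points j, map_stPts, ht'] at hp
    refine ⟨AlgSp.Points.toScheme W r, ?_⟩
    have h := (bijective_stPts _).1 hp
    rw [← AlgSp.Points.ofScheme_toScheme W r] at h
    have h' : AlgSp.Points.ofPt ((yon S).map γ) (AlgSp.Points.toScheme W r) = AlgSp.Points.ofScheme U t := by
      rw [← h, AlgSp.Points.map_ofPt, Category.id_comp]
      rfl
    rw [ofScheme_map] at h'
    have h'' := congrArg (AlgSp.Points.toScheme U) h'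
    rwa [AlgSp.Points.toScheme_ofScheme, AlgSp.Points.toScheme_ofScheme] at h''
  · exact ⟨BasedFunctor.comp (BasedFunctor.comp (AlgSt.ofOverCat W) w) (FibCat.fpSnd y f),
      ⟨((Stk.restr (BasedFunctor.comp (AlgSt.ofOverCat W) w) _).mapIso (FibCat.fpIso y f)).symm ≪≫
        (post _ y).mapIso ((Stk.restr (AlgSt.ofOverCat W) _).mapIso j) ≪≫
        (post _ x).mapIso (ofOverCatMapIso γ)⟩⟩

/-- An object as the value at the top of a chart. -/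
theorem exists_chartAt {𝒴 : AlgSt.Cat S} (h𝒴 : FibCat.IsFibGrpd 𝒴.p) (ζ : 𝒴.obj) :
    ∃ (z : FibCat.overCat (𝒴.p.obj ζ) ⥤ᵇ 𝒴) (i : z.obj (topObj _) ≅ ζ)
      (h : StMod.sch 𝒴 (z.obj (topObj _)) = StMod.sch 𝒴 ζ), StMod.bmap 𝒴 i.hom = eqToHom h := by
  obtain ⟨y, i, hi⟩ := exists_point h𝒴 ζ
  refine ⟨BasedFunctor.comp (AlgSt.ofOverCat _) y, i, congrArg Comma.left (y.w_obj _), ?_⟩
  show (𝒴.p.map i.hom).left = _
  rw [hi]
  exact Over.eqToHom_left _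

/-- The objects coming from a lift of a chart. -/
theorem exists_obj_of_lift {𝒳 𝒴 : AlgSt.Cat S} {f : 𝒴 ⥤ᵇ 𝒳} {ζ : 𝒳.obj}
    (z : FibCat.overCat (𝒳.p.obj ζ) ⥤ᵇ 𝒳) (i : z.obj (topObj _) ≅ ζ)
    (h : StMod.sch 𝒳 (z.obj (topObj _)) = StMod.sch 𝒳 ζ) (hi : StMod.bmap 𝒳 i.hom = eqToHom h)
    {W : Over S} (γ : W ⟶ 𝒳.p.obj ζ) (x' : FibCat.overCat W ⥤ᵇ 𝒴)
    (j : BasedFunctor.comp x' f ≅ BasedFunctor.comp (AlgSt.overMap γ) z) (q : (FibCat.overCat W).obj) :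
    ∃ (ζ' : 𝒳.obj) (ψ : ζ' ⟶ ζ) (_ : ζ' ⟶ f.obj (x'.obj q))
      (e : StMod.sch 𝒳 ζ' = StMod.sch (FibCat.overCat W) q),
      StMod.bmap 𝒳 ψ = eqToHom e ≫ (show Over W from q).hom.left ≫ γ.left ∧
        StMod.sch 𝒴 (x'.obj q) = StMod.sch (FibCat.overCat W) q := by
  let q' := (AlgSt.overMap γ).obj q
  refine ⟨z.obj q', z.map (toTop q') ≫ i.hom, j.inv.toNatTrans.app q, StMod.sch_obj_eq z q', ?_,
    StMod.sch_obj_eq x' q⟩
  rw [StMod.bmap_comp, bmap_map, hi]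
  simp only [Category.assoc, eqToHom_trans]
  rw [eqToHom_refl, Category.comp_id]
  rfl

/-- Flat affine neighbourhoods with lifts. -/
theorem exists_flat_hit {𝒳 𝒴 : AlgSt.Cat S} (h𝒳 : AS 𝒳) (h𝒴 : AS 𝒴) (f : 𝒴 ⥤ᵇ 𝒳) (hf : LocQ (LocP @Flat) f)
    (ζ : 𝒳.obj) (t : StMod.sch 𝒳 ζ)
    (z : FibCat.overCat (𝒳.p.obj ζ) ⥤ᵇ 𝒳) (i : z.obj (topObj _) ≅ ζ)
    (h : StMod.sch 𝒳 (z.obj (topObj _)) = StMod.sch 𝒳 ζ) (hi : StMod.bmap 𝒳 i.hom = eqToHom h)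
    (ht : AlgSt.Points.ofChart z t ∈ Set.range (AlgSt.Points.map f)) :
    ∃ (ζ' : 𝒳.obj) (ψ : ζ' ⟶ ζ) (o : 𝒴.obj) (_ : ζ' ⟶ f.obj o), IsAffine (StMod.sch 𝒳 ζ') ∧
      IsAffine (StMod.sch 𝒴 o) ∧ Flat (StMod.bmap 𝒳 ψ) ∧ t ∈ Set.range (StMod.bmap 𝒳 ψ).base := by
  obtain ⟨W, γ, hγ, ⟨w, hw⟩, x', ⟨j⟩⟩ := exists_flat_lift h𝒳 h𝒴 f hf z t ht
  obtain ⟨V, hV, hwV, -⟩ := exists_isAffineOpen_mem_and_subset (X := W.left) (x := w) (U := ⊤) trivial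
  let q : (FibCat.overCat W).obj :=
    (Over.mk (Over.homMk V.ι rfl : Over.mk (V.ι ≫ W.hom) ⟶ W) : Over W)
  obtain ⟨ζ', ψ, β, e, hψ, ho⟩ := exists_obj_of_lift z i h hi γ x' j q
  haveI : IsAffine (StMod.sch (FibCat.overCat W) q) := hV
  haveI := hγ
  refine ⟨ζ', ψ, x'.obj q, β, IsAffine.of_isIso (eqToHom e), IsAffine.of_isIso (eqToHom ho), ?_, ?_⟩
  · rw [hψ]
    show Flat (eqToHom e ≫ V.ι ≫ γ.left)
    infer_instance
  · refine ⟨(eqToHom e.symm).base ⟨w, hwV⟩, ?_⟩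
    rw [hψ, Scheme.Hom.comp_apply, eqToHom_apply_cancel]
    exact hw

/-- A quasi-compact algebraic stack has a finite affine covering. -/
theorem isQC_of_isQuasiCompact {𝒲 : AlgSt.Cat S} (h𝒲 : AS 𝒲) (hq : AlgSt.IsQuasiCompact 𝒲) : IsQC 𝒲 := by
  obtain ⟨U, x, hU, hxs, hxj⟩ := hq
  have hO := isAlgStack_overCat U
  refine ⟨PUnit.{u + 1}, inferInstance, fun _ => x.obj (topObj U), fun _ => ?_, fun w t => ?_⟩
  · haveI : IsAffine (StMod.sch (FibCat.overCat U) (topObj U)) := hU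
    exact IsAffine.of_isIso (eqToHom (StMod.sch_obj_eq x (topObj U)))
  · obtain ⟨z, i, h, hi⟩ := exists_chartAt h𝒲.isStack.1 w
    obtain ⟨W, γ, hγ, hγ', ⟨s, hs⟩, x', ⟨j⟩⟩ := exists_lift_at h𝒲 hO x
      (locQ_of_repWith st_flat cls_flat.bc cls_flat.loc hO h𝒲 (repWith_flat_of_smooth hxs))
      (locQ_of_repWith st_lfp cls_lfp.bc cls_lfp.loc hO h𝒲 (repWith_lfp_of_smooth hxs)) z t
      (isSurjective_of_repWith hO.isStack.1 h𝒲.isStack.1 hxj _)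
    obtain ⟨ζ', ψ, β, e, hψ, -⟩ := exists_obj_of_lift z i h hi γ x' j (topObj W)
    refine ⟨ζ', ψ, ?_, ⟨⟩, ⟨β ≫ x.map (toTop _)⟩⟩
    have h3 : StMod.bmap 𝒲 ψ = eqToHom e ≫ γ.left := by
      rw [hψ]
      exact congrArg (eqToHom e ≫ ·) (Category.id_comp γ.left)
    exact hits_of_bmap ψ γ.left _ h3 ⟨s, hs⟩

end Groth.Agent.RelGen
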