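import Mathlib
import Groth.Agent.RelGen.Equiv
import Groth.Agent.AlgStLib.QC2

/-!
# Objects over an affine object through a quasi-compact representable functor
-/

universe u

open CategoryTheory CategoryTheory.Limits AlgebraicGeometry TopologicalSpace Opposite

set_option autoImplicit false
set_option backward.isDefEq.respectTransparency false
set_option backward.isDefEq.respectTransparency.types false
set_option linter.style.haveILetI false

noncomputable section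

namespace Groth.Agent.RelGen

open Groth.Agent.QDescent Groth.Agent.AlgSpLib Groth.Agent.AlgStLib Groth.Agent.FibCatRep
open _root_.AlgSp _root_.AlgSt

variable {S : Scheme.{u}} {𝒳 𝒵 : AlgSt.Cat S} {U : Over S} {y : Stk.ofPsh ((pyon S).obj U) ⥤ᵇ 𝒵}
  {Δ : 𝒳 ⥤ᵇ 𝒵}

/-- The morphism to the standard point. -/
def ptHom (a : (Stk.ofPsh ((pyon S).obj U)).obj) : a ⟶ pt U :=
  ⟨a.sec.down, congrArg ULift.up (Category.comp_id a.sec.down)⟩

theorem to_pt_eq {a : (Stk.ofPsh ((pyon S).obj U)).obj} (m : a ⟶ pt U) : m = ptHom a :=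
  Stk.EltObj.hom_ext (by
    have h := congrArg ULift.down m.map_sec
    show m.hom = a.sec.down
    exact (Category.comp_id m.hom).symm.trans h)

/-- The morphism to a given object carried by an object of the fibre product. -/
def morTo {o : 𝒵.obj} (i : y.obj (pt U) ≅ o) (k : (FibCat.fp y Δ).obj) : Δ.obj k.obj.snd ⟶ o :=
  k.obj.iso.inv ≫ y.map (ptHom k.obj.fst) ≫ i.hom

theorem map_morTo {o : 𝒵.obj} (i : y.obj (pt U) ≅ o) {k' k : (FibCat.fp y Δ).obj} (r : k' ⟶ k) :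
    Δ.map r.hom.snd ≫ morTo i k = morTo i k' := by
  have h : y.map r.hom.fst ≫ k.obj.iso.hom = k'.obj.iso.hom ≫ Δ.map r.hom.snd := r.hom.w
  have h' : k'.obj.iso.inv ≫ y.map r.hom.fst = Δ.map r.hom.snd ≫ k.obj.iso.inv := by
    rw [Iso.inv_comp_eq, ← Category.assoc, ← h, Category.assoc, Iso.hom_inv_id, Category.comp_id]
  rw [morTo, morTo, ← to_pt_eq (r.hom.fst ≫ ptHom k.obj.fst), y.toFunctor.map_comp, Category.assoc,
    reassoc_of% h']

/-- The objects over an affine object through a quasi-compact representable functor are covered by one affine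
object. -/
theorem exists_pairs (h𝒵 : FibCat.IsFibGrpd 𝒵.p) (hΔ : RepByAlgSpWith AlgSp.IsQuasiCompactMor Δ) (o : 𝒵.obj)
    (ho : IsAffine (StMod.sch 𝒵 o)) :
    ∃ (z : 𝒳.obj) (m : Δ.obj z ⟶ o), IsAffine (StMod.sch 𝒳 z) ∧
      ∀ (w : 𝒳.obj) (M : Δ.obj w ⟶ o) (t : StMod.sch 𝒳 w),
        ∃ (w' : 𝒳.obj) (φ : w' ⟶ w) (v : w' ⟶ z), Hits φ t ∧ Δ.map v ≫ m = Δ.map φ ≫ M := by
  haveI := respectsIso_quasiCompact (S := S)
  obtain ⟨y, i, hi⟩ := exists_point h𝒵 o
  obtain ⟨P, e, he, hsh, halg, hq⟩ := (AlgStLib.repWith_iff _ Δ).1 hΔ _ y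
  let F : Sp S := ⟨P, hsh⟩
  have hqF : IsQuasiCompactSp F := by
    haveI : CompactSpace ↥(𝒵.p.obj o).left := (inferInstance : CompactSpace ↥(StMod.sch 𝒵 o))
    exact hq (IsAlgSpace.yon_obj _) (isQuasiCompactSp_yon _) (𝟙 _) (𝟙 F)
      (ObjectProperty.homMk (prjMap e) : F ⟶ (yon S).obj (𝒵.p.obj o)) (IsPullback.of_horiz_isIso ⟨by simp⟩)
  haveI := compactSpace_of_isQuasiCompactSp hqF
  obtain ⟨V, p, hV, hpe, hps⟩ := exists_affine_chart_of_compact halg
  let ptV : (Stk.ofPsh P).obj := ⟨V, p.hom.app (op V) ⟨𝟙 V⟩⟩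
  let k := e.obj ptV
  have hk : 𝒳.p.obj k.obj.snd = V := (BasedFunctor.comp e (FibCat.fpSnd y Δ)).w_obj ptV
  refine ⟨k.obj.snd, morTo i k, ?_, fun w M t => ?_⟩
  · haveI := hV
    exact IsAffine.of_isIso (eqToHom (congrArg Comma.left hk))
  obtain ⟨G, -, ⟨ε⟩⟩ := he
  obtain ⟨a, m', χ, h, hχ, hχc⟩ := exists_iso_pt h𝒵 i M
  let o' : (FibCat.fp y Δ).obj := ⟨⟨a, w, χ⟩, fpProp_of_map y Δ _ h hχ⟩
  have hM : morTo i o' = M := by
    show χ.inv ≫ y.map (ptHom a) ≫ i.hom = M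
    rw [← to_pt_eq m', ← hχc, Iso.inv_hom_id_assoc]
  let j := G.obj o'
  let εo : e.obj j ⟶ o' := ε.hom.toNatTrans.app o'
  let ξ : (yon S).obj j.base ⟶ F := ObjectProperty.homMk (uliftYonedaEquiv.symm j.sec)
  obtain ⟨W, a', b', sq, hb'⟩ := IsAlgSpace.exists_chart_pullback halg hpe ξ
  have hbs : Surjective b'.left := hps.2 ξ _ b' sq
  have hw : 𝒳.p.obj w = j.base := (fp_obj_eq o').trans (G.w_obj o').symm
  obtain ⟨t', ht'⟩ := hbs.surj ((eqToHom (congrArg Comma.left hw)).base t)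
  let j'' : (Stk.ofPsh P).obj := ⟨W, P.map b'.op j.sec⟩
  let r : j'' ⟶ j := ⟨b', rfl⟩
  let s : j'' ⟶ ptV := ⟨a', by
    have h1 := congrArg (fun q : (yon S).obj W ⟶ F => q.hom.app (op W) ⟨𝟙 W⟩) sq.w
    have h2 := NatTrans.naturality_apply p.hom a'.op (⟨𝟙 V⟩ : ((pyon S).obj V).obj (op V))
    refine h2.symm.trans (Eq.trans ?_ (h1.trans ?_))
    · show p.hom.app (op W) _ = p.hom.app (op W) _
      exact congrArg _ (ULift.ext _ _ ((Category.comp_id a').trans (Category.id_comp a').symm))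
    · show P.map (𝟙 W ≫ b').op j.sec = P.map b'.op j.sec
      rw [Category.id_comp]⟩
  let S₂ : e.obj j'' ⟶ o' := e.map r ≫ εo
  refine ⟨(e.obj j'').obj.snd, S₂.hom.snd, (e.map s).hom.snd, ?_, ?_⟩
  · have h1 : (FibCat.fp y Δ).p.map S₂ =
        eqToHom (e.w_obj j'') ≫ b' ≫ eqToHom (G.w_obj o') := by
      show (FibCat.fp y Δ).p.map (e.map r ≫ εo) = _
      rw [Functor.map_comp, FibCatRep.map_map e r, show (FibCat.fp y Δ).p.map εo = _ from map_app ε.hom o']
      simp only [Category.assoc, eqToHom_trans]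
      rfl
    have h2 : 𝒳.p.map S₂.hom.snd = eqToHom (fp_obj_eq (e.obj j'')) ≫ (FibCat.fp y Δ).p.map S₂ ≫
        eqToHom (fp_obj_eq o').symm := map_snd S₂
    have h3 : StMod.bmap 𝒳 S₂.hom.snd =
        eqToHom (congrArg Comma.left ((fp_obj_eq (e.obj j'')).trans (e.w_obj j''))) ≫ b'.left ≫
          eqToHom (congrArg Comma.left hw.symm) := by
      show (𝒳.p.map S₂.hom.snd).left = _
      rw [h2, h1]
      simp [Over.eqToHom_left]
    haveI : Etale b'.left := hb'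
    refine hits_of_bmap _ (b'.left ≫ eqToHom (congrArg Comma.left hw.symm)) _ h3 ⟨t', ?_⟩
    rw [Scheme.Hom.comp_apply, ht']
    exact eqToHom_apply_cancel (congrArg Comma.left hw) _ t
  · rw [map_morTo, ← hM, map_morTo]

end Groth.Agent.RelGen
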