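import Mathlib
import Groth.Agent.RelGen.Pairs
import Groth.Agent.RelGen.Lift
import Groth.Agent.RelGen.AffPush

/-!
# Finite affine coverings of the categories over affine objects of a quasi-compact quasi-separated functor
-/

universe u

open CategoryTheory CategoryTheory.Limits AlgebraicGeometry TopologicalSpace Opposite

set_option autoImplicit false
set_option backward.isDefEq.respectTransparency false
set_option backward.isDefEq.respectTransparency.types false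
set_option linter.style.haveILetI false

noncomputable section

namespace Groth.Agent.RelGen

open Groth.Agent.QDescent Groth.Agent.AlgStLib Groth.Agent.FibCatRep
open _root_.AlgSp _root_.AlgSt

variable {S : Scheme.{u}}

local notation "AS" => IsAlgStack Scheme.fppfPrecoverage

variable {𝒳 𝒴 : AlgSt.Cat S}

theorem uFib_w (π : 𝒳 ⥤ᵇ 𝒴) (η : 𝒴.obj) (x : (StMod.fibCat π η).obj) :
    uFib π η x ≫ (𝒴.p.obj η).hom = (𝒳.p.obj x.left).hom :=
  Over.w (StMod.baseOver π x.left x.hom)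

/-- The pair of the base changes of two objects over an affine object. -/
theorem exists_pairObj (h𝒳 : FibCat.IsFibGrpd 𝒳.p) (h𝒴 : FibCat.IsFibGrpd 𝒴.p) (f : 𝒳 ⥤ᵇ 𝒴) {η : 𝒴.obj}
    [IsAffine (StMod.sch 𝒴 η)] (A B : (StMod.fibCat f η).obj) [IsAffine (StMod.sch 𝒳 A.left)]
    [IsAffine (StMod.sch 𝒳 B.left)] :
    ∃ (o : (FibCat.fp f f).obj) (a' : o.obj.fst ⟶ A.left) (b' : o.obj.snd ⟶ B.left),
      IsAffine (StMod.sch (FibCat.fp f f) o) ∧ o.obj.iso.hom ≫ f.map b' ≫ B.hom = f.map a' ≫ A.hom ∧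
      ∀ (w : (StMod.fibCat f η).obj) (c : w ⟶ A) (d : w ⟶ B),
        ∃ M : (FibCat.diag f).obj w.left ⟶ o, M.hom.fst ≫ a' = c.left ∧ M.hom.snd ≫ b' = d.left := by
  let P := pullback (uFib f η A) (uFib f η B)
  let pA : P ⟶ StMod.sch 𝒳 A.left := pullback.fst _ _
  let pB : P ⟶ StMod.sch 𝒳 B.left := pullback.snd _ _
  let U₀ : Over S := Over.mk (pA ≫ (𝒳.p.obj A.left).hom)
  have hB : pB ≫ (𝒳.p.obj B.left).hom = pA ≫ (𝒳.p.obj A.left).hom := by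
    rw [← uFib_w f η A, ← uFib_w f η B]
    exact (pullback.condition_assoc _).symm
  obtain ⟨ξA, a', ha⟩ := GerbLib.lift_at h𝒳 rfl (Over.homMk pA rfl : U₀ ⟶ 𝒳.p.obj A.left)
  obtain ⟨ξB, b', hb⟩ := GerbLib.lift_at h𝒳 rfl (Over.homMk pB hB : U₀ ⟶ 𝒳.p.obj B.left)
  haveI := ha
  haveI := hb
  have eA : 𝒳.p.obj ξA = U₀ := IsHomLift.domain_eq 𝒳.p (Over.homMk pA rfl : U₀ ⟶ 𝒳.p.obj A.left) a'
  have eB : 𝒳.p.obj ξB = U₀ := IsHomLift.domain_eq 𝒳.p (Over.homMk pB hB : U₀ ⟶ 𝒳.p.obj B.left) b'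
  have hba : StMod.bmap 𝒳 a' = eqToHom (congrArg Comma.left eA) ≫ pA := by
    rw [show StMod.bmap 𝒳 a' = (𝒳.p.map a').left from rfl,
      IsHomLift.fac' 𝒳.p (Over.homMk pA rfl : U₀ ⟶ 𝒳.p.obj A.left) a']
    simp [Over.eqToHom_left]
  have hbb : StMod.bmap 𝒳 b' = eqToHom (congrArg Comma.left eB) ≫ pB := by
    rw [show StMod.bmap 𝒳 b' = (𝒳.p.map b').left from rfl,
      IsHomLift.fac' 𝒳.p (Over.homMk pB hB : U₀ ⟶ 𝒳.p.obj B.left) b']
    simp [Over.eqToHom_left]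
  have h' : 𝒴.p.obj (f.obj ξA) = 𝒴.p.obj (f.obj ξB) := by rw [f.w_obj, f.w_obj, eA, eB]
  have ebase : eqToHom (congrArg Comma.left h') ≫ StMod.bmap 𝒴 (f.map b' ≫ B.hom) =
      StMod.bmap 𝒴 (f.map a' ≫ A.hom) := by
    rw [StMod.bmap_comp, StMod.bmap_comp, bmap_map, bmap_map, bmap_hom_eq, bmap_hom_eq, hba, hbb]
    have := (pullback.condition : pA ≫ uFib f η A = pB ≫ uFib f η B)
    simp only [Category.assoc, eqToHom_trans_assoc]
    exact congrArg (eqToHom _ ≫ ·) this.symm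
  obtain ⟨χ, hχ, hχ'⟩ := exists_factor h𝒴 (f.map b' ≫ B.hom) (f.map a' ≫ A.hom)
    (eqToHom (congrArg Comma.left h')) ebase
  have hpχ : 𝒴.p.map χ = eqToHom h' := Over.OverMorphism.ext (hχ.trans (Over.eqToHom_left h').symm)
  haveI : IsIso (𝒴.p.map χ) := by rw [hpχ]; infer_instance
  haveI := FibCatRep.isIso_of_map h𝒴 χ
  refine ⟨⟨⟨ξA, ξB, asIso χ⟩, fpProp_of_map f f _ h' hpχ⟩, a', b', ?_, hχ', fun w c d => ?_⟩
  · haveI : IsAffine (StMod.sch (StMod.fibCat f η) A) := ‹IsAffine (StMod.sch 𝒳 A.left)›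
    haveI : IsAffine (StMod.sch (StMod.fibCat f η) B) := ‹IsAffine (StMod.sch 𝒳 B.left)›
    haveI : IsAffineHom (uFib f η A) := isAffineHom_of_isAffine _
    haveI : IsAffine P := isAffine_of_isAffineHom (pullback.snd (uFib f η A) (uFib f η B))
    exact IsAffine.of_isIso (eqToHom (congrArg Comma.left eA) : StMod.sch 𝒳 ξA ⟶ P)
  · let k : StMod.sch 𝒳 w.left ⟶ P := pullback.lift (StMod.bmap 𝒳 c.left) (StMod.bmap 𝒳 d.left)
      ((uFib_nat f c).trans (uFib_nat f d).symm)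
    obtain ⟨c', hc', hc''⟩ := exists_factor h𝒳 a' c.left (k ≫ eqToHom (congrArg Comma.left eA).symm) (by
      rw [hba]; simp [k, pA])
    obtain ⟨d', hd', hd''⟩ := exists_factor h𝒳 b' d.left (k ≫ eqToHom (congrArg Comma.left eB).symm) (by
      rw [hbb]; simp [k, pB])
    have hw : f.map c' ≫ χ = f.map d' := by
      refine eq_of_bmap h𝒴 (f.map b' ≫ B.hom) ?_ ?_
      · rw [StMod.bmap_comp, bmap_map, bmap_map, hχ, hc', hd']
        simp
      · rw [Category.assoc, hχ']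
        calc f.map c' ≫ f.map a' ≫ A.hom = f.map (c' ≫ a') ≫ A.hom := by
              rw [f.toFunctor.map_comp, Category.assoc]
          _ = w.hom := by rw [hc'']; exact CostructuredArrow.w c
          _ = f.map (d' ≫ b') ≫ B.hom := by rw [hd'']; exact (CostructuredArrow.w d).symm
          _ = f.map d' ≫ f.map b' ≫ B.hom := by rw [f.toFunctor.map_comp, Category.assoc]
    exact ⟨ObjectProperty.homMk { fst := c', snd := d', w := (hw.trans (Category.id_comp (f.map d')).symm : _) },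
      hc'', hd''⟩

theorem isQS_fibCat_of_qc_diag (h𝒳 : FibCat.IsFibGrpd 𝒳.p) (h𝒴 : FibCat.IsFibGrpd 𝒴.p) (f : 𝒳 ⥤ᵇ 𝒴)
    (hqc : RepByAlgSpWith AlgSp.IsQuasiCompactMor (FibCat.diag f)) (η : 𝒴.obj) (hη : IsAffine (StMod.sch 𝒴 η)) :
    IsQS (StMod.fibCat f η) := by
  intro A B hA hB
  haveI := hη
  haveI : IsAffine (StMod.sch 𝒳 A.left) := hA
  haveI : IsAffine (StMod.sch 𝒳 B.left) := hB
  obtain ⟨o, a', b', ho, hab, hlift⟩ := exists_pairObj h𝒳 h𝒴 f A B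
  obtain ⟨z, m, hz, hcov⟩ := exists_pairs (FibCatRep.isFibGrpd_fp h𝒳 h𝒳 h𝒴 f f) hqc o ho
  have hm : f.map m.hom.fst ≫ o.obj.iso.hom = f.map m.hom.snd :=
    m.hom.w.trans (Category.id_comp _)
  refine ⟨PUnit.{u + 1}, inferInstance, fun _ => CostructuredArrow.mk (f.map (m.hom.fst ≫ a') ≫ A.hom),
    fun _ => CostructuredArrow.homMk (m.hom.fst ≫ a') rfl,
    fun _ => CostructuredArrow.homMk (m.hom.snd ≫ b') ?_, fun _ => hz, fun w c d t => ?_⟩
  · show f.map (m.hom.snd ≫ b') ≫ B.hom = f.map (m.hom.fst ≫ a') ≫ A.hom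
    rw [f.toFunctor.map_comp, f.toFunctor.map_comp, ← hm, Category.assoc, Category.assoc, Category.assoc, hab]
  · obtain ⟨M, hM₁, hM₂⟩ := hlift w c d
    obtain ⟨w₀, φ, v, hφ, hv⟩ := hcov w.left M t
    have h₁ : v ≫ m.hom.fst = φ ≫ M.hom.fst := congrArg (fun k => k.hom.fst) hv
    have h₂ : v ≫ m.hom.snd = φ ≫ M.hom.snd := congrArg (fun k => k.hom.snd) hv
    refine ⟨CostructuredArrow.mk (f.map φ ≫ w.hom), CostructuredArrow.homMk φ rfl, ⟨⟩,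
      CostructuredArrow.homMk v ?_, ⟨hφ.flat, hφ.lfp, hφ.mem⟩, CostructuredArrow.hom_ext _ _ ?_,
      CostructuredArrow.hom_ext _ _ ?_⟩
    · show f.map v ≫ f.map (m.hom.fst ≫ a') ≫ A.hom = f.map φ ≫ w.hom
      rw [← Category.assoc, ← f.toFunctor.map_comp, ← Category.assoc v, h₁, Category.assoc, hM₁,
        f.toFunctor.map_comp, Category.assoc, CostructuredArrow.w c]
    · show v ≫ m.hom.fst ≫ a' = φ ≫ c.left
      rw [← Category.assoc, h₁, Category.assoc, hM₁]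
    · show v ≫ m.hom.snd ≫ b' = φ ≫ d.left
      rw [← Category.assoc, h₂, Category.assoc, hM₂]

theorem isQS_fibCat_of_diag (h𝒳 : FibCat.IsFibGrpd 𝒳.p) (h𝒴 : FibCat.IsFibGrpd 𝒴.p) (f : 𝒳 ⥤ᵇ 𝒴)
    (hfqs : IsQuasiSeparatedMor f) (η : 𝒴.obj) (hη : IsAffine (StMod.sch 𝒴 η)) : IsQS (StMod.fibCat f η) :=
  isQS_fibCat_of_qc_diag h𝒳 h𝒴 f (fun U y => let ⟨F, e, he, h⟩ := hfqs U y; ⟨F, e, he, h.1⟩) η hη

theorem isQC_fibCat_of_qc (h𝒳 : AS 𝒳) (h𝒴 : AS 𝒴) (f : 𝒳 ⥤ᵇ 𝒴)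
    (hfqc : AlgSt.IsQuasiCompactMor Scheme.fppfPrecoverage f) (η : 𝒴.obj) (hη : IsAffine (StMod.sch 𝒴 η)) :
    IsQC (StMod.fibCat f η) := by
  have g𝒳 := h𝒳.isStack.1
  have g𝒴 := h𝒴.isStack.1
  obtain ⟨z, i, h, hi⟩ := exists_chartAt g𝒴 η
  have hT := isAlgStack_overCat (𝒴.p.obj η)
  haveI := hη
  haveI : CompactSpace ↥(𝒴.p.obj η).left := (inferInstance : CompactSpace ↥(StMod.sch 𝒴 η))
  have hW := algFp h𝒴 h𝒳 hT f z
  have h0 : IsQC (FibCat.fp f z) :=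
    isQC_of_isQuasiCompact hW (isQuasiCompact_swap h𝒴 hT h𝒳 (isQuasiCompact_fp_overCat hfqc _ z))
  have h1 : IsQC (StMod.fibCat (FibCat.fpSnd f z) (topObj _)) :=
    (isEqv_topFib (FibCat.fpSnd f z) hW.isStack.1).isQC_tgt h0
  have h2 : IsQC (StMod.fibCat f (z.obj (topObj _))) :=
    (isEqv_fibOfSnd f z g𝒳 g𝒴 hT.isStack.1 (topObj _)).isQC_tgt h1
  haveI : IsAffine (StMod.sch 𝒴 (z.obj (topObj _))) := IsAffine.of_isIso (eqToHom h)
  exact IsQC.baseChange g𝒳 g𝒴 i.inv h2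

/-- Restriction of a module along a morphism of objects of the base. -/
def restrOnFib (π : 𝒳 ⥤ᵇ 𝒴) {η' η : 𝒴.obj} (ψ : η' ⟶ η) (E : StMod.QCoh 𝒳) :
    restrQ π ψ (onFib π E η) ≅ onFib π E η' :=
  ObjectProperty.isoMk _ (StMod.comapCompIso (StMod.fibFst π η) (fibMap π ψ) E.obj).symm

end Groth.Agent.RelGen
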