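import Mathlib

/-!
# Homomorphisms out of a finitely presented module and flat base change
-/

universe u

open TensorProduct

set_option autoImplicit false

noncomputable section

namespace Groth.Agent.RelGen

variable {A R B : Type u} [CommRing A] [CommRing R] [Algebra A R] [CommRing B] [Algebra A B]
variable {M M' : Type u} [AddCommGroup M] [Module R M] [Module A M] [IsScalarTower A R M]
  [AddCommGroup M'] [Module R M'] [Module A M'] [IsScalarTower A R M']
  (σ : B →ₗ[A] Module.End R M') (f : M →ₗ[R] M')

/-- `b ⊗ m ↦ b • f m`. -/
def baseMap : B ⊗[A] M →ₗ[A] M' :=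
  TensorProduct.lift (LinearMap.mk₂ A (fun b m => σ b (f m))
    (fun b b' m => by rw [map_add]; rfl)
    (fun a b m => by rw [map_smul]; rfl)
    (fun b m m' => by rw [map_add, map_add])
    (fun a b m => by rw [LinearMap.map_smul_of_tower f a, LinearMap.map_smul_of_tower (σ b) a]))

@[simp] theorem baseMap_tmul (b : B) (m : M) : baseMap σ f (b ⊗ₜ m) = σ b (f m) := rfl

variable {E : Type u} [AddCommGroup E] [Module R E]

/-- `b ⊗ l ↦ b • (f ∘ l)`. -/
def homMap : B ⊗[A] (E →ₗ[R] M) →ₗ[A] (E →ₗ[R] M') :=
  TensorProduct.lift (LinearMap.mk₂ A (fun b l => (σ b).comp (f.comp l))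
    (fun b b' l => LinearMap.ext fun e => by simp)
    (fun a b l => LinearMap.ext fun e => by simp)
    (fun b l l' => LinearMap.ext fun e => by simp)
    (fun a b l => LinearMap.ext fun e => by
      simp only [LinearMap.comp_apply, LinearMap.smul_apply]
      rw [LinearMap.map_smul_of_tower f a, LinearMap.map_smul_of_tower (σ b) a]))

@[simp] theorem homMap_tmul (b : B) (l : E →ₗ[R] M) (e : E) : homMap σ f (b ⊗ₜ l) e = σ b (f (l e)) := rfl

theorem homMap_apply (x : B ⊗[A] (E →ₗ[R] M)) (e : E) :
    homMap σ f x e = baseMap σ f ((LinearMap.applyₗ' A e).lTensor B x) := by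
  induction x using TensorProduct.induction_on with
  | zero => simp
  | tmul b l => rfl
  | add x y hx hy => simp [map_add, hx, hy]

variable [Module.Flat A B]

theorem homMap_injective [Module.Finite R E] (hf : Function.Injective (baseMap σ f)) :
    Function.Injective (homMap σ f (E := E)) := by
  obtain ⟨n, g, hg⟩ := Module.Finite.exists_fin' R E
  let ev : (E →ₗ[R] M) →ₗ[A] (Fin n → M) :=
    LinearMap.pi fun j => LinearMap.applyₗ' A (g (Pi.single j 1))
  have hev : Function.Injective ev := fun l l' h => by
    refine (LinearMap.cancel_right hg).1 (LinearMap.pi_ext fun j r => ?_)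
    have := congrFun h j
    have hr : Pi.single j r = r • (Pi.single j 1 : Fin n → R) := by rw [← Pi.single_smul, smul_eq_mul, mul_one]
    simp only [LinearMap.comp_apply]
    rw [hr, map_smul, map_smul, map_smul]
    exact congrArg (r • ·) this
  refine (injective_iff_map_eq_zero _).2 fun x hx => ?_
  apply Module.Flat.lTensor_preserves_injective_linearMap (M := B) ev hev
  rw [map_zero]
  apply (TensorProduct.piRight A A B (fun _ : Fin n => M)).injective
  rw [map_zero]
  funext j
  apply hf
  rw [Pi.zero_apply, map_zero]
  have key : TensorProduct.piRight A A B (fun _ : Fin n => M) (ev.lTensor B x) j =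
      (LinearMap.applyₗ' A (g (Pi.single j 1))).lTensor B x := by
    clear hx
    induction x using TensorProduct.induction_on with
    | zero => simp
    | tmul b l => rfl
    | add x y hx hy => rw [map_add, map_add, map_add, Pi.add_apply, hx, hy]
  rw [key, ← homMap_apply, hx]
  rfl

theorem homMap_bijective [Module.FinitePresentation R E] (hf : Function.Bijective (baseMap σ f)) :
    Function.Bijective (homMap σ f (E := E)) := by
  refine ⟨homMap_injective σ f hf.1, fun l' => ?_⟩
  obtain ⟨n, m, g, h, hg, hgh⟩ := Module.FinitePresentation.exists_fin' R E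
  let ev : (E →ₗ[R] M) →ₗ[A] (Fin n → M) :=
    LinearMap.pi fun j => LinearMap.applyₗ' A (g (Pi.single j 1))
  let ρ : (Fin n → M) →ₗ[A] (Fin m → M) :=
    LinearMap.pi fun k => ∑ j, (h (Pi.single k 1) j) • (LinearMap.proj j : (Fin n → M) →ₗ[A] M)
  have hrep : ∀ v : Fin n → R, g v = ∑ j, v j • g (Pi.single j 1) := fun v => by
    conv_lhs => rw [pi_eq_sum_univ' v]
    rw [map_sum]
    simp
  have hexact : Function.Exact ev ρ := fun w => by
    constructor
    · intro hw
      let L : (Fin n → R) →ₗ[R] M := Fintype.linearCombination R w
      have hL : LinearMap.range h ≤ LinearMap.ker L := by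
        rintro _ ⟨v, rfl⟩
        rw [LinearMap.mem_ker]
        have : L ∘ₗ h = 0 := LinearMap.pi_ext fun k r => by
          have hr : Pi.single k r = r • (Pi.single k 1 : Fin m → R) := by rw [← Pi.single_smul, smul_eq_mul, mul_one]
          rw [hr, map_smul]
          have := congrFun hw k
          simp only [ρ, LinearMap.pi_apply, LinearMap.sum_apply, LinearMap.smul_apply, LinearMap.proj_apply,
            Pi.zero_apply] at this
          simp [L, Fintype.linearCombination_apply, this]
        exact LinearMap.congr_fun this v
      have hker : LinearMap.ker g ≤ LinearMap.ker L := fun v hv => by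
        obtain ⟨u', rfl⟩ := (hgh v).1 hv
        exact hL ⟨u', rfl⟩
      let e := g.quotKerEquivOfSurjective hg
      refine ⟨(Submodule.liftQ _ L hker).comp e.symm.toLinearMap, funext fun j => ?_⟩
      show Submodule.liftQ _ L hker (e.symm (g (Pi.single j 1))) = w j
      have : e.symm (g (Pi.single j 1)) = Submodule.Quotient.mk (Pi.single j 1) := by
        rw [LinearEquiv.symm_apply_eq]; rfl
      rw [this, Submodule.liftQ_apply]
      simp [L, Fintype.linearCombination_apply_single]
    · rintro ⟨l, rfl⟩
      funext k
      have h0 : g (h (Pi.single k 1)) = 0 := (hgh _).2 ⟨_, rfl⟩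
      rw [hrep] at h0
      have := congrArg l h0
      rw [map_sum, map_zero] at this
      simpa [ρ, ev] using this
  choose w hw using fun j => hf.2 (l' (g (Pi.single j 1)))
  let W : B ⊗[A] (Fin n → M) := (TensorProduct.piRight A A B (fun _ : Fin n => M)).symm w
  have hW : ρ.lTensor B W = 0 := by
    apply (TensorProduct.piRight A A B (fun _ : Fin m => M)).injective
    rw [map_zero]
    funext k
    apply hf.1
    rw [Pi.zero_apply, map_zero]
    have key : ∀ W : B ⊗[A] (Fin n → M),
        baseMap σ f (TensorProduct.piRight A A B (fun _ : Fin m => M) (ρ.lTensor B W) k) =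
        ∑ j, h (Pi.single k 1) j • baseMap σ f (TensorProduct.piRight A A B (fun _ : Fin n => M) W j) := fun W => by
      induction W using TensorProduct.induction_on with
      | zero => simp
      | tmul b v => simp [ρ, TensorProduct.piRight_apply]
      | add x y hx hy =>
        simp only [map_add, Pi.add_apply, hx, hy, smul_add, Finset.sum_add_distrib]
    rw [key]
    simp only [W, LinearEquiv.apply_symm_apply, hw]
    have h1 : ∑ j, h (Pi.single k 1) j • l' (g (Pi.single j 1)) = l' (g (h (Pi.single k 1))) := by
      conv_rhs => rw [hrep, map_sum]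
      simp
    rw [h1, (hgh _).2 ⟨_, rfl⟩, map_zero]
  obtain ⟨x, hx⟩ := (Module.Flat.lTensor_exact B hexact W).1 hW
  refine ⟨x, (LinearMap.cancel_right hg).1 (LinearMap.pi_ext fun j r => ?_)⟩
  have hr : Pi.single j r = r • (Pi.single j 1 : Fin n → R) := by rw [← Pi.single_smul, smul_eq_mul, mul_one]
  simp only [LinearMap.comp_apply]
  rw [hr, map_smul, map_smul, map_smul, homMap_apply, ← hw j]
  have key : (LinearMap.applyₗ' A (g (Pi.single j 1))).lTensor B x =
      TensorProduct.piRight A A B (fun _ : Fin n => M) (ev.lTensor B x) j := by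
    clear hx
    induction x using TensorProduct.induction_on with
    | zero => simp
    | tmul b l => rfl
    | add x y hx hy => simp [map_add, hx, hy]
  rw [key, hx, LinearEquiv.apply_symm_apply]

/-- Sections over pieces agreeing on overlaps: tensoring with a flat algebra commutes with the finite products. -/
theorem pi_tensor_ext {ι : Type u} [Finite ι] {P : ι → Type u} [∀ i, AddCommGroup (P i)] [∀ i, Module A (P i)]
    {x y : B ⊗[A] (∀ i, P i)}
    (h : ∀ i, (LinearMap.proj i : (∀ i, P i) →ₗ[A] P i).lTensor B x = (LinearMap.proj i).lTensor B y) : x = y := by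
  classical
  haveI := Fintype.ofFinite ι
  apply (TensorProduct.piRight A A B P).injective
  funext i
  have key : ∀ z : B ⊗[A] (∀ i, P i), TensorProduct.piRight A A B P z i = (LinearMap.proj i).lTensor B z := fun z => by
    induction z using TensorProduct.induction_on with
    | zero => simp
    | tmul b v => rfl
    | add x y hx hy => rw [map_add, map_add, Pi.add_apply, hx, hy]
  rw [key, key, h]

end Groth.Agent.RelGen
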