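import Mathlib
import Groth.Agent.RelGen.Atl
import Groth.Agent.QDescent.Glue

/-!
# Morphisms of quasi-coherent modules over an object of the base, as modules over its functions
-/

universe u

open CategoryTheory CategoryTheory.Limits AlgebraicGeometry TopologicalSpace Opposite TensorProduct

set_option autoImplicit false
set_option backward.isDefEq.respectTransparency false
set_option backward.isDefEq.respectTransparency.types false
set_option linter.style.haveILetI false

noncomputable section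

namespace Groth.Agent.RelGen

open Groth.Agent.QC Groth.Agent.QDescent

variable {S : Scheme.{u}} {𝒳 𝒴 : AlgSt.Cat S} {π : 𝒳 ⥤ᵇ 𝒴} {η : 𝒴.obj}

/-- The functions on the base object. -/
abbrev bR (η : 𝒴.obj) : CommRingCat.{u} := Γ(StMod.sch 𝒴 η, ⊤)

/-- The functions on an object over `η`. -/
def sR (x : (StMod.fibCat π η).obj) : Type u := Γ(StMod.sch (StMod.fibCat π η) x, ⊤)

instance (x : (StMod.fibCat π η).obj) : CommRing (sR x) :=
  inferInstanceAs (CommRing Γ(StMod.sch (StMod.fibCat π η) x, ⊤))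

/-- The structure map of the functions on an object over `η`. -/
def sRmap (x : (StMod.fibCat π η).obj) : bR η →+* sR x := (uFib π η x).appTop.hom

instance (x : (StMod.fibCat π η).obj) : Algebra (bR η) (sR x) := (sRmap x).toAlgebra

/-- The global sections of a module on an object over `η`. -/
def sM (F : StMod.QCoh (StMod.fibCat π η)) (x : (StMod.fibCat π η).obj) : Type u := Γ(F.obj.obj x, ⊤)

instance (F : StMod.QCoh (StMod.fibCat π η)) (x : (StMod.fibCat π η).obj) : AddCommGroup (sM F x) :=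
  inferInstanceAs (AddCommGroup Γ(F.obj.obj x, ⊤))

instance (F : StMod.QCoh (StMod.fibCat π η)) (x : (StMod.fibCat π η).obj) : Module (sR x) (sM F x) :=
  inferInstanceAs (Module Γ(StMod.sch (StMod.fibCat π η) x, ⊤) Γ(F.obj.obj x, ⊤))

instance (F : StMod.QCoh (StMod.fibCat π η)) (x : (StMod.fibCat π η).obj) : Module (bR η) (sM F x) :=
  Module.compHom (sM F x) (sRmap x)

instance (F : StMod.QCoh (StMod.fibCat π η)) (x : (StMod.fibCat π η).obj) :
    IsScalarTower (bR η) (sR x) (sM F x) :=
  IsScalarTower.of_algebraMap_smul fun _ _ => rfl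

variable {F G : StMod.QCoh (StMod.fibCat π η)}

/-- A function on an object, typed as such. -/
abbrev toR {x : (StMod.fibCat π η).obj} (r : Γ(StMod.sch (StMod.fibCat π η) x, ⊤)) : sR x := r

/-- A global section, typed as such. -/
abbrev toM {x : (StMod.fibCat π η).obj} (s : Γ(F.obj.obj x, ⊤)) : sM F x := s

/-- The map of functions under a morphism over `η`. -/
def rmap {x' x : (StMod.fibCat π η).obj} (φ : x' ⟶ x) : sR x →+* sR x' :=
  (StMod.bmap (StMod.fibCat π η) φ).appTop.hom

theorem rmap_sRmap {x' x : (StMod.fibCat π η).obj} (φ : x' ⟶ x) (a : bR η) : rmap φ (sRmap x a) = sRmap x' a := by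
  show (((uFib π η x).appTop ≫ (StMod.bmap (StMod.fibCat π η) φ).appTop) : bR η ⟶ _).hom a = (uFib π η x').appTop.hom a
  rw [← Scheme.Hom.comp_appTop]
  exact congrArg (fun k => (Scheme.Hom.appTop k).hom a) (uFib_nat π φ)

variable (F) in
/-- Transport of sections, linear over the functions of `η`. -/
def trL {x' x : (StMod.fibCat π η).obj} (φ : x' ⟶ x) : sM F x →ₗ[bR η] sM F x' where
  toFun s := toM (trT F.obj φ s)
  map_add' a b := map_add (trT F.obj φ) a b
  map_smul' a s := by
    show toM (trT F.obj φ (sRmap x a • s : sM F x)) = sRmap x' a • toM (trT F.obj φ s)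
    rw [← rmap_sRmap φ a]
    exact trT_smul F.obj φ _ _

theorem trL_smul {x' x : (StMod.fibCat π η).obj} (φ : x' ⟶ x) (r : sR x) (s : sM F x) :
    trL F φ (r • s) = rmap φ r • trL F φ s := trT_smul F.obj φ r s

theorem trL_comp {x'' x' x : (StMod.fibCat π η).obj} (ψ : x'' ⟶ x') (φ : x' ⟶ x) (s : sM F x) :
    trL F ψ (trL F φ s) = trL F (ψ ≫ φ) s := trT_comp F.obj ψ φ s

theorem trL_id {x : (StMod.fibCat π η).obj} (s : sM F x) : trL F (𝟙 x) s = s := trT_id F.obj x s

theorem trL_congr {x' x : (StMod.fibCat π η).obj} {φ φ' : x' ⟶ x} (h : φ = φ') (s : sM F x) :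
    trL F φ s = trL F φ' s := by rw [h]

/-- Linear maps out of sections on an affine object are determined on transported sections. -/
theorem hom_ext_trL {N : Type u} [AddCommGroup N] {x' x : (StMod.fibCat π η).obj} (φ : x' ⟶ x)
    [Module (sR x') N] (hx : IsAffine (StMod.sch (StMod.fibCat π η) x))
    (hx' : IsAffine (StMod.sch (StMod.fibCat π η) x')) {a b : sM F x' →ₗ[sR x'] N}
    (h : ∀ s, a (trL F φ s) = b (trL F φ s)) : a = b := by
  refine LinearMap.ext fun t => ?_
  refine top_induction F φ (p := fun t : sM F x' => a t = b t) ?_ (fun c d hc hd => ?_) (fun r s => ?_) t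
  · exact (map_zero a).trans (map_zero b).symm
  · exact (map_add a c d).trans ((congrArg₂ (· + ·) hc hd).trans (map_add b c d).symm)
  · exact (map_smul a (toR r) (trL F φ s)).trans
      ((congrArg (toR r • ·) (h s)).trans (map_smul b (toR r) (trL F φ s)).symm)

theorem exists_extend {x' x : (StMod.fibCat π η).obj} (φ : x' ⟶ x) (hx : IsAffine (StMod.sch (StMod.fibCat π η) x))
    (hx' : IsAffine (StMod.sch (StMod.fibCat π η) x')) (l : sM F x →ₗ[sR x] sM G x) :
    ∃ e : sM F x' →ₗ[sR x'] sM G x', ∀ s, e (trL F φ s) = trL G φ (l s) := by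
  letI : Algebra Γ(StMod.sch (StMod.fibCat π η) x, ⊤) Γ(StMod.sch (StMod.fibCat π η) x', ⊤) :=
    ((StMod.bmap (StMod.fibCat π η) φ).appLE ⊤ ⊤ (top_le φ)).hom.toAlgebra
  obtain ⟨Φ, hΦ⟩ := exists_bijective_tr F φ (isAffineOpen_top (StMod.sch (StMod.fibCat π η) x))
    (isAffineOpen_top (StMod.sch (StMod.fibCat π η) x')) (top_le φ)
  letI : Module Γ(StMod.sch (StMod.fibCat π η) x, ⊤) Γ(G.obj.obj x', ⊤) :=
    Module.compHom _ ((StMod.bmap (StMod.fibCat π η) φ).appLE ⊤ ⊤ (top_le φ)).hom
  haveI : IsScalarTower Γ(StMod.sch (StMod.fibCat π η) x, ⊤) Γ(StMod.sch (StMod.fibCat π η) x', ⊤) Γ(G.obj.obj x', ⊤) :=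
    IsScalarTower.of_algebraMap_smul fun _ _ => rfl
  let m : Γ(F.obj.obj x, ⊤) →ₗ[Γ(StMod.sch (StMod.fibCat π η) x, ⊤)] Γ(G.obj.obj x', ⊤) :=
    { toFun := fun s => trT G.obj φ (l s)
      map_add' := fun a b => (congrArg (trT G.obj φ) (map_add l a b)).trans (map_add (trT G.obj φ) _ _)
      map_smul' := fun r a => by
        refine (congrArg (trT G.obj φ) (map_smul l (toR r) (toM a))).trans ?_
        exact tr_smul G.obj φ ⊤ ⊤ (top_le φ) r (l a) }
  let M' := m.liftBaseChange Γ(StMod.sch (StMod.fibCat π η) x', ⊤)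
  refine ⟨(M'.comp Φ.symm.toLinearMap : Γ(F.obj.obj x', ⊤) →ₗ[Γ(StMod.sch (StMod.fibCat π η) x', ⊤)] Γ(G.obj.obj x', ⊤)),
    fun s => ?_⟩
  show M' (Φ.symm (trT F.obj φ s)) = trT G.obj φ (l s)
  rw [show trT F.obj φ s = Φ (1 ⊗ₜ s) from (hΦ s).symm, LinearEquiv.symm_apply_apply, LinearMap.liftBaseChange_tmul,
    one_smul]
  rfl

/-- The extension of a linear map of sections along a morphism of affine objects. -/
def extL {x' x : (StMod.fibCat π η).obj} (φ : x' ⟶ x) (hx : IsAffine (StMod.sch (StMod.fibCat π η) x))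
    (hx' : IsAffine (StMod.sch (StMod.fibCat π η) x')) :
    (sM F x →ₗ[sR x] sM G x) →ₗ[bR η] (sM F x' →ₗ[sR x'] sM G x') where
  toFun l := (exists_extend φ hx hx' l).choose
  map_add' l l' := hom_ext_trL φ hx hx' fun s => by
    rw [LinearMap.add_apply, (exists_extend φ hx hx' (l + l')).choose_spec, (exists_extend φ hx hx' l).choose_spec,
      (exists_extend φ hx hx' l').choose_spec, LinearMap.add_apply, map_add]
  map_smul' a l := hom_ext_trL φ hx hx' fun s => by
    rw [RingHom.id_apply, LinearMap.smul_apply, (exists_extend φ hx hx' (a • l)).choose_spec,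
      (exists_extend φ hx hx' l).choose_spec, LinearMap.smul_apply, map_smul]

theorem extL_trL {x' x : (StMod.fibCat π η).obj} (φ : x' ⟶ x) (hx : IsAffine (StMod.sch (StMod.fibCat π η) x))
    (hx' : IsAffine (StMod.sch (StMod.fibCat π η) x')) (l : sM F x →ₗ[sR x] sM G x) (s : sM F x) :
    extL φ hx hx' l (trL F φ s) = trL G φ (l s) :=
  (exists_extend φ hx hx' l).choose_spec s

section Scalar

theorem appLE_uFib {x' x : (StMod.fibCat π η).obj} (φ : x' ⟶ x) (U : (StMod.sch (StMod.fibCat π η) x).Opens)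
    (V : (StMod.sch (StMod.fibCat π η) x').Opens) (e : V ≤ StMod.bmap (StMod.fibCat π η) φ ⁻¹ᵁ U) (a : bR η) :
    ((StMod.bmap (StMod.fibCat π η) φ).appLE U V e).hom (((uFib π η x).appLE ⊤ U le_top).hom a) =
      ((uFib π η x').appLE ⊤ V le_top).hom a := by
  show (((uFib π η x).appLE ⊤ U le_top ≫ (StMod.bmap (StMod.fibCat π η) φ).appLE U V e) : bR η ⟶ _).hom a = _
  rw [Scheme.Hom.appLE_comp_appLE]
  have key : ∀ {g g' : StMod.sch (StMod.fibCat π η) x' ⟶ StMod.sch 𝒴 η} (_ : g = g') (h₁ : V ≤ g ⁻¹ᵁ ⊤)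
      (h₂ : V ≤ g' ⁻¹ᵁ ⊤), (g.appLE ⊤ V h₁).hom a = (g'.appLE ⊤ V h₂).hom a := by
    rintro g g' rfl h₁ h₂; rfl
  exact key (uFib_nat π φ) _ _

variable (F) in
/-- Multiplication by a function of the base object. -/
def scal (a : bR η) : End F :=
  ObjectProperty.homMk
    ⟨fun x => mkHom (fun U => (DistribSMul.toAddMonoidHom Γ(F.obj.obj x, U) (((uFib π η x).appLE ⊤ U le_top).hom a)))
      (fun {V U} hVU s => by
        show ((uFib π η x).appLE ⊤ V le_top).hom a • _ =
          res (F.obj.obj x) hVU (((uFib π η x).appLE ⊤ U le_top).hom a • s)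
        rw [res_smul]
        congr 1
        show _ = (((uFib π η x).appLE ⊤ U le_top ≫
          (StMod.sch (StMod.fibCat π η) x).presheaf.map (homOfLE hVU).op) : bR η ⟶ _).hom a
        rw [Scheme.Hom.appLE_map])
      (fun U r s => smul_comm _ r s),
    fun {x' x} φ g hg => by
      subst hg
      refine Scheme.Modules.hom_ext _ _ fun U => ?_
      ext s
      show ((uFib π η x').appLE ⊤ (StMod.bmap (StMod.fibCat π η) φ ⁻¹ᵁ U) le_top).hom a •
          (show Γ(F.obj.obj x', StMod.bmap (StMod.fibCat π η) φ ⁻¹ᵁ U) from (F.obj.map φ rfl).app U s) =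
        (F.obj.map φ rfl).app U (((uFib π η x).appLE ⊤ U le_top).hom a • s)
      rw [Scheme.Modules.Hom.app_smul]
      congr 1
      exact (appLE_uFib φ U _ le_rfl a).symm.trans
        (congrArg (fun k : Γ(StMod.sch (StMod.fibCat π η) x, U) ⟶ _ => k.hom _) (Scheme.Hom.appLE_eq_app _))⟩

theorem scal_app (a : bR η) (x : (StMod.fibCat π η).obj) (U : (StMod.sch (StMod.fibCat π η) x).Opens)
    (s : Γ(F.obj.obj x, U)) : ((scal F a).hom.app x).app U s = ((uFib π η x).appLE ⊤ U le_top).hom a • s := rfl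

theorem end_ext {u v : End F} (h : ∀ x (U : (StMod.sch (StMod.fibCat π η) x).Opens) (s : Γ(F.obj.obj x, U)),
    (u.hom.app x).app U s = (v.hom.app x).app U s) : u = v :=
  InducedCategory.hom_ext (StMod.Mod.hom_ext fun x => Scheme.Modules.hom_ext _ _ fun U => by ext s; exact h x U s)

variable (F) in
/-- The functions of the base object act on a module over it. -/
def scalHom : bR η →+* End F where
  toFun := scal F
  map_one' := end_ext fun x U s => by
    rw [scal_app, map_one, one_smul]; rfl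
  map_mul' a b := end_ext fun x U s => by
    show _ = ((scal F a).hom.app x).app U (((scal F b).hom.app x).app U s)
    rw [scal_app, scal_app, scal_app, map_mul, mul_smul]
  map_zero' := end_ext fun x U s => by
    rw [scal_app, map_zero, zero_smul]; rfl
  map_add' a b := end_ext fun x U s => by
    show _ = ((scal F a).hom.app x).app U s + ((scal F b).hom.app x).app U s
    rw [scal_app, scal_app, scal_app, map_add, add_smul]

instance homModule : Module (bR η) (G ⟶ F) := Module.compHom (G ⟶ F) (scalHom F)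

theorem smul_app_top (a : bR η) (φ : G ⟶ F) (x : (StMod.fibCat π η).obj) (s : sM G x) :
    toM (((a • φ : G ⟶ F).hom.app x).app ⊤ s) = sRmap x a • toM ((φ.hom.app x).app ⊤ s) := by
  show ((uFib π η x).appLE ⊤ ⊤ le_top).hom a • (φ.hom.app x).app ⊤ s = _
  congr 1
  exact congrArg (fun k : bR η ⟶ _ => k.hom a) (Scheme.Hom.appLE_eq_app (uFib π η x))

/-- Evaluation of a morphism on the global sections of an object. -/
def evL (x : (StMod.fibCat π η).obj) : (G ⟶ F) →ₗ[bR η] (sM G x →ₗ[sR x] sM F x) where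
  toFun φ :=
    { toFun := fun s => toM ((φ.hom.app x).app ⊤ s)
      map_add' := fun a b => map_add ((φ.hom.app x).app ⊤).hom a b
      map_smul' := fun r s => Scheme.Modules.Hom.app_smul _ _ _ }
  map_add' φ φ' := LinearMap.ext fun s => rfl
  map_smul' a φ := LinearMap.ext fun s => (smul_app_top a φ x s).trans (algebraMap_smul (sR x) a _)

theorem evL_apply (x : (StMod.fibCat π η).obj) (φ : G ⟶ F) (s : sM G x) :
    evL x φ s = toM ((φ.hom.app x).app ⊤ s) := rfl

theorem trL_evL {x' x : (StMod.fibCat π η).obj} (φ : x' ⟶ x) (f : G ⟶ F) (s : sM G x) :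
    trL F φ (evL x f s) = evL x' f (trL G φ s) := tr_hom f.hom φ ⊤ ⊤ (top_le φ) s

theorem evL_eq_extL {x' x : (StMod.fibCat π η).obj} (φ : x' ⟶ x) (hx : IsAffine (StMod.sch (StMod.fibCat π η) x))
    (hx' : IsAffine (StMod.sch (StMod.fibCat π η) x')) (f : G ⟶ F) : evL x' f = extL φ hx hx' (evL x f) :=
  hom_ext_trL φ hx hx' fun s => by rw [extL_trL, trL_evL]

end Scalar

end Groth.Agent.RelGen
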