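import Mathlib
import Groth.Agent.RelGen.Scal
import Groth.Agent.RelGen.HomTensor
import Groth.Agent.LocFree.Props

/-!
# Sections on pieces along a base change: `B ⊗ Γ(x) ≅ Γ(x')`
-/

universe u

open CategoryTheory CategoryTheory.Limits AlgebraicGeometry TopologicalSpace Opposite TensorProduct

set_option autoImplicit false
set_option backward.isDefEq.respectTransparency false
set_option backward.isDefEq.respectTransparency.types false
set_option linter.style.haveILetI false

noncomputable section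

namespace Groth.Agent.RelGen

open Groth.Agent.QC Groth.Agent.QDescent

variable {S : Scheme.{u}} {𝒳 𝒴 : AlgSt.Cat S} {π : 𝒳 ⥤ᵇ 𝒴}

/-- Sections on affine objects are finitely presented. -/
def FPSec {η : 𝒴.obj} (E : StMod.QCoh (StMod.fibCat π η)) : Prop :=
  ∀ x : (StMod.fibCat π η).obj, IsAffine (StMod.sch (StMod.fibCat π η) x) → Module.FinitePresentation (sR x) (sM E x)

theorem fpSec_of_isFinPres {η : 𝒴.obj} {E : StMod.QCoh (StMod.fibCat π η)} (h : E.obj.IsFinPres) : FPSec E :=
  fun x hx => LocFree.finitePresentation_sections_of_isFP (E.property.2 x) (h x)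
    (haveI := hx; isAffineOpen_top (StMod.sch (StMod.fibCat π η) x))

theorem isFinPres_onFib {E : StMod.QCoh 𝒳} (h : E.obj.IsFinPres) (η : 𝒴.obj) :
    (onFib π E η).obj.IsFinPres := fun x => h x.left

theorem fpSec_onFib {E : StMod.QCoh 𝒳} (h : E.obj.IsFinPres) (η : 𝒴.obj) : FPSec (onFib π E η) :=
  fpSec_of_isFinPres (isFinPres_onFib h η)

variable {η : 𝒴.obj}

/-- The sections on `y`, as a module over the functions on `x`, for a morphism `φ : y ⟶ x`. -/
def pM {y x : (StMod.fibCat π η).obj} (_φ : y ⟶ x) (F : StMod.QCoh (StMod.fibCat π η)) : Type u := sM F y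

section PM

variable {y x : (StMod.fibCat π η).obj} (φ : y ⟶ x) (F : StMod.QCoh (StMod.fibCat π η))

instance : AddCommGroup (pM φ F) := inferInstanceAs (AddCommGroup (sM F y))

instance : Module (sR x) (pM φ F) := Module.compHom (sM F y) (rmap φ)

instance : Module (bR η) (pM φ F) := inferInstanceAs (Module (bR η) (sM F y))

instance : IsScalarTower (bR η) (sR x) (pM φ F) :=
  IsScalarTower.of_algebraMap_smul fun a s => by
    show rmap φ (sRmap x a) • (show sM F y from s) = sRmap y a • (show sM F y from s)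
    rw [rmap_sRmap]

/-- Forget the module structure. -/
abbrev pVal (s : pM φ F) : sM F y := s

/-- Transport, linear over the functions on the target. -/
def trP : sM F x →ₗ[sR x] pM φ F where
  toFun s := trL F φ s
  map_add' a b := map_add (trL F φ) a b
  map_smul' r s := trL_smul φ r s

theorem trP_apply (s : sM F x) : pVal φ F (trP φ F s) = trL F φ s := rfl

variable {F} {G : StMod.QCoh (StMod.fibCat π η)}

/-- A linear map on `y` as a linear map over the functions on `x`. -/
def pMap : (sM F y →ₗ[sR y] sM G y) →ₗ[bR η] (pM φ F →ₗ[sR x] pM φ G) where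
  toFun l :=
    { toFun := fun s => l (pVal φ F s)
      map_add' := fun a b => map_add l _ _
      map_smul' := fun r s => map_smul l (rmap φ r) (pVal φ F s) }
  map_add' _ _ := rfl
  map_smul' _ _ := rfl

theorem pMap_apply (l : sM F y →ₗ[sR y] sM G y) (s : pM φ F) : pVal φ G (pMap φ l s) = l (pVal φ F s) := rfl

end PM

theorem trL_extL {F G : StMod.QCoh (StMod.fibCat π η)} {w y x : (StMod.fibCat π η).obj} (χ : w ⟶ y) (φ : y ⟶ x)
    (hx : IsAffine (StMod.sch (StMod.fibCat π η) x)) (hy : IsAffine (StMod.sch (StMod.fibCat π η) y))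
    (hw : IsAffine (StMod.sch (StMod.fibCat π η) w)) (l : sM F x →ₗ[sR x] sM G x) (t : sM F y) :
    trL G χ (extL φ hx hy l t) = extL (χ ≫ φ) hx hw l (trL F χ t) := by
  have : (trP χ G).comp (extL φ hx hy l) = (pMap χ (extL (χ ≫ φ) hx hw l)).comp (trP χ F) := by
    refine hom_ext_trL φ hx hy fun s => ?_
    show trL G χ (extL φ hx hy l (trL F φ s)) = extL (χ ≫ φ) hx hw l (trL F χ (trL F φ s))
    rw [extL_trL, trL_comp, trL_comp, extL_trL]
  exact LinearMap.congr_fun this t

section BaseChange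

variable {η' : 𝒴.obj} (ψ : η' ⟶ η)

/-- The map of functions of the base objects. -/
def bmapR : bR η →+* bR η' := (StMod.bmap 𝒴 ψ).appTop.hom

/-- The functions of `η'` on a pushed object. -/
def sRb (w : (StMod.fibCat π η').obj) : bR η' →+* sR (push π ψ w) := (uFib π η' w).appTop.hom

theorem sRb_bmapR (w : (StMod.fibCat π η').obj) (a : bR η) : sRb ψ w (bmapR ψ a) = sRmap (push π ψ w) a := by
  show (((StMod.bmap 𝒴 ψ).appTop ≫ (uFib π η' w).appTop) : bR η ⟶ _).hom a = (uFib π η (push π ψ w)).appTop.hom a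
  rw [← Scheme.Hom.comp_appTop]
  exact congrArg (fun k => (Scheme.Hom.appTop k).hom a) (uFib_push π ψ w).symm

/-- The push of a morphism. -/
def pushHom {w' w : (StMod.fibCat π η').obj} (c : w' ⟶ w) : push π ψ w' ⟶ push π ψ w := (fibMap π ψ).map c

theorem rmap_sRb {w' w : (StMod.fibCat π η').obj} (c : w' ⟶ w) (b : bR η') :
    rmap (pushHom ψ c) (sRb ψ w b) = sRb ψ w' b :=
  rmap_sRmap c b

theorem trL_restr (F : StMod.QCoh (StMod.fibCat π η)) {w' w : (StMod.fibCat π η').obj} (c : w' ⟶ w)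
    (s : sM F (push π ψ w)) :
    (trL (restrQ π ψ F) c s : sM F (push π ψ w')) = trL F (pushHom ψ c) s :=
  tr_restrQ π ψ F c ⊤ ⊤ _ s

variable (F : StMod.QCoh (StMod.fibCat π η))

/-- Multiplication by a function on `η'`, linear over the functions on the target. -/
def sigma {w : (StMod.fibCat π η').obj} {x : (StMod.fibCat π η).obj} (φ : push π ψ w ⟶ x) :
    letI := (bmapR ψ).toAlgebra
    bR η' →ₗ[bR η] Module.End (sR x) (pM φ F) :=
  letI := (bmapR ψ).toAlgebra
  { toFun := fun b =>
      { toFun := fun s => sRb ψ w b • pVal φ F s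
        map_add' := fun s t => smul_add (sRb ψ w b) (pVal φ F s) (pVal φ F t)
        map_smul' := fun r s => smul_comm (sRb ψ w b) (rmap φ r) (pVal φ F s) }
    map_add' := fun b b' => LinearMap.ext fun s => by
      show sRb ψ w (b + b') • pVal φ F s = _
      rw [map_add, add_smul]
      rfl
    map_smul' := fun a b => LinearMap.ext fun s => by
      show sRb ψ w (bmapR ψ a * b) • pVal φ F s = sRmap (push π ψ w) a • (sRb ψ w b • pVal φ F s)
      rw [map_mul, mul_smul, sRb_bmapR] }

theorem sigma_apply {w : (StMod.fibCat π η').obj} {x : (StMod.fibCat π η).obj} (φ : push π ψ w ⟶ x) (b : bR η')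
    (s : pM φ F) :
    letI := (bmapR ψ).toAlgebra
    pVal φ F (sigma ψ F φ b s) = sRb ψ w b • pVal φ F s := rfl

/-- Sections on a base-changed piece are the base change. -/
theorem bcMap_bijective {w : (StMod.fibCat π η').obj} {x : (StMod.fibCat π η).obj} (φ : push π ψ w ⟶ x)
    (h : IsBC ψ w φ) (hη : IsAffine (StMod.sch 𝒴 η)) (hη' : IsAffine (StMod.sch 𝒴 η'))
    (hx : IsAffine (StMod.sch (StMod.fibCat π η) x)) :
    letI := (bmapR ψ).toAlgebra
    Function.Bijective (baseMap (A := bR η) (sigma ψ F φ) (trP φ F)) := by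
  letI := (bmapR ψ).toAlgebra
  haveI : IsAffine (StMod.sch 𝒳 x.left) := hx
  haveI := hη
  haveI := hη'
  haveI hy : IsAffine (StMod.sch (StMod.fibCat π η) (push π ψ w)) := IsAffine.of_isPullback h
  letI : Algebra (bR η') (sR (push π ψ w)) := (sRb ψ w).toAlgebra
  letI : Algebra (sR x) (sR (push π ψ w)) := (rmap φ).toAlgebra
  haveI : IsScalarTower (bR η) (bR η') (sR (push π ψ w)) :=
    IsScalarTower.of_algebraMap_eq fun a => (sRb_bmapR ψ w a).symm
  haveI : IsScalarTower (bR η) (sR x) (sR (push π ψ w)) :=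
    IsScalarTower.of_algebraMap_eq fun a => (rmap_sRmap φ a).symm
  have hpo := isPushout_appTop_of_isPullback h
  haveI : Algebra.IsPushout (bR η) (bR η') (sR x) (sR (push π ψ w)) :=
    CommRingCat.isPushout_iff_isPushout.mp hpo.flip
  have key : ∀ ρ : Γ(StMod.sch (StMod.fibCat π η) x, ⊤) →+* Γ(StMod.sch (StMod.fibCat π η) (push π ψ w), ⊤),
      ρ = ((StMod.bmap (StMod.fibCat π η) φ).appLE ⊤ ⊤ (top_le φ)).hom →
      letI := ρ.toAlgebra
      ∃ Φ : Γ(StMod.sch (StMod.fibCat π η) (push π ψ w), ⊤) ⊗[Γ(StMod.sch (StMod.fibCat π η) x, ⊤)] Γ(F.obj.obj x, ⊤)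
          ≃ₗ[Γ(StMod.sch (StMod.fibCat π η) (push π ψ w), ⊤)] Γ(F.obj.obj (push π ψ w), ⊤),
        ∀ s, Φ (1 ⊗ₜ s) = tr F.obj φ ⊤ ⊤ (top_le φ) s := by
    rintro ρ rfl
    exact exists_bijective_tr F φ (isAffineOpen_top (StMod.sch (StMod.fibCat π η) x))
      (isAffineOpen_top (StMod.sch (StMod.fibCat π η) (push π ψ w))) (top_le φ)
  obtain ⟨Φ₀, hΦ₀⟩ := key (StMod.bmap (StMod.fibCat π η) φ).appTop.hom
    (congrArg CommRingCat.Hom.hom (Scheme.Hom.appLE_eq_app _)).symm
  let Φ : sR (push π ψ w) ⊗[sR x] sM F x ≃ₗ[sR (push π ψ w)] sM F (push π ψ w) := Φ₀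
  have hΦ : ∀ s, Φ (1 ⊗ₜ s) = trL F φ s := hΦ₀
  let c := Algebra.IsPushout.cancelBaseChange (bR η) (bR η') (sR x) (sR (push π ψ w)) (sM F x)
  have hc : ∀ z, pVal φ F (baseMap (A := bR η) (sigma ψ F φ) (trP φ F) z) = Φ (c.symm z) := fun z => by
    induction z using TensorProduct.induction_on with
    | zero => simp
    | tmul b s =>
      rw [Algebra.IsPushout.cancelBaseChange_symm_tmul,
        show (algebraMap (bR η') (sR (push π ψ w)) b ⊗ₜ[sR x] s) = sRb ψ w b • ((1 : sR (push π ψ w)) ⊗ₜ[sR x] s) from by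
          rw [TensorProduct.smul_tmul', smul_eq_mul, mul_one]; rfl,
        map_smul, hΦ]
      rfl
    | add a b ha hb => rw [map_add, map_add, map_add, ← ha, ← hb]
  have : Function.Bijective fun z => pVal φ F (baseMap (A := bR η) (sigma ψ F φ) (trP φ F) z) := by
    rw [funext hc]
    exact Φ.bijective.comp c.symm.bijective
  exact this

end BaseChange

end Groth.Agent.RelGen
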