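import Mathlib
import Groth.Agent.RelGen.FlatHomPiece

/-!
# Morphisms out of a finitely presented module commute with flat base change of the base
-/

universe u

open CategoryTheory CategoryTheory.Limits AlgebraicGeometry TopologicalSpace Opposite TensorProduct

set_option autoImplicit false
set_option backward.isDefEq.respectTransparency false
set_option backward.isDefEq.respectTransparency.types false
set_option linter.style.haveILetI false

noncomputable section

namespace Groth.Agent.RelGen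

open Groth.Agent.QC Groth.Agent.QDescent

variable {S : Scheme.{u}} {𝒳 𝒴 : AlgSt.Cat S} {π : 𝒳 ⥤ᵇ 𝒴}

section Morph

variable {η : 𝒴.obj} {E M : StMod.QCoh (StMod.fibCat π η)}

theorem evL_zero_of_hom {x' x : (StMod.fibCat π η).obj} (φ : x' ⟶ x) (hx : IsAffine (StMod.sch (StMod.fibCat π η) x))
    (hx' : IsAffine (StMod.sch (StMod.fibCat π η) x')) (u : E ⟶ M) (h : evL x u = 0) : evL x' u = 0 := by
  rw [evL_eq_extL φ hx hx', h, map_zero]

variable (hZ : FibCat.IsFibGrpd (StMod.fibCat π η).p) {I : Type u} (a : I → (StMod.fibCat π η).obj)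
  (ha : ∀ i, IsAffine (StMod.sch (StMod.fibCat π η) (a i)))
  (hcov : ∀ (x : (StMod.fibCat π η).obj) (t : StMod.sch (StMod.fibCat π η) x),
    ∃ (x' : (StMod.fibCat π η).obj) (φ : x' ⟶ x), Hits φ t ∧ ∃ i, Nonempty (x' ⟶ a i))

include hZ ha hcov

theorem eq_zero_of_pieces (u : E ⟶ M) (h : ∀ i, evL (a i) u = 0) : u = 0 := by
  refine eq_zero_of_cover hZ u fun x t => ?_
  obtain ⟨x', φ, hφ, i, ⟨c⟩⟩ := hcov x t
  exact ⟨x', φ, hφ, fun x'' g hx'' s => LinearMap.congr_fun (evL_zero_of_hom (g ≫ c) (ha i) hx'' u (h i)) s⟩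

variable {K : I → I → Type u} (z : ∀ i j, K i j → (StMod.fibCat π η).obj)
  (p : ∀ i j k, z i j k ⟶ a i) (q : ∀ i j k, z i j k ⟶ a j)
  (hz : ∀ i j k, IsAffine (StMod.sch (StMod.fibCat π η) (z i j k)))
  (hov : ∀ (i j : I) (w : (StMod.fibCat π η).obj) (c : w ⟶ a i) (d : w ⟶ a j) (t : StMod.sch (StMod.fibCat π η) w),
    ∃ (w' : (StMod.fibCat π η).obj) (φ : w' ⟶ w) (k : K i j) (v : w' ⟶ z i j k),
      Hits φ t ∧ v ≫ p i j k = φ ≫ c ∧ v ≫ q i j k = φ ≫ d)

include hz hov

theorem exists_of_agree (l : ∀ i, sM E (a i) →ₗ[sR (a i)] sM M (a i))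
    (h : ∀ i j k e, trL M (p i j k) (l i e) = extL (q i j k) (ha j) (hz i j k) (l j) (trL E (p i j k) e)) :
    ∃ u : E ⟶ M, ∀ i, evL (a i) u = l i := by
  have key : ∀ (w : (StMod.fibCat π η).obj) (hw : IsAffine (StMod.sch (StMod.fibCat π η) w)) (i j : I)
      (c : w ⟶ a i) (d : w ⟶ a j) (e : sM E (a i)),
      trL M c (l i e) = extL d (ha j) hw (l j) (trL E c e) := by
    intro w hw i j c d e
    refine top_ext M fun t => ?_
    obtain ⟨w₁, φ₁, k, v, h₁, hv₁, hv₂⟩ := hov i j w c d t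
    obtain ⟨w₂, ι, hw₂, h₂, -⟩ := exists_affine_hit hZ φ₁ h₁ (U := ⊤) trivial
    refine ⟨w₂, ι ≫ φ₁, h₂, ?_⟩
    show trL M (ι ≫ φ₁) (trL M c (l i e)) = trL M (ι ≫ φ₁) (extL d (ha j) hw (l j) (trL E c e))
    have e₁ : (ι ≫ φ₁) ≫ c = (ι ≫ v) ≫ p i j k := by rw [Category.assoc, Category.assoc, hv₁]
    have e₂ : (ι ≫ φ₁) ≫ d = (ι ≫ v) ≫ q i j k := by rw [Category.assoc, Category.assoc, hv₂]
    rw [trL_comp, trL_congr e₁, ← trL_comp, h, trL_extL (ι ≫ v) _ _ _ hw₂, trL_extL (ι ≫ φ₁) _ _ _ hw₂, trL_comp,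
      trL_comp, trL_congr e₁]
    congr 2
    rw [e₂]
  let Dec : (StMod.fibCat π η).obj → Type (u + 1) := fun x => ULift.{u + 1} (Σ i, (x ⟶ a i))
  let L : ∀ x, IsAffine (StMod.sch (StMod.fibCat π η) x) → Dec x → (Γ(E.obj.obj x, ⊤) →+ Γ(M.obj.obj x, ⊤)) :=
    fun x hx d => (extL d.down.2 (ha d.down.1) hx (l d.down.1)).toAddMonoidHom
  have hdata : LocData (M := E) (N := M) Dec L := by
    refine ⟨hZ, fun φ d => ⟨⟨⟨d.down.1, φ ≫ d.down.2⟩⟩⟩, fun x t => ?_, fun x hx d r s => ?_, ?_⟩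
    · obtain ⟨x', φ, hφ, i, ⟨c⟩⟩ := hcov x t
      exact ⟨x', φ, hφ, ⟨⟨⟨i, c⟩⟩⟩⟩
    · exact map_smul (extL d.down.2 (ha d.down.1) hx (l d.down.1)) (toR r) (toM s)
    · intro x' x φ hx hx' d d' s
      show trL M φ (extL d.down.2 (ha d.down.1) hx (l d.down.1) s) =
        extL d'.down.2 (ha d'.down.1) hx' (l d'.down.1) (trL E φ s)
      have e : (trP φ M).comp (extL d.down.2 (ha d.down.1) hx (l d.down.1)) =
          (pMap φ (extL d'.down.2 (ha d'.down.1) hx' (l d'.down.1))).comp (trP φ E) :=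
        hom_ext_trL d.down.2 (ha d.down.1) hx fun e => by
          show trL M φ (extL d.down.2 _ hx (l d.down.1) (trL E d.down.2 e)) =
            extL d'.down.2 _ hx' (l d'.down.1) (trL E φ (trL E d.down.2 e))
          rw [extL_trL, trL_comp, trL_comp]
          exact key x' hx' _ _ (φ ≫ d.down.2) d'.down.2 e
      exact LinearMap.congr_fun e s
  obtain ⟨u, hu⟩ := hdata.exists_hom
  refine ⟨ObjectProperty.homMk u.hom, fun i => LinearMap.ext fun s => ?_⟩
  have h1 := hu (a i) (ha i) ⟨⟨i, 𝟙 (a i)⟩⟩ s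
  refine (show evL (a i) (ObjectProperty.homMk u.hom) s = extL (𝟙 (a i)) (ha i) (ha i) (l i) s from h1).trans ?_
  have h2 := extL_trL (F := E) (G := M) (𝟙 (a i)) (ha i) (ha i) (l i) s
  rwa [trL_id, trL_id] at h2

end Morph

section BaseChange

variable {η' η : 𝒴.obj} (ψ : η' ⟶ η) (E M : StMod.QCoh (StMod.fibCat π η))

/-- Morphisms of the base changes, as a module over the functions on both base objects. -/
def HomB : Type (u + 1) := restrQ π ψ E ⟶ restrQ π ψ M

instance : AddCommGroup (HomB ψ E M) := inferInstanceAs (AddCommGroup (restrQ π ψ E ⟶ restrQ π ψ M))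

instance : Module (bR η') (HomB ψ E M) :=
  inferInstanceAs (Module (bR η') (restrQ π ψ E ⟶ restrQ π ψ M))

/-- Base change of morphisms. -/
def bcHom : (E ⟶ M) →+ HomB ψ E M where
  toFun φ := (StMod.comapQ (fibMap π ψ)).map φ
  map_zero' := InducedCategory.hom_ext ((StMod.comapFunctor (fibMap π ψ)).map_zero E.obj M.obj)
  map_add' φ φ' := InducedCategory.hom_ext ((StMod.comapFunctor (fibMap π ψ)).map_add (f := φ.hom) (g := φ'.hom))

theorem evL_bcHom (w : (StMod.fibCat π η').obj) (φ : E ⟶ M) (s : sM E (push π ψ w)) :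
    (evL w (bcHom ψ E M φ : restrQ π ψ E ⟶ restrQ π ψ M) s : sM M (push π ψ w)) = evL (push π ψ w) φ s := rfl

theorem bcHom_smul (r : bR η) (φ : E ⟶ M) :
    bcHom ψ E M (r • φ) = bmapR ψ r • bcHom ψ E M φ := by
  refine InducedCategory.hom_ext (StMod.Mod.hom_ext fun w => Scheme.Modules.hom_ext _ _ fun U => ?_)
  ext s
  show ((uFib π η (push π ψ w)).appLE ⊤ U le_top).hom r •
      (show Γ(M.obj.obj (push π ψ w), U) from ((bcHom ψ E M φ : restrQ π ψ E ⟶ restrQ π ψ M).hom.app w).app U s) =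
    ((uFib π η' w).appLE ⊤ U le_top).hom ((StMod.bmap 𝒴 ψ).appTop.hom r) •
      (show Γ((restrQ π ψ M).obj.obj w, U) from ((bcHom ψ E M φ : restrQ π ψ E ⟶ restrQ π ψ M).hom.app w).app U s)
  congr 1
  have key : ∀ {g g' : StMod.sch (StMod.fibCat π η') w ⟶ StMod.sch 𝒴 η} (_ : g = g') (h₁ : U ≤ g ⁻¹ᵁ ⊤)
      (h₂ : U ≤ g' ⁻¹ᵁ ⊤), (g.appLE ⊤ U h₁).hom r = (g'.appLE ⊤ U h₂).hom r := by
    rintro g g' rfl h₁ h₂; rfl
  refine (key (uFib_push π ψ w) _ le_top).trans ?_
  rw [Scheme.Hom.comp_appLE]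
  rfl

variable {ψ E M}

/-- The value of a morphism of base changes on a pushed object. -/
def evPush (w : (StMod.fibCat π η').obj) (u : restrQ π ψ E ⟶ restrQ π ψ M) :
    sM E (push π ψ w) →ₗ[sR (push π ψ w)] sM M (push π ψ w) where
  toFun s := (show sM M (push π ψ w) from evL w u s)
  map_add' s t := map_add (evL w u) s t
  map_smul' r s := map_smul (evL w u) (show sR w from r) (show sM (restrQ π ψ E) w from s)

theorem evPush_nat {w' w : (StMod.fibCat π η').obj} (c : w' ⟶ w) (u : restrQ π ψ E ⟶ restrQ π ψ M)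
    (s : sM E (push π ψ w)) : trL M (pushHom ψ c) (evPush w u s) = evPush w' u (trL E (pushHom ψ c) s) := by
  show trL M (pushHom ψ c) (evL w u s) = evL w' u (trL E (pushHom ψ c) s)
  rw [← trL_restr ψ M c, ← trL_restr ψ E c]
  exact trL_evL c u s

/-- The comparison `B ⊗ Hom(E, M) ⟶ Hom(E', M')`. -/
def bcMapHom : (letI := (bmapR ψ).toAlgebra; bR η' ⊗[bR η] (E ⟶ M)) →+ HomB ψ E M :=
  letI := (bmapR ψ).toAlgebra
  TensorProduct.liftAddHom
    (AddMonoidHom.mk' (fun b => AddMonoidHom.mk' (fun φ => b • bcHom ψ E M φ) fun φ φ' => by rw [map_add, smul_add])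
      fun b b' => AddMonoidHom.ext fun φ => add_smul b b' _)
    fun r b φ => by
      show (bmapR ψ r * b) • bcHom ψ E M φ = b • bcHom ψ E M (r • φ)
      rw [bcHom_smul, smul_smul, mul_comm]

/-- Morphisms out of a finitely presented module commute with flat base change. -/
theorem bcMapHom_bijective (h𝒳 : FibCat.IsFibGrpd 𝒳.p) (h𝒴 : FibCat.IsFibGrpd 𝒴.p)
    (hη : IsAffine (StMod.sch 𝒴 η)) (hη' : IsAffine (StMod.sch 𝒴 η')) [Flat (StMod.bmap 𝒴 ψ)]
    (hqc : IsQC (StMod.fibCat π η)) (hqs : IsQS (StMod.fibCat π η)) (hE : FPSec E) :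
    Function.Bijective (bcMapHom (ψ := ψ) (E := E) (M := M)) := by
  classical
  letI := (bmapR ψ).toAlgebra
  haveI := hη
  haveI := hη'
  haveI : Module.Flat (bR η) (bR η') := Scheme.Hom.flat_appTop (StMod.bmap 𝒴 ψ)
  have hZ := isFibGrpd_fibCat h𝒳 π η
  have hZ' := isFibGrpd_fibCat h𝒳 π η'
  obtain ⟨I, _, a, ha, hcov⟩ := hqc
  choose K hK z p q hz hov using fun i j => hqs (a i) (a j) (ha i) (ha j)
  haveI := hK
  haveI := fun i => hE (a i) (ha i)
  choose a' φa hbca using fun i => exists_pullObj h𝒳 h𝒴 ψ (a i)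
  have haff' : ∀ i, IsAffine (StMod.sch (StMod.fibCat π η') (a' i)) := fun i => by
    haveI : IsAffine (StMod.sch 𝒳 (a i).left) := ha i
    exact IsAffine.of_isPullback (hbca i)
  have hcov' : ∀ (w : (StMod.fibCat π η').obj) (t : StMod.sch (StMod.fibCat π η') w),
      ∃ (w' : (StMod.fibCat π η').obj) (φ : w' ⟶ w), Hits φ t ∧ ∃ i, Nonempty (w' ⟶ a' i) := fun w t => by
    obtain ⟨x, φ₀, h₀, i, ⟨c₀⟩⟩ := hcov (push π ψ w) t
    obtain ⟨w', φ', c, -, hh⟩ := exists_down ψ φ₀
    obtain ⟨v, -⟩ := exists_bcLift h𝒳 h𝒴 (hbca i) (c ≫ c₀)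
    exact ⟨w', φ', hh t h₀, i, ⟨v⟩⟩
  let P := ∀ i, sM E (a i) →ₗ[sR (a i)] sM M (a i)
  let L : (E ⟶ M) →ₗ[bR η] P := LinearMap.pi fun i => evL (a i)
  have hLinj : Function.Injective L := (injective_iff_map_eq_zero L).2 fun u hu =>
    eq_zero_of_pieces hZ a ha hcov u fun i => congrFun hu i
  -- the value on each piece
  let T : ∀ i, bR η' ⊗[bR η] P →ₗ[bR η] (sM E (a i) →ₗ[sR (a i)] pM (φa i) M) := fun i =>
    (homMap (sigma ψ M (φa i)) (trP (φa i) M)).comp ((LinearMap.proj i).lTensor (bR η'))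
  have hbij : ∀ i, Function.Bijective (baseMap (A := bR η) (sigma ψ M (φa i)) (trP (φa i) M)) := fun i =>
    bcMap_bijective ψ M (φa i) (hbca i) hη hη' (ha i)
  have hTev : ∀ (X : bR η' ⊗[bR η] (E ⟶ M)) i e, pVal (φa i) M (T i (L.lTensor (bR η') X) e) =
      evL (a' i) (bcMapHom X : restrQ π ψ E ⟶ restrQ π ψ M) (trL E (φa i) e) := fun X i e => by
    induction X using TensorProduct.induction_on with
    | zero =>
      simp only [map_zero]
      exact ((congrArg (fun f : sM (restrQ π ψ E) (a' i) →ₗ[sR (a' i)] sM (restrQ π ψ M) (a' i) => f (trL E (φa i) e))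
        (map_zero (evL (a' i)))).trans rfl).symm
    | tmul b φ =>
      show sRb ψ (a' i) b • trL M (φa i) (evL (a i) φ e) = _
      rw [trL_evL]
      exact ((congrArg (fun f : sM (restrQ π ψ E) (a' i) →ₗ[sR (a' i)] sM (restrQ π ψ M) (a' i) => f (trL E (φa i) e))
        (map_smul (evL (a' i)) b (bcHom ψ E M φ : restrQ π ψ E ⟶ restrQ π ψ M))).trans
          ((algebraMap_smul (sR (a' i)) b _).symm.trans rfl)).symm
    | add X Y hX hY =>
      simp only [map_add]
      exact (congrArg₂ (· + ·) hX hY).trans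
        (congrArg (fun f : sM (restrQ π ψ E) (a' i) →ₗ[sR (a' i)] sM (restrQ π ψ M) (a' i) => f (trL E (φa i) e))
          (map_add (evL (a' i)) (bcMapHom X : restrQ π ψ E ⟶ restrQ π ψ M) (bcMapHom Y))).symm
  refine ⟨(injective_iff_map_eq_zero _).2 fun X hX => ?_, fun φ' => ?_⟩
  · apply Module.Flat.lTensor_preserves_injective_linearMap (M := bR η') L hLinj
    rw [map_zero]
    refine pi_tensor_ext fun i => ?_
    apply homMap_injective (sigma ψ M (φa i)) (trP (φa i) M) (hbij i).1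
    simp only [map_zero]
    refine LinearMap.ext fun e => ?_
    refine (hTev X i e).trans ?_
    rw [hX]
    exact (congrArg (fun f : sM (restrQ π ψ E) (a' i) →ₗ[sR (a' i)] sM (restrQ π ψ M) (a' i) => f (trL E (φa i) e))
      (map_zero (evL (a' i)))).trans rfl
  -- surjectivity
  let u : restrQ π ψ E ⟶ restrQ π ψ M := φ'
  let l' : ∀ i, sM E (a i) →ₗ[sR (a i)] pM (φa i) M := fun i =>
    (pMap (φa i) (evPush (a' i) u)).comp (trP (φa i) E)
  choose w hw using fun i => (homMap_bijective (A := bR η) (sigma ψ M (φa i)) (trP (φa i) M) (hbij i)).2 (l' i)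
  haveI := Fintype.ofFinite I
  let W : bR η' ⊗[bR η] P :=
    (TensorProduct.piRight (bR η) (bR η) (bR η') (fun i => sM E (a i) →ₗ[sR (a i)] sM M (a i))).symm w
  have hTW : ∀ i, T i W = l' i := fun i => by
    rw [← hw i]
    show homMap _ _ _ = homMap _ _ (w i)
    congr 1
    have key : ∀ Z : bR η' ⊗[bR η] P,
        TensorProduct.piRight (bR η) (bR η) (bR η') (fun i => sM E (a i) →ₗ[sR (a i)] sM M (a i)) Z i =
        (LinearMap.proj i).lTensor (bR η') Z := fun Z => by
      induction Z using TensorProduct.induction_on with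
      | zero => simp
      | tmul b v => rfl
      | add x y hx hy => rw [map_add, map_add, Pi.add_apply, hx, hy]
    rw [← key]
    simp only [W, LinearEquiv.apply_symm_apply]
  let D : P →ₗ[bR η] ∀ k : (Σ i j, K i j), sM E (a k.1) →ₗ[sR (a k.1)] pM (p k.1 k.2.1 k.2.2) M :=
    LinearMap.pi fun k =>
      ({ toFun := fun l => (trP (p k.1 k.2.1 k.2.2) M).comp (l k.1) -
            (pMap (p k.1 k.2.1 k.2.2) (extL (q k.1 k.2.1 k.2.2) (ha k.2.1) (hz k.1 k.2.1 k.2.2) (l k.2.1))).comp
              (trP (p k.1 k.2.1 k.2.2) E)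
         map_add' := fun l l' => by
          rw [show (l + l') k.1 = l k.1 + l' k.1 from rfl, show (l + l') k.2.1 = l k.2.1 + l' k.2.1 from rfl]
          simp only [map_add, LinearMap.comp_add, LinearMap.add_comp]
          abel
         map_smul' := fun r l => by
          rw [show (r • l) k.1 = r • l k.1 from rfl, show (r • l) k.2.1 = r • l k.2.1 from rfl, RingHom.id_apply]
          simp only [map_smul]
          refine LinearMap.ext fun e => ?_
          simp only [LinearMap.sub_apply, LinearMap.smul_apply, LinearMap.comp_apply]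
          rw [LinearMap.map_smul_of_tower, smul_sub] })
  have hDex : Function.Exact L D := fun l => by
    constructor
    · intro hl
      obtain ⟨u, hu⟩ := exists_of_agree hZ a ha hcov z p q hz hov l fun i j k e =>
        sub_eq_zero.1 (LinearMap.congr_fun (congrFun hl ⟨i, j, k⟩) e)
      exact ⟨u, funext hu⟩
    · rintro ⟨u, rfl⟩
      funext k
      refine LinearMap.ext fun e => sub_eq_zero.2 ?_
      show trL M _ (evL _ u e) = extL _ _ _ (evL (a k.2.1) u) (trL E _ e)
      rw [← evL_eq_extL, trL_evL]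
  have hDW : D.lTensor (bR η') W = 0 := by
    refine pi_tensor_ext fun k => ?_
    obtain ⟨i, j, k⟩ := k
    haveI := hz i j k
    obtain ⟨z', φz, hbcz⟩ := exists_pullObj h𝒳 h𝒴 ψ (z i j k)
    haveI hz' : IsAffine (StMod.sch (StMod.fibCat π η) (push π ψ z')) := by
      haveI : IsAffine (StMod.sch 𝒳 (z i j k).left) := hz i j k
      exact IsAffine.of_isPullback hbcz
    obtain ⟨ps, hps₀⟩ := exists_bcLift h𝒳 h𝒴 (hbca i) (φz ≫ p i j k)
    obtain ⟨qs, hqs₀⟩ := exists_bcLift h𝒳 h𝒴 (hbca j) (φz ≫ q i j k)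
    have hps : pushHom ψ ps ≫ φa i = φz ≫ p i j k := hps₀
    have hqs' : pushHom ψ qs ≫ φa j = φz ≫ q i j k := hqs₀
    let f : pM (p i j k) M →ₗ[sR (a i)] pM (φz ≫ p i j k) M :=
      { toFun := fun s => trL M φz (pVal _ M s)
        map_add' := fun s t => map_add (trL M φz) _ _
        map_smul' := fun r s => by
          show trL M φz (rmap (p i j k) r • pVal _ M s) = rmap (φz ≫ p i j k) r • trL M φz (pVal _ M s)
          rw [trL_smul]
          congr 1
          show ((StMod.bmap (StMod.fibCat π η) (p i j k)).appTop ≫ (StMod.bmap (StMod.fibCat π η) φz).appTop).hom r =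
            (StMod.bmap (StMod.fibCat π η) (φz ≫ p i j k)).appTop.hom r
          rw [← Scheme.Hom.comp_appTop, StMod.bmap_comp] }
    have hfbij : Function.Bijective (baseMap (A := bR η) (sigma ψ M (φz ≫ p i j k)) f) := by
      have : ⇑(baseMap (A := bR η) (sigma ψ M (φz ≫ p i j k)) f) =
          ⇑(baseMap (A := bR η) (sigma ψ M φz) (trP φz M)) := funext fun X => by
        induction X using TensorProduct.induction_on with
        | zero => simp
        | tmul b s => rfl
        | add X Y hX hY => rw [map_add]; exact (congrArg₂ (· + ·) hX hY).trans (map_add _ X Y).symm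
      rw [this]
      exact bcMap_bijective ψ M φz hbcz hη hη' (hz i j k)
    apply homMap_injective (sigma ψ M (φz ≫ p i j k)) f hfbij.1
    simp only [map_zero]
    let G₀ : P →ₗ[bR η] (sM E (push π ψ z') →ₗ[sR (push π ψ z')] sM M (push π ψ z')) :=
      (extL (φz ≫ q i j k) (ha j) hz').comp (LinearMap.proj j)
    let G : bR η' ⊗[bR η] P →+ (sM E (push π ψ z') →ₗ[sR (push π ψ z')] sM M (push π ψ z')) :=
      TensorProduct.liftAddHom
        (AddMonoidHom.mk' (fun b => AddMonoidHom.mk' (fun l => sRb ψ z' b • G₀ l) fun l l' => by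
            rw [map_add, smul_add])
          fun b b' => AddMonoidHom.ext fun l => by
            show sRb ψ z' (b + b') • G₀ l = _
            rw [map_add, add_smul]
            rfl)
        fun r b l => by
          show sRb ψ z' (bmapR ψ r * b) • G₀ l = sRb ψ z' b • G₀ (r • l)
          rw [map_mul, map_smul, sRb_bmapR, mul_comm, mul_smul, ← algebraMap_smul (sR (push π ψ z')) r (G₀ l)]
          rfl
    have hG : ∀ Z e, G Z (trL E (φz ≫ q i j k) e) =
        trL M (pushHom ψ qs) (pVal (φa j) M (T j Z e)) := fun Z e => by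
      induction Z using TensorProduct.induction_on with
      | zero => simp
      | tmul b l =>
        show sRb ψ z' b • extL (φz ≫ q i j k) (ha j) hz' (l j) (trL E (φz ≫ q i j k) e) =
          trL M (pushHom ψ qs) (sRb ψ (a' j) b • trL M (φa j) (l j e))
        rw [extL_trL, trL_smul, rmap_sRb, trL_comp, trL_congr hqs']
      | add X Y hX hY =>
        rw [map_add, LinearMap.add_apply, hX, hY, ← map_add]
        congr 1
        exact (congrArg (fun f => pVal (φa j) M (f e)) (map_add (T j) X Y)).symm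
    have hmain : ∀ Z e, pVal (φz ≫ p i j k) M
        (homMap (sigma ψ M (φz ≫ p i j k)) f ((LinearMap.proj ⟨i, j, k⟩).lTensor (bR η') (D.lTensor (bR η') Z)) e) =
        trL M (pushHom ψ ps) (pVal (φa i) M (T i Z e)) - G Z (trL E (φz ≫ p i j k) e) := fun Z e => by
      induction Z using TensorProduct.induction_on with
      | zero => simp
      | tmul b l =>
        show sRb ψ z' b • trL M φz (trL M (p i j k) (l i e) - extL (q i j k) (ha j) (hz i j k) (l j) (trL E (p i j k) e)) =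
          trL M (pushHom ψ ps) (sRb ψ (a' i) b • trL M (φa i) (l i e)) -
            sRb ψ z' b • extL (φz ≫ q i j k) (ha j) hz' (l j) (trL E (φz ≫ p i j k) e)
        rw [map_sub, smul_sub, trL_comp, trL_extL φz _ _ _ hz', trL_comp, trL_smul, rmap_sRb, trL_comp, trL_congr hps]
      | add X Y hX hY =>
        simp only [map_add, LinearMap.add_apply]
        refine (congrArg₂ (· + ·) hX hY).trans ?_
        rw [sub_add_sub_comm, ← map_add (trL M (pushHom ψ ps))]
    refine LinearMap.ext fun e => ?_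
    refine (hmain W e).trans ?_
    rw [hTW]
    have hGW : G W = evPush z' u := hom_ext_trL (φz ≫ q i j k) (ha j) hz' fun e' => by
      rw [hG, hTW]
      show trL M (pushHom ψ qs) (evPush (a' j) u (trL E (φa j) e')) = _
      rw [evPush_nat, trL_comp, trL_congr hqs']
    rw [hGW]
    show trL M (pushHom ψ ps) (evPush (a' i) u (trL E (φa i) e)) - evPush z' u (trL E (φz ≫ p i j k) e) = 0
    rw [evPush_nat, trL_comp, trL_congr hps, sub_self]
  obtain ⟨X, hX⟩ := (Module.Flat.lTensor_exact (bR η') hDex W).1 hDW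
  refine ⟨X, ?_⟩
  show (bcMapHom X : restrQ π ψ E ⟶ restrQ π ψ M) = u
  rw [← sub_eq_zero]
  refine eq_zero_of_pieces hZ' a' haff' hcov' _ fun i => ?_
  refine (map_sub (evL (a' i)) (bcMapHom X : restrQ π ψ E ⟶ restrQ π ψ M) u).trans (sub_eq_zero.2 ?_)
  have hpush : IsAffine (StMod.sch (StMod.fibCat π η) (push π ψ (a' i))) := haff' i
  have e : evPush (a' i) (bcMapHom X : restrQ π ψ E ⟶ restrQ π ψ M) = evPush (a' i) u :=
    hom_ext_trL (φa i) (ha i) hpush fun e => by
      show evL (a' i) (bcMapHom X : restrQ π ψ E ⟶ restrQ π ψ M) (trL E (φa i) e) = _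
      rw [← hTev, hX, hTW]
      rfl
  exact LinearMap.ext fun s => LinearMap.congr_fun e s

/-- A morphism killing all morphisms from `E` still kills them after a flat base change of the base. -/
theorem kills_baseChange (h𝒳 : FibCat.IsFibGrpd 𝒳.p) (h𝒴 : FibCat.IsFibGrpd 𝒴.p)
    (hη : IsAffine (StMod.sch 𝒴 η)) (hη' : IsAffine (StMod.sch 𝒴 η')) [Flat (StMod.bmap 𝒴 ψ)]
    (hqc : IsQC (StMod.fibCat π η)) (hqs : IsQS (StMod.fibCat π η)) (hE : FPSec E)
    {N : StMod.QCoh (StMod.fibCat π η)} (u : M ⟶ N) (hu : ∀ φ : E ⟶ M, φ ≫ u = 0)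
    (φ' : restrQ π ψ E ⟶ restrQ π ψ M) : φ' ≫ (StMod.comapQ (fibMap π ψ)).map u = 0 := by
  letI := (bmapR ψ).toAlgebra
  obtain ⟨X, hX⟩ := (bcMapHom_bijective (M := M) h𝒳 h𝒴 hη hη' hqc hqs hE).2 φ'
  rw [← hX]
  clear hX
  induction X using TensorProduct.induction_on with
  | zero => exact (congrArg (· ≫ _) (map_zero bcMapHom)).trans zero_comp
  | add X Y hX hY =>
    refine (congrArg (· ≫ _) (map_add bcMapHom X Y)).trans ((Preadditive.add_comp _ _ _ _ _ _).trans ?_)
    rw [hX, hY, add_zero]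
  | tmul b φ =>
    have h1 : (StMod.comapQ (fibMap π ψ)).map φ ≫ (StMod.comapQ (fibMap π ψ)).map u = 0 := by
      rw [← Functor.map_comp, hu]
      exact map_zero (bcHom ψ E N)
    show ((StMod.comapQ (fibMap π ψ)).map φ ≫ scalHom (restrQ π ψ M) b) ≫ (StMod.comapQ (fibMap π ψ)).map u = 0
    have h2 : scalHom (restrQ π ψ M) b ≫ (StMod.comapQ (fibMap π ψ)).map u =
        (StMod.comapQ (fibMap π ψ)).map u ≫ scalHom (restrQ π ψ N) b := by
      refine InducedCategory.hom_ext (StMod.Mod.hom_ext fun w => Scheme.Modules.hom_ext _ _ fun U => ?_)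
      ext s
      show (((StMod.comapQ (fibMap π ψ)).map u).hom.app w).app U (((uFib π η' w).appLE ⊤ U le_top).hom b • s) =
        ((uFib π η' w).appLE ⊤ U le_top).hom b • (((StMod.comapQ (fibMap π ψ)).map u).hom.app w).app U s
      exact Scheme.Modules.Hom.app_smul _ _ _
    rw [Category.assoc, h2, ← Category.assoc, h1, zero_comp]

end BaseChange

end Groth.Agent.RelGen
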