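import Mathlib
import Groth.Agent.RelGen.Fibres
import Groth.Agent.RelGen.FlatHom

/-!
# Generating families over an affine object descend along jointly surjective flat families
-/

universe u

open CategoryTheory CategoryTheory.Limits AlgebraicGeometry TopologicalSpace Opposite TensorProduct

set_option autoImplicit false
set_option backward.isDefEq.respectTransparency false
set_option backward.isDefEq.respectTransparency.types false
set_option linter.style.haveILetI false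

noncomputable section

namespace Groth.Agent.RelGen

open Groth.Agent.QC Groth.Agent.QDescent

/-- The annihilator of an element vanishing after a flat extension generates the unit ideal there. -/
theorem map_ker_eq_top {R R' : Type*} [CommRing R] [CommRing R'] [Algebra R R'] [Module.Flat R R'] {M : Type*}
    [AddCommGroup M] [Module R M] (n : M) (h : (1 : R') ⊗ₜ[R] n = 0) :
    Ideal.map (algebraMap R R') (LinearMap.ker (LinearMap.toSpanSingleton R M n)) = ⊤ := by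
  set I : Ideal R := LinearMap.ker (LinearMap.toSpanSingleton R M n)
  let J : Ideal R' := Ideal.map (algebraMap R R') I
  let g : (R ⧸ I) →ₗ[R] M := Submodule.liftQ I (LinearMap.toSpanSingleton R M n) le_rfl
  have hg : Function.Injective g := LinearMap.ker_eq_bot.1 (Submodule.ker_liftQ_eq_bot _ _ _ le_rfl)
  have h0 : (1 : R') ⊗ₜ[R] (Submodule.Quotient.mk (1 : R) : R ⧸ I) = 0 := by
    refine Module.Flat.lTensor_preserves_injective_linearMap (M := R') g hg ?_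
    rw [map_zero, LinearMap.lTensor_tmul]
    show (1 : R') ⊗ₜ[R] ((1 : R) • n) = 0
    rw [one_smul, h]
  let q : (R ⧸ I) →ₗ[R] R' ⧸ J := Submodule.liftQ I (Algebra.linearMap R (R' ⧸ J)) fun r hr => by
    show algebraMap R (R' ⧸ J) r = 0
    rw [IsScalarTower.algebraMap_apply R R' (R' ⧸ J), Ideal.Quotient.algebraMap_eq, Ideal.Quotient.eq_zero_iff_mem]
    exact Ideal.mem_map_of_mem _ hr
  have h1 := congrArg (q.liftBaseChange R') h0
  rw [map_zero, LinearMap.liftBaseChange_tmul, one_smul] at h1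
  have h2 : (1 : R' ⧸ J) = 0 := (map_one (algebraMap R (R' ⧸ J))).symm.trans h1
  rw [← map_one (Ideal.Quotient.mk J), Ideal.Quotient.eq_zero_iff_mem] at h2
  exact (Ideal.eq_top_iff_one J).2 h2

variable {S : Scheme.{u}}

/-- A section of a cartesian module on an affine object vanishing on jointly surjective flat affine objects below
is zero. -/
theorem eq_zero_of_flat_hits {𝒵 : AlgSt.Cat S} (F : StMod.QCoh 𝒵) {x : 𝒵.obj} [IsAffine (StMod.sch 𝒵 x)]
    (n : Γ(F.obj.obj x, ⊤))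
    (h : ∀ t : StMod.sch 𝒵 x, ∃ (x' : 𝒵.obj) (φ : x' ⟶ x), IsAffine (StMod.sch 𝒵 x') ∧ Flat (StMod.bmap 𝒵 φ) ∧
      t ∈ Set.range (StMod.bmap 𝒵 φ).base ∧ trT F.obj φ n = 0) : n = 0 := by
  set I : Ideal Γ(StMod.sch 𝒵 x, ⊤) := LinearMap.ker (LinearMap.toSpanSingleton _ Γ(F.obj.obj x, ⊤) n) with hI
  have key : ∀ t : StMod.sch 𝒵 x, ∃ r ∈ I, t ∈ (StMod.sch 𝒵 x).basicOpen r := by
    intro t
    obtain ⟨x', φ, hx', hfl, ⟨w, hw⟩, hn⟩ := h t
    haveI := hx'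
    have happ : (StMod.bmap 𝒵 φ).appLE ⊤ ⊤ (top_le φ) = (StMod.bmap 𝒵 φ).appTop :=
      (Scheme.Hom.appLE_eq_app (StMod.bmap 𝒵 φ) :)
    letI : Algebra Γ(StMod.sch 𝒵 x, ⊤) Γ(StMod.sch 𝒵 x', ⊤) :=
      ((StMod.bmap 𝒵 φ).appLE ⊤ ⊤ (top_le φ)).hom.toAlgebra
    haveI : Module.Flat Γ(StMod.sch 𝒵 x, ⊤) Γ(StMod.sch 𝒵 x', ⊤) := by
      have h1 : ((StMod.bmap 𝒵 φ).appTop).hom.Flat := HasRingHomProperty.appTop (P := @Flat) _ hfl
      rw [← happ] at h1
      exact h1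
    obtain ⟨Φ, hΦ⟩ := exists_bijective_tr F φ (isAffineOpen_top (StMod.sch 𝒵 x))
      (isAffineOpen_top (StMod.sch 𝒵 x')) (top_le φ)
    have h2 : (1 : Γ(StMod.sch 𝒵 x', ⊤)) ⊗ₜ[Γ(StMod.sch 𝒵 x, ⊤)] n = 0 := by
      refine Φ.injective ?_
      rw [map_zero, hΦ]
      exact hn
    have h3 := map_ker_eq_top n h2
    rw [Ideal.map, ← (isAffineOpen_top (StMod.sch 𝒵 x')).self_le_iSup_basicOpen_iff] at h3
    obtain ⟨⟨_, r, hr, rfl⟩, hrw⟩ := Opens.mem_iSup.1 (h3 (trivial : w ∈ (⊤ : (StMod.sch 𝒵 x').Opens)))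
    refine ⟨r, hr, ?_⟩
    have h4 : w ∈ StMod.bmap 𝒵 φ ⁻¹ᵁ (StMod.sch 𝒵 x).basicOpen r := by
      rw [Scheme.preimage_basicOpen_top, ← happ]
      exact hrw
    rw [← hw]
    exact h4
  have htop : Ideal.span (I : Set Γ(StMod.sch 𝒵 x, ⊤)) = ⊤ := by
    rw [← (isAffineOpen_top (StMod.sch 𝒵 x)).self_le_iSup_basicOpen_iff]
    intro t _
    obtain ⟨r, hr, ht⟩ := key t
    exact Opens.mem_iSup.2 ⟨⟨r, hr⟩, ht⟩
  rw [Ideal.span_eq] at htop
  have h1 : (1 : Γ(StMod.sch 𝒵 x, ⊤)) ∈ I := by rw [htop]; trivial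
  rw [hI, LinearMap.mem_ker, LinearMap.toSpanSingleton_apply, one_smul] at h1
  exact h1

variable {𝒳 𝒴 : AlgSt.Cat S} {π : 𝒳 ⥤ᵇ 𝒴}

/-- Generating over an affine object is flat local on it. -/
theorem isGenFam_of_flat_hits (h𝒳 : FibCat.IsFibGrpd 𝒳.p) (h𝒴 : FibCat.IsFibGrpd 𝒴.p)
    {η : 𝒴.obj} (hη : IsAffine (StMod.sch 𝒴 η)) (hqc : IsQC (StMod.fibCat π η)) (hqs : IsQS (StMod.fibCat π η))
    {ι : Type*} (E : ι → StMod.QCoh 𝒳) (hE : ∀ i, (E i).obj.IsFinPres)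
    (h : ∀ t : StMod.sch 𝒴 η, ∃ (η' : 𝒴.obj) (ψ : η' ⟶ η), IsAffine (StMod.sch 𝒴 η') ∧
      Flat (StMod.bmap 𝒴 ψ) ∧ t ∈ Set.range (StMod.bmap 𝒴 ψ).base ∧ StMod.IsGenFam fun i => onFib π (E i) η') :
    StMod.IsGenFam fun i => onFib π (E i) η := by
  rw [StMod.isGenFam_iff]
  intro M N u hu
  have hres : ∀ (η' : 𝒴.obj) (ψ : η' ⟶ η), IsAffine (StMod.sch 𝒴 η') → Flat (StMod.bmap 𝒴 ψ) →
      (StMod.IsGenFam fun i => onFib π (E i) η') → (StMod.comapQ (fibMap π ψ)).map u = 0 := by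
    intro η' ψ hη' hfl hgen
    haveI := hfl
    refine (StMod.isGenFam_iff _).1 hgen _ fun i φ => ?_
    have h1 := kills_baseChange (ψ := ψ) h𝒳 h𝒴 hη hη' hqc hqs (fpSec_onFib (hE i) η) u
      (fun φ₀ => InducedCategory.hom_ext (hu i φ₀.hom))
      ((restrOnFib π ψ (E i)).hom ≫ ObjectProperty.homMk φ)
    rw [Category.assoc, ← cancel_epi (restrOnFib π ψ (E i)).inv, Iso.inv_hom_id_assoc, comp_zero] at h1
    exact congrArg InducedCategory.Hom.hom h1
  haveI := hη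
  refine eq_zero_of_cover (isFibGrpd_fibCat h𝒳 π η) u fun x t => ⟨x, 𝟙 x, hits_id x t, fun x₁ _ hx₁ s => ?_⟩
  haveI := hx₁
  refine eq_zero_of_flat_hits N _ fun t₁ => ?_
  obtain ⟨η', ψ, hη', hfl, ⟨w, hw⟩, hgen⟩ := h ((uFib π η x₁).base t₁)
  haveI := hη'
  haveI := hfl
  obtain ⟨x', φ, hbc⟩ := exists_pullObj h𝒳 h𝒴 ψ x₁
  haveI : IsAffine (StMod.sch 𝒳 x₁.left) := hx₁
  haveI : IsAffine (StMod.sch (StMod.fibCat π η) (push π ψ x')) := IsAffine.of_isPullback hbc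
  refine ⟨push π ψ x', φ, inferInstance, MorphismProperty.of_isPullback (P := @Flat) hbc.flip hfl, ?_, ?_⟩
  · obtain ⟨p, hp, -⟩ := Scheme.Pullback.exists_preimage_pullback (f := uFib π η x₁) (g := StMod.bmap 𝒴 ψ) t₁ w hw.symm
    refine ⟨hbc.isoPullback.inv.base p, ?_⟩
    show (StMod.bmap 𝒳 φ.left).base _ = t₁
    rw [← Scheme.Hom.comp_apply, IsPullback.isoPullback_inv_fst]
    exact hp
  · rw [show trT N.obj φ ((u.hom.app x₁).app ⊤ s) = (u.hom.app (push π ψ x')).app ⊤ (trT M.obj φ s) from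
      tr_hom u.hom φ ⊤ ⊤ (top_le φ) s]
    exact congr((($(hres η' ψ hη' hfl hgen)).hom.app x').app ⊤ (trT M.obj φ s))

end Groth.Agent.RelGen
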