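import Mathlib
import Groth.Agent.RelGen.FlatKill

/-!
# Relative generation is flat local on the target
-/

universe u

open CategoryTheory CategoryTheory.Limits AlgebraicGeometry TopologicalSpace Opposite

set_option autoImplicit false
set_option backward.isDefEq.respectTransparency false
set_option backward.isDefEq.respectTransparency.types false
set_option linter.style.haveILetI false

noncomputable section

namespace Groth.Agent.RelGen

open Groth.Agent.QDescent Groth.Agent.AlgStLib Groth.Agent.AlgSpLib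
open _root_.AlgSp _root_.AlgSt

variable {S : Scheme.{u}}

local notation "AS" => IsAlgStack Scheme.fppfPrecoverage

/-- Generation over an object of a base change gives generation over its image. -/
theorem genFib_of_fpSnd {𝒳 𝒴 𝒴' : AlgSt.Cat S} (h𝒳 : FibCat.IsFibGrpd 𝒳.p) (h𝒴 : FibCat.IsFibGrpd 𝒴.p)
    (h𝒴' : FibCat.IsFibGrpd 𝒴'.p) (f : 𝒳 ⥤ᵇ 𝒴) (u : 𝒴' ⥤ᵇ 𝒴) (o : 𝒴'.obj) {ι : Type*} (E : ι → StMod.QCoh 𝒳)
    (h : StMod.IsGenFam fun i =>
      (StMod.comapQ (StMod.fibFst (FibCat.fpSnd f u) o)).obj ((StMod.comapQ (FibCat.fpFst f u)).obj (E i))) :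
    StMod.IsGenFam fun i => onFib f (E i) (u.obj o) :=
  (isEqv_fibOfSnd f u h𝒳 h𝒴 h𝒴' o).isGenFam
    (isGenFam_of_iso (fun i => (comap_fibOfSnd f u o (E i)).some.symm) h)

/-- Generation on a category over a slice gives generation over all affine objects of the slice. -/
theorem genFib_of_genFam {𝒲 : AlgSt.Cat S} (h𝒲 : FibCat.IsFibGrpd 𝒲.p) {T : Over S} (hT : IsAffine T.left)
    (P : 𝒲 ⥤ᵇ FibCat.overCat T) {ι : Type*} (F : ι → StMod.QCoh 𝒲) (h : StMod.IsGenFam F)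
    (o : (FibCat.overCat T).obj) (ho : IsAffine (StMod.sch (FibCat.overCat T) o)) :
    StMod.IsGenFam fun i => onFib P (F i) o := by
  have h1 : StMod.IsGenFam fun i => onFib P (F i) (topObj T) :=
    (isEqv_topFib P h𝒲).isGenFam (isGenFam_of_iso (fun i => (comap_topFib P (F i)).some.symm) h)
  haveI := ho
  haveI : IsAffine (StMod.sch (FibCat.overCat T) (topObj T)) := hT
  exact isGenFam_of_iso (fun i => restrOnFib P (toTop o) (F i))
    (isGenFam_baseChange (toTop o) h𝒲 (FibCatRep.isFibGrpd_overCat T) h1)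

variable {𝒳 𝒴 : AlgSt.Cat S}

/-- The common part: generation over all images of flat neighbourhoods. -/
theorem isRelGenFam_of_flat {A : Type u} (h𝒳 : AS 𝒳) (h𝒴 : AS 𝒴) (f : 𝒳 ⥤ᵇ 𝒴)
    (hfqc : AlgSt.IsQuasiCompactMor Scheme.fppfPrecoverage f) (hfqs : AlgSt.IsQuasiSeparatedMor f)
    {ι : Type*} (E : ι → StMod.QCoh 𝒳) (hE : ∀ i, (E i).obj.IsFinPres) (𝒴' : A → AlgSt.Cat S)
    (h𝒴' : ∀ a, AS (𝒴' a)) (u : ∀ a, 𝒴' a ⥤ᵇ 𝒴) (hfl : ∀ a, LocQ (LocP @Flat) (u a))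
    (hsurj : ∀ p : AlgSt.Points 𝒴, ∃ (a : A) (q : AlgSt.Points (𝒴' a)), AlgSt.Points.map (u a) q = p)
    (hgen : ∀ a (o : (𝒴' a).obj), IsAffine (StMod.sch (𝒴' a) o) →
      StMod.IsGenFam fun i => onFib f (E i) ((u a).obj o)) :
    StMod.IsRelGenFam f E := by
  intro η hη
  have g𝒳 := h𝒳.isStack.1
  have g𝒴 := h𝒴.isStack.1
  refine isGenFam_of_flat_hits g𝒳 g𝒴 hη (isQC_fibCat_of_qc h𝒳 h𝒴 f hfqc η hη)
    (isQS_fibCat_of_diag g𝒳 g𝒴 f hfqs η hη) E hE fun t => ?_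
  obtain ⟨z, i, h, hi⟩ := exists_chartAt g𝒴 η
  obtain ⟨a, q, hq⟩ := hsurj (AlgSt.Points.ofChart z t)
  obtain ⟨η', ψ, o, β, hη', ho, hflat, ht⟩ :=
    exists_flat_hit h𝒴 (h𝒴' a) (u a) (hfl a) η t z i h hi ⟨q, hq⟩
  haveI := hη'
  haveI : IsAffine (StMod.sch 𝒴 ((u a).obj o)) := by
    haveI := ho
    exact IsAffine.of_isIso (eqToHom (StMod.sch_obj_eq (u a) o))
  exact ⟨η', ψ, hη', hflat, ht,
    isGenFam_of_iso (fun i => restrOnFib f β (E i)) (isGenFam_baseChange β g𝒳 g𝒴 (hgen a o ho))⟩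

end Groth.Agent.RelGen
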