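import Mathlib
import Groth.Agent.RelGen.FlatLocal
import Groth.Agent.FppfModDesc.Gerbe
import Groth.Agent.FppfModDesc.Bridge

/-!
# Finite local freeness descends along jointly surjective fppf families of stacks
-/

universe u

open CategoryTheory CategoryTheory.Limits AlgebraicGeometry TopologicalSpace Opposite

set_option autoImplicit false
set_option backward.isDefEq.respectTransparency false
set_option backward.isDefEq.respectTransparency.types false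
set_option linter.style.haveILetI false

noncomputable section

namespace Groth.Agent.RelGen

open Groth.Agent.QDescent Groth.Agent.AlgStLib Groth.Agent.AlgSpLib
open _root_.AlgSp _root_.AlgSt

variable {S : Scheme.{u}}

local notation "AS" => IsAlgStack Scheme.fppfPrecoverage

theorem isFinLocFree_of_iso {X : Scheme.{u}} {M N : X.Modules} (e : M ≅ N) (hM : FlatMod.IsFinLocFree M) :
    FlatMod.IsFinLocFree N := fun z => by
  obtain ⟨U, n, hz, ⟨i⟩⟩ := hM z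
  exact ⟨U, n, hz, ⟨((Scheme.Modules.restrictFunctor U.ι).mapIso e).symm ≪≫ i⟩⟩

/-- Finite local freeness of a cartesian module can be tested on an fppf neighbourhood of every point. -/
theorem isFinLocFree_of_hits {𝒵 : AlgSt.Cat S} (F : StMod.QCoh 𝒵) (x : 𝒵.obj)
    (h : ∀ t : StMod.sch 𝒵 x, ∃ (x' : 𝒵.obj) (φ : x' ⟶ x), Hits φ t ∧ FlatMod.IsFinLocFree (F.obj.obj x')) :
    FlatMod.IsFinLocFree (F.obj.obj x) := by
  choose x' φ hφ hF using h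
  refine FppfModDesc.isFinLocFree_of_cover (F.property.2 x)
    (R := Presieve.ofArrows (fun t => StMod.sch 𝒵 (x' t)) (fun t => StMod.bmap 𝒵 (φ t)))
    ((Scheme.ofArrows_mem_precoverage_iff _).2
      ⟨fun t => ⟨t, (hφ t).mem⟩, fun t => ⟨(hφ t).flat, (hφ t).lfp⟩⟩) ?_
  rintro V g ⟨t⟩
  haveI := F.property.1 (φ t) (g := StMod.bmap 𝒵 (φ t)) rfl
  exact isFinLocFree_of_iso (asIso (((Scheme.Modules.pullbackPushforwardAdjunction (StMod.bmap 𝒵 (φ t))).homEquiv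
    (F.obj.obj x) (F.obj.obj (x' t))).symm (F.obj.map (φ t) rfl))).symm (hF t)

variable {𝒳 𝒴 : AlgSt.Cat S}

/-- A module finite locally free after base change along a jointly surjective fppf family is so. -/
theorem isFinLocFree_of_fppf {A : Type u} (h𝒳 : AS 𝒳) (h𝒴 : AS 𝒴) (f : 𝒳 ⥤ᵇ 𝒴) (𝒴' : A → AlgSt.Cat S)
    (h𝒴' : ∀ a, AS (𝒴' a)) (u : ∀ a, 𝒴' a ⥤ᵇ 𝒴) (hfl : ∀ a, LocQ (LocP @Flat) (u a))
    (hfp : ∀ a, LocQ (LocP @LocallyOfFinitePresentation) (u a))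
    (hsurj : ∀ p : AlgSt.Points 𝒴, ∃ (a : A) (q : AlgSt.Points (𝒴' a)), AlgSt.Points.map (u a) q = p)
    (E : StMod.QCoh 𝒳) (hE : ∀ a (w : (FibCat.fp f (u a)).obj), FlatMod.IsFinLocFree (E.obj.obj w.obj.fst))
    (ξ : 𝒳.obj) : FlatMod.IsFinLocFree (E.obj.obj ξ) := by
  have g𝒳 := h𝒳.isStack.1
  have g𝒴 := h𝒴.isStack.1
  refine isFinLocFree_of_hits E ξ fun t => ?_
  obtain ⟨z, i, h, hi⟩ := exists_chartAt g𝒴 (f.obj ξ)
  obtain ⟨a, q, hq⟩ := hsurj (AlgSt.Points.ofChart z ((eqToHom (StMod.sch_obj_eq f ξ).symm).base t))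
  obtain ⟨W, γ, hγ, hγ', ⟨s, hs⟩, x', ⟨j⟩⟩ :=
    exists_lift_at h𝒴 (h𝒴' a) (u a) (hfl a) (hfp a) z _ ⟨q, hq⟩
  obtain ⟨ζ', ψ, β, e, hψ, -⟩ := exists_obj_of_lift z i h hi γ x' j (topObj W)
  have hψ' : StMod.bmap 𝒴 ψ = eqToHom e ≫ γ.left := by
    rw [hψ]
    exact congrArg (eqToHom e ≫ ·) (Category.id_comp γ.left)
  obtain ⟨ξ', φ, χ, -, hφ, hiso⟩ := exists_over g𝒳 g𝒴 ψ
  haveI := hiso
  obtain ⟨w, e', hs', he'⟩ := (isEqv_fibOfSnd f (u a) g𝒳 g𝒴 (h𝒴' a).isStack.1 (x'.obj (topObj W))).exists_obj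
    (CostructuredArrow.mk (χ ≫ β))
  haveI := hγ
  haveI := hγ'
  refine ⟨w.left.obj.fst, e'.hom.left ≫ φ, ?_, hE a w.left⟩
  have he'' : StMod.bmap 𝒳 e'.hom.left = eqToHom (hs' : StMod.sch 𝒳 w.left.obj.fst = StMod.sch 𝒳 ξ') := he'
  have h3 : StMod.bmap 𝒳 (e'.hom.left ≫ φ) =
      (eqToHom (hs'.trans (StMod.sch_obj_eq f ξ').symm : StMod.sch 𝒳 w.left.obj.fst = StMod.sch 𝒴 (f.obj ξ')) ≫
        StMod.bmap 𝒴 χ ≫ eqToHom e) ≫ γ.left ≫ eqToHom (StMod.sch_obj_eq f ξ) := by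
    rw [StMod.bmap_comp, he'', hφ, hψ']
    simp
  refine hits_of_bmap _ (γ.left ≫ eqToHom (StMod.sch_obj_eq f ξ)) _ h3 ⟨s, ?_⟩
  rw [Scheme.Hom.comp_apply, hs]
  exact eqToHom_apply_cancel (StMod.sch_obj_eq f ξ).symm _ t

theorem locQ_mono {Q Q' : MorphismProperty (Sp S)} (h : ∀ {F G : Sp S} (g : F ⟶ G), Q g → Q' g)
    {f : 𝒳 ⥤ᵇ 𝒴} (hf : LocQ Q f) : LocQ Q' f :=
  let ⟨U, V, x, y, g, i, h₁, h₂, h₃, h₄⟩ := hf
  ⟨U, V, x, y, g, i, h₁, h₂, h₃, h _ h₄⟩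

end Groth.Agent.RelGen
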