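import Mathlib
import Groth.Agent.RelGen.Basic
import Groth.Agent.QDescent.Adjoint
import Groth.Agent.QC.Pullback

/-!
# The inverse images of a quasi-coherent module on a scheme, on a category over that scheme
-/

universe w v u

open CategoryTheory CategoryTheory.Limits AlgebraicGeometry TopologicalSpace Opposite

set_option autoImplicit false
set_option backward.isDefEq.respectTransparency false
set_option backward.isDefEq.respectTransparency.types false
set_option linter.style.haveILetI false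

noncomputable section

namespace Groth.Agent.RelGen

open Groth.Agent.QC Groth.Agent.QDescent

/-- The adjoint of a composite comparison. -/
theorem symm_comp_eq {X' X Y : Scheme.{u}} {g : X' ⟶ X} {r : X ⟶ Y} {r' : X' ⟶ Y} (hr : g ≫ r = r')
    {G : Y.Modules} {M : X.Modules} {M' : X'.Modules} (c : G ⟶ (Scheme.Modules.pushforward r).obj M)
    (β : M ⟶ (Scheme.Modules.pushforward g).obj M') :
    ∃ k : (Scheme.Modules.pullback r').obj G ≅ (Scheme.Modules.pullback g).obj ((Scheme.Modules.pullback r).obj G),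
    ((Scheme.Modules.pullbackPushforwardAdjunction r').homEquiv G M').symm
        (c ≫ (Scheme.Modules.pushforward r).map β ≫ (Scheme.Modules.pushforwardComp g r).hom.app M' ≫
          (Scheme.Modules.pushforwardCongr hr).hom.app M') =
      k.hom ≫ (Scheme.Modules.pullback g).map
        (((Scheme.Modules.pullbackPushforwardAdjunction r).homEquiv G M).symm c) ≫
        ((Scheme.Modules.pullbackPushforwardAdjunction g).homEquiv M M').symm β := by
  subst hr
  let adr := Scheme.Modules.pullbackPushforwardAdjunction r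
  let adg := Scheme.Modules.pullbackPushforwardAdjunction g
  let adT := adr.comp adg
  let ad' := Scheme.Modules.pullbackPushforwardAdjunction (g ≫ r)
  let a := (adr.homEquiv G M).symm c
  let b := (adg.homEquiv M M').symm β
  have hcong : (Scheme.Modules.pushforwardCongr (rfl : g ≫ r = g ≫ r)).hom.app M' = 𝟙 _ := by
    apply Scheme.Modules.hom_ext
    intro U
    rw [Scheme.Modules.pushforwardCongr_hom_app_app, Scheme.Modules.Hom.id_app]
    exact M'.presheaf.map_id _
  refine ⟨((Scheme.Modules.pullbackComp g r).app G).symm, ?_⟩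
  rw [hcong, Category.comp_id, Equiv.symm_apply_eq]
  have h1 : adT.homEquiv G M' ((Scheme.Modules.pullback g).map a ≫ b) =
      c ≫ (Scheme.Modules.pushforward r).map β := by
    simp only [adT, Adjunction.comp_homEquiv]
    show adr.homEquiv G _ (adg.homEquiv _ M' ((Scheme.Modules.pullback g).map a ≫ b)) = _
    rw [Adjunction.homEquiv_naturality_left, Equiv.apply_symm_apply, Adjunction.homEquiv_naturality_right,
      Equiv.apply_symm_apply]
  have h2 := unit_conjugateEquiv adT ad' (Scheme.Modules.pullbackComp g r).inv G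
  rw [Scheme.Modules.conjugateEquiv_pullbackComp_inv] at h2
  rw [← Category.assoc, ← h1, Adjunction.homEquiv_unit, Adjunction.homEquiv_unit, (Scheme.Modules.pushforward (g ≫ r)).map_comp,
    ← Category.assoc (ad'.unit.app G), Iso.symm_hom, Iso.app_inv, ← h2, Category.assoc, Category.assoc]
  congr 1

variable {S : Scheme.{u}} {𝒵 : BasedCategory.{v, w} (Over S)} {X : Scheme.{u}}
  (u₀ : ∀ z : 𝒵.obj, StMod.sch 𝒵 z ⟶ X)
  (nat : ∀ {z' z : 𝒵.obj} (φ : z' ⟶ z), StMod.bmap 𝒵 φ ≫ u₀ z = u₀ z') (G : X.Modules)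

/-- The value of the inverse image at an object. -/
abbrev sliceObj (z : 𝒵.obj) : (StMod.sch 𝒵 z).Modules := (Scheme.Modules.pullback (u₀ z)).obj G

/-- The canonical map of sections into the inverse image at an object. -/
abbrev sliceUnit (z : 𝒵.obj) : G ⟶ (Scheme.Modules.pushforward (u₀ z)).obj (sliceObj u₀ G z) :=
  (Scheme.Modules.pullbackPushforwardAdjunction (u₀ z)).unit.app G

include nat in
theorem slice_nat {z' z : 𝒵.obj} {φ : z' ⟶ z} {g : StMod.sch 𝒵 z' ⟶ StMod.sch 𝒵 z}
    (hg : StMod.bmap 𝒵 φ = g) : g ≫ u₀ z = u₀ z' := by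
  subst hg; exact nat φ

/-- The comparison map of the inverse images. -/
def sliceMap {z' z : 𝒵.obj} (g : StMod.sch 𝒵 z' ⟶ StMod.sch 𝒵 z) (hr : g ≫ u₀ z = u₀ z') :
    sliceObj u₀ G z ⟶ (Scheme.Modules.pushforward g).obj (sliceObj u₀ G z') :=
  ((Scheme.Modules.pullbackPushforwardAdjunction (u₀ z)).homEquiv _ _).symm
    (sliceUnit u₀ G z' ≫ (Scheme.Modules.pushforwardCongr hr.symm).hom.app _ ≫
      (Scheme.Modules.pushforwardComp g (u₀ z)).inv.app _)

theorem unit_sliceMap {z' z : 𝒵.obj} (g : StMod.sch 𝒵 z' ⟶ StMod.sch 𝒵 z) (hr : g ≫ u₀ z = u₀ z') :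
    sliceUnit u₀ G z ≫ (Scheme.Modules.pushforward (u₀ z)).map (sliceMap u₀ G g hr) =
      sliceUnit u₀ G z' ≫ (Scheme.Modules.pushforwardCongr hr.symm).hom.app _ ≫
        (Scheme.Modules.pushforwardComp g (u₀ z)).inv.app _ := by
  rw [← Adjunction.homEquiv_unit]
  exact Equiv.apply_symm_apply _ _

theorem slice_le {z' z : 𝒵.obj} (g : StMod.sch 𝒵 z' ⟶ StMod.sch 𝒵 z) (hr : g ≫ u₀ z = u₀ z')
    (V : X.Opens) : g ⁻¹ᵁ (u₀ z ⁻¹ᵁ V) ≤ u₀ z' ⁻¹ᵁ V :=
  (show g ⁻¹ᵁ (u₀ z ⁻¹ᵁ V) = u₀ z' ⁻¹ᵁ V from congr($hr ⁻¹ᵁ V)).le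

theorem sliceMap_app_unit {z' z : 𝒵.obj} (g : StMod.sch 𝒵 z' ⟶ StMod.sch 𝒵 z) (hr : g ≫ u₀ z = u₀ z')
    (V : X.Opens) (s : Γ(G, V)) :
    (sliceMap u₀ G g hr).app (u₀ z ⁻¹ᵁ V) ((sliceUnit u₀ G z).app V s) =
      res (sliceObj u₀ G z') (slice_le u₀ g hr V)
        ((sliceUnit u₀ G z').app V s) := by
  have h := congr(($(unit_sliceMap u₀ G g hr)).app V s)
  refine h.trans ?_
  simp only [Scheme.Modules.Hom.comp_app, Scheme.Modules.pushforwardCongr_hom_app_app,
    Scheme.Modules.pushforwardComp_inv_app_app]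
  rfl

/-- The inverse images of `G` as a module on the category. -/
def sliceMod : StMod.Mod 𝒵 where
  obj z := sliceObj u₀ G z
  map φ g hg := sliceMap u₀ G g (slice_nat u₀ nat hg)
  map_id z := by
    apply ((Scheme.Modules.pullbackPushforwardAdjunction (u₀ z)).homEquiv _ _).injective
    rw [Adjunction.homEquiv_unit, Adjunction.homEquiv_unit]
    refine Scheme.Modules.hom_ext _ _ fun V => ?_
    simp only [CategoryTheory.Functor.map_id, Functor.map_comp, Scheme.Modules.Hom.comp_app,
      Scheme.Modules.pushforward_map_app, Scheme.Modules.pushforwardId_hom_app_app]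
    ext s
    have h1 := sliceMap_app_unit u₀ G (𝟙 _) (Category.id_comp (u₀ z)) V s
    exact h1.trans (res_self _ _ _)
  map_comp {z'' z' z} ψ φ h g hh hg := by
    apply ((Scheme.Modules.pullbackPushforwardAdjunction (u₀ z)).homEquiv _ _).injective
    rw [Adjunction.homEquiv_unit, Adjunction.homEquiv_unit]
    refine Scheme.Modules.hom_ext _ _ fun V => ?_
    simp only [Functor.map_comp, Scheme.Modules.Hom.comp_app, Scheme.Modules.pushforward_map_app,
      Scheme.Modules.pushforwardComp_hom_app_app]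
    ext s
    have hr := slice_nat u₀ nat hg
    have hr' := slice_nat u₀ nat hh
    have hr'' : (h ≫ g) ≫ u₀ z = u₀ z'' := by rw [Category.assoc, hr, hr']
    have h0 := sliceMap_app_unit u₀ G (h ≫ g) hr'' V s
    have h1 := sliceMap_app_unit u₀ G h hr' V s
    have h2 := sliceMap_app_unit u₀ G g hr V s
    simp only [CategoryTheory.comp_apply]
    refine h0.trans ?_
    refine Eq.trans ?_ (congrArg ((sliceMap u₀ G h hr').app (g ⁻¹ᵁ (u₀ z ⁻¹ᵁ V))) h2).symm
    refine Eq.trans ?_ (app_res (sliceMap u₀ G h hr') (slice_le u₀ g hr V) _)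
    refine Eq.trans ?_ (congrArg (res _ (slice_le u₀ g hr V)) h1).symm
    exact (res_res _ (show (h ≫ g) ⁻¹ᵁ (u₀ z ⁻¹ᵁ V) ≤ h ⁻¹ᵁ (u₀ z' ⁻¹ᵁ V) from
      h.preimage_mono (slice_le u₀ g hr V)) (slice_le u₀ h hr' V) _).symm

include nat in
theorem isCartesian_sliceMod : (sliceMod u₀ nat G).IsCartesian := by
  intro z' z φ g hg
  have hr := slice_nat u₀ nat hg
  obtain ⟨k, hk⟩ := symm_comp_eq hr (sliceUnit u₀ G z) (sliceMap u₀ G g hr)
  have e : sliceUnit u₀ G z ≫ (Scheme.Modules.pushforward (u₀ z)).map (sliceMap u₀ G g hr) ≫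
      (Scheme.Modules.pushforwardComp g (u₀ z)).hom.app _ ≫ (Scheme.Modules.pushforwardCongr hr).hom.app _ =
      sliceUnit u₀ G z' := by
    rw [← Category.assoc, unit_sliceMap]
    refine Scheme.Modules.hom_ext _ _ fun V => ?_
    ext s
    simp only [Scheme.Modules.Hom.comp_app, Scheme.Modules.pushforwardCongr_hom_app_app,
      Scheme.Modules.pushforwardComp_inv_app_app, Scheme.Modules.pushforwardComp_hom_app_app]
    exact (res_res _ _ _ _).trans (res_self _ _ _)
  have hid : ∀ {Y : Scheme.{u}} (r : Y ⟶ X),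
      ((Scheme.Modules.pullbackPushforwardAdjunction r).homEquiv G ((Scheme.Modules.pullback r).obj G)).symm
        ((Scheme.Modules.pullbackPushforwardAdjunction r).unit.app G) = 𝟙 _ := fun r => by
    rw [Equiv.symm_apply_eq]
    exact (Adjunction.homEquiv_id _ G).symm
  rw [e, hid, hid, CategoryTheory.Functor.map_id, Category.id_comp] at hk
  show IsIso (((Scheme.Modules.pullbackPushforwardAdjunction g).homEquiv _ _).symm (sliceMap u₀ G g hr))
  have h' : ((Scheme.Modules.pullbackPushforwardAdjunction g).homEquiv _ _).symm (sliceMap u₀ G g hr) = k.inv := by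
    rw [← cancel_epi k.hom, Iso.hom_inv_id]
    exact hk.symm
  rw [h']
  infer_instance

/-- The inverse images of a quasi-coherent module as a quasi-coherent module on the category. -/
def sliceQ (hG : Coh.IsQCoh G) : StMod.QCoh 𝒵 :=
  ⟨sliceMod u₀ nat G, isCartesian_sliceMod u₀ nat G, fun z => isQCoh_pullback (u₀ z) hG⟩

/-- Along an isomorphism the canonical map is an isomorphism. -/
theorem isIso_sliceUnit (z : 𝒵.obj) [IsIso (u₀ z)] : IsIso (sliceUnit u₀ G z) := by
  have : (Scheme.Modules.pushforward (u₀ z)).IsEquivalence := by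
    refine CategoryTheory.Functor.IsEquivalence.mk' (Scheme.Modules.pushforward (inv (u₀ z))) ?_ ?_
    · exact (Scheme.Modules.pushforwardId _).symm ≪≫ (Scheme.Modules.pushforwardCongr (by simp)) ≪≫
        (Scheme.Modules.pushforwardComp (u₀ z) (inv (u₀ z))).symm
    · exact Scheme.Modules.pushforwardComp (inv (u₀ z)) (u₀ z) ≪≫ Scheme.Modules.pushforwardCongr (by simp) ≪≫
        Scheme.Modules.pushforwardId _
  haveI := (Scheme.Modules.pullbackPushforwardAdjunction (u₀ z)).isEquivalence_left_of_isEquivalence_right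
  infer_instance

end Groth.Agent.RelGen
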