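import Mathlib
import Groth.Agent.RelGen.Slice
import Groth.Agent.RelGen.FlatKill
import Groth.Agent.ModDesc.Descent

/-!
# Modules on the affine objects compatible with flat base change, and the quasi-coherent modules they define on slices
-/

universe u

open CategoryTheory CategoryTheory.Limits AlgebraicGeometry TopologicalSpace Opposite TensorProduct

set_option autoImplicit false
set_option backward.isDefEq.respectTransparency false
set_option backward.isDefEq.respectTransparency.types false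
set_option linter.style.haveILetI false

noncomputable section

namespace Groth.Agent.RelGen

open Groth.Agent.QC Groth.Agent.QDescent

variable {S : Scheme.{u}}

section Lin

variable {𝒵 : AlgSt.Cat S} (F : StMod.QCoh 𝒵) {x' x : 𝒵.obj} (φ : x' ⟶ x)

theorem appLE_top_eq :
    (StMod.bmap 𝒵 φ).appLE ⊤ ⊤ (top_le φ) = (StMod.bmap 𝒵 φ).appTop :=
  (Scheme.Hom.appLE_eq_app (StMod.bmap 𝒵 φ) :)

/-- A semilinear map of global sections on an affine object extends linearly to an affine object below, bijectively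
when its base change is bijective. -/
theorem exists_lin [IsAffine (StMod.sch 𝒵 x)] [IsAffine (StMod.sch 𝒵 x')] {P : Type u} [AddCommGroup P]
    [Module Γ(StMod.sch 𝒵 x', ⊤) P] (f : Γ(F.obj.obj x, ⊤) →+ P)
    (hf : ∀ (r : Γ(StMod.sch 𝒵 x, ⊤)) s, f (r • s) = (StMod.bmap 𝒵 φ).appTop.hom r • f s) :
    ∃ l : Γ(F.obj.obj x', ⊤) →ₗ[Γ(StMod.sch 𝒵 x', ⊤)] P, (∀ s, l (trT F.obj φ s) = f s) ∧
      ∀ (bc : (letI := (StMod.bmap 𝒵 φ).appTop.hom.toAlgebra;
          Γ(StMod.sch 𝒵 x', ⊤) ⊗[Γ(StMod.sch 𝒵 x, ⊤)] Γ(F.obj.obj x, ⊤)) →+ P),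
        (∀ b s, letI := (StMod.bmap 𝒵 φ).appTop.hom.toAlgebra
          bc (b ⊗ₜ[Γ(StMod.sch 𝒵 x, ⊤)] s) = b • f s) →
        Function.Bijective bc → Function.Bijective l := by
  rw [← appLE_top_eq φ] at hf ⊢
  letI : Algebra Γ(StMod.sch 𝒵 x, ⊤) Γ(StMod.sch 𝒵 x', ⊤) :=
    ((StMod.bmap 𝒵 φ).appLE ⊤ ⊤ (top_le φ)).hom.toAlgebra
  obtain ⟨Φ, hΦ⟩ := exists_bijective_tr F φ (isAffineOpen_top (StMod.sch 𝒵 x))
    (isAffineOpen_top (StMod.sch 𝒵 x')) (top_le φ)
  letI : Module Γ(StMod.sch 𝒵 x, ⊤) P := Module.compHom P ((StMod.bmap 𝒵 φ).appLE ⊤ ⊤ (top_le φ)).hom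
  haveI : IsScalarTower Γ(StMod.sch 𝒵 x, ⊤) Γ(StMod.sch 𝒵 x', ⊤) P :=
    IsScalarTower.of_algebraMap_smul fun _ _ => rfl
  let m : Γ(F.obj.obj x, ⊤) →ₗ[Γ(StMod.sch 𝒵 x, ⊤)] P := { f with map_smul' := hf }
  let M' := m.liftBaseChange Γ(StMod.sch 𝒵 x', ⊤)
  refine ⟨M'.comp Φ.symm.toLinearMap, fun s => ?_, fun bc hbc hb => ?_⟩
  · show M' (Φ.symm (trT F.obj φ s)) = f s
    rw [show trT F.obj φ s = Φ (1 ⊗ₜ s) from (hΦ s).symm, LinearEquiv.symm_apply_apply, LinearMap.liftBaseChange_tmul,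
      one_smul]
    rfl
  · have e : M'.toAddMonoidHom = bc := by
      refine AddMonoidHom.ext fun z => ?_
      induction z using TensorProduct.induction_on with
      | zero => rw [map_zero, map_zero]
      | add a b ha hb => rw [map_add, map_add, ha, hb]
      | tmul b s => exact (LinearMap.liftBaseChange_tmul _ _ _ _).trans (hbc b s).symm
    have hM : Function.Bijective M' := by
      have h1 := hb
      rw [← e] at h1
      exact h1
    exact hM.comp Φ.symm.bijective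

variable {F φ}

theorem lin_ext [IsAffine (StMod.sch 𝒵 x)] [IsAffine (StMod.sch 𝒵 x')] {P : Type u} [AddCommGroup P]
    [Module Γ(StMod.sch 𝒵 x', ⊤) P] {a b : Γ(F.obj.obj x', ⊤) →+ P}
    (ha : ∀ (r : Γ(StMod.sch 𝒵 x', ⊤)) s, a (r • s) = r • a s)
    (hb : ∀ (r : Γ(StMod.sch 𝒵 x', ⊤)) s, b (r • s) = r • b s)
    (h : ∀ s, a (trT F.obj φ s) = b (trT F.obj φ s)) : a = b := by
  refine AddMonoidHom.ext fun t => ?_
  refine top_induction F φ (p := fun t => a t = b t) (by rw [map_zero, map_zero])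
    (fun c d hc hd => by rw [map_add, map_add, hc, hd]) (fun r s => by rw [ha, hb, h]) t

end Lin

/-- The objects over affine schemes. -/
structure AObj (Q : AlgSt.Cat S) where
  /-- the object -/
  obj : Q.obj
  aff : IsAffine (StMod.sch Q obj)

instance {Q : AlgSt.Cat S} (A : AObj Q) : IsAffine (StMod.sch Q A.obj) := A.aff

/-- Modules on the affine objects, with transition maps along all morphisms. -/
structure AffMod (Q : AlgSt.Cat S) where
  /-- the modules -/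
  ob : ∀ A : AObj Q, ModuleCat.{u} Γ(StMod.sch Q A.obj, ⊤)
  /-- the transition maps -/
  r : ∀ {A' A : AObj Q}, (A'.obj ⟶ A.obj) → (ob A →+ ob A')
  r_smul : ∀ {A' A : AObj Q} (g : A'.obj ⟶ A.obj) (b : Γ(StMod.sch Q A.obj, ⊤)) (n : ob A),
    r g (b • n) = (StMod.bmap Q g).appTop.hom b • r g n
  r_id : ∀ (A : AObj Q) (n : ob A), r (𝟙 A.obj) n = n
  r_comp : ∀ {A'' A' A : AObj Q} (h : A''.obj ⟶ A'.obj) (g : A'.obj ⟶ A.obj) (n : ob A),
    r (h ≫ g) n = r h (r g n)

namespace AffMod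

variable {Q : AlgSt.Cat S} (N : AffMod Q)

/-- The base change map along a morphism. -/
def bcm {A' A : AObj Q} (g : A'.obj ⟶ A.obj) :
    (letI := (StMod.bmap Q g).appTop.hom.toAlgebra;
      Γ(StMod.sch Q A'.obj, ⊤) ⊗[Γ(StMod.sch Q A.obj, ⊤)] N.ob A) →+ N.ob A' :=
  letI := (StMod.bmap Q g).appTop.hom.toAlgebra
  TensorProduct.liftAddHom
    (AddMonoidHom.mk' (fun b => AddMonoidHom.mk' (fun n => b • N.r g n) fun n n' => by rw [map_add, smul_add])
      fun b b' => AddMonoidHom.ext fun n => add_smul b b' _)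
    fun a b n => by
      show ((StMod.bmap Q g).appTop.hom a * b) • N.r g n = b • N.r g (a • n)
      rw [N.r_smul, smul_smul, mul_comm]

/-- Compatibility with flat base change. -/
def IsBC : Prop :=
  ∀ {A' A : AObj Q} (g : A'.obj ⟶ A.obj), Flat (StMod.bmap Q g) → Function.Bijective (N.bcm g)

/-- The category of objects over an object. -/
abbrev Sl (a : Q.obj) : AlgSt.Cat S := StMod.fibCat (BasedFunctor.id Q) a

/-- The top object. -/
abbrev tp (a : Q.obj) : (Sl a).obj := CostructuredArrow.mk (𝟙 a)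

/-- The morphism to the top object. -/
abbrev toTp {a : Q.obj} (w : (Sl a).obj) : w ⟶ tp a := CostructuredArrow.homMk w.hom (Category.comp_id _)

instance (A : AObj Q) : IsAffine (StMod.sch (Sl A.obj) (tp A.obj)) := A.aff

/-- An object of the slice over an affine scheme as an affine object. -/
abbrev sob {a : Q.obj} (w : (Sl a).obj) (hw : IsAffine (StMod.sch (Sl a) w)) : AObj Q := ⟨w.left, hw⟩

theorem comp_toTp {a : Q.obj} {w' w : (Sl a).obj} (c : w' ⟶ w) : c ≫ toTp w = toTp w' :=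
  CostructuredArrow.hom_ext _ _ (CostructuredArrow.w c)

theorem exists_T (A : AObj Q) :
    ∃ (T : StMod.QCoh (Sl A.obj)) (ε : N.ob A ≃+ Γ(T.obj.obj (tp A.obj), ⊤)),
      ∀ (b : Γ(StMod.sch Q A.obj, ⊤)) n, ε (b • n) = (show Γ(StMod.sch (Sl A.obj) (tp A.obj), ⊤) from b) • ε n := by
  haveI := A.aff
  obtain ⟨G, hG, ⟨e⟩⟩ := ModDesc.exists_qcoh_sections (isAffineOpen_top (StMod.sch Q A.obj)) (N.ob A)
  let u₀ : ∀ w : (Sl A.obj).obj, StMod.sch (Sl A.obj) w ⟶ StMod.sch Q A.obj := fun w => StMod.bmap Q w.hom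
  have nat : ∀ {w' w : (Sl A.obj).obj} (c : w' ⟶ w), StMod.bmap (Sl A.obj) c ≫ u₀ w = u₀ w' := fun {w' w} c => by
    refine (StMod.bmap_comp c.left w.hom).symm.trans ?_
    exact congrArg (StMod.bmap Q) (CostructuredArrow.w c)
  have hid : u₀ (tp A.obj) = 𝟙 (StMod.sch Q A.obj) := StMod.bmap_id A.obj
  haveI : IsIso (u₀ (tp A.obj)) := by rw [hid]; exact inferInstanceAs (IsIso (𝟙 (StMod.sch Q A.obj)))
  haveI := isIso_sliceUnit u₀ G (tp A.obj)
  refine ⟨sliceQ u₀ nat G hG, e.symm.toAddEquiv.trans (AddEquiv.ofBijective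
    ((sliceUnit u₀ G (tp A.obj)).app ⊤).hom
    (ConcreteCategory.bijective_of_isIso ((sliceUnit u₀ G (tp A.obj)).app ⊤))), fun b n => ?_⟩
  refine (congrArg ((sliceUnit u₀ G (tp A.obj)).app ⊤) (e.symm.map_smul b n)).trans ?_
  refine (Scheme.Modules.Hom.app_smul _ b _).trans ?_
  let y : Γ((sliceQ u₀ nat G hG).obj.obj (tp A.obj), ⊤) := (sliceUnit u₀ G (tp A.obj)).app ⊤ (e.symm n)
  have hb : (u₀ (tp A.obj)).appTop.hom b = (show Γ(StMod.sch (Sl A.obj) (tp A.obj), ⊤) from b) := by rw [hid]; rfl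
  exact congrArg (· • y) hb

/-- The quasi-coherent module on the slice over an affine object. -/
def T (A : AObj Q) : StMod.QCoh (Sl A.obj) := (N.exists_T A).choose

/-- Its sections at the top. -/
def eps (A : AObj Q) : N.ob A ≃+ Γ((N.T A).obj.obj (tp A.obj), ⊤) := (N.exists_T A).choose_spec.choose

theorem eps_smul (A : AObj Q) (b : Γ(StMod.sch Q A.obj, ⊤)) (n : N.ob A) :
    N.eps A (b • n) = (show Γ(StMod.sch (Sl A.obj) (tp A.obj), ⊤) from b) • N.eps A n :=
  (N.exists_T A).choose_spec.choose_spec b n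

theorem eps_symm_smul (A : AObj Q) (b : Γ(StMod.sch (Sl A.obj) (tp A.obj), ⊤))
    (s : Γ((N.T A).obj.obj (tp A.obj), ⊤)) :
    (N.eps A).symm (b • s) = (show Γ(StMod.sch Q A.obj, ⊤) from b) • (N.eps A).symm s := by
  refine (N.eps A).injective ?_
  rw [AddEquiv.apply_symm_apply, N.eps_smul, AddEquiv.apply_symm_apply]

theorem exists_kap (A : AObj Q) (w : (Sl A.obj).obj) (hw : IsAffine (StMod.sch (Sl A.obj) w)) :
    ∃ l : Γ((N.T A).obj.obj w, ⊤) →+ N.ob (sob w hw),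
      (∀ (b : Γ(StMod.sch (Sl A.obj) w, ⊤)) s, l (b • s) = (show Γ(StMod.sch Q w.left, ⊤) from b) • l s) ∧
      (∀ n, l (trT (N.T A).obj (toTp w) (N.eps A n)) = N.r (A' := sob w hw) w.hom n) ∧
      (N.IsBC → Flat (StMod.bmap Q w.hom) → Function.Bijective l) := by
  haveI := hw
  letI : Module Γ(StMod.sch (Sl A.obj) w, ⊤) (N.ob (sob w hw)) :=
    inferInstanceAs (Module Γ(StMod.sch Q w.left, ⊤) (N.ob (sob w hw)))
  let f : Γ((N.T A).obj.obj (tp A.obj), ⊤) →+ N.ob (sob w hw) :=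
    (N.r (A' := sob w hw) w.hom).comp (N.eps A).symm.toAddMonoidHom
  have hf : ∀ (b : Γ(StMod.sch (Sl A.obj) (tp A.obj), ⊤)) s,
      f (b • s) = (StMod.bmap (Sl A.obj) (toTp w)).appTop.hom b • f s := fun b s =>
    (congrArg (N.r (A' := sob w hw) w.hom) (N.eps_symm_smul A b s)).trans (N.r_smul _ _ _)
  obtain ⟨l, hl, hlb⟩ := exists_lin (N.T A) (toTp w) f hf
  refine ⟨l.toAddMonoidHom, fun b s => l.map_smul b s,
    fun n => (hl _).trans (congrArg (N.r (A' := sob w hw) w.hom) ((N.eps A).symm_apply_apply n)), fun hN hfl => ?_⟩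
  letI : Algebra Γ(StMod.sch Q A.obj, ⊤) Γ(StMod.sch Q (sob w hw).obj, ⊤) :=
    (StMod.bmap Q (show (sob w hw).obj ⟶ A.obj from w.hom)).appTop.hom.toAlgebra
  letI : Module Γ(StMod.sch Q A.obj, ⊤) Γ((N.T A).obj.obj (tp A.obj), ⊤) :=
    inferInstanceAs (Module Γ(StMod.sch (Sl A.obj) (tp A.obj), ⊤) Γ((N.T A).obj.obj (tp A.obj), ⊤))
  let εl : Γ((N.T A).obj.obj (tp A.obj), ⊤) ≃ₗ[Γ(StMod.sch Q A.obj, ⊤)] N.ob A :=
    { (N.eps A).symm with map_smul' := N.eps_symm_smul A }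
  let Ψ := LinearEquiv.lTensor Γ(StMod.sch Q (sob w hw).obj, ⊤) εl
  refine hlb ((N.bcm (A' := sob w hw) w.hom).comp Ψ.toAddEquiv.toAddMonoidHom) (fun b s => ?_)
    ((hN (A' := sob w hw) w.hom hfl).comp Ψ.bijective)
  rfl

/-- The comparison with the modules on the affine objects. -/
def kap (A : AObj Q) (w : (Sl A.obj).obj) (hw : IsAffine (StMod.sch (Sl A.obj) w)) :
    Γ((N.T A).obj.obj w, ⊤) →+ N.ob (sob w hw) :=
  (N.exists_kap A w hw).choose

variable (A : AObj Q)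

theorem kap_smul (w : (Sl A.obj).obj) (hw : IsAffine (StMod.sch (Sl A.obj) w))
    (b : Γ(StMod.sch (Sl A.obj) w, ⊤)) (s : Γ((N.T A).obj.obj w, ⊤)) :
    N.kap A w hw (b • s) = (show Γ(StMod.sch Q w.left, ⊤) from b) • N.kap A w hw s :=
  (N.exists_kap A w hw).choose_spec.1 b s

theorem kap_gen (w : (Sl A.obj).obj) (hw : IsAffine (StMod.sch (Sl A.obj) w)) (n : N.ob A) :
    N.kap A w hw (trT (N.T A).obj (toTp w) (N.eps A n)) = N.r (A' := sob w hw) w.hom n :=
  (N.exists_kap A w hw).choose_spec.2.1 n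

theorem kap_bijective (hN : N.IsBC) (w : (Sl A.obj).obj) (hw : IsAffine (StMod.sch (Sl A.obj) w))
    (hfl : Flat (StMod.bmap Q w.hom)) : Function.Bijective (N.kap A w hw) :=
  (N.exists_kap A w hw).choose_spec.2.2 hN hfl

theorem kap_tp (n : N.ob A) : N.kap A (tp A.obj) A.aff (N.eps A n) = n := by
  have h := N.kap_gen A (tp A.obj) A.aff n
  have e : toTp (tp A.obj) = 𝟙 (tp A.obj) := CostructuredArrow.hom_ext _ _ rfl
  rw [trT_congr (N.T A).obj e, trT_id] at h
  exact h.trans (N.r_id A n)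

theorem kap_nat {w' w : (Sl A.obj).obj} (hw' : IsAffine (StMod.sch (Sl A.obj) w'))
    (hw : IsAffine (StMod.sch (Sl A.obj) w)) (c : w' ⟶ w) (s : Γ((N.T A).obj.obj w, ⊤)) :
    N.kap A w' hw' (trT (N.T A).obj c s) = N.r (A' := sob w' hw') (A := sob w hw) c.left (N.kap A w hw s) := by
  haveI := hw'
  haveI := hw
  refine top_induction (N.T A) (toTp w) (p := fun s => N.kap A w' hw' (trT (N.T A).obj c s) =
    N.r (A' := sob w' hw') (A := sob w hw) c.left (N.kap A w hw s)) (by simp) (fun a b ha hb => ?_) (fun b t => ?_) s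
  · rw [map_add, map_add, map_add, map_add, ha, hb]
  · rw [trT_smul, N.kap_smul, trT_comp, trT_congr (N.T A).obj (comp_toTp c), N.kap_smul]
    obtain ⟨n, rfl⟩ := (N.eps A).surjective t
    rw [N.kap_gen, N.kap_gen, N.r_smul]
    refine congrArg _ ?_
    rw [← N.r_comp]
    exact congrArg (fun g => N.r (A' := sob w' hw') g n) (CostructuredArrow.w c).symm

/-- The modules are separated for jointly surjective flat families. -/
theorem sep (hN : N.IsBC) (n : N.ob A)
    (h : ∀ t : StMod.sch Q A.obj, ∃ (A' : AObj Q) (g : A'.obj ⟶ A.obj), Flat (StMod.bmap Q g) ∧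
      t ∈ Set.range (StMod.bmap Q g).base ∧ N.r g n = 0) : n = 0 := by
  have h0 : N.eps A n = 0 := by
    refine eq_zero_of_flat_hits (N.T A) (x := tp A.obj) (N.eps A n) fun t => ?_
    obtain ⟨A', g, hg, ht, hn⟩ := h t
    let w : (Sl A.obj).obj := CostructuredArrow.mk g
    refine ⟨w, toTp w, A'.aff, hg, ht, (N.kap_bijective A hN w A'.aff hg).1 ?_⟩
    rw [map_zero, N.kap_gen]
    exact hn
  exact (N.eps A).injective (h0.trans (map_zero _).symm)

end AffMod

end Groth.Agent.RelGen
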