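import Mathlib
import Groth.Agent.RelGen.Pairs
import Groth.Agent.RelGen.Lift
import Groth.Agent.DenseLiftQC.Stack
import Groth.Agent.AlgStLib.Points

/-!
# The category over an affine object through a flat representable functor
-/

universe u

open CategoryTheory CategoryTheory.Limits AlgebraicGeometry TopologicalSpace Opposite

set_option autoImplicit false
set_option backward.isDefEq.respectTransparency false
set_option backward.isDefEq.respectTransparency.types false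
set_option linter.style.haveILetI false

noncomputable section

namespace Groth.Agent.RelGen

open Groth.Agent.QDescent Groth.Agent.AlgSpLib Groth.Agent.AlgStLib Groth.Agent.FibCatRep
open _root_.AlgSp _root_.AlgSt

variable {S : Scheme.{u}} {𝒳 𝒵 : AlgSt.Cat S}

theorem back_pt {A B C : Scheme.{u}} (h : A = B) (h' : B = C) (h'' : C = A) (t : A) :
    (eqToHom h'').base ((eqToHom h').base ((eqToHom h).base t)) = t := by
  subst h h'
  simp

theorem bmap_morTo {U : Over S} {y : Stk.ofPsh ((pyon S).obj U) ⥤ᵇ 𝒵} {π : 𝒳 ⥤ᵇ 𝒵} {o : 𝒵.obj}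
    (i : y.obj (pt U) ≅ o) {hi : 𝒵.p.obj (y.obj (pt U)) = 𝒵.p.obj o} (hi' : 𝒵.p.map i.hom = eqToHom hi)
    (k : (FibCat.fp y π).obj) :
    ∃ (h : 𝒵.p.obj (π.obj k.obj.snd) = k.obj.fst.base) (h' : U = 𝒵.p.obj o),
      𝒵.p.map (morTo i k) = eqToHom h ≫ k.obj.fst.sec.down ≫ eqToHom h' := by
  have hk : 𝒵.p.IsHomLift (𝟙 k.obj.fst.base) k.obj.iso.hom := k.property
  have h₁ : 𝒵.p.obj (π.obj k.obj.snd) = k.obj.fst.base := IsHomLift.codomain_eq 𝒵.p (𝟙 k.obj.fst.base) k.obj.iso.hom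
  refine ⟨h₁, (y.w_obj (pt U)).symm.trans hi, ?_⟩
  have h₂ : 𝒵.p.map k.obj.iso.hom = eqToHom ((y.w_obj k.obj.fst).trans h₁.symm) := by
    rw [IsHomLift.fac' 𝒵.p (𝟙 k.obj.fst.base) k.obj.iso.hom]
    simp
  have h₃ : 𝒵.p.map k.obj.iso.inv = eqToHom (((y.w_obj k.obj.fst).trans h₁.symm).symm) := map_inv k.obj.iso h₂
  have h₄ : 𝒵.p.map (y.map (ptHom k.obj.fst)) =
      eqToHom (y.w_obj k.obj.fst) ≫ k.obj.fst.sec.down ≫ eqToHom (y.w_obj (pt U)).symm :=
    map_map y (ptHom k.obj.fst)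
  rw [morTo, Functor.map_comp, Functor.map_comp, h₃, h₄, hi']
  simp
where
  map_inv {a b : 𝒵.obj} (e : a ≅ b) {h : 𝒵.p.obj a = 𝒵.p.obj b} (he : 𝒵.p.map e.hom = eqToHom h) :
      𝒵.p.map e.inv = eqToHom h.symm := by
    rw [← cancel_epi (eqToHom h), eqToHom_trans, eqToHom_refl, ← he, ← Functor.map_comp, Iso.hom_inv_id,
      CategoryTheory.Functor.map_id]

/-- The category over an affine object through a flat representable functor is covered by affine objects, flat over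
it, any two of which meet in affine objects flat over one of them. -/
theorem exists_roof (h𝒳 : FibCat.IsFibGrpd 𝒳.p) (h𝒵 : FibCat.IsFibGrpd 𝒵.p) (π : 𝒳 ⥤ᵇ 𝒵)
    (hπ : RepByAlgSpWith (LocP @Flat) π) (o : 𝒵.obj) :
    ∃ (K : Type u) (z : K → (StMod.fibCat π o).obj),
      (∀ k, IsAffine (StMod.sch (StMod.fibCat π o) (z k))) ∧ (∀ k, Flat (StMod.bmap 𝒵 (z k).hom)) ∧
      (∀ (w : (StMod.fibCat π o).obj) (t : StMod.sch (StMod.fibCat π o) w),
        ∃ (w' : (StMod.fibCat π o).obj) (φ : w' ⟶ w) (k : K), Hits φ t ∧ Nonempty (w' ⟶ z k)) ∧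
      ∀ (k : K) (z' x : (StMod.fibCat π o).obj) (e : x ⟶ z') (v : x ⟶ z k)
        (t : StMod.sch (StMod.fibCat π o) x),
        ∃ (x' : (StMod.fibCat π o).obj) (φ : x' ⟶ x) (z₀ : (StMod.fibCat π o).obj) (h : z₀ ⟶ z') (g : z₀ ⟶ z k)
          (l : x' ⟶ z₀), Hits φ t ∧ IsAffine (StMod.sch (StMod.fibCat π o) z₀) ∧
          Flat (StMod.bmap (StMod.fibCat π o) h) ∧ l ≫ h = φ ≫ e ∧ l ≫ g = φ ≫ v := by
  haveI := DenseLiftQC.respectsIso_locP (S := S) @Flat
  obtain ⟨y, i, hi⟩ := exists_point h𝒵 o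
  obtain ⟨P, e, he, hsh, halg, hflat⟩ := (AlgStLib.repWith_iff _ π).1 hπ _ y
  let F : Sp S := ⟨P, hsh⟩
  -- the functor to the category over `o`
  let G : (Stk.ofPsh P).obj → (StMod.fibCat π o).obj := fun a => CostructuredArrow.mk (morTo i (e.obj a))
  let Gm : ∀ {a b : (Stk.ofPsh P).obj}, (a ⟶ b) → (G a ⟶ G b) := fun {a b} r =>
    CostructuredArrow.homMk (e.map r).hom.snd (map_morTo i (e.map r))
  have Gm_comp : ∀ {a b c : (Stk.ofPsh P).obj} (r : a ⟶ b) (s : b ⟶ c), Gm (r ≫ s) = Gm r ≫ Gm s := fun r s =>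
    CostructuredArrow.hom_ext _ _ (congrArg (fun m => m.hom.snd) (e.toFunctor.map_comp r s))
  have hG : ∀ a : (Stk.ofPsh P).obj, 𝒳.p.obj (G a).left = a.base := fun a =>
    (fp_obj_eq (e.obj a)).trans (e.w_obj a)
  have Gm_map : ∀ {a b : (Stk.ofPsh P).obj} (r : a ⟶ b),
      StMod.bmap (StMod.fibCat π o) (Gm r) =
        eqToHom (congrArg Comma.left (hG a)) ≫ r.hom.left ≫ eqToHom (congrArg Comma.left (hG b)).symm := by
    intro a b r
    show (𝒳.p.map (e.map r).hom.snd).left = _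
    have h2 : (FibCat.fp y π).p.map (e.map r) = eqToHom (e.w_obj a) ≫ r.hom ≫ eqToHom (e.w_obj b).symm :=
      map_map e r
    rw [map_snd (e.map r)]
    show (eqToHom (fp_obj_eq (e.obj a)) ≫ (FibCat.fp y π).p.map (e.map r) ≫
      eqToHom (fp_obj_eq (e.obj b)).symm).left = _
    rw [h2]
    simp [Over.eqToHom_left]
  -- essential surjectivity
  have hess : ∀ w : (StMod.fibCat π o).obj, ∃ (a : (Stk.ofPsh P).obj) (γ : G a ⟶ w)
      (h : StMod.sch (StMod.fibCat π o) (G a) = StMod.sch (StMod.fibCat π o) w),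
      IsIso γ ∧ StMod.bmap (StMod.fibCat π o) γ = eqToHom h := by
    intro w
    obtain ⟨H, -, ⟨ε⟩⟩ := he
    obtain ⟨a, m', χ, h, hχ, hχc⟩ := exists_iso_pt h𝒵 i w.hom
    let o' : (FibCat.fp y π).obj := ⟨⟨a, w.left, χ⟩, fpProp_of_map y π _ h hχ⟩
    have hM : morTo i o' = w.hom := by
      show χ.inv ≫ y.map (ptHom a) ≫ i.hom = w.hom
      rw [← to_pt_eq m', ← hχc, Iso.inv_hom_id_assoc]
    let εo : e.obj (H.obj o') ⟶ o' := ε.hom.toNatTrans.app o'
    haveI : IsIso εo := inferInstanceAs (IsIso (((BasedNatTrans.forgetful _ _).mapIso ε).app o').hom)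
    have hsnd : π.map εo.hom.snd ≫ w.hom = morTo i (e.obj (H.obj o')) := by rw [← hM, map_morTo]
    haveI : IsIso εo.hom.snd := inferInstanceAs (IsIso ((FibCat.fpSnd y π).map εo))
    refine ⟨H.obj o', CostructuredArrow.homMk εo.hom.snd hsnd,
      congrArg Comma.left ((fp_obj_eq (e.obj (H.obj o'))).trans (((e.w_obj (H.obj o')).trans
        (H.w_obj o')).trans (fp_obj_eq o').symm)), ?_, ?_⟩
    · exact ⟨CostructuredArrow.homMk (inv εo.hom.snd) (by
        show π.map (inv εo.hom.snd) ≫ morTo i (e.obj (H.obj o')) = w.hom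
        rw [← hsnd, ← Category.assoc, ← π.toFunctor.map_comp, IsIso.inv_hom_id, π.toFunctor.map_id,
          Category.id_comp]), CostructuredArrow.hom_ext _ _ (IsIso.hom_inv_id εo.hom.snd),
        CostructuredArrow.hom_ext _ _ (IsIso.inv_hom_id εo.hom.snd)⟩
    · show (𝒳.p.map εo.hom.snd).left = _
      have h2 : (FibCat.fp y π).p.map εo = eqToHom _ := map_app ε.hom o'
      rw [map_snd εo]
      show (eqToHom (fp_obj_eq (e.obj (H.obj o'))) ≫ (FibCat.fp y π).p.map εo ≫ eqToHom (fp_obj_eq o').symm).left = _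
      rw [h2]
      simp [Over.eqToHom_left]
  -- fullness
  have hfull : ∀ {a b : (Stk.ofPsh P).obj} (c : G a ⟶ G b), ∃ r : a ⟶ b, Gm r = c := by
    intro a b c
    have hw : π.map c.left ≫ morTo i (e.obj b) = morTo i (e.obj a) := CostructuredArrow.w c
    have hbase := congrArg 𝒵.p.map hw
    obtain ⟨ha₁, ha₂, ha₃⟩ := bmap_morTo i hi (e.obj a)
    obtain ⟨hb₁, hb₂, hb₃⟩ := bmap_morTo i hi (e.obj b)
    rw [Functor.map_comp, map_map π c.left, ha₃, hb₃] at hbase
    let s : (e.obj a).obj.fst.base ⟶ (e.obj b).obj.fst.base :=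
      eqToHom (fp_obj_eq (e.obj a)).symm ≫ 𝒳.p.map c.left ≫ eqToHom (fp_obj_eq (e.obj b))
    have hs : s ≫ (e.obj b).obj.fst.sec.down = (e.obj a).obj.fst.sec.down := by
      rw [← cancel_epi (eqToHom ha₁), ← cancel_mono (eqToHom ha₂)]
      simp only [s, Category.assoc] at hbase ⊢
      simp only [eqToHom_trans_assoc] at hbase ⊢
      exact hbase
    let m : (e.obj a).obj.fst ⟶ (e.obj b).obj.fst := ⟨s, congrArg ULift.up hs⟩
    have hw' : y.map m ≫ (e.obj b).obj.iso.hom = (e.obj a).obj.iso.hom ≫ π.map c.left := by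
      have h1 : (y.map m ≫ (e.obj b).obj.iso.hom) ≫ morTo i (e.obj b) =
          ((e.obj a).obj.iso.hom ≫ π.map c.left) ≫ morTo i (e.obj b) := by
        rw [Category.assoc, Category.assoc, hw, morTo, morTo, Iso.hom_inv_id_assoc, Iso.hom_inv_id_assoc,
          ← Category.assoc, ← y.toFunctor.map_comp, to_pt_eq (m ≫ ptHom _)]
      suffices hb : 𝒵.p.map (y.map m ≫ (e.obj b).obj.iso.hom) = 𝒵.p.map ((e.obj a).obj.iso.hom ≫ π.map c.left) from
        eq_of_bmap h𝒵 (morTo i (e.obj b)) (congrArg CommaMorphism.left hb) h1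
      obtain ⟨_, hA⟩ := map_iso_hom (e.obj a)
      obtain ⟨_, hB⟩ := map_iso_hom (e.obj b)
      rw [Functor.map_comp, Functor.map_comp, hA, hB, map_map y m, map_map π c.left]
      show (eqToHom (y.w_obj _) ≫ s ≫ eqToHom (y.w_obj _).symm) ≫ eqToHom _ = _
      simp [s]
    let M : e.obj a ⟶ e.obj b := ObjectProperty.homMk ⟨m, c.left, hw'⟩
    haveI := (isEquivOver_data he).1
    exact ⟨e.toFunctor.preimage M, CostructuredArrow.hom_ext _ _
      (congrArg (fun m => m.hom.snd) (e.toFunctor.map_preimage M))⟩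
  -- affine pieces of a chart
  obtain ⟨V, p, hpe, hps⟩ := halg.atlas
  let piece : ∀ (W : Over S) (O : W.left.Opens), Over S := fun W O => Over.mk (O.ι ≫ W.hom)
  let pι : ∀ (W : Over S) (O : W.left.Opens), piece W O ⟶ W := fun W O => Over.homMk O.ι rfl
  let ak : V.left.affineOpens → (Stk.ofPsh P).obj := fun k =>
    ⟨piece V k.1, p.hom.app (op (piece V k.1)) ⟨pι V k.1⟩⟩
  let sh : ∀ a : (Stk.ofPsh P).obj, (yon S).obj a.base ⟶ F := fun a =>
    ObjectProperty.homMk (uliftYonedaEquiv.symm a.sec)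
  have hsec : ∀ (a : (Stk.ofPsh P).obj) (W : Over S) (a₁ : W ⟶ V) (b₁ : W ⟶ a.base),
      (yon S).map a₁ ≫ p = (yon S).map b₁ ≫ sh a → P.map b₁.op a.sec = p.hom.app (op W) ⟨a₁⟩ := by
    intro a W a₁ b₁ hsq
    have h1 := congrArg (fun q : (yon S).obj W ⟶ F => q.hom.app (op W) ⟨𝟙 W⟩) hsq
    refine Eq.trans ?_ (h1.symm.trans ?_)
    · show _ = P.map (𝟙 W ≫ b₁).op a.sec
      rw [Category.id_comp]
    · show p.hom.app (op W) _ = p.hom.app (op W) _
      exact congrArg _ (ULift.ext _ _ (Category.id_comp a₁))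
  have hflatk : ∀ k, Flat (StMod.bmap 𝒵 (G (ak k)).hom) := by
    intro k
    let av : (Stk.ofPsh P).obj := ⟨V, p.hom.app (op V) ⟨𝟙 V⟩⟩
    have hv : Flat (StMod.bmap 𝒵 (G av).hom) := by
      obtain ⟨h₁, h₂, h₃⟩ := bmap_morTo i hi (e.obj av)
      show Flat (𝒵.p.map (morTo i (e.obj av))).left
      rw [h₃]
      let q : V ⟶ 𝒵.p.obj o := eqToHom (e.w_obj av).symm ≫ (e.obj av).obj.fst.sec.down
      have hq : Flat q.left := by
        refine hflat p (𝟙 _) q hpe (_root_.AlgSp.repWith_id @Etale (𝒵.p.obj o)) ?_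
        refine ObjectProperty.hom_ext _ (uliftYonedaEquiv.injective ?_)
        show (prjMap e).app (op V) (p.hom.app (op V) ⟨𝟙 V⟩) = ULift.up (𝟙 V ≫ q)
        rw [Category.id_comp]
        rfl
      have hq' : (e.obj av).obj.fst.sec.down = eqToHom (e.w_obj av) ≫ q := by
        show _ = eqToHom (e.w_obj av) ≫ eqToHom (e.w_obj av).symm ≫ (e.obj av).obj.fst.sec.down
        exact ((eqToHom_trans_assoc _ _ _).trans (Category.id_comp _)).symm
      rw [hq']
      simp only [Over.comp_left, Over.eqToHom_left]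
      haveI := hq
      infer_instance
    let s : ak k ⟶ av := ⟨pι V k.1, by
      refine (NatTrans.naturality_apply p.hom (pι V k.1).op (⟨𝟙 V⟩ : ((pyon S).obj V).obj (op V))).symm.trans ?_
      exact congrArg (fun q => p.hom.app (op (piece V k.1)) q) (ULift.ext _ _ (Category.comp_id (pι V k.1) :))⟩
    rw [← CostructuredArrow.w (Gm s)]
    show Flat (StMod.bmap 𝒵 (π.map (Gm s).left ≫ (G av).hom))
    rw [StMod.bmap_comp, bmap_map, show StMod.bmap 𝒳 (Gm s).left = _ from Gm_map s]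
    haveI := hv
    haveI : Flat (s.hom.left) := inferInstanceAs (Flat k.1.ι)
    infer_instance
  have haffG : ∀ a : (Stk.ofPsh P).obj, IsAffine a.base.left → IsAffine (StMod.sch (StMod.fibCat π o) (G a)) :=
    fun a ha => IsAffine.of_isIso (eqToHom (congrArg Comma.left (hG a)) :
      StMod.sch (StMod.fibCat π o) (G a) ⟶ a.base.left)
  refine ⟨V.left.affineOpens, fun k => G (ak k), fun k => haffG _ k.2, hflatk, fun w t => ?_,
    fun k z' x e₀ v t => ?_⟩
  · -- covering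
    obtain ⟨a, γ, hγ, hγi, hγb⟩ := hess w
    obtain ⟨W, a₁, b₁, sq, hb₁⟩ := IsAlgSpace.exists_chart_pullback halg hpe (sh a)
    have hbs : Surjective b₁.left := hps.2 (sh a) _ b₁ sq
    let t₀ : ↥a.base.left := (eqToHom (congrArg Comma.left (hG a))).base ((eqToHom hγ.symm).base t)
    obtain ⟨t', ht'⟩ := hbs.surj t₀
    obtain ⟨O, hO, htO, -⟩ := exists_isAffineOpen_mem_and_subset (X := V.left) (x := a₁.left t') (U := ⊤) trivial
    obtain ⟨O', hO', htO', hO'le⟩ :=
      exists_isAffineOpen_mem_and_subset (X := W.left) (x := t') (U := a₁.left ⁻¹ᵁ O) htO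
    let a₀ : (Stk.ofPsh P).obj := ⟨piece W O', P.map (pι W O' ≫ b₁).op a.sec⟩
    let r : a₀ ⟶ a := ⟨pι W O' ≫ b₁, rfl⟩
    have hrange : Set.range (O'.ι ≫ a₁.left).base ⊆ Set.range O.ι.base := by
      rintro _ ⟨q, rfl⟩
      rw [Scheme.Opens.range_ι, Scheme.Hom.comp_apply]
      exact hO'le q.2
    let g₀ : piece W O' ⟶ piece V O := Over.homMk (IsOpenImmersion.lift O.ι (O'.ι ≫ a₁.left) hrange) (by
      show IsOpenImmersion.lift O.ι (O'.ι ≫ a₁.left) hrange ≫ O.ι ≫ V.hom = O'.ι ≫ W.hom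
      rw [IsOpenImmersion.lift_fac_assoc, Category.assoc, Over.w a₁])
    have hg₀ : g₀ ≫ pι V O = pι W O' ≫ a₁ := Over.OverMorphism.ext (IsOpenImmersion.lift_fac _ _ hrange)
    let s : a₀ ⟶ ak ⟨O, hO⟩ := ⟨g₀, by
      show P.map g₀.op (p.hom.app (op (piece V O)) ⟨pι V O⟩) = P.map (pι W O' ≫ b₁).op a.sec
      rw [hsec a _ (g₀ ≫ pι V O) (pι W O' ≫ b₁) (by
        rw [hg₀, Functor.map_comp, Functor.map_comp, Category.assoc, Category.assoc, sq.w])]
      exact (NatTrans.naturality_apply p.hom g₀.op (⟨pι V O⟩ : ((pyon S).obj V).obj (op (piece V O)))).symm⟩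
    refine ⟨G a₀, Gm r ≫ γ, ⟨O, hO⟩, ?_, ⟨Gm s⟩⟩
    haveI : Etale b₁.left := hb₁
    refine hits_of_bmap _ ((O'.ι ≫ b₁.left) ≫ eqToHom ((congrArg Comma.left (hG a)).symm.trans hγ))
      (eqToHom (congrArg Comma.left (hG a₀)) : StMod.sch (StMod.fibCat π o) (G a₀) ⟶ O'.toScheme) ?_ ⟨⟨t', htO'⟩, ?_⟩
    · rw [StMod.bmap_comp, Gm_map, hγb, Category.assoc, Category.assoc, eqToHom_trans, Category.assoc]
      rfl
    · refine (Scheme.Hom.comp_apply _ _ _).trans ((congrArg _ ((Scheme.Hom.comp_apply _ _ _).trans ht')).trans ?_)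
      exact back_pt _ _ _ t
  · -- meets
    obtain ⟨a, γ, hγ, hγi, hγb⟩ := hess x
    obtain ⟨a', γ', hγ', hγ'i, hγ'b⟩ := hess z'
    obtain ⟨rE, hrE⟩ := hfull (γ ≫ e₀ ≫ inv γ')
    obtain ⟨rV, hrV⟩ := hfull (γ ≫ v)
    obtain ⟨W, a₁, b₁, sq, hb₁⟩ := IsAlgSpace.exists_chart_pullback halg hpe (sh a')
    have hcond : (yon S).map (rV.hom ≫ pι V k.1) ≫ p = (yon S).map rE.hom ≫ sh a' := by
      refine ObjectProperty.hom_ext _ (uliftYonedaEquiv.injective ?_)
      show p.hom.app (op a.base) ⟨𝟙 a.base ≫ rV.hom ≫ pι V k.1⟩ = P.map (𝟙 a.base ≫ rE.hom).op a'.sec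
      rw [Category.id_comp, Category.id_comp, rE.map_sec, ← rV.map_sec]
      exact (NatTrans.naturality_apply p.hom rV.hom.op
        (⟨pι V k.1⟩ : ((pyon S).obj V).obj (op (piece V k.1))))
    obtain ⟨u, hu⟩ := exists_map_eq (sq.lift _ _ hcond)
    have hu₁ : u ≫ a₁ = rV.hom ≫ pι V k.1 := (yon S).map_injective (by
      rw [Functor.map_comp, hu, sq.lift_fst])
    have hu₂ : u ≫ b₁ = rE.hom := (yon S).map_injective (by rw [Functor.map_comp, hu, sq.lift_snd])
    let t₀ : ↥a.base.left := (eqToHom (congrArg Comma.left (hG a))).base ((eqToHom hγ.symm).base t)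
    have hmem : u.left.base t₀ ∈ a₁.left ⁻¹ᵁ k.1 := by
      show a₁.left.base (u.left.base t₀) ∈ k.1
      rw [← Scheme.Hom.comp_apply, ← Over.comp_left, hu₁, Over.comp_left, Scheme.Hom.comp_apply]
      exact (rV.hom.left.base t₀).2
    obtain ⟨O', hO', htO', hO'le⟩ :=
      exists_isAffineOpen_mem_and_subset (X := W.left) (x := u.left.base t₀) (U := a₁.left ⁻¹ᵁ k.1) hmem
    obtain ⟨O'', -, htO'', hO''le⟩ :=
      exists_isAffineOpen_mem_and_subset (X := a.base.left) (x := t₀) (U := u.left ⁻¹ᵁ O') htO'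
    let a₀ : (Stk.ofPsh P).obj := ⟨piece W O', P.map (pι W O' ≫ b₁).op a'.sec⟩
    let rH : a₀ ⟶ a' := ⟨pι W O' ≫ b₁, rfl⟩
    have hrange : Set.range (O'.ι ≫ a₁.left).base ⊆ Set.range k.1.ι.base := by
      rintro _ ⟨q, rfl⟩
      rw [Scheme.Opens.range_ι, Scheme.Hom.comp_apply]
      exact hO'le q.2
    let g₀ : piece W O' ⟶ piece V k.1 := Over.homMk (IsOpenImmersion.lift k.1.ι (O'.ι ≫ a₁.left) hrange) (by
      show IsOpenImmersion.lift k.1.ι (O'.ι ≫ a₁.left) hrange ≫ k.1.ι ≫ V.hom = O'.ι ≫ W.hom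
      rw [IsOpenImmersion.lift_fac_assoc, Category.assoc, Over.w a₁])
    have hg₀ : g₀ ≫ pι V k.1 = pι W O' ≫ a₁ := Over.OverMorphism.ext (IsOpenImmersion.lift_fac _ _ hrange)
    let rG : a₀ ⟶ ak k := ⟨g₀, by
      show P.map g₀.op (p.hom.app (op (piece V k.1)) ⟨pι V k.1⟩) = P.map (pι W O' ≫ b₁).op a'.sec
      rw [hsec a' _ (g₀ ≫ pι V k.1) (pι W O' ≫ b₁) (by
        rw [hg₀, Functor.map_comp, Functor.map_comp, Category.assoc, Category.assoc, sq.w])]
      exact (NatTrans.naturality_apply p.hom g₀.op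
        (⟨pι V k.1⟩ : ((pyon S).obj V).obj (op (piece V k.1)))).symm⟩
    let ax : (Stk.ofPsh P).obj := ⟨piece a.base O'', P.map (pι a.base O'').op a.sec⟩
    let j : ax ⟶ a := ⟨pι a.base O'', rfl⟩
    have hrange' : Set.range (O''.ι ≫ u.left).base ⊆ Set.range O'.ι.base := by
      rintro _ ⟨q, rfl⟩
      rw [Scheme.Opens.range_ι, Scheme.Hom.comp_apply]
      exact hO''le q.2
    let l₀ : piece a.base O'' ⟶ piece W O' := Over.homMk (IsOpenImmersion.lift O'.ι (O''.ι ≫ u.left) hrange') (by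
      show IsOpenImmersion.lift O'.ι (O''.ι ≫ u.left) hrange' ≫ O'.ι ≫ W.hom = O''.ι ≫ a.base.hom
      rw [IsOpenImmersion.lift_fac_assoc, Category.assoc, Over.w u])
    have hl₀ : l₀ ≫ pι W O' = pι a.base O'' ≫ u := Over.OverMorphism.ext (IsOpenImmersion.lift_fac _ _ hrange')
    let rl : ax ⟶ a₀ := ⟨l₀, by
      show P.map l₀.op (P.map (pι W O' ≫ b₁).op a'.sec) = P.map (pι a.base O'').op a.sec
      rw [← rE.map_sec, ← Functor.map_comp_apply, ← op_comp, ← Functor.map_comp_apply, ← op_comp,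
        ← Category.assoc, hl₀, Category.assoc, hu₂]⟩
    refine ⟨G ax, Gm j ≫ γ, G a₀, Gm rH ≫ γ', Gm rG, Gm rl, ?_, haffG _ hO', ?_, ?_, ?_⟩
    · refine hits_of_bmap _ (O''.ι ≫ eqToHom ((congrArg Comma.left (hG a)).symm.trans hγ))
        (eqToHom (congrArg Comma.left (hG ax)) : StMod.sch (StMod.fibCat π o) (G ax) ⟶ O''.toScheme) ?_ ⟨⟨t₀, htO''⟩, ?_⟩
      · rw [StMod.bmap_comp, Gm_map, hγb, Category.assoc, Category.assoc, eqToHom_trans]
        rfl
      · exact (Scheme.Hom.comp_apply _ _ _).trans (back_pt _ _ _ t)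
    · haveI : Etale b₁.left := hb₁
      rw [StMod.bmap_comp, Gm_map, hγ'b]
      show Flat ((_ ≫ (O'.ι ≫ b₁.left) ≫ _) ≫ _)
      infer_instance
    · have h1 : rl ≫ rH = j ≫ rE := Stk.EltObj.hom_ext (by
        show l₀ ≫ pι W O' ≫ b₁ = pι a.base O'' ≫ rE.hom
        rw [← Category.assoc, hl₀, Category.assoc, hu₂])
      rw [← Category.assoc, ← Gm_comp, h1, Gm_comp, hrE]
      simp
    · have h1 : rl ≫ rG = j ≫ rV := Stk.EltObj.hom_ext (by
        show l₀ ≫ g₀ = pι a.base O'' ≫ rV.hom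
        haveI : Mono (pι V k.1) := (Over.forget S).mono_of_mono_map (inferInstanceAs (Mono k.1.ι))
        rw [← cancel_mono (pι V k.1), Category.assoc, hg₀, ← Category.assoc, hl₀, Category.assoc, hu₁,
          Category.assoc])
      rw [← Gm_comp, h1, Gm_comp, hrV]
      simp

/-- The objects through which the affine objects are flat. -/
def IsOk {Q : AlgSt.Cat S} (a : Q.obj) : Prop :=
  RepByAlgSpWith (LocP @Flat) (StMod.fibFst (BasedFunctor.id Q) a)

/-- A scheme as the category over its image. -/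
def chartFib {Q : AlgSt.Cat S} {T : Over S} (z : FibCat.overCat T ⥤ᵇ Q) :
    FibCat.overCat T ⥤ᵇ StMod.fibCat (BasedFunctor.id Q) (z.obj (topObj T)) where
  toFunctor :=
    { obj := fun q => CostructuredArrow.mk
        (show (BasedFunctor.id Q).obj (z.obj q) ⟶ z.obj (topObj T) from z.map (toTop q))
      map := fun {q q'} m => CostructuredArrow.homMk (z.map m) (by
        show z.map m ≫ z.map (toTop q') = z.map (toTop q)
        rw [← z.toFunctor.map_comp, toTop_unique (m ≫ toTop q')])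
      map_id := fun q => CostructuredArrow.hom_ext _ _ (z.toFunctor.map_id q)
      map_comp := fun m m' => CostructuredArrow.hom_ext _ _ (z.toFunctor.map_comp m m') }
  w := z.w

theorem isEquivOver_chartFib {Q : AlgSt.Cat S} (hQ : FibCat.IsFibGrpd Q.p) {T : Over S}
    (z : FibCat.overCat T ⥤ᵇ Q) : FibCat.IsEquivOver (chartFib z) := by
  haveI : (chartFib z).toFunctor.Faithful := ⟨fun {q q'} m m' h => by
    have h1 := congrArg (fun c => StMod.bmap Q c.left) h
    change StMod.bmap Q (z.map m) = StMod.bmap Q (z.map m') at h1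
    rw [bmap_map, bmap_map, cancel_epi, cancel_mono] at h1
    exact Over.OverMorphism.ext (Over.OverMorphism.ext h1)⟩
  haveI : (chartFib z).toFunctor.Full := ⟨fun {q q'} c => by
    have hw : c.left ≫ z.map (toTop q') = z.map (toTop q) := CostructuredArrow.w c
    let m₀ : (show Over T from q).left ⟶ (show Over T from q').left :=
      eqToHom (z.w_obj q).symm ≫ Q.p.map c.left ≫ eqToHom (z.w_obj q')
    have hb := congrArg Q.p.map hw
    rw [Functor.map_comp, map_map z (toTop q'), map_map z (toTop q)] at hb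
    have hm : m₀ ≫ (show Over T from q').hom = (show Over T from q).hom := by
      rw [← cancel_epi (eqToHom (z.w_obj q)), ← cancel_mono (eqToHom (z.w_obj (topObj T)).symm)]
      simp only [m₀, Category.assoc, eqToHom_trans_assoc, eqToHom_refl, Category.id_comp] at hb ⊢
      exact hb
    let m : q ⟶ q' := (Over.homMk m₀ hm : (show Over T from q) ⟶ (show Over T from q'))
    refine ⟨m, CostructuredArrow.hom_ext _ _ (eq_of_bmap hQ (z.map (toTop q')) ?_ ?_)⟩
    · show (Q.p.map (z.map m)).left = (Q.p.map c.left).left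
      rw [map_map z m]
      show (eqToHom _ ≫ m₀ ≫ eqToHom _).left = _
      simp [m₀]
    · show z.map m ≫ z.map (toTop q') = c.left ≫ z.map (toTop q')
      rw [← z.toFunctor.map_comp, toTop_unique (m ≫ toTop q') (toTop q), hw]⟩
  refine isEquivOver_of_fullyFaithful _ fun w => ?_
  let g : Q.p.obj w.left ⟶ T := Q.p.map w.hom ≫ eqToHom (z.w_obj (topObj T))
  let q : (FibCat.overCat T).obj := (Over.mk g : Over T)
  have hq : Q.p.map (z.map (toTop q)) = eqToHom (z.w_obj q) ≫ g ≫ eqToHom (z.w_obj (topObj T)).symm :=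
    map_map z (toTop q)
  obtain ⟨χ, ⟨hχ, hχc⟩, -⟩ := existsUnique_cart hQ w.hom (z.map (toTop q)) (eqToHom (z.w_obj q)) (by
    rw [hq]
    simp [g])
  haveI : IsIso (Q.p.map χ) := by rw [hχ]; infer_instance
  haveI := FibCatRep.isIso_of_map hQ χ
  exact ⟨q, CostructuredArrow.isoMk (asIso χ) hχc, z.w_obj q, hχ⟩

/-- A flat functor out of a scheme gives an object through which everything is flat. -/
theorem isOk_of_chart {Q : AlgSt.Cat S} (hQ : FibCat.IsFibGrpd Q.p) {T : Over S} (z : FibCat.overCat T ⥤ᵇ Q)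
    (hz : RepByAlgSpWith (LocP @Flat) z) : IsOk (z.obj (topObj T)) :=
  (AlgStLib.repWith_iff_of_equiv _ (StMod.fibFst (BasedFunctor.id Q) (z.obj (topObj T))) z (chartFib z)
    (BasedFunctor.id Q) (isEquivOver_chartFib hQ z) FibCat2Misc.isEquivOver_id (Iso.refl _)).2 hz

/-- Every object maps locally to affine objects through which everything is flat. -/
theorem exists_ok_hit {Q : AlgSt.Cat S} (hQ : IsAlgStack Scheme.fppfPrecoverage Q) (w : Q.obj) (t : StMod.sch Q w) :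
    ∃ (w' : Q.obj) (φ : w' ⟶ w) (a : Q.obj), Hits φ t ∧ IsAffine (StMod.sch Q a) ∧ IsOk a ∧ Nonempty (w' ⟶ a) := by
  obtain ⟨U, x, hxs, hxj⟩ := hQ.atlas
  have hO := isAlgStack_overCat U
  obtain ⟨z, i, h, hi⟩ := exists_chartAt hQ.isStack.1 w
  obtain ⟨W, γ, hγ, hγ', ⟨s, hs⟩, x', ⟨j⟩⟩ := exists_lift_at hQ hO x
    (locQ_of_repWith st_flat cls_flat.bc cls_flat.loc hO hQ (repWith_flat_of_smooth hxs))
    (locQ_of_repWith st_lfp cls_lfp.bc cls_lfp.loc hO hQ (repWith_lfp_of_smooth hxs)) z t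
    (isSurjective_of_repWith hO.isStack.1 hQ.isStack.1 hxj _)
  let X₀ : Over U := x'.obj (topObj W)
  have hX₀ : X₀.left = W := x'.w_obj (topObj W)
  let s₀ : ↥X₀.left.left := (eqToHom (congrArg Comma.left hX₀.symm)).base s
  obtain ⟨O, hO', hsO, -⟩ := exists_isAffineOpen_mem_and_subset (X := U.left) (x := X₀.hom.left.base s₀) (U := ⊤) trivial
  obtain ⟨V, hV, hsV, hVle⟩ := exists_isAffineOpen_mem_and_subset (X := W.left) (x := s)
    (U := ((eqToHom (congrArg Comma.left hX₀.symm) : W.left ⟶ X₀.left.left) ≫ X₀.hom.left) ⁻¹ᵁ O) hsO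
  let q : (FibCat.overCat W).obj := (Over.mk (Over.homMk V.ι rfl : Over.mk (V.ι ≫ W.hom) ⟶ W) : Over W)
  obtain ⟨ζ', ψ, β, e, hψ, -⟩ := exists_obj_of_lift z i h hi γ x' j q
  let P : Over S := Over.mk (O.ι ≫ U.hom)
  let pι : P ⟶ U := Over.homMk O.ι rfl
  haveI : IsOpenImmersion pι.left := inferInstanceAs (IsOpenImmersion O.ι)
  let zO : FibCat.overCat P ⥤ᵇ Q := BasedFunctor.comp (AlgSt.overMap pι) x
  have hzO : RepByAlgSpWith (LocP @Flat) zO := repWith_flat_of_smooth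
    (repWith_comp (FibCatRep.isFibGrpd_overCat _) (FibCatRep.isFibGrpd_overCat _) cls_smooth.bc cls_smooth.comp
      cls_smooth.loc (repWith_smooth_overMap pι) hxs)
  let Xq : Over U := x'.obj q
  let T₀ : Over U := (AlgSt.overMap pι).obj (topObj P)
  let mt : Xq ⟶ X₀ := x'.map (toTop q)
  have hmt : mt.left = eqToHom (x'.w_obj q) ≫ (show Over W from q).hom ≫ eqToHom hX₀.symm := map_map x' (toTop q)
  have hrange : Set.range Xq.hom.left.base ⊆ Set.range O.ι.base := by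
    rintro _ ⟨p, rfl⟩
    rw [Scheme.Opens.range_ι, ← Over.w mt, hmt]
    simp only [Over.comp_left, Category.assoc, Scheme.Hom.comp_apply, Over.eqToHom_left]
    exact hVle (((eqToHom (congrArg Comma.left (x'.w_obj q))).base p).2)
  let l : Xq.left ⟶ T₀.left := Over.homMk (IsOpenImmersion.lift O.ι Xq.hom.left hrange) (by
    show IsOpenImmersion.lift O.ι Xq.hom.left hrange ≫ O.ι ≫ U.hom = _
    rw [IsOpenImmersion.lift_fac_assoc, Over.w Xq.hom])
  have hl : l ≫ T₀.hom = Xq.hom := Over.OverMorphism.ext (by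
    show IsOpenImmersion.lift O.ι Xq.hom.left hrange ≫ (𝟙 P ≫ pι).left = Xq.hom.left
    rw [Category.id_comp]
    exact IsOpenImmersion.lift_fac _ _ hrange)
  refine ⟨ζ', ψ, zO.obj (topObj P), ?_, ?_, isOk_of_chart hQ.isStack.1 zO hzO,
    ⟨β ≫ x.map (show (FibCat.overCat U).category.Hom (x'.obj q) T₀ from (Over.homMk l hl : Xq ⟶ T₀))⟩⟩
  · haveI := hγ
    haveI := hγ'
    refine hits_of_bmap ψ (V.ι ≫ γ.left) _ hψ ⟨⟨s, hsV⟩, ?_⟩
    rw [Scheme.Hom.comp_apply]
    exact hs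
  · haveI : IsAffine (StMod.sch (FibCat.overCat P) (topObj P)) := hO'
    exact IsAffine.of_isIso (eqToHom (StMod.sch_obj_eq zO (topObj P)))

end Groth.Agent.RelGen
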