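import Mathlib
import Groth.Agent.RelGen.AffMod
import Groth.Agent.RelGen.Roof

/-!
# Comparison of the inverse images of modules on two affine objects
-/

universe u

open CategoryTheory CategoryTheory.Limits AlgebraicGeometry TopologicalSpace Opposite TensorProduct

set_option autoImplicit false
set_option backward.isDefEq.respectTransparency false
set_option backward.isDefEq.respectTransparency.types false
set_option linter.style.haveILetI false

noncomputable section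

namespace Groth.Agent.RelGen

open Groth.Agent.QC Groth.Agent.QDescent AffMod

variable {S : Scheme.{u}} {Q : AlgSt.Cat S}

/-- Pairs of morphisms to two objects. -/
abbrev Pr (a b : Q.obj) : AlgSt.Cat S := StMod.fibCat (StMod.fibFst (BasedFunctor.id Q) a) b

/-- The first component. -/
abbrev fst₂ (a b : Q.obj) : Pr a b ⥤ᵇ Sl a := StMod.fibFst (StMod.fibFst (BasedFunctor.id Q) a) b

/-- The second component, as an object. -/
abbrev sndObj {a b : Q.obj} (w : (Pr a b).obj) : (Sl b).obj :=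
  CostructuredArrow.mk (show (BasedFunctor.id Q).obj w.left.left ⟶ b from w.hom)

/-- The second component. -/
def snd₂ (a b : Q.obj) : Pr a b ⥤ᵇ Sl b where
  toFunctor :=
    { obj := fun w => sndObj w
      map := fun c => CostructuredArrow.homMk c.left.left (CostructuredArrow.w c)
      map_id := fun w => CostructuredArrow.hom_ext _ _ rfl
      map_comp := fun c c' => CostructuredArrow.hom_ext _ _ rfl }
  w := rfl

theorem tr_snd₂ {a b : Q.obj} (F : StMod.QCoh (Sl b)) {w' w : (Pr a b).obj} (c : w' ⟶ w)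
    (U : (StMod.sch (Sl b) (sndObj w)).Opens) (V : (StMod.sch (Sl b) (sndObj w')).Opens)
    (e : V ≤ StMod.bmap (Sl b) ((snd₂ a b).map c) ⁻¹ᵁ U) (s : Γ(F.obj.obj (sndObj w), U)) :
    tr ((StMod.comapQ (snd₂ a b)).obj F).obj c U V e s = tr F.obj ((snd₂ a b).map c) U V e s := by
  have h : (StMod.Mod.comap (snd₂ a b) F.obj).map c (g := StMod.bmap (Sl b) ((snd₂ a b).map c)) rfl =
      F.obj.map ((snd₂ a b).map c) rfl := by
    rw [StMod.Mod.comap_map]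
    exact (StMod.castMap_rfl _ _).trans (StMod.Mod.map_comp_pushforwardCongr _ _ _ _)
  exact congrArg (res (F.obj.obj (sndObj w')) e) congr($(h).app U s)

variable (N : AffMod Q) (A B : AObj Q)

/-- The inverse image of the first module on pairs. -/
abbrev M₁ : StMod.QCoh (Pr A.obj B.obj) := onFib (StMod.fibFst (BasedFunctor.id Q) A.obj) (N.T A) B.obj

/-- The inverse image of the second module on pairs. -/
abbrev M₂ : StMod.QCoh (Pr A.obj B.obj) := (StMod.comapQ (snd₂ A.obj B.obj)).obj (N.T B)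

/-- A pair as an affine object. -/
abbrev pob {a b : Q.obj} (w : (Pr a b).obj) (hw : IsAffine (StMod.sch (Pr a b) w)) : AObj Q := ⟨w.left.left, hw⟩

/-- The first comparison on pairs. -/
def k₁ (w : (Pr A.obj B.obj).obj) (hw : IsAffine (StMod.sch (Pr A.obj B.obj) w)) :
    Γ((M₁ N A B).obj.obj w, ⊤) →+ N.ob (pob w hw) :=
  N.kap A w.left hw

/-- The second comparison on pairs. -/
def k₂ (w : (Pr A.obj B.obj).obj) (hw : IsAffine (StMod.sch (Pr A.obj B.obj) w)) :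
    Γ((M₂ N A B).obj.obj w, ⊤) →+ N.ob (pob w hw) :=
  N.kap B (sndObj w) hw

variable {N A B}

theorem k₁_smul (w : (Pr A.obj B.obj).obj) (hw : IsAffine (StMod.sch (Pr A.obj B.obj) w))
    (r : Γ(StMod.sch (Pr A.obj B.obj) w, ⊤)) (s : Γ((M₁ N A B).obj.obj w, ⊤)) :
    k₁ N A B w hw (r • s) = (show Γ(StMod.sch Q (pob w hw).obj, ⊤) from r) • k₁ N A B w hw s :=
  N.kap_smul A w.left hw r s

theorem k₂_smul (w : (Pr A.obj B.obj).obj) (hw : IsAffine (StMod.sch (Pr A.obj B.obj) w))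
    (r : Γ(StMod.sch (Pr A.obj B.obj) w, ⊤)) (s : Γ((M₂ N A B).obj.obj w, ⊤)) :
    k₂ N A B w hw (r • s) = (show Γ(StMod.sch Q (pob w hw).obj, ⊤) from r) • k₂ N A B w hw s :=
  N.kap_smul B (sndObj w) hw r s

theorem k₁_nat {w' w : (Pr A.obj B.obj).obj} (hw' : IsAffine (StMod.sch (Pr A.obj B.obj) w'))
    (hw : IsAffine (StMod.sch (Pr A.obj B.obj) w)) (c : w' ⟶ w) (s : Γ((M₁ N A B).obj.obj w, ⊤)) :
    k₁ N A B w' hw' (trT (M₁ N A B).obj c s) = N.r (A' := pob w' hw') (A := pob w hw) c.left.left (k₁ N A B w hw s) := by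
  rw [show trT (M₁ N A B).obj c s = trT (N.T A).obj c.left s from tr_onFib _ (N.T A) B.obj c ⊤ ⊤ (top_le c) s]
  exact N.kap_nat A hw' hw c.left s

theorem k₂_nat {w' w : (Pr A.obj B.obj).obj} (hw' : IsAffine (StMod.sch (Pr A.obj B.obj) w'))
    (hw : IsAffine (StMod.sch (Pr A.obj B.obj) w)) (c : w' ⟶ w) (s : Γ((M₂ N A B).obj.obj w, ⊤)) :
    k₂ N A B w' hw' (trT (M₂ N A B).obj c s) = N.r (A' := pob w' hw') (A := pob w hw) c.left.left (k₂ N A B w hw s) := by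
  rw [show trT (M₂ N A B).obj c s = trT (N.T B).obj ((snd₂ A.obj B.obj).map c) s from
    tr_snd₂ (N.T B) c ⊤ ⊤ (top_le ((snd₂ A.obj B.obj).map c)) s]
  exact N.kap_nat B (w' := sndObj w') (w := sndObj w) hw' hw ((snd₂ A.obj B.obj).map c) s

/-- The pairs whose second component is flat. -/
def IsGood (w : (Pr A.obj B.obj).obj) : Prop :=
  IsAffine (StMod.sch (Pr A.obj B.obj) w) ∧ Flat (StMod.bmap Q w.hom)

theorem k₂_bijective (hN : N.IsBC) {w : (Pr A.obj B.obj).obj} (hw : IsGood w) :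
    Function.Bijective (k₂ N A B w hw.1) :=
  N.kap_bijective B hN (sndObj w) hw.1 hw.2

theorem exists_ell (hN : N.IsBC) {w : (Pr A.obj B.obj).obj} (hw : IsGood w) :
    ∃ l : sM (M₁ N A B) w →ₗ[sR w] sM (M₂ N A B) w, ∀ s, k₂ N A B w hw.1 (l s) = k₁ N A B w hw.1 s := by
  let e := AddEquiv.ofBijective (k₂ N A B w hw.1) (k₂_bijective hN hw)
  refine ⟨{ toFun := fun s => (e.symm (k₁ N A B w hw.1 s) : sM (M₂ N A B) w)
            map_add' := fun s t => ?_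
            map_smul' := fun r s => ?_ }, fun s => e.apply_symm_apply _⟩
  · exact (congrArg e.symm (map_add (k₁ N A B w hw.1) s t)).trans (map_add e.symm _ _)
  · refine e.injective ((e.apply_symm_apply _).trans ?_)
    refine (k₁_smul (N := N) w hw.1 r s).trans ?_
    refine Eq.trans ?_ (k₂_smul (N := N) w hw.1 r (e.symm (k₁ N A B w hw.1 s))).symm
    exact congrArg _ (e.apply_symm_apply _).symm

/-- The comparison of the two inverse images. -/
theorem exists_cmp (hQ : FibCat.IsFibGrpd Q.p) (hN : N.IsBC) (hA : IsOk A.obj) :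
    ∃ C : M₁ N A B ⟶ M₂ N A B, ∀ (w : (Pr A.obj B.obj).obj) (hw : IsAffine (StMod.sch (Pr A.obj B.obj) w))
      (s : Γ((M₁ N A B).obj.obj w, ⊤)), k₂ N A B w hw ((C.hom.app w).app ⊤ s) = k₁ N A B w hw s := by
  have gS := isFibGrpd_fibCat hQ (BasedFunctor.id Q) A.obj
  have gP : FibCat.IsFibGrpd (Pr A.obj B.obj).p := isFibGrpd_fibCat gS _ _
  choose ell hell using fun (w : (Pr A.obj B.obj).obj) (hw : IsGood w) => exists_ell hN hw
  let Dec : (Pr A.obj B.obj).obj → Type (u + 1) := fun x => Σ z : {z : (Pr A.obj B.obj).obj // IsGood z}, ULift.{u + 1} (x ⟶ z.1)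
  let L : ∀ x, IsAffine (StMod.sch (Pr A.obj B.obj) x) → Dec x →
      (Γ((M₁ N A B).obj.obj x, ⊤) →+ Γ((M₂ N A B).obj.obj x, ⊤)) := fun x hx d =>
    (extL d.2.down d.1.2.1 hx (ell d.1.1 d.1.2)).toAddMonoidHom
  have hLgen : ∀ x hx (d : Dec x) (m : Γ((M₁ N A B).obj.obj d.1.1, ⊤)),
      L x hx d (trT (M₁ N A B).obj d.2.down m) = trT (M₂ N A B).obj d.2.down (ell d.1.1 d.1.2 m) := fun x hx d m =>
    extL_trL d.2.down d.1.2.1 hx (ell d.1.1 d.1.2) m
  have hLsmul : ∀ x hx (d : Dec x) (r : Γ(StMod.sch (Pr A.obj B.obj) x, ⊤)) s, L x hx d (r • s) = r • L x hx d s :=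
    fun x hx d r s => map_smul (extL d.2.down d.1.2.1 hx (ell d.1.1 d.1.2)) (toR r) (toM s)
  -- the characterising property
  have hL : ∀ x hx (d : Dec x) s, k₂ N A B x hx (L x hx d s) = k₁ N A B x hx s := by
    intro x hx d s
    haveI := hx
    haveI := d.1.2.1
    refine top_induction (M₁ N A B) d.2.down (p := fun s => k₂ N A B x hx (L x hx d s) = k₁ N A B x hx s)
      (by rw [map_zero, map_zero, map_zero]) (fun a b ha hb => by rw [map_add, map_add, map_add, ha, hb]) (fun r m => ?_) s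
    rw [hLsmul, k₂_smul, k₁_smul, hLgen, k₂_nat hx d.1.2.1, k₁_nat hx d.1.2.1, hell]
  have hgood : ∀ z (hz : IsGood z) (d d' : Dec z) s, L z hz.1 d s = L z hz.1 d' s := fun z hz d d' s =>
    (k₂_bijective hN hz).1 ((hL z hz.1 d s).trans (hL z hz.1 d' s).symm)
  have hpull : ∀ {x' x} (φ : x' ⟶ x) hx hx' (d : Dec x) s,
      trT (M₂ N A B).obj φ (L x hx d s) = L x' hx' ⟨d.1, ⟨φ ≫ d.2.down⟩⟩ (trT (M₁ N A B).obj φ s) :=
    fun φ hx hx' d s => trL_extL φ d.2.down d.1.2.1 hx hx' (ell d.1.1 d.1.2) s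
  obtain ⟨K, z, hz, hzf, hcov, huniv⟩ := exists_roof gS hQ (StMod.fibFst (BasedFunctor.id Q) A.obj) hA B.obj
  have hindep : ∀ x hx (d d' : Dec x) s, L x hx d s = L x hx d' s := by
    have main : ∀ x hx (d : Dec x) (k : K) (v : x ⟶ z k) s,
        L x hx d s = L x hx ⟨⟨z k, hz k, hzf k⟩, ⟨v⟩⟩ s := by
      intro x hx d k v s
      refine top_ext (M₂ N A B) fun t => ?_
      obtain ⟨x', φ, z₀, h, g, l, hφ, hz₀, hfl, hh, hg⟩ := huniv k d.1.1 x d.2.down v t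
      obtain ⟨x₁, ι, hx₁, hι, -⟩ := exists_affine_hit gP φ hφ (U := ⊤) trivial
      refine ⟨x₁, ι ≫ φ, hι, ?_⟩
      rw [hpull _ hx hx₁, hpull _ hx hx₁]
      have hgood₀ : IsGood z₀ := by
        refine ⟨hz₀, ?_⟩
        have e : StMod.bmap Q z₀.hom = StMod.bmap Q h.left.left ≫ StMod.bmap Q d.1.1.hom := by
          rw [← StMod.bmap_comp]
          exact congrArg (StMod.bmap Q) (CostructuredArrow.w h).symm
        haveI : Flat (StMod.bmap Q h.left.left) := hfl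
        haveI : Flat (StMod.bmap Q d.1.1.hom) := d.1.2.2
        rw [e]
        exact inferInstanceAs (Flat (_ ≫ _))
      have e₁ : (ι ≫ φ) ≫ d.2.down = (ι ≫ l) ≫ h := by rw [Category.assoc, Category.assoc, hh]
      have e₂ : (ι ≫ φ) ≫ v = (ι ≫ l) ≫ g := by rw [Category.assoc, Category.assoc, hg]
      have key : ∀ (d₀ : Dec z₀) s', L x₁ hx₁ ⟨d₀.1, ⟨(ι ≫ l) ≫ d₀.2.down⟩⟩ s' =
          extL (ι ≫ l) hz₀ hx₁ (extL d₀.2.down d₀.1.2.1 hz₀ (ell d₀.1.1 d₀.1.2)) s' := by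
        intro d₀ s'
        haveI := hx₁
        haveI := hz₀
        haveI := d₀.1.2.1
        refine LinearMap.congr_fun (hom_ext_trL (a := extL ((ι ≫ l) ≫ d₀.2.down) d₀.1.2.1 hx₁ (ell d₀.1.1 d₀.1.2))
          ((ι ≫ l) ≫ d₀.2.down) d₀.1.2.1 hx₁ fun m => ?_) s'
        rw [extL_trL, ← trL_comp (ι ≫ l) d₀.2.down, ← trL_comp (ι ≫ l) d₀.2.down, extL_trL, extL_trL]
      rw [show (ι ≫ φ) ≫ d.2.down = (ι ≫ l) ≫ h from e₁, show (ι ≫ φ) ≫ v = (ι ≫ l) ≫ g from e₂,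
        key ⟨d.1, ⟨h⟩⟩, key ⟨⟨z k, hz k, hzf k⟩, ⟨g⟩⟩]
      exact congrArg (fun q => extL (ι ≫ l) hz₀ hx₁ q (trT (M₁ N A B).obj (ι ≫ φ) s))
        (LinearMap.ext fun m => hgood z₀ hgood₀ ⟨d.1, ⟨h⟩⟩ ⟨⟨z k, hz k, hzf k⟩, ⟨g⟩⟩ m)
    intro x hx d d' s
    refine top_ext (M₂ N A B) fun t => ?_
    obtain ⟨x', φ, k, hφ, ⟨v⟩⟩ := hcov x t
    obtain ⟨x₁, ι, hx₁, hι, -⟩ := exists_affine_hit gP φ hφ (U := ⊤) trivial
    refine ⟨x₁, ι ≫ φ, hι, ?_⟩
    rw [hpull _ hx hx₁, hpull _ hx hx₁]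
    exact (main x₁ hx₁ _ k (ι ≫ v) _).trans (main x₁ hx₁ _ k (ι ≫ v) _).symm
  have hdata : LocData (M := M₁ N A B) (N := M₂ N A B) Dec L := by
    refine ⟨gP, fun φ d => ⟨⟨d.1, ⟨φ ≫ d.2.down⟩⟩⟩, fun x t => ?_, hLsmul, ?_⟩
    · obtain ⟨x', φ, k, hφ, ⟨v⟩⟩ := hcov x t
      exact ⟨x', φ, hφ, ⟨⟨⟨z k, hz k, hzf k⟩, ⟨v⟩⟩⟩⟩
    · intro x' x φ hx hx' d d' s
      rw [hpull φ hx hx', hindep x' hx' _ d']
  obtain ⟨C, hC⟩ := hdata.exists_hom
  refine ⟨ObjectProperty.homMk C.hom, fun w hw s => ?_⟩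
  rw [← sub_eq_zero]
  refine N.sep (pob w hw) hN _ fun t => ?_
  obtain ⟨x', φ, k, hφ, ⟨v⟩⟩ := hcov w t
  obtain ⟨x₁, ι, hx₁, hι, -⟩ := exists_affine_hit gP φ hφ (U := ⊤) trivial
  refine ⟨pob x₁ hx₁, (ι ≫ φ).left.left, hι.flat, hι.mem, ?_⟩
  rw [map_sub, sub_eq_zero, ← k₂_nat hx₁ hw (ι ≫ φ), ← k₁_nat hx₁ hw (ι ≫ φ)]
  show k₂ N A B x₁ hx₁ (trT (M₂ N A B).obj (ι ≫ φ) ((C.hom.app w).app ⊤ s)) = _
  rw [show trT (M₂ N A B).obj (ι ≫ φ) ((C.hom.app w).app ⊤ s) =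
    (C.hom.app x₁).app ⊤ (trT (M₁ N A B).obj (ι ≫ φ) s) from tr_hom C.hom (ι ≫ φ) ⊤ ⊤ (top_le _) s,
    hC x₁ hx₁ ⟨⟨z k, hz k, hzf k⟩, ⟨ι ≫ v⟩⟩, hL]

/-- The comparison of the two inverse images. -/
def cmp (hQ : FibCat.IsFibGrpd Q.p) (hN : N.IsBC) (hA : IsOk A.obj) : M₁ N A B ⟶ M₂ N A B :=
  (exists_cmp hQ hN hA).choose

theorem k₂_cmp (hQ : FibCat.IsFibGrpd Q.p) (hN : N.IsBC) (hA : IsOk A.obj) (w : (Pr A.obj B.obj).obj)
    (hw : IsAffine (StMod.sch (Pr A.obj B.obj) w)) (s : Γ((M₁ N A B).obj.obj w, ⊤)) :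
    k₂ N A B w hw (((cmp hQ hN hA).hom.app w).app ⊤ s) = k₁ N A B w hw s :=
  (exists_cmp hQ hN hA).choose_spec w hw s

end Groth.Agent.RelGen
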