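import Mathlib
import Groth.Agent.RelGen.Compare
import Groth.Agent.QDescent.Section

/-!
# The quasi-coherent module of compatible modules on the affine objects
-/

universe u

open CategoryTheory CategoryTheory.Limits AlgebraicGeometry TopologicalSpace Opposite TensorProduct

set_option autoImplicit false
set_option backward.isDefEq.respectTransparency false
set_option backward.isDefEq.respectTransparency.types false
set_option linter.style.haveILetI false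

noncomputable section

namespace Groth.Agent.RelGen

open Groth.Agent.QC Groth.Agent.QDescent AffMod

variable {S : Scheme.{u}} {Q : AlgSt.Cat S}

/-- A morphism as an object over its target. -/
abbrev slObj {y a : Q.obj} (χ : y ⟶ a) : (Sl a).obj :=
  CostructuredArrow.mk (show (BasedFunctor.id Q).obj y ⟶ a from χ)

/-- A morphism of objects over a target. -/
abbrev slHom {y' y a : Q.obj} (ψ : y' ⟶ y) {χ' : y' ⟶ a} {χ : y ⟶ a} (h : ψ ≫ χ = χ') : slObj χ' ⟶ slObj χ :=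
  CostructuredArrow.homMk ψ h

/-- A pair of morphisms as an object. -/
abbrev prObj {y a b : Q.obj} (χ : y ⟶ a) (χ' : y ⟶ b) : (Pr a b).obj :=
  CostructuredArrow.mk (S := (StMod.fibFst (BasedFunctor.id Q) a).toFunctor) (Y := slObj χ) χ'

/-- A morphism of pairs. -/
abbrev prHom {y' y a b : Q.obj} (ψ : y' ⟶ y) {χ₁' : y' ⟶ a} {χ₁ : y ⟶ a} (h₁ : ψ ≫ χ₁ = χ₁') {χ₂' : y' ⟶ b}
    {χ₂ : y ⟶ b} (h₂ : ψ ≫ χ₂ = χ₂') : prObj χ₁' χ₂' ⟶ prObj χ₁ χ₂ :=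
  CostructuredArrow.homMk (slHom ψ h₁) h₂

/-- Pairs of morphisms are covered by flat affine ones. -/
theorem exists_good (hQ : FibCat.IsFibGrpd Q.p) {a : Q.obj} (ha : IsOk a) {y b : Q.obj} (χ : y ⟶ a) (χ' : y ⟶ b)
    (t : StMod.sch Q y) :
    ∃ (y' : Q.obj) (φ : y' ⟶ y) (z : Q.obj) (p : z ⟶ a) (q : z ⟶ b) (v : y' ⟶ z), Hits φ t ∧
      IsAffine (StMod.sch Q y') ∧ IsAffine (StMod.sch Q z) ∧ Flat (StMod.bmap Q q) ∧ v ≫ p = φ ≫ χ ∧ v ≫ q = φ ≫ χ' := by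
  have gS := isFibGrpd_fibCat hQ (BasedFunctor.id Q) a
  obtain ⟨K, z, hz, hzf, hcov, -⟩ := exists_roof gS hQ (StMod.fibFst (BasedFunctor.id Q) a) ha b
  obtain ⟨x', φ, k, hφ, ⟨v⟩⟩ := hcov (prObj χ χ') t
  obtain ⟨x₁, ι, hx₁, hι, -⟩ :=
    exists_affine_hit (isFibGrpd_fibCat gS (StMod.fibFst (BasedFunctor.id Q) a) b) φ hφ (U := ⊤) trivial
  refine ⟨x₁.left.left, (ι ≫ φ).left.left, (z k).left.left, (z k).left.hom, (z k).hom, (ι ≫ v).left.left,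
    ⟨hι.flat, hι.lfp, hι.mem⟩, hx₁, hz k, hzf k, ?_, ?_⟩
  · exact (CostructuredArrow.w (ι ≫ v).left).trans (CostructuredArrow.w (ι ≫ φ).left).symm
  · exact (CostructuredArrow.w (ι ≫ v)).trans (CostructuredArrow.w (ι ≫ φ)).symm

variable (N : AffMod Q) (hQ : FibCat.IsFibGrpd Q.p) (hN : N.IsBC)

/-- The comparison at a pair of morphisms. -/
def cmpAt {A B : AObj Q} (hA : IsOk A.obj) {y : Q.obj} (χ : y ⟶ A.obj) (χ' : y ⟶ B.obj) :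
    (N.T A).obj.obj (slObj χ) ⟶ (N.T B).obj.obj (slObj χ') :=
  (cmp (B := B) hQ hN hA).hom.app (prObj χ χ')

theorem kap_cmpAt {A B : AObj Q} (hA : IsOk A.obj) {y : Q.obj} (χ : y ⟶ A.obj) (χ' : y ⟶ B.obj)
    (hy : IsAffine (StMod.sch Q y)) (s : Γ((N.T A).obj.obj (slObj χ), ⊤)) :
    N.kap B (slObj χ') hy ((cmpAt N hQ hN hA χ χ').app ⊤ s) = N.kap A (slObj χ) hy s :=
  k₂_cmp (B := B) hQ hN hA (prObj χ χ') hy s

theorem tr_cmpAt {A B : AObj Q} (hA : IsOk A.obj) {y' y : Q.obj} (ψ : y' ⟶ y) {χ₁' : y' ⟶ A.obj} {χ₁ : y ⟶ A.obj}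
    (h₁ : ψ ≫ χ₁ = χ₁') {χ₂' : y' ⟶ B.obj} {χ₂ : y ⟶ B.obj} (h₂ : ψ ≫ χ₂ = χ₂')
    (U : (StMod.sch Q y).Opens) (V : (StMod.sch Q y').Opens) (e : V ≤ StMod.bmap Q ψ ⁻¹ᵁ U)
    (s : Γ((N.T A).obj.obj (slObj χ₁), U)) :
    tr (N.T B).obj (slHom ψ h₂) U V e ((cmpAt N hQ hN hA χ₁ χ₂).app U s) =
      (cmpAt N hQ hN hA χ₁' χ₂').app V (tr (N.T A).obj (slHom ψ h₁) U V e s) := by
  have h := tr_hom (cmp (B := B) hQ hN hA).hom (prHom ψ h₁ h₂) U V e s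
  rw [tr_snd₂ (N.T B) (prHom ψ h₁ h₂) U V e, tr_onFib _ (N.T A) B.obj (prHom ψ h₁ h₂) U V e] at h
  exact h

include hQ hN in
theorem kap_inj {B : AObj Q} {y : Q.obj} (χ : y ⟶ B.obj) (hy : IsAffine (StMod.sch Q y))
    (hfl : Flat (StMod.bmap Q χ)) : Function.Injective (N.kap B (slObj χ) hy) :=
  (N.kap_bijective B hN (slObj χ) hy hfl).1

theorem cmpAt_self {A : AObj Q} (hA : IsOk A.obj) {y : Q.obj} (χ : y ⟶ A.obj) :
    cmpAt N hQ hN hA χ χ = 𝟙 _ := by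
  have gS := isFibGrpd_fibCat hQ (BasedFunctor.id Q) A.obj
  refine Scheme.Modules.hom_ext _ _ fun U => ?_
  ext s
  show (cmpAt N hQ hN hA χ χ).app U s = s
  choose y' φ haff hit hle using fun t : U => exists_affine_hit hQ (𝟙 y) (hits_id y t.1) t.2
  refine sect_ext (N.T A) (z := slObj χ) (φ := fun t : U => slHom (φ t ≫ 𝟙 y) (χ' := (φ t ≫ 𝟙 y) ≫ χ) rfl)
    (V := U) ⟨fun t => ⟨(hit t).flat, (hit t).lfp⟩, fun x hx => ⟨⟨x, hx⟩, (hit ⟨x, hx⟩).mem⟩⟩ fun t => ?_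
  rw [tr_cmpAt N hQ hN hA (φ t ≫ 𝟙 y) rfl rfl]
  have key : ∀ (V : (StMod.sch Q (y' t)).Opens), ⊤ ≤ V → ∀ r : Γ((N.T A).obj.obj (slObj ((φ t ≫ 𝟙 y) ≫ χ)), V),
      (cmpAt N hQ hN hA ((φ t ≫ 𝟙 y) ≫ χ) ((φ t ≫ 𝟙 y) ≫ χ)).app V r = r := by
    intro V hV r
    obtain rfl : V = ⊤ := top_le_iff.1 hV
    generalize (φ t ≫ 𝟙 y) ≫ χ = χ₁ at r ⊢
    haveI := haff t
    haveI : IsAffine (StMod.sch (Sl A.obj) (slObj χ₁)) := haff t
    refine top_induction (N.T A) (slHom χ₁ (χ := 𝟙 A.obj) (Category.comp_id χ₁))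
      (p := fun r => (cmpAt N hQ hN hA χ₁ χ₁).app ⊤ r = r) (map_zero _)
      (fun a b ha hb => by rw [map_add, ha, hb]) (fun c m => ?_) r
    rw [Scheme.Modules.Hom.app_smul]
    congr 1
    refine (tr_cmpAt N hQ hN hA χ₁ (Category.comp_id χ₁) (Category.comp_id χ₁) ⊤ ⊤ _ m).symm.trans ?_
    refine congrArg _ ?_
    refine kap_inj N hQ hN (𝟙 A.obj) A.aff (by rw [StMod.bmap_id]; infer_instance) ?_
    exact kap_cmpAt N hQ hN hA (𝟙 A.obj) (𝟙 A.obj) A.aff m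
  exact key _ (hle t) _

theorem cmpAt_comp {A B C : AObj Q} (hA : IsOk A.obj) (hB : IsOk B.obj) {y : Q.obj} (χ₁ : y ⟶ A.obj)
    (χ₂ : y ⟶ B.obj) (χ₃ : y ⟶ C.obj) :
    cmpAt N hQ hN hA χ₁ χ₂ ≫ cmpAt N hQ hN hB χ₂ χ₃ = cmpAt N hQ hN hA χ₁ χ₃ := by
  have loc : ∀ t : StMod.sch Q y, ∃ (y' : Q.obj) (φ : y' ⟶ y), Hits φ t ∧
      ∃ (w : Q.obj) (u : y' ⟶ w) (a : w ⟶ A.obj) (b : w ⟶ B.obj) (c : w ⟶ C.obj), IsAffine (StMod.sch Q w) ∧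
        Flat (StMod.bmap Q c) ∧ u ≫ a = φ ≫ χ₁ ∧ u ≫ b = φ ≫ χ₂ ∧ u ≫ c = φ ≫ χ₃ := by
    intro t
    obtain ⟨y₁, φ₁, z, p, q, v, h₁, -, hz, hq, hvp, hvq⟩ := exists_good hQ hA χ₁ χ₂ t
    obtain ⟨t₁, ht₁⟩ := h₁.mem
    obtain ⟨y₂, φ₂, z', p', q', v', h₂, -, hz', hq', hvp', hvq'⟩ := exists_good hQ hB (φ₁ ≫ χ₂) (φ₁ ≫ χ₃) t₁
    obtain ⟨w, ew, g, hg⟩ := exists_lift_scheme hQ (x := z) (pullback.fst (StMod.bmap Q q) (StMod.bmap Q p'))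
    obtain ⟨g', hg', hgp⟩ := exists_factor hQ p' (g ≫ q)
      (eqToHom ew ≫ pullback.snd (StMod.bmap Q q) (StMod.bmap Q p')) (by
        rw [StMod.bmap_comp, hg, Category.assoc, Category.assoc, pullback.condition])
    have hcond : StMod.bmap Q (φ₂ ≫ v) ≫ StMod.bmap Q q = StMod.bmap Q v' ≫ StMod.bmap Q p' := by
      rw [← StMod.bmap_comp, ← StMod.bmap_comp, Category.assoc, hvq, hvp']
    obtain ⟨u, hu, hug⟩ := exists_factor hQ g (φ₂ ≫ v) (pullback.lift _ _ hcond ≫ eqToHom ew.symm) (by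
      rw [hg]; simp)
    have hug' : u ≫ g' = v' := by
      refine eq_of_bmap hQ p' ?_ ?_
      · rw [StMod.bmap_comp, hg', hu]; simp
      · rw [Category.assoc, hgp, ← Category.assoc, hug, Category.assoc, hvq, hvp']
    haveI := hq
    haveI := hq'
    haveI : IsAffine (StMod.sch Q z) := hz
    haveI : IsAffine (StMod.sch Q z') := hz'
    haveI : IsAffine (pullback (StMod.bmap Q q) (StMod.bmap Q p')) := inferInstance
    refine ⟨y₂, φ₂ ≫ φ₁, hits_comp h₂ h₁ ht₁, w, u, g ≫ p, g ≫ q, g' ≫ q', IsAffine.of_isIso (eqToHom ew), ?_,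
      ?_, ?_, ?_⟩
    · rw [StMod.bmap_comp, hg']; infer_instance
    · rw [← Category.assoc, hug, Category.assoc, hvp, Category.assoc]
    · rw [← Category.assoc, hug, Category.assoc, hvq, Category.assoc]
    · rw [← Category.assoc, hug', hvq', Category.assoc]
  refine Scheme.Modules.hom_ext _ _ fun U => ?_
  ext s
  show (cmpAt N hQ hN hB χ₂ χ₃).app U ((cmpAt N hQ hN hA χ₁ χ₂).app U s) = (cmpAt N hQ hN hA χ₁ χ₃).app U s
  choose y₀ φ₀ hit₀ w₀ u₀ a b c hw hc hua hub huc using loc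
  choose y' ι haff hit hle using fun t : U => exists_affine_hit hQ (φ₀ t.1) (hit₀ t.1) t.2
  refine sect_ext (N.T C) (z := slObj χ₃) (φ := fun t : U => slHom (ι t ≫ φ₀ t.1) (χ' := (ι t ≫ φ₀ t.1) ≫ χ₃) rfl)
    (V := U) ⟨fun t => ⟨(hit t).flat, (hit t).lfp⟩, fun x hx => ⟨⟨x, hx⟩, (hit ⟨x, hx⟩).mem⟩⟩ fun t => ?_
  rw [tr_cmpAt N hQ hN hB (ι t ≫ φ₀ t.1) (χ₁ := χ₂) rfl rfl, tr_cmpAt N hQ hN hA (ι t ≫ φ₀ t.1) (χ₁ := χ₁) rfl rfl,
    tr_cmpAt N hQ hN hA (ι t ≫ φ₀ t.1) (χ₁ := χ₁) rfl rfl]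
  have key : ∀ (V : (StMod.sch Q (y' t)).Opens), ⊤ ≤ V →
      ∀ r : Γ((N.T A).obj.obj (slObj ((ι t ≫ φ₀ t.1) ≫ χ₁)), V),
      (cmpAt N hQ hN hB ((ι t ≫ φ₀ t.1) ≫ χ₂) ((ι t ≫ φ₀ t.1) ≫ χ₃)).app V
        ((cmpAt N hQ hN hA ((ι t ≫ φ₀ t.1) ≫ χ₁) ((ι t ≫ φ₀ t.1) ≫ χ₂)).app V r) =
      (cmpAt N hQ hN hA ((ι t ≫ φ₀ t.1) ≫ χ₁) ((ι t ≫ φ₀ t.1) ≫ χ₃)).app V r := by
    intro V hV r
    obtain rfl : V = ⊤ := top_le_iff.1 hV
    have e₁ : (ι t ≫ u₀ t.1) ≫ a t.1 = (ι t ≫ φ₀ t.1) ≫ χ₁ := by rw [Category.assoc, hua, ← Category.assoc]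
    have e₂ : (ι t ≫ u₀ t.1) ≫ b t.1 = (ι t ≫ φ₀ t.1) ≫ χ₂ := by rw [Category.assoc, hub, ← Category.assoc]
    have e₃ : (ι t ≫ u₀ t.1) ≫ c t.1 = (ι t ≫ φ₀ t.1) ≫ χ₃ := by rw [Category.assoc, huc, ← Category.assoc]
    generalize ι t ≫ u₀ t.1 = u at e₁ e₂ e₃
    generalize (ι t ≫ φ₀ t.1) ≫ χ₁ = x₁ at e₁ r ⊢
    generalize (ι t ≫ φ₀ t.1) ≫ χ₂ = x₂ at e₂ ⊢
    generalize (ι t ≫ φ₀ t.1) ≫ χ₃ = x₃ at e₃ ⊢
    haveI := haff t
    haveI : IsAffine (StMod.sch (Sl A.obj) (slObj x₁)) := haff t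
    haveI : IsAffine (StMod.sch (Sl A.obj) (slObj (a t.1))) := hw t.1
    refine top_induction (N.T A) (slHom u e₁) (p := fun r =>
      (cmpAt N hQ hN hB x₂ x₃).app ⊤ ((cmpAt N hQ hN hA x₁ x₂).app ⊤ r) = (cmpAt N hQ hN hA x₁ x₃).app ⊤ r)
      (by rw [map_zero, map_zero, map_zero]) (fun a b ha hb => by rw [map_add, map_add, map_add, ha, hb])
      (fun d m => ?_) r
    rw [Scheme.Modules.Hom.app_smul, Scheme.Modules.Hom.app_smul, Scheme.Modules.Hom.app_smul]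
    congr 1
    show (cmpAt N hQ hN hB x₂ x₃).app ⊤ ((cmpAt N hQ hN hA x₁ x₂).app ⊤ (tr (N.T A).obj (slHom u e₁) ⊤ ⊤ _ m)) =
      (cmpAt N hQ hN hA x₁ x₃).app ⊤ (tr (N.T A).obj (slHom u e₁) ⊤ ⊤ _ m)
    rw [← tr_cmpAt N hQ hN hA u e₁ e₂, ← tr_cmpAt N hQ hN hB u e₂ e₃, ← tr_cmpAt N hQ hN hA u e₁ e₃]
    refine congrArg _ ?_
    refine kap_inj N hQ hN (c t.1) (hw t.1) (hc t.1) ?_
    rw [kap_cmpAt, kap_cmpAt, kap_cmpAt]
  exact key _ (hle t) _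

/-- The objects together with a morphism to an affine object through which everything is flat. -/
structure OkObj (Q : AlgSt.Cat S) where
  /-- the object -/
  obj : Q.obj
  /-- the affine object -/
  base : AObj Q
  ok : IsOk base.obj
  /-- the morphism -/
  map : obj ⟶ base.obj

/-- The category of objects with a morphism to such an affine object. -/
abbrev Cov (Q : AlgSt.Cat S) : AlgSt.Cat S where
  obj := InducedCategory Q.obj (OkObj.obj (Q := Q))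
  p := inducedFunctor (OkObj.obj (Q := Q)) ⋙ Q.p

/-- Forgetting the morphism. -/
def incl (Q : AlgSt.Cat S) : Cov Q ⥤ᵇ Q where
  toFunctor := inducedFunctor (OkObj.obj (Q := Q))
  w := rfl

include hQ in
theorem isFibGrpd_Cov : FibCat.IsFibGrpd (Cov Q).p := by
  refine FibCatRep.isFibGrpd_mk (fun {x V} f => ?_) fun {z y x} φ ψ g h => ?_
  · obtain ⟨y, φ, hV, hφ⟩ := FibCatRep.exists_lift hQ (x := OkObj.obj x) f
    exact ⟨⟨y, x.base, x.ok, φ ≫ x.map⟩, InducedCategory.homMk φ, hV, hφ⟩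
  · obtain ⟨c, ⟨hc₁, hc₂⟩, hu⟩ := FibCatRep.existsUnique_cart hQ φ.hom ψ.hom g h
    exact ⟨⟨c⟩, ⟨hc₁, InducedCategory.hom_ext hc₂⟩, fun c' hc' => InducedCategory.hom_ext
      (hu c'.hom ⟨hc'.1, congrArg InducedCategory.Hom.hom hc'.2⟩)⟩

/-- The glued module on the objects with a morphism. -/
def covMap {o' o : (Cov Q).obj} (φ : o' ⟶ o) (g : StMod.sch (Cov Q) o' ⟶ StMod.sch (Cov Q) o)
    (hg : StMod.bmap (Cov Q) φ = g) :
    (show (StMod.sch (Cov Q) o).Modules from (N.T o.base).obj.obj (slObj o.map)) ⟶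
      (Scheme.Modules.pushforward g).obj (show (StMod.sch (Cov Q) o').Modules from (N.T o'.base).obj.obj (slObj o'.map)) :=
  (N.T o.base).obj.map (slHom φ.hom (χ' := φ.hom ≫ o.map) rfl) (g := g) hg ≫
    (Scheme.Modules.pushforward g).map (cmpAt N hQ hN o.ok (φ.hom ≫ o.map) o'.map)

theorem covMap_app {o' o : (Cov Q).obj} (φ : o' ⟶ o) (g : StMod.sch (Cov Q) o' ⟶ StMod.sch (Cov Q) o)
    (hg : StMod.bmap (Cov Q) φ = g) (U : (StMod.sch Q o.obj).Opens) (e : g ⁻¹ᵁ U ≤ StMod.bmap Q φ.hom ⁻¹ᵁ U)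
    (s : Γ((N.T o.base).obj.obj (slObj o.map), U)) :
    (covMap N hQ hN φ g hg).app U s = (cmpAt N hQ hN o.ok (φ.hom ≫ o.map) o'.map).app (g ⁻¹ᵁ U)
      (tr (N.T o.base).obj (slHom φ.hom (χ' := φ.hom ≫ o.map) rfl) U (g ⁻¹ᵁ U) e s) := by
  rw [tr_eq_map (N.T o.base).obj (slHom φ.hom (χ' := φ.hom ≫ o.map) rfl) hg U e s]
  rfl

theorem cmpAt_id_tr {A : AObj Q} (hA : IsOk A.obj) {y : Q.obj} (χ χ' : y ⟶ A.obj) (h : 𝟙 y ≫ χ = χ')
    (U V : (StMod.sch Q y).Opens) (e : V ≤ StMod.bmap Q (𝟙 y) ⁻¹ᵁ U) (e' : V ≤ U)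
    (s : Γ((N.T A).obj.obj (slObj χ), U)) :
    (cmpAt N hQ hN hA χ' χ).app V (tr (N.T A).obj (slHom (𝟙 y) h) U V e s) = res _ e' s := by
  obtain rfl : χ' = χ := h.symm.trans (Category.id_comp χ)
  rw [cmpAt_self]
  refine (tr_congr (N.T A).obj (φ' := 𝟙 (slObj χ')) (CostructuredArrow.hom_ext _ _ rfl) U V e
    (e.trans (le_of_eq rfl)) s).trans ?_
  exact tr_id (N.T A).obj (z := slObj χ') U V e' _ s

/-- The glued module. -/
def covMod : StMod.Mod (Cov Q) where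
  obj o := (N.T o.base).obj.obj (slObj o.map)
  map φ g hg := covMap N hQ hN φ g hg
  map_id o := by
    refine Scheme.Modules.hom_ext _ _ fun U => ?_
    simp only [Scheme.Modules.Hom.comp_app, Scheme.Modules.pushforwardId_hom_app_app, Scheme.Modules.Hom.id_app]
    ext s
    have e : (𝟙 (StMod.sch Q o.obj)) ⁻¹ᵁ U ≤ StMod.bmap Q (𝟙 o : o ⟶ o).hom ⁻¹ᵁ U := by
      show _ ≤ StMod.bmap Q (𝟙 o.obj) ⁻¹ᵁ U
      rw [StMod.bmap_id]
    refine (covMap_app N hQ hN (𝟙 o) (𝟙 _) (StMod.bmap_id o) U e s).trans ?_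
    exact (cmpAt_id_tr N hQ hN o.ok o.map (𝟙 o.obj ≫ o.map) rfl U _ e le_rfl s).trans (res_self _ _ _)
  map_comp {o'' o' o} ψ φ h g hh hg := by
    refine Scheme.Modules.hom_ext _ _ fun U => ?_
    simp only [Scheme.Modules.Hom.comp_app, Scheme.Modules.pushforwardComp_hom_app_app,
      Scheme.Modules.pushforward_map_app]
    ext s
    have e₁ : g ⁻¹ᵁ U ≤ StMod.bmap Q φ.hom ⁻¹ᵁ U := by subst hg; exact le_rfl
    have e₂ : h ⁻¹ᵁ (g ⁻¹ᵁ U) ≤ StMod.bmap Q ψ.hom ⁻¹ᵁ (g ⁻¹ᵁ U) := by subst hh; exact le_rfl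
    have e₁₂ : (h ≫ g) ⁻¹ᵁ U ≤ StMod.bmap Q (ψ.hom ≫ φ.hom) ⁻¹ᵁ U := by
      subst hh hg
      rw [StMod.bmap_comp]
      exact le_rfl
    refine (covMap_app N hQ hN (ψ ≫ φ) (h ≫ g) _ U e₁₂ s).trans ?_
    refine Eq.trans ?_ ((congrArg (fun r => (covMap N hQ hN ψ h hh).app (g ⁻¹ᵁ U) r)
      (covMap_app N hQ hN φ g hg U e₁ s)).trans (covMap_app N hQ hN ψ h hh (g ⁻¹ᵁ U) e₂ _)).symm
    show (cmpAt N hQ hN o.ok ((ψ.hom ≫ φ.hom) ≫ o.map) o''.map).app _ _ = _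
    rw [tr_cmpAt N hQ hN o.ok ψ.hom (χ₁' := (ψ.hom ≫ φ.hom) ≫ o.map) (Category.assoc _ _ _).symm rfl,
      ← cmpAt_comp N hQ hN o.ok o'.ok ((ψ.hom ≫ φ.hom) ≫ o.map) (ψ.hom ≫ o'.map) o''.map, Scheme.Modules.Hom.comp_app]
    refine congrArg (fun r => (cmpAt N hQ hN o'.ok (ψ.hom ≫ o'.map) o''.map).app _
      ((cmpAt N hQ hN o.ok ((ψ.hom ≫ φ.hom) ≫ o.map) (ψ.hom ≫ o'.map)).app _ r)) ?_
    rw [tr_tr]
    exact tr_congr (N.T o.base).obj (CostructuredArrow.hom_ext _ _ rfl) _ _ _ _ s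

theorem isCartesian_covMod : (covMod N hQ hN).IsCartesian := by
  intro o' o φ g hg
  show IsIso (((Scheme.Modules.pullbackPushforwardAdjunction g).homEquiv _ _).symm (covMap N hQ hN φ g hg))
  rw [covMap, Adjunction.homEquiv_naturality_right_symm]
  haveI : IsIso (((Scheme.Modules.pullbackPushforwardAdjunction g).homEquiv _ _).symm
      ((N.T o.base).obj.map (slHom φ.hom (χ' := φ.hom ≫ o.map) rfl) (g := g) hg)) :=
    (N.T o.base).property.1 (slHom φ.hom (χ' := φ.hom ≫ o.map) rfl) (g := g) hg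
  haveI : IsIso (cmpAt N hQ hN o.ok (φ.hom ≫ o.map) o'.map) :=
    ⟨cmpAt N hQ hN o'.ok o'.map (φ.hom ≫ o.map), by rw [cmpAt_comp, cmpAt_self], by rw [cmpAt_comp, cmpAt_self]⟩
  exact IsIso.comp_isIso

/-- The glued quasi-coherent module on the objects with a morphism. -/
def covQ : StMod.QCoh (Cov Q) :=
  ⟨covMod N hQ hN, isCartesian_covMod N hQ hN, fun o => (N.T o.base).property.2 _⟩

/-- The trivial action on the objects with a morphism. -/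
def iotaCov (Q : AlgSt.Cat S) : TwSh.BandHom (Cov Q) (A1 S) where
  hom _ := 1
  natural φ _ := (Category.id_comp φ).trans (Category.comp_id φ).symm

theorem isBandedGerbe_incl (hQ' : AlgSt.IsAlgStack Scheme.fppfPrecoverage Q)
    (hloc : Gerb.LocSurjObj (QuotSh.J Scheme.fppfPrecoverage S) (incl Q)) :
    TwSh.IsBandedGerbe (QuotSh.J Scheme.fppfPrecoverage S) (incl Q) (iotaCov Q) := by
  refine ⟨⟨hloc, fun x x' b hb => ?_⟩, fun x => ⟨?_, ?_⟩⟩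
  · refine ⟨⊤, GrothendieckTopology.top_mem _ _, fun V f _ => ?_⟩
    obtain ⟨z, φ, hφ⟩ := GerbLib.lift_at (isFibGrpd_Cov hQ'.isStack.1) (x := x) rfl f
    have hb' : (Cov Q).p.IsHomLift (𝟙 ((Cov Q).p.obj x)) (⟨b⟩ : x ⟶ x') :=
      (BasedFunctor.isHomLift_iff (incl Q) (𝟙 ((Cov Q).p.obj x)) (⟨b⟩ : x ⟶ x')).mp hb
    exact ⟨z, φ, φ ≫ ⟨b⟩, hφ, GerbLib.lift_comp_id f φ _ hφ hb', rfl⟩
  · exact fun g g' _ => Subsingleton.elim (α := PUnit.{u + 1}) g g'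
  · refine le_antisymm ?_ fun β hβ => ?_
    · rintro _ ⟨g, rfl⟩
      exact map_one (Gerb.autMap (incl Q) x)
    · refine ⟨PUnit.unit, ?_⟩
      refine Aut.ext (Functor.Fiber.hom_ext (InducedCategory.hom_ext ?_))
      exact (congrArg (fun γ : Gerb.AutO ((incl Q).obj x) => γ.hom.1) (MonoidHom.mem_ker.mp hβ)).symm

theorem isTwisted_covQ : TwSh.IsTwisted (covQ N hQ hN).obj (iotaCov Q) (chi1 S) 0 := by
  intro o a U s
  rw [show (iotaCov Q).hom o a = 1 from rfl, TwSh.inert_one, zpow_zero, inv_one, Units.val_one, map_one, one_smul]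
  rfl

end Groth.Agent.RelGen
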