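import Mathlib
import Groth.Agent.RelGen.Glue

/-!
# Descent of compatible modules on the affine objects to the stack
-/

universe u

open CategoryTheory CategoryTheory.Limits AlgebraicGeometry TopologicalSpace Opposite TensorProduct

set_option autoImplicit false
set_option backward.isDefEq.respectTransparency false
set_option backward.isDefEq.respectTransparency.types false
set_option linter.style.haveILetI false

noncomputable section

namespace Groth.Agent.RelGen

open Groth.Agent.QC Groth.Agent.QDescent AffMod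

variable {S : Scheme.{u}} {Q : AlgSt.Cat S}

/-- An object with a morphism whose scheme is affine, as an affine object. -/
abbrev cob (o : (Cov Q).obj) (ho : IsAffine (StMod.sch Q (OkObj.obj o))) : AObj Q := ⟨OkObj.obj o, ho⟩

/-- A quasi-coherent module on the stack with values the given modules. -/
structure Realization (N : AffMod Q) where
  /-- the module -/
  G : StMod.QCoh Q
  /-- the comparison -/
  ρ : ∀ (o : (Cov Q).obj) (ho : IsAffine (StMod.sch Q (OkObj.obj o))),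
    Γ(G.obj.obj (OkObj.obj o), ⊤) →+ N.ob (cob o ho)
  ρ_smul : ∀ (o : (Cov Q).obj) ho (r : Γ(StMod.sch Q (OkObj.obj o), ⊤)) (s : Γ(G.obj.obj (OkObj.obj o), ⊤)),
    ρ o ho (r • s) = r • ρ o ho s
  ρ_nat : ∀ {o' o : (Cov Q).obj} (φ : o' ⟶ o) ho' ho (s : Γ(G.obj.obj (OkObj.obj o), ⊤)),
    ρ o' ho' (trT G.obj φ.hom s) = N.r (A' := cob o' ho') (A := cob o ho) φ.hom (ρ o ho s)
  ρ_bij : ∀ (o : (Cov Q).obj) ho, Flat (StMod.bmap Q o.map) → Function.Bijective (ρ o ho)

theorem locSurjObj_incl (hQ : AlgSt.IsAlgStack Scheme.fppfPrecoverage Q) :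
    Gerb.LocSurjObj (QuotSh.J Scheme.fppfPrecoverage S) (incl Q) := by
  intro y
  choose w φ a hφ haff hok ha using exists_ok_hit hQ y
  let V : StMod.sch Q y → Over S := fun t => Q.p.obj (w t)
  let f : ∀ t, V t ⟶ Q.p.obj y := fun t => Q.p.map (φ t)
  refine ⟨Sieve.generate (Presieve.ofArrows V f), AlgSpLib.generate_ofArrows_mem_J f ?_, fun W g hg => ?_⟩
  · rw [Scheme.fppfPrecoverage, Scheme.ofArrows_mem_precoverage_iff]
    exact ⟨fun t => ⟨t, (hφ t).mem⟩, fun t => ⟨(hφ t).flat, (hφ t).lfp⟩⟩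
  · obtain ⟨Y, h, q, ⟨t⟩, rfl⟩ := hg
    obtain ⟨z, ψ, hψ⟩ := GerbLib.lift_at hQ.isStack.1 rfl h
    obtain ⟨χ⟩ := ha t
    haveI := hψ
    refine ⟨⟨z, ⟨a t, haff t⟩, hok t, ψ ≫ χ⟩, ψ ≫ φ t, ?_⟩
    have : Q.p.IsHomLift (h ≫ Q.p.map (φ t)) (ψ ≫ φ t) := inferInstance
    exact this

variable (N : AffMod Q)

/-- Compatible modules on the affine objects come from a quasi-coherent module. -/
theorem exists_realization (hQ : AlgSt.IsAlgStack Scheme.fppfPrecoverage Q) (hN : N.IsBC) :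
    Nonempty (Realization N) := by
  have gQ := hQ.isStack.1
  obtain ⟨G, ⟨i⟩⟩ := QDescent.exists_iso_comapQ (incl Q) (isFibGrpd_Cov gQ) gQ
    (isBandedGerbe_incl hQ (locSurjObj_incl hQ)) (isTwisted_covQ N gQ hN)
  let c : ∀ o : (Cov Q).obj, G.obj.obj (OkObj.obj o) ⟶ (N.T o.base).obj.obj (slObj o.map) := fun o =>
    i.inv.hom.app o
  have hc : ∀ o, Function.Bijective ((c o).app ⊤) := fun o => by
    haveI : IsIso (c o) :=
      ⟨i.hom.hom.app o, congr(($(i.inv_hom_id)).hom.app o), congr(($(i.hom_inv_id)).hom.app o)⟩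
    exact ConcreteCategory.bijective_of_isIso ((c o).app ⊤)
  refine ⟨⟨G, fun o ho => (N.kap o.base (slObj o.map) ho).comp ((c o).app ⊤).hom, fun o ho r s => ?_,
    fun {o' o} φ ho' ho s => ?_, fun o ho hfl => ?_⟩⟩
  · show N.kap o.base (slObj o.map) ho ((c o).app ⊤ (r • s)) = r • N.kap o.base (slObj o.map) ho ((c o).app ⊤ s)
    rw [Scheme.Modules.Hom.app_smul]
    exact N.kap_smul o.base (slObj o.map) ho r _
  · show N.kap o'.base (slObj o'.map) ho' ((c o').app ⊤ (trT G.obj φ.hom s)) = N.r (A' := cob o' ho') (A := cob o ho)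
      φ.hom (N.kap o.base (slObj o.map) ho ((c o).app ⊤ s))
    have h1 := tr_hom i.inv.hom φ ⊤ ⊤ (top_le φ) s
    have h2 : tr ((StMod.comapQ (incl Q)).obj G).obj φ ⊤ ⊤ (top_le φ) s = trT G.obj φ.hom s :=
      congrArg (res (G.obj.obj (OkObj.obj o')) (top_le φ)) congr($(show (StMod.Mod.comap (incl Q) G.obj).map φ rfl =
        G.obj.map φ.hom rfl by rw [StMod.Mod.comap_map]; exact StMod.castMap_rfl_self _ _).app ⊤ s)
    rw [h2] at h1
    have hp : (StMod.bmap (Cov Q) φ) ⁻¹ᵁ ⊤ ≤ StMod.bmap Q φ.hom ⁻¹ᵁ (⊤ : (StMod.sch Q (OkObj.obj o)).Opens) := le_rfl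
    have h3 : tr (covQ N gQ hN).obj φ ⊤ ⊤ (top_le φ) ((c o).app ⊤ s) =
        (cmpAt N gQ hN o.ok (φ.hom ≫ o.map) o'.map).app ⊤
          (trT (N.T o.base).obj (slHom φ.hom (χ' := φ.hom ≫ o.map) rfl) ((c o).app ⊤ s)) :=
      (res_self _ _ _).trans (covMap_app N gQ hN φ _ rfl ⊤ hp ((c o).app ⊤ s))
    refine (congrArg (N.kap o'.base (slObj o'.map) ho') (h1.symm.trans h3)).trans ?_
    rw [kap_cmpAt]
    exact N.kap_nat o.base (w' := slObj (φ.hom ≫ o.map)) (w := slObj o.map) ho' ho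
      (slHom φ.hom (χ' := φ.hom ≫ o.map) rfl) _
  · exact (N.kap_bijective o.base hN (slObj o.map) ho hfl).comp (hc o)

end Groth.Agent.RelGen
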