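import Mathlib
import Groth.Agent.RelGen.Desc
import Groth.Agent.RelGen.FlatHom
import Groth.Agent.RelGen.Fibres

/-!
# Morphisms over the affine objects of the base, as compatible modules
-/

universe u

open CategoryTheory CategoryTheory.Limits AlgebraicGeometry TopologicalSpace Opposite TensorProduct

set_option autoImplicit false
set_option backward.isDefEq.respectTransparency false
set_option backward.isDefEq.respectTransparency.types false
set_option linter.style.haveILetI false

noncomputable section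

namespace Groth.Agent.RelGen

open Groth.Agent.QC Groth.Agent.QDescent AffMod

variable {S : Scheme.{u}} {𝒳 Q : AlgSt.Cat S}

/-- The standing hypotheses on a functor. -/
structure FibData (π : 𝒳 ⥤ᵇ Q) : Prop where
  srcFib : FibCat.IsFibGrpd 𝒳.p
  tgtFib : FibCat.IsFibGrpd Q.p
  qc : ∀ η : Q.obj, IsAffine (StMod.sch Q η) → IsQC (StMod.fibCat π η)
  qs : ∀ η : Q.obj, IsAffine (StMod.sch Q η) → IsQS (StMod.fibCat π η)

variable {π : 𝒳 ⥤ᵇ Q}

theorem appMk_congr {η : Q.obj} {F G : StMod.QCoh (StMod.fibCat π η)} (φ : F ⟶ G) {ξ : 𝒳.obj}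
    {α α' : π.obj ξ ⟶ η} (h : α = α') :
    HEq (φ.hom.app (CostructuredArrow.mk α)) (φ.hom.app (CostructuredArrow.mk α')) := by
  subst h; rfl

variable (E M : StMod.QCoh 𝒳)

/-- Morphisms over an object of the base, transported along a morphism. -/
def transp {η' η : Q.obj} (g : η' ⟶ η) : (onFib π E η ⟶ onFib π M η) →+ (onFib π E η' ⟶ onFib π M η') :=
  AddMonoidHom.mk' (fun φ => (restrOnFib π g E).inv ≫ (StMod.comapQ (fibMap π g)).map φ ≫ (restrOnFib π g M).hom)
    fun φ φ' => by
      show _ ≫ bcHom g _ _ (φ + φ') ≫ _ = _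
      rw [map_add]
      show _ ≫ ((StMod.comapQ (fibMap π g)).map φ + (StMod.comapQ (fibMap π g)).map φ') ≫ _ = _
      rw [Preadditive.add_comp, Preadditive.comp_add]

theorem transp_app {η' η : Q.obj} (g : η' ⟶ η) (φ : onFib π E η ⟶ onFib π M η) (x : (StMod.fibCat π η').obj)
    (U : (StMod.sch 𝒳 x.left).Opens) (s : Γ(E.obj.obj x.left, U)) :
    ((transp E M g φ).hom.app x).app U s = (φ.hom.app (push π g x)).app U s := rfl

theorem transp_congr {η : Q.obj} (φ : onFib π E η ⟶ onFib π M η) {ξ : 𝒳.obj} {α α' : π.obj ξ ⟶ η} (h : α = α')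
    (U : (StMod.sch 𝒳 ξ).Opens) (s : Γ(E.obj.obj ξ, U)) :
    (φ.hom.app (CostructuredArrow.mk α)).app U s =
      (show Γ(M.obj.obj ξ, U) from (φ.hom.app (CostructuredArrow.mk α')).app U s) := by
  subst h; rfl

theorem fib_hom_ext {η : Q.obj} {φ φ' : onFib π E η ⟶ onFib π M η}
    (h : ∀ (x : (StMod.fibCat π η).obj) (U : (StMod.sch 𝒳 x.left).Opens) (s : Γ(E.obj.obj x.left, U)),
      (φ.hom.app x).app U s = (φ'.hom.app x).app U s) : φ = φ' := by
  refine InducedCategory.hom_ext (StMod.Mod.hom_ext fun x => Scheme.Modules.hom_ext _ _ fun U => ?_)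
  ext s
  exact h x U s

theorem transp_id (η : Q.obj) (φ : onFib π E η ⟶ onFib π M η) : transp E M (𝟙 η) φ = φ :=
  fib_hom_ext E M fun x U s => transp_congr E M φ (Category.comp_id x.hom) U s

theorem transp_comp {η'' η' η : Q.obj} (h : η'' ⟶ η') (g : η' ⟶ η) (φ : onFib π E η ⟶ onFib π M η) :
    transp E M (h ≫ g) φ = transp E M h (transp E M g φ) :=
  fib_hom_ext E M fun x U s => transp_congr E M φ (Category.assoc x.hom h g).symm U s

theorem transp_smul {η' η : Q.obj} (g : η' ⟶ η) (b : bR η) (φ : onFib π E η ⟶ onFib π M η) :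
    transp E M g (b • φ) = bmapR g b • transp E M g φ := by
  refine fib_hom_ext E M fun w U s => ?_
  show ((uFib π η (push π g w)).appLE ⊤ U le_top).hom b •
      (show Γ(M.obj.obj w.left, U) from (φ.hom.app (push π g w)).app U s) =
    ((uFib π η' w).appLE ⊤ U le_top).hom ((StMod.bmap Q g).appTop.hom b) •
      (show Γ(M.obj.obj w.left, U) from (φ.hom.app (push π g w)).app U s)
  congr 1
  have key : ∀ {g₀ g₀' : StMod.sch (StMod.fibCat π η') w ⟶ StMod.sch Q η} (_ : g₀ = g₀') (h₁ : U ≤ g₀ ⁻¹ᵁ ⊤)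
      (h₂ : U ≤ g₀' ⁻¹ᵁ ⊤), (g₀.appLE ⊤ U h₁).hom b = (g₀'.appLE ⊤ U h₂).hom b := by
    rintro g₀ g₀' rfl h₁ h₂; rfl
  refine (key (uFib_push π g w) _ le_top).trans ?_
  rw [Scheme.Hom.comp_appLE]
  rfl

variable (hπ : FibData π)

include hπ in
theorem small_hom (A : AObj Q) : Small.{u} (onFib π E A.obj ⟶ onFib π M A.obj) := by
  obtain ⟨I, _, a, ha, hcov⟩ := hπ.qc A.obj A.aff
  refine small_of_injective (f := fun φ i => evL (a i) φ) fun φ φ' h => ?_
  rw [← sub_eq_zero]
  refine eq_zero_of_pieces (isFibGrpd_fibCat hπ.srcFib π A.obj) a ha hcov _ fun i => ?_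
  rw [map_sub, sub_eq_zero]
  exact congrFun h i

/-- Morphisms over an affine object, as a small module. -/
def homOb (A : AObj Q) : ModuleCat.{u} Γ(StMod.sch Q A.obj, ⊤) :=
  letI := small_hom E M hπ A
  ModuleCat.of _ (Shrink.{u} (onFib π E A.obj ⟶ onFib π M A.obj))

/-- The small module is the module of morphisms. -/
def homEquivOb (A : AObj Q) : (onFib π E A.obj ⟶ onFib π M A.obj) ≃+ homOb E M hπ A :=
  letI := small_hom E M hπ A
  (Shrink.linearEquiv.{u} Γ(StMod.sch Q A.obj, ⊤) (onFib π E A.obj ⟶ onFib π M A.obj)).symm.toAddEquiv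

theorem homEquivOb_smul (A : AObj Q) (b : bR A.obj) (φ : onFib π E A.obj ⟶ onFib π M A.obj) :
    homEquivOb E M hπ A (b • φ) = b • homEquivOb E M hπ A φ :=
  letI := small_hom E M hπ A
  (Shrink.linearEquiv.{u} Γ(StMod.sch Q A.obj, ⊤) (onFib π E A.obj ⟶ onFib π M A.obj)).symm.map_smul b φ

theorem homEquivOb_symm_smul (A : AObj Q) (b : bR A.obj) (n : homOb E M hπ A) :
    (homEquivOb E M hπ A).symm (b • n) = b • (homEquivOb E M hπ A).symm n := by
  refine (homEquivOb E M hπ A).injective ?_
  rw [AddEquiv.apply_symm_apply, homEquivOb_smul, AddEquiv.apply_symm_apply]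

/-- Morphisms over the affine objects, as compatible modules. -/
def homMod : AffMod Q where
  ob A := homOb E M hπ A
  r {A' A} g := ((homEquivOb E M hπ A').toAddMonoidHom.comp (transp E M g)).comp (homEquivOb E M hπ A).symm.toAddMonoidHom
  r_smul {A' A} g b n := by
    show homEquivOb E M hπ A' (transp E M g ((homEquivOb E M hπ A).symm (b • n))) =
      _ • homEquivOb E M hπ A' (transp E M g ((homEquivOb E M hπ A).symm n))
    rw [homEquivOb_symm_smul, transp_smul, homEquivOb_smul]
    rfl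
  r_id A n := by
    show homEquivOb E M hπ A (transp E M (𝟙 A.obj) ((homEquivOb E M hπ A).symm n)) = n
    rw [transp_id, AddEquiv.apply_symm_apply]
  r_comp {A'' A' A} h g n := by
    show homEquivOb E M hπ A'' (transp E M (h ≫ g) ((homEquivOb E M hπ A).symm n)) =
      homEquivOb E M hπ A'' (transp E M h ((homEquivOb E M hπ A').symm
        (homEquivOb E M hπ A' (transp E M g ((homEquivOb E M hπ A).symm n)))))
    rw [AddEquiv.symm_apply_apply, transp_comp]

theorem homMod_r {A' A : AObj Q} (g : A'.obj ⟶ A.obj) (n : homOb E M hπ A) :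
    (homEquivOb E M hπ A').symm ((homMod E M hπ).r g n) = transp E M g ((homEquivOb E M hπ A).symm n) :=
  (homEquivOb E M hπ A').symm_apply_apply _

theorem isBC_homMod (hE : E.obj.IsFinPres) : (homMod E M hπ).IsBC := by
  intro A' A g hg
  haveI := hg
  letI : Algebra (bR A.obj) (bR A'.obj) := (bmapR g).toAlgebra
  let el : homOb E M hπ A ≃ₗ[bR A.obj] (onFib π E A.obj ⟶ onFib π M A.obj) :=
    { (homEquivOb E M hπ A).symm with map_smul' := homEquivOb_symm_smul E M hπ A }
  let Ψ := LinearEquiv.lTensor (bR A'.obj) el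
  have hb := bcMapHom_bijective (ψ := g) (E := onFib π E A.obj) (M := onFib π M A.obj) hπ.srcFib hπ.tgtFib A.aff A'.aff
    (hπ.qc A.obj A.aff) (hπ.qs A.obj A.aff) (fpSec_onFib hE A.obj)
  let conj : HomB g (onFib π E A.obj) (onFib π M A.obj) ≃+ (onFib π E A'.obj ⟶ onFib π M A'.obj) :=
    { toFun := fun φ => (restrOnFib π g E).inv ≫ φ ≫ (restrOnFib π g M).hom
      invFun := fun φ => (restrOnFib π g E).hom ≫ φ ≫ (restrOnFib π g M).inv
      left_inv := fun φ => by
        show (restrOnFib π g E).hom ≫ ((restrOnFib π g E).inv ≫ φ ≫ (restrOnFib π g M).hom) ≫ _ = φ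
        simp
      right_inv := fun φ => by simp
      map_add' := fun φ φ' => by
        show _ ≫ ((show restrQ π g (onFib π E A.obj) ⟶ restrQ π g (onFib π M A.obj) from φ) +
          (show restrQ π g (onFib π E A.obj) ⟶ restrQ π g (onFib π M A.obj) from φ')) ≫ _ = _
        rw [Preadditive.add_comp, Preadditive.comp_add] }
  have hconj : ∀ (b : bR A'.obj) (φ : HomB g (onFib π E A.obj) (onFib π M A.obj)), conj (b • φ) = b • conj φ :=
    fun b φ => fib_hom_ext E M fun x U s => rfl
  have e : ∀ z, (homMod E M hπ).bcm g z =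
      homEquivOb E M hπ A' (conj (bcMapHom (ψ := g) (E := onFib π E A.obj) (M := onFib π M A.obj) (Ψ z))) := by
    intro z
    induction z using TensorProduct.induction_on with
    | zero => simp
    | add a b ha hb => rw [map_add, map_add, map_add, map_add, map_add, ha, hb]
    | tmul b n =>
      show b • (homMod E M hπ).r g n = homEquivOb E M hπ A' (conj (b • bcHom g _ _ (el n)))
      rw [hconj, homEquivOb_smul]
      rfl
  have h1 := (((homEquivOb E M hπ A').bijective.comp conj.bijective).comp hb).comp Ψ.bijective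
  refine Function.bijective_iff_existsUnique _ |>.2 fun n => ?_
  obtain ⟨z, hz, hu⟩ := (Function.bijective_iff_existsUnique _).1 h1 n
  exact ⟨z, (e z).trans hz, fun z' hz' => hu z' ((e z').symm.trans hz')⟩

end Groth.Agent.RelGen
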