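import Mathlib
import Groth.Agent.RelGen.PushHom
import Groth.Agent.SchDense.Unit

/-!
# Generating families on the source from generating families on the fibres and on the target
-/

universe u

open CategoryTheory CategoryTheory.Limits AlgebraicGeometry TopologicalSpace Opposite TensorProduct

set_option autoImplicit false
set_option backward.isDefEq.respectTransparency false
set_option backward.isDefEq.respectTransparency.types false
set_option linter.style.haveILetI false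

noncomputable section

namespace Groth.Agent.RelGen

open Groth.Agent.QC Groth.Agent.QDescent AffMod

variable {S : Scheme.{u}}

section CastTop

/-- Global sections of a transported module. -/
def castTop {X T : Scheme.{u}} (h : X = T) (M : X.Modules) : Γ(M, ⊤) ≃+ Γ(StMod.castMod h M, ⊤) := by
  subst h; exact AddEquiv.refl _

theorem castTop_smul {X T : Scheme.{u}} (h : X = T) (M : X.Modules) (r : Γ(X, ⊤)) (s : Γ(M, ⊤)) :
    castTop h M (r • s) = (eqToHom h.symm : T ⟶ X).appTop.hom r • castTop h M s := by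
  subst h
  rfl

theorem castTop_map {X X' T T' : Scheme.{u}} (hX : X = T) (hX' : X' = T') {g₁ : X' ⟶ X} {g : T' ⟶ T}
    (hg : g₁ ≫ eqToHom hX = eqToHom hX' ≫ g) {M : X.Modules} {M' : X'.Modules}
    (m : M ⟶ (Scheme.Modules.pushforward g₁).obj M') (s : Γ(M, ⊤)) :
    (show Γ(StMod.castMod hX' M', ⊤) from (StMod.castMap hX hX' hg m).app ⊤ (castTop hX M s)) =
      castTop hX' M' (show Γ(M', ⊤) from m.app ⊤ s) := by
  subst hX hX'
  obtain rfl : g₁ = g := by simpa using hg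
  rw [StMod.castMap_rfl_self]
  rfl

theorem trT_eq_map {𝒵 : AlgSt.Cat S} (F : StMod.Mod 𝒵) {x' x : 𝒵.obj} (φ : x' ⟶ x) (s : Γ(F.obj x, ⊤)) :
    trT F φ s = (show Γ(F.obj x', ⊤) from (F.map φ rfl).app ⊤ s) := res_self _ _ _

variable {𝒳 𝒴 : AlgSt.Cat S} (π : 𝒳 ⥤ᵇ 𝒴) (F : StMod.QCoh 𝒴)

/-- Global sections of an inverse image. -/
def pullTop (x : 𝒳.obj) : Γ(F.obj.obj (π.obj x), ⊤) ≃+ Γ(((StMod.comapQ π).obj F).obj.obj x, ⊤) :=
  castTop (StMod.sch_obj_eq π x) (F.obj.obj (π.obj x))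

theorem pullTop_trT {x' x : 𝒳.obj} (φ : x' ⟶ x) (s : Γ(F.obj.obj (π.obj x), ⊤)) :
    trT ((StMod.comapQ π).obj F).obj φ (pullTop π F x s) = pullTop π F x' (trT F.obj (π.map φ) s) := by
  rw [trT_eq_map, trT_eq_map]
  show (show Γ((StMod.Mod.comap π F.obj).obj x', ⊤) from
    ((StMod.Mod.comap π F.obj).map φ rfl).app ⊤ (castTop _ (F.obj.obj (π.obj x)) s)) = _
  rw [StMod.Mod.comap_map]
  exact castTop_map _ _ _ _ s

theorem pullTop_symm_trT {x' x : 𝒳.obj} (φ : x' ⟶ x) (s : Γ(((StMod.comapQ π).obj F).obj.obj x, ⊤)) :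
    (pullTop π F x').symm (trT ((StMod.comapQ π).obj F).obj φ s) = trT F.obj (π.map φ) ((pullTop π F x).symm s) := by
  refine (pullTop π F x').injective ?_
  rw [AddEquiv.apply_symm_apply, ← pullTop_trT, AddEquiv.apply_symm_apply]

theorem pullTop_symm_smul (x : 𝒳.obj) (r : Γ(StMod.sch 𝒳 x, ⊤)) (s : Γ(((StMod.comapQ π).obj F).obj.obj x, ⊤)) :
    (pullTop π F x).symm (r • s) = (eqToHom (StMod.sch_obj_eq π x)).appTop.hom r • (pullTop π F x).symm s := by
  refine (pullTop π F x).injective ?_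
  refine ((pullTop π F x).apply_symm_apply _).trans ?_
  refine Eq.trans ?_ (castTop_smul (StMod.sch_obj_eq π x) _ _ _).symm
  refine congrArg₂ (· • ·) ?_ ((pullTop π F x).apply_symm_apply s).symm
  show r = ((eqToHom (StMod.sch_obj_eq π x)).appTop ≫ (eqToHom (StMod.sch_obj_eq π x).symm).appTop).hom r
  rw [← Scheme.Hom.comp_appTop, eqToHom_trans, eqToHom_refl, Scheme.Hom.id_appTop]
  rfl

end CastTop

variable {𝒳 Q : AlgSt.Cat S} {π : 𝒳 ⥤ᵇ Q}

/-- A morphism to an affine object through which everything is flat. -/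
abbrev OkDec (y : Q.obj) : Type (u + 1) := Σ a : {a : AObj Q // IsOk a.obj}, ULift.{u + 1} (y ⟶ a.1.obj)

/-- The corresponding object. -/
abbrev OkDec.toObj {y : Q.obj} (d : OkDec y) : (Cov Q).obj := ⟨y, d.1.1, d.1.2, d.2.down⟩

/-- The affine object itself. -/
abbrev topOk (a : AObj Q) (ha : IsOk a.obj) : (Cov Q).obj := ⟨a.obj, a, ha, 𝟙 a.obj⟩

theorem flat_topOk (a : AObj Q) (ha : IsOk a.obj) : Flat (StMod.bmap Q (topOk a ha).map) := by
  show Flat (StMod.bmap Q (𝟙 a.obj))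
  rw [StMod.bmap_id]
  infer_instance

/-- Morphisms in the category of objects with a morphism. -/
abbrev covHom {o' o : (Cov Q).obj} (φ : OkObj.obj o' ⟶ OkObj.obj o) : o' ⟶ o := InducedCategory.homMk φ

variable {E M : StMod.QCoh 𝒳} (hπ : FibData π) (R : Realization (homMod E M hπ))

/-- The morphism of a section of the realization. -/
def val (o : (Cov Q).obj) (ho : IsAffine (StMod.sch Q (OkObj.obj o))) (s : Γ(R.G.obj.obj (OkObj.obj o), ⊤)) :
    onFib π E (OkObj.obj o) ⟶ onFib π M (OkObj.obj o) :=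
  (homEquivOb E M hπ (cob o ho)).symm (R.ρ o ho s)

theorem val_smul (o : (Cov Q).obj) (ho : IsAffine (StMod.sch Q (OkObj.obj o)))
    (r : Γ(StMod.sch Q (OkObj.obj o), ⊤)) (s : Γ(R.G.obj.obj (OkObj.obj o), ⊤)) :
    val hπ R o ho (r • s) = (show bR (OkObj.obj o) from r) • val hπ R o ho s := by
  rw [val, val, R.ρ_smul]
  exact homEquivOb_symm_smul E M hπ (cob o ho) r _

theorem val_add (o : (Cov Q).obj) (ho : IsAffine (StMod.sch Q (OkObj.obj o)))
    (s t : Γ(R.G.obj.obj (OkObj.obj o), ⊤)) : val hπ R o ho (s + t) = val hπ R o ho s + val hπ R o ho t := by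
  rw [val, val, val, map_add, map_add]

theorem val_trT {o' o : (Cov Q).obj} (φ : OkObj.obj o' ⟶ OkObj.obj o) (ho' : IsAffine (StMod.sch Q (OkObj.obj o')))
    (ho : IsAffine (StMod.sch Q (OkObj.obj o))) (s : Γ(R.G.obj.obj (OkObj.obj o), ⊤)) :
    val hπ R o' ho' (trT R.G.obj φ s) = transp E M φ (val hπ R o ho s) := by
  rw [val, show trT R.G.obj φ s = trT R.G.obj (covHom φ).hom s from rfl, R.ρ_nat (covHom φ) ho' ho s]
  exact homMod_r E M hπ (A' := cob o' ho') (A := cob o ho) φ _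

variable (E M)

/-- Post-composition with a morphism on the source. -/
def post {N : StMod.QCoh 𝒳} (u : M ⟶ N) (η : Q.obj) (φ : onFib π E η ⟶ onFib π M η) : onFib π E η ⟶ onFib π N η :=
  φ ≫ (StMod.comapQ (StMod.fibFst π η)).map u

theorem post_add {N : StMod.QCoh 𝒳} (u : M ⟶ N) (η : Q.obj) (φ φ' : onFib π E η ⟶ onFib π M η) :
    post E M u η (φ + φ') = post E M u η φ + post E M u η φ' :=
  Preadditive.add_comp _ _ _ _ _ _

theorem post_app {N : StMod.QCoh 𝒳} (u : M ⟶ N) (η : Q.obj) (φ : onFib π E η ⟶ onFib π M η)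
    (x : (StMod.fibCat π η).obj) (U : (StMod.sch 𝒳 x.left).Opens) (s : Γ(E.obj.obj x.left, U)) :
    ((post E M u η φ).hom.app x).app U s = (u.hom.app x.left).app U ((φ.hom.app x).app U s) := rfl

theorem post_smul {N : StMod.QCoh 𝒳} (u : M ⟶ N) (η : Q.obj) (b : bR η) (φ : onFib π E η ⟶ onFib π M η) :
    post E M u η (b • φ) = b • post E M u η φ :=
  fib_hom_ext E N fun x U s => by
    show (u.hom.app x.left).app U (((uFib π η x).appLE ⊤ U le_top).hom b •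
        (show Γ(M.obj.obj x.left, U) from (φ.hom.app x).app U s)) =
      ((uFib π η x).appLE ⊤ U le_top).hom b •
        (u.hom.app x.left).app U (show Γ(M.obj.obj x.left, U) from (φ.hom.app x).app U s)
    exact Scheme.Modules.Hom.app_smul _ _ _

theorem post_transp {N : StMod.QCoh 𝒳} (u : M ⟶ N) {η' η : Q.obj} (g : η' ⟶ η)
    (φ : onFib π E η ⟶ onFib π M η) : post E M u η' (transp E M g φ) = transp E N g (post E M u η φ) :=
  fib_hom_ext E N fun _ _ _ => rfl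

variable {E M}

/-- Functoriality of the realizations. -/
theorem exists_map (hQ : AlgSt.IsAlgStack Scheme.fppfPrecoverage Q) (hE : E.obj.IsFinPres) {N : StMod.QCoh 𝒳}
    (u : M ⟶ N) (R' : Realization (homMod E N hπ)) :
    ∃ w : R.G ⟶ R'.G, ∀ (a : AObj Q) (ha : IsOk a.obj) (s : Γ(R.G.obj.obj a.obj, ⊤)),
      val hπ R' (topOk a ha) a.aff ((w.hom.app a.obj).app ⊤ s) = post E M u a.obj (val hπ R (topOk a ha) a.aff s) := by
  have gQ := hQ.isStack.1
  have hinj : ∀ (o : (Cov Q).obj) ho, Flat (StMod.bmap Q o.map) → Function.Injective (val hπ R' o ho) :=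
    fun o ho hfl => (homEquivOb E N hπ (cob o ho)).symm.injective.comp (R'.ρ_bij o ho hfl).1
  have hsurj : ∀ (o : (Cov Q).obj) ho, Flat (StMod.bmap Q o.map) → Function.Surjective (val hπ R' o ho) :=
    fun o ho hfl => (homEquivOb E N hπ (cob o ho)).symm.surjective.comp (R'.ρ_bij o ho hfl).2
  choose f hf using fun (a : AObj Q) (ha : IsOk a.obj) (s : Γ(R.G.obj.obj a.obj, ⊤)) =>
    hsurj (topOk a ha) a.aff (flat_topOk a ha) (post E M u a.obj (val hπ R (topOk a ha) a.aff s))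
  have hf_add : ∀ a ha s t, f a ha (s + t) = f a ha s + f a ha t := fun a ha s t =>
    hinj (topOk a ha) a.aff (flat_topOk a ha) (by
      rw [hf, val_add, val_add, post_add, hf, hf])
  have hl : ∀ (y : Q.obj) (hy : IsAffine (StMod.sch Q y)) (d : OkDec y),
      ∃ l : Γ(R.G.obj.obj y, ⊤) →ₗ[Γ(StMod.sch Q y, ⊤)] Γ(R'.G.obj.obj y, ⊤),
        ∀ s, l (trT R.G.obj d.2.down s) = trT R'.G.obj d.2.down (f d.1.1 d.1.2 s) := by
    intro y hy d
    haveI := hy
    obtain ⟨l, hl, -⟩ := exists_lin R.G d.2.down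
      (P := Γ(R'.G.obj.obj y, ⊤)) ((trT R'.G.obj d.2.down).comp (AddMonoidHom.mk' (f d.1.1 d.1.2) (hf_add _ _)))
      fun r s => by
        show trT R'.G.obj d.2.down (f d.1.1 d.1.2 (r • s)) = _ • trT R'.G.obj d.2.down (f d.1.1 d.1.2 s)
        rw [show f d.1.1 d.1.2 (r • s) = r • f d.1.1 d.1.2 s from
          hinj (topOk d.1.1 d.1.2) d.1.1.aff (flat_topOk _ _) (by
            rw [hf, val_smul, val_smul, post_smul, hf]), trT_smul]
    exact ⟨l, hl⟩
  choose L hL using hl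
  have hLadd : ∀ y hy d s t, L y hy d (s + t) = L y hy d s + L y hy d t := fun y hy d => map_add (L y hy d)
  -- the characterising property
  have hval : ∀ y hy (d : OkDec y) s,
      val hπ R' d.toObj hy (L y hy d s) = post E M u y (val hπ R d.toObj hy s) := by
    intro y hy d s
    haveI := hy
    refine top_induction R.G d.2.down (p := fun s =>
      val hπ R' d.toObj hy (L y hy d s) = post E M u y (val hπ R d.toObj hy s)) ?_
      (fun a b ha hb => by rw [hLadd, val_add, val_add, post_add, ha, hb]) (fun r m => ?_) s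
    · have h0 : ∀ (R₀ : Realization (homMod E M hπ)), val hπ R₀ d.toObj hy 0 = 0 := fun R₀ => by
        rw [val, map_zero, map_zero]
      rw [map_zero, h0, val, map_zero, map_zero]
      exact zero_comp.symm
    · rw [map_smul, hL, val_smul, val_smul, post_smul,
        val_trT hπ R' (o' := d.toObj) (o := topOk d.1.1 d.1.2) d.2.down hy d.1.1.aff, hf,
        val_trT hπ R (o' := d.toObj) (o := topOk d.1.1 d.1.2) d.2.down hy d.1.1.aff, post_transp]
  have hind : ∀ (y : Q.obj) (hy : IsAffine (StMod.sch Q y)) (d d' : OkDec y) s, val hπ R' d.toObj hy s = val hπ R' d'.toObj hy s := fun y hy d d' s => by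
    have h1 := val_trT hπ R' (o' := d.toObj) (o := d'.toObj) (𝟙 y) hy hy s
    rw [trT_id, transp_id] at h1
    exact h1
  have hind' : ∀ (y : Q.obj) (hy : IsAffine (StMod.sch Q y)) (d d' : OkDec y) s, val hπ R d.toObj hy s = val hπ R d'.toObj hy s := fun y hy d d' s => by
    have h1 := val_trT hπ R (o' := d.toObj) (o := d'.toObj) (𝟙 y) hy hy s
    rw [trT_id, transp_id] at h1
    exact h1
  have hpull : ∀ {y' y} (φ : y' ⟶ y) hy hy' (d : OkDec y) s,
      trT R'.G.obj φ (L y hy d s) = L y' hy' ⟨d.1, ⟨φ ≫ d.2.down⟩⟩ (trT R.G.obj φ s) := by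
    intro y' y φ hy hy' d s
    haveI := hy
    refine top_induction R.G d.2.down (p := fun s => trT R'.G.obj φ (L y hy d s) =
      L y' hy' ⟨d.1, ⟨φ ≫ d.2.down⟩⟩ (trT R.G.obj φ s)) (by simp)
      (fun a b ha hb => by rw [hLadd, map_add, map_add, hLadd, ha, hb]) (fun r m => ?_) s
    rw [map_smul, hL, trT_smul, trT_smul, map_smul, trT_comp, trT_comp, hL]
  have hindep : ∀ y hy (d d' : OkDec y) s, L y hy d s = L y hy d' s := by
    intro y hy d d' s
    refine top_ext R'.G fun t => ?_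
    obtain ⟨y', φ, z, p, q, v, hφ, hy', hz, hq, hvp, hvq⟩ := exists_good gQ d.1.2 d.2.down d'.2.down t
    refine ⟨y', φ, hφ, ?_⟩
    rw [hpull φ hy hy', hpull φ hy hy', ← hvp, ← hvq]
    haveI := hy'
    haveI := hz
    generalize trT R.G.obj φ s = s'
    refine top_induction R.G v (p := fun s' => L y' hy' ⟨d.1, ⟨v ≫ p⟩⟩ s' = L y' hy' ⟨d'.1, ⟨v ≫ q⟩⟩ s') (by simp)
      (fun a b ha hb => by rw [hLadd, hLadd, ha, hb]) (fun r m => ?_) s'
    rw [map_smul, map_smul, ← hpull v hz hy' ⟨d.1, ⟨p⟩⟩, ← hpull v hz hy' ⟨d'.1, ⟨q⟩⟩]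
    congr 2
    refine hinj (OkDec.toObj (y := z) ⟨d'.1, ⟨q⟩⟩) hz hq ?_
    rw [hval, hind z hz _ ⟨d.1, ⟨p⟩⟩, hval, hind' z hz ⟨d.1, ⟨p⟩⟩ ⟨d'.1, ⟨q⟩⟩]
  have hdata : LocData (M := R.G) (N := R'.G) (OkDec (Q := Q)) fun y hy d => (L y hy d).toAddMonoidHom :=
    { grpd := gQ
      pull := fun φ d => ⟨⟨d.1, ⟨φ ≫ d.2.down⟩⟩⟩
      cov := fun y t => by
        obtain ⟨w, φ, a, hφ, haff, hok, ⟨χ⟩⟩ := exists_ok_hit hQ y t
        exact ⟨w, φ, hφ, ⟨⟨⟨⟨a, haff⟩, hok⟩, ⟨χ⟩⟩⟩⟩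
      smul := fun y hy d r s => map_smul (L y hy d) r s
      compat := fun φ hx hx' d d' s => (hpull φ hx hx' d s).trans (hindep _ hx' _ d' _) }
  obtain ⟨w, hw⟩ := hdata.exists_hom
  refine ⟨w, fun a ha s => ?_⟩
  rw [show (w.hom.app a.obj).app ⊤ s = L a.obj a.aff ⟨⟨a, ha⟩, ⟨𝟙 a.obj⟩⟩ s from hw a.obj a.aff ⟨⟨a, ha⟩, ⟨𝟙 a.obj⟩⟩ s]
  exact hval a.obj a.aff ⟨⟨a, ha⟩, ⟨𝟙 a.obj⟩⟩ s

include hπ in
theorem cov_okDec (hQ : AlgSt.IsAlgStack Scheme.fppfPrecoverage Q) (x : 𝒳.obj) (t : StMod.sch 𝒳 x) :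
    ∃ (x' : 𝒳.obj) (φ : x' ⟶ x), Hits φ t ∧ Nonempty (OkDec (π.obj x')) := by
  obtain ⟨w, φ₀, a, hφ₀, haff, hok, ⟨χ⟩⟩ := exists_ok_hit hQ (π.obj x) ((eqToHom (StMod.sch_obj_eq π x).symm).base t)
  obtain ⟨ξ, e, φ, hφ⟩ := exists_lift_scheme hπ.srcFib (x := x)
    (StMod.bmap Q φ₀ ≫ eqToHom (StMod.sch_obj_eq π x))
  obtain ⟨β, -, -⟩ := exists_factor hπ.tgtFib φ₀ (π.map φ) (eqToHom ((StMod.sch_obj_eq π ξ).trans e)) (by
    rw [bmap_map, hφ]
    simp)
  refine ⟨ξ, φ, ?_, ⟨⟨⟨⟨a, haff⟩, hok⟩, ⟨β ≫ χ⟩⟩⟩⟩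
  haveI := hφ₀.flat
  haveI := hφ₀.lfp
  obtain ⟨p, hp⟩ := hφ₀.mem
  refine hits_of_bmap φ _ (eqToHom e) hφ ⟨p, ?_⟩
  rw [Scheme.Hom.comp_apply, hp]
  exact eqToHom_apply_cancel (StMod.sch_obj_eq π x).symm _ t

/-- An object over its image. -/
abbrev selfObj (x : 𝒳.obj) : (StMod.fibCat π (π.obj x)).obj := CostructuredArrow.mk (𝟙 (π.obj x))

/-- The value of a section of the realization at an object of the source. -/
def evAt (x : 𝒳.obj) (hx : IsAffine (StMod.sch Q (π.obj x))) (d : OkDec (π.obj x))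
    (s : Γ(R.G.obj.obj (π.obj x), ⊤)) (e : Γ(E.obj.obj x, ⊤)) : Γ(M.obj.obj x, ⊤) :=
  ((val hπ R d.toObj hx s).hom.app (selfObj x)).app ⊤ e

theorem evAt_add (x : 𝒳.obj) (hx : IsAffine (StMod.sch Q (π.obj x))) (d : OkDec (π.obj x))
    (s s' : Γ(R.G.obj.obj (π.obj x), ⊤)) (e : Γ(E.obj.obj x, ⊤)) :
    evAt hπ R x hx d (s + s') e = evAt hπ R x hx d s e + evAt hπ R x hx d s' e := by
  rw [evAt, val_add]
  rfl

theorem evAt_smul (x : 𝒳.obj) (hx : IsAffine (StMod.sch Q (π.obj x))) (d : OkDec (π.obj x))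
    (r : Γ(StMod.sch Q (π.obj x), ⊤)) (s : Γ(R.G.obj.obj (π.obj x), ⊤)) (e : Γ(E.obj.obj x, ⊤)) :
    evAt hπ R x hx d (r • s) e =
      (eqToHom (StMod.sch_obj_eq π x).symm).appTop.hom r • evAt hπ R x hx d s e := by
  rw [evAt, val_smul]
  show (show Γ(StMod.sch 𝒳 x, ⊤) from ((uFib π (π.obj x) (selfObj x)).appLE ⊤ ⊤ le_top).hom r) •
    evAt hπ R x hx d s e = _
  have h : (uFib π (π.obj x) (selfObj x)).appLE ⊤ ⊤ le_top = (eqToHom (StMod.sch_obj_eq π x).symm).appTop := by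
    rw [show uFib π (π.obj x) (selfObj x) = eqToHom (StMod.sch_obj_eq π x).symm from uFib_id π x]
    exact (Scheme.Hom.appLE_eq_app _ :)
  exact congrArg (fun k => k.hom r • evAt hπ R x hx d s e) h

theorem evAt_trT {x' x : 𝒳.obj} (φ : x' ⟶ x) (hx : IsAffine (StMod.sch Q (π.obj x)))
    (hx' : IsAffine (StMod.sch Q (π.obj x'))) (d : OkDec (π.obj x)) (d' : OkDec (π.obj x'))
    (s : Γ(R.G.obj.obj (π.obj x), ⊤)) (e : Γ(E.obj.obj x, ⊤)) :
    trT M.obj φ (evAt hπ R x hx d s e) = evAt hπ R x' hx' d' (trT R.G.obj (π.map φ) s) (trT E.obj φ e) := by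
  rw [evAt, evAt, val_trT hπ R (o' := d'.toObj) (o := d.toObj) (π.map φ) hx' hx]
  show _ = ((val hπ R d.toObj hx s).hom.app (CostructuredArrow.mk (𝟙 (π.obj x') ≫ π.map φ))).app ⊤ _
  rw [transp_congr E M (val hπ R d.toObj hx s) (Category.id_comp (π.map φ)) ⊤]
  let c : (CostructuredArrow.mk (π.map φ) : (StMod.fibCat π (π.obj x)).obj) ⟶ selfObj x :=
    CostructuredArrow.homMk φ (Category.comp_id _)
  have hc := top_le (𝒵 := StMod.fibCat π (π.obj x)) c
  have h1 : tr (onFib π M (π.obj x)).obj c ⊤ ⊤ hc (((val hπ R d.toObj hx s).hom.app (selfObj x)).app ⊤ e) =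
      ((val hπ R d.toObj hx s).hom.app (CostructuredArrow.mk (π.map φ))).app ⊤
        (tr (onFib π E (π.obj x)).obj c ⊤ ⊤ hc e) :=
    tr_hom (𝒵 := StMod.fibCat π (π.obj x)) (val hπ R d.toObj hx s).hom c ⊤ ⊤ _ _
  rw [tr_onFib π M (π.obj x) c ⊤ ⊤ hc, tr_onFib π E (π.obj x) c ⊤ ⊤ hc] at h1
  exact h1

theorem evAt_pair (a : AObj Q) (ha : IsOk a.obj) (w : (StMod.fibCat π a.obj).obj)
    (hw : IsAffine (StMod.sch Q (π.obj w.left))) (s : Γ(R.G.obj.obj a.obj, ⊤)) (e : Γ(E.obj.obj w.left, ⊤)) :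
    ((val hπ R (topOk a ha) a.aff s).hom.app w).app ⊤ e =
      evAt hπ R w.left hw ⟨⟨a, ha⟩, ⟨w.hom⟩⟩ (trT R.G.obj w.hom s) e := by
  rw [evAt, val_trT hπ R (o' := OkDec.toObj (y := π.obj w.left) ⟨⟨a, ha⟩, ⟨w.hom⟩⟩) (o := topOk a ha) w.hom hw a.aff]
  show _ = ((val hπ R (topOk a ha) a.aff s).hom.app (CostructuredArrow.mk (𝟙 (π.obj w.left) ≫ w.hom))).app ⊤ e
  rw [transp_congr E M (val hπ R (topOk a ha) a.aff s) (Category.id_comp w.hom) ⊤]
  rfl

theorem isAffine_map (π : 𝒳 ⥤ᵇ Q) {x : 𝒳.obj} (hx : IsAffine (StMod.sch 𝒳 x)) : IsAffine (StMod.sch Q (π.obj x)) := by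
  haveI := hx
  exact IsAffine.of_isIso (eqToHom (StMod.sch_obj_eq π x))

include hπ in
/-- A morphism vanishing on the fibres over the affine objects is zero. -/
theorem eq_zero_of_fibres (hQ : AlgSt.IsAlgStack Scheme.fppfPrecoverage Q) {N : StMod.QCoh 𝒳} (u : M ⟶ N)
    (h : ∀ a : AObj Q, IsOk a.obj → (StMod.comapQ (StMod.fibFst π a.obj)).map u = 0) : u = 0 := by
  refine eq_zero_of_cover hπ.srcFib u fun x t => ?_
  obtain ⟨x', φ, hφ, ⟨d⟩⟩ := cov_okDec hπ hQ x t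
  refine ⟨x', φ, hφ, fun x'' g _ s => ?_⟩
  let w : (StMod.fibCat π d.1.1.obj).obj := CostructuredArrow.mk (π.map g ≫ d.2.down)
  exact congr(($(h d.1.1 d.1.2)).hom.app w |>.app ⊤ s)

include hπ in
/-- If the structure sheaf generates on the fibres and a family generates on the target, then the inverse images
generate. -/
theorem isGenFam_comap (hQ : AlgSt.IsAlgStack Scheme.fppfPrecoverage Q) {ι : Type*} (F : ι → StMod.QCoh Q)
    (hF : StMod.IsGenFam F)
    (hO : ∀ η : Q.obj, IsAffine (StMod.sch Q η) →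
      StMod.IsGenFam fun _ : PUnit.{u + 1} => onFib π (StMod.OQ 𝒳) η) :
    StMod.IsGenFam fun j => (StMod.comapQ π).obj (F j) := by
  rw [StMod.isGenFam_iff] at hF ⊢
  intro M N u hu
  have hfp : (StMod.OQ 𝒳).obj.IsFinPres := fun ξ => SchDense.isFP_unit _
  obtain ⟨RM⟩ := exists_realization (homMod (StMod.OQ 𝒳) M hπ) hQ (isBC_homMod _ _ hπ hfp)
  obtain ⟨RN⟩ := exists_realization (homMod (StMod.OQ 𝒳) N hπ) hQ (isBC_homMod _ _ hπ hfp)
  obtain ⟨w, hw⟩ := exists_map hπ RM hQ hfp u RN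
  have hw0 : w = 0 := by
    refine hF _ fun j ψ₀ => ?_
    let ψ : F j ⟶ RM.G := ObjectProperty.homMk ψ₀
    let P : StMod.QCoh 𝒳 := (StMod.comapQ π).obj (F j)
    let one : ∀ x : 𝒳.obj, Γ((StMod.OQ 𝒳).obj.obj x, ⊤) := fun x => (1 : Γ(StMod.sch 𝒳 x, ⊤))
    have hone : ∀ {x' x : 𝒳.obj} (φ : x' ⟶ x), trT (StMod.OQ 𝒳).obj φ (one x) = one x' := fun φ =>
      (trT_eq_map _ φ _).trans (map_one (StMod.bmap 𝒳 φ).appTop.hom)
    let L : ∀ x, IsAffine (StMod.sch 𝒳 x) → OkDec (π.obj x) → (Γ(P.obj.obj x, ⊤) →+ Γ(M.obj.obj x, ⊤)) :=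
      fun x hx d => AddMonoidHom.mk'
        (fun s => evAt hπ RM x (isAffine_map π hx) d
          ((ψ.hom.app (π.obj x)).app ⊤ ((pullTop π (F j) x).symm s)) (one x))
        fun s t => by rw [map_add, map_add, evAt_add]
    have hdata : LocData (M := P) (N := M) (fun x => OkDec (π.obj x)) L :=
      { grpd := hπ.srcFib
        pull := fun φ d => ⟨⟨d.1, ⟨π.map φ ≫ d.2.down⟩⟩⟩
        cov := cov_okDec hπ hQ
        smul := fun x hx d r s => by
          show evAt hπ RM x _ d _ (one x) = r • evAt hπ RM x _ d _ (one x)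
          rw [pullTop_symm_smul, Scheme.Modules.Hom.app_smul, evAt_smul]
          congr 1
          show ((eqToHom (StMod.sch_obj_eq π x)).appTop ≫ (eqToHom (StMod.sch_obj_eq π x).symm).appTop).hom r = r
          rw [← Scheme.Hom.comp_appTop, eqToHom_trans, eqToHom_refl, Scheme.Hom.id_appTop]
          rfl
        compat := fun {x' x} φ hx hx' d d' s => by
          show trT M.obj φ (evAt hπ RM x _ d _ (one x)) = evAt hπ RM x' _ d' _ (one x')
          rw [evAt_trT hπ RM φ _ (isAffine_map π hx') d d', hone,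
            pullTop_symm_trT, show trT RM.G.obj (π.map φ) ((ψ.hom.app (π.obj x)).app ⊤ ((pullTop π (F j) x).symm s)) =
              (ψ.hom.app (π.obj x')).app ⊤ (trT (F j).obj (π.map φ) ((pullTop π (F j) x).symm s)) from
              tr_hom ψ.hom (π.map φ) ⊤ ⊤ (top_le _) _] }
    obtain ⟨Φ, hΦ⟩ := hdata.exists_hom
    have hΦu : Φ.hom ≫ u.hom = 0 := hu j Φ.hom
    suffices h : (ObjectProperty.homMk (ψ₀ ≫ w.hom) : F j ⟶ RN.G) = 0 from congrArg InducedCategory.Hom.hom h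
    refine eq_zero_of_cover hQ.isStack.1 _ fun y t => ?_
    obtain ⟨y', φ, a, hφ, haff, hok, ⟨χ⟩⟩ := exists_ok_hit hQ y t
    refine ⟨y', φ, hφ, fun y'' g hy'' s => ?_⟩
    haveI := haff
    haveI := hy''
    refine app_top_eq_zero _ (g ≫ χ) (fun s => ?_) s
    let A : AObj Q := ⟨a, haff⟩
    refine (homEquivOb (StMod.OQ 𝒳) N hπ A).symm.injective.comp (RN.ρ_bij (topOk A hok) A.aff (flat_topOk A hok)).1 ?_
    show val hπ RN (topOk A hok) A.aff ((w.hom.app a).app ⊤ ((ψ₀.app a).app ⊤ s)) =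
      val hπ RN (topOk A hok) A.aff 0
    rw [hw A hok, show val hπ RN (topOk A hok) A.aff 0 = 0 by rw [val, map_zero, map_zero]]
    refine eq_zero_of_cover (isFibGrpd_fibCat hπ.srcFib π a) _ fun x₀ t₀ => ⟨x₀, 𝟙 x₀, hits_id x₀ t₀, fun x₁ _ hx₁ c => ?_⟩
    have hc : c = (show Γ(StMod.sch (StMod.fibCat π a) x₁, ⊤) from c) •
        (show Γ((onFib π (StMod.OQ 𝒳) a).obj.obj x₁, ⊤) from one x₁.left) := (mul_one (show Γ(StMod.sch 𝒳 x₁.left, ⊤) from c)).symm
    rw [hc, Scheme.Modules.Hom.app_smul]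
    refine (congrArg _ ?_).trans (smul_zero _)
    show (u.hom.app x₁.left).app ⊤
      (((val hπ RM (topOk A hok) A.aff ((ψ₀.app a).app ⊤ s)).hom.app x₁).app ⊤ (one x₁.left)) = 0
    rw [evAt_pair hπ RM A hok x₁ (isAffine_map π hx₁)]
    have h1 := hΦ x₁.left hx₁ ⟨⟨A, hok⟩, ⟨x₁.hom⟩⟩ (pullTop π (F j) x₁.left (trT (F j).obj x₁.hom s))
    have h3 : trT RM.G.obj x₁.hom ((ψ₀.app a).app ⊤ s) =
        (ψ₀.app (π.obj x₁.left)).app ⊤ (trT (F j).obj x₁.hom s) := tr_hom ψ₀ x₁.hom ⊤ ⊤ (top_le _) s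
    rw [h3]
    have h4 : (Φ.hom.app x₁.left).app ⊤ (pullTop π (F j) x₁.left (trT (F j).obj x₁.hom s)) =
        evAt hπ RM x₁.left (isAffine_map π hx₁) ⟨⟨A, hok⟩, ⟨x₁.hom⟩⟩
          ((ψ₀.app (π.obj x₁.left)).app ⊤ (trT (F j).obj x₁.hom s)) (one x₁.left) := by
      refine h1.trans ?_
      show evAt hπ RM x₁.left _ _ ((ψ₀.app (π.obj x₁.left)).app ⊤ ((pullTop π (F j) x₁.left).symm _)) _ = _
      rw [AddEquiv.symm_apply_apply]
    rw [← h4]
    exact congr(($hΦu).app x₁.left |>.app ⊤ (pullTop π (F j) x₁.left (trT (F j).obj x₁.hom s)))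
  refine eq_zero_of_fibres hπ hQ u fun a ha => ?_
  refine (StMod.isGenFam_iff _).1 (hO a.obj a.aff) _ fun _ φ₀ => ?_
  let φ : onFib π (StMod.OQ 𝒳) a.obj ⟶ onFib π M a.obj := ObjectProperty.homMk φ₀
  obtain ⟨s, hs⟩ : ∃ s, val hπ RM (topOk a ha) a.aff s = φ :=
    ((homEquivOb _ M hπ a).symm.surjective.comp (RM.ρ_bij (topOk a ha) a.aff (flat_topOk a ha)).2) φ
  have h1 : post (StMod.OQ 𝒳) M u a.obj φ = 0 := by
    rw [← hs, ← hw a ha, hw0, val]
    show (homEquivOb (StMod.OQ 𝒳) N hπ (cob (topOk a ha) a.aff)).symm (RN.ρ (topOk a ha) a.aff 0) = 0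
    rw [map_zero, map_zero]
  exact congrArg InducedCategory.Hom.hom h1

include hπ in
/-- If a family of finite presentation generates on the fibres and the structure sheaf generates on the target,
then the family generates. -/
theorem isGenFam_of_fibres (hQ : AlgSt.IsAlgStack Scheme.fppfPrecoverage Q) {ι : Type*} (E : ι → StMod.QCoh 𝒳)
    (hfp : ∀ i, (E i).obj.IsFinPres) (hO : StMod.IsGenFam fun _ : PUnit.{u + 1} => StMod.OQ Q)
    (hE : ∀ η : Q.obj, IsAffine (StMod.sch Q η) → StMod.IsGenFam fun i => onFib π (E i) η) :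
    StMod.IsGenFam E := by
  rw [StMod.isGenFam_iff] at hO ⊢
  intro M N u hu
  refine eq_zero_of_fibres hπ hQ u fun a ha => ?_
  refine (StMod.isGenFam_iff _).1 (hE a.obj a.aff) _ fun i φ₀ => ?_
  obtain ⟨RM⟩ := exists_realization (homMod (E i) M hπ) hQ (isBC_homMod _ _ hπ (hfp i))
  obtain ⟨RN⟩ := exists_realization (homMod (E i) N hπ) hQ (isBC_homMod _ _ hπ (hfp i))
  obtain ⟨w, hw⟩ := exists_map hπ RM hQ (hfp i) u RN
  have hw0 : w = 0 := by
    refine hO _ fun _ ψ₀ => ?_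
    let one : ∀ y : Q.obj, Γ((StMod.OQ Q).obj.obj y, ⊤) := fun y => (1 : Γ(StMod.sch Q y, ⊤))
    have hone : ∀ {y' y : Q.obj} (φ : y' ⟶ y), trT RM.G.obj φ ((ψ₀.app y).app ⊤ (one y)) =
        (ψ₀.app y').app ⊤ (one y') := fun {y' y} φ => (tr_hom ψ₀ φ ⊤ ⊤ (top_le φ) _).trans
      (congrArg _ ((trT_eq_map _ φ _).trans (map_one (StMod.bmap Q φ).appTop.hom)))
    let L : ∀ x, IsAffine (StMod.sch 𝒳 x) → OkDec (π.obj x) → (Γ((E i).obj.obj x, ⊤) →+ Γ(M.obj.obj x, ⊤)) :=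
      fun x hx d => AddMonoidHom.mk'
        (fun e => evAt hπ RM x (isAffine_map π hx) d ((ψ₀.app (π.obj x)).app ⊤ (one (π.obj x))) e)
        fun s t => map_add _ s t
    have hdata : LocData (M := E i) (N := M) (fun x => OkDec (π.obj x)) L :=
      { grpd := hπ.srcFib
        pull := fun φ d => ⟨⟨d.1, ⟨π.map φ ≫ d.2.down⟩⟩⟩
        cov := cov_okDec hπ hQ
        smul := fun x hx d r s => Scheme.Modules.Hom.app_smul _ r s
        compat := fun {x' x} φ hx hx' d d' s => by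
          show trT M.obj φ (evAt hπ RM x _ d _ s) = evAt hπ RM x' _ d' _ (trT (E i).obj φ s)
          rw [evAt_trT hπ RM φ _ (isAffine_map π hx') d d', hone] }
    obtain ⟨Φ, hΦ⟩ := hdata.exists_hom
    have hΦu : Φ.hom ≫ u.hom = 0 := hu i Φ.hom
    suffices h : (ObjectProperty.homMk (ψ₀ ≫ w.hom) : StMod.OQ Q ⟶ RN.G) = 0 from congrArg InducedCategory.Hom.hom h
    refine eq_zero_of_cover hQ.isStack.1 _ fun y t => ?_
    obtain ⟨y', φ, b, hφ, haff, hok, ⟨χ⟩⟩ := exists_ok_hit hQ y t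
    refine ⟨y', φ, hφ, fun y'' g hy'' s => ?_⟩
    haveI := haff
    haveI := hy''
    refine app_top_eq_zero _ (g ≫ χ) (fun s => ?_) s
    have hc : s = (show Γ(StMod.sch Q b, ⊤) from s) • one b := (mul_one (show Γ(StMod.sch Q b, ⊤) from s)).symm
    rw [hc, Scheme.Modules.Hom.app_smul]
    refine (congrArg _ ?_).trans (smul_zero _)
    let A : AObj Q := ⟨b, haff⟩
    refine (homEquivOb (E i) N hπ A).symm.injective.comp (RN.ρ_bij (topOk A hok) A.aff (flat_topOk A hok)).1 ?_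
    show val hπ RN (topOk A hok) A.aff ((w.hom.app b).app ⊤ ((ψ₀.app b).app ⊤ (one b))) =
      val hπ RN (topOk A hok) A.aff 0
    rw [hw A hok, show val hπ RN (topOk A hok) A.aff 0 = 0 by rw [val, map_zero, map_zero]]
    refine eq_zero_of_cover (isFibGrpd_fibCat hπ.srcFib π b) _ fun x₀ t₀ => ⟨x₀, 𝟙 x₀, hits_id x₀ t₀, fun x₁ _ hx₁ c => ?_⟩
    show (u.hom.app x₁.left).app ⊤ (((val hπ RM (topOk A hok) A.aff ((ψ₀.app b).app ⊤ (one b))).hom.app x₁).app ⊤ c) = 0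
    rw [evAt_pair hπ RM A hok x₁ (isAffine_map π hx₁), hone]
    have h4 : (Φ.hom.app x₁.left).app ⊤ c = evAt hπ RM x₁.left (isAffine_map π hx₁) ⟨⟨A, hok⟩, ⟨x₁.hom⟩⟩
        ((ψ₀.app (π.obj x₁.left)).app ⊤ (one (π.obj x₁.left))) c := hΦ x₁.left hx₁ ⟨⟨A, hok⟩, ⟨x₁.hom⟩⟩ c
    rw [← h4]
    exact congr(($hΦu).app x₁.left |>.app ⊤ c)
  let φ : onFib π (E i) a.obj ⟶ onFib π M a.obj := ObjectProperty.homMk φ₀
  obtain ⟨s, hs⟩ : ∃ s, val hπ RM (topOk a ha) a.aff s = φ :=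
    ((homEquivOb _ M hπ a).symm.surjective.comp (RM.ρ_bij (topOk a ha) a.aff (flat_topOk a ha)).2) φ
  have h1 : post (E i) M u a.obj φ = 0 := by
    rw [← hs, ← hw a ha, hw0, val]
    show (homEquivOb (E i) N hπ (cob (topOk a ha) a.aff)).symm (RN.ρ (topOk a ha) a.aff 0) = 0
    rw [map_zero, map_zero]
  exact congrArg InducedCategory.Hom.hom h1

end Groth.Agent.RelGen
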