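import Mathlib
import Groth.Agent.RelGen.Transfer

/-!
# Inverse images along isomorphic functors and along equivalences; fibres of composites
-/

universe u

open CategoryTheory CategoryTheory.Limits AlgebraicGeometry TopologicalSpace Opposite

set_option autoImplicit false
set_option backward.isDefEq.respectTransparency false
set_option backward.isDefEq.respectTransparency.types false
set_option linter.style.haveILetI false

noncomputable section

namespace Groth.Agent.RelGen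

open Groth.Agent.QC Groth.Agent.QDescent

variable {S : Scheme.{u}}

local notation "AS" => AlgSt.IsAlgStack Scheme.fppfPrecoverage

section NatIso

variable {𝒜 ℬ : AlgSt.Cat S}

theorem exists_comap_hom (h𝒜 : FibCat.IsFibGrpd 𝒜.p) {F G : 𝒜 ⥤ᵇ ℬ} (e : F ⟶ G) (M : StMod.QCoh ℬ) :
    ∃ w : (StMod.comapQ G).obj M ⟶ (StMod.comapQ F).obj M, ∀ (x : 𝒜.obj), IsAffine (StMod.sch 𝒜 x) →
      ∀ s, (w.hom.app x).app ⊤ s = pullTop F M x (trT M.obj (e.toNatTrans.app x) ((pullTop G M x).symm s)) := by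
  have hdata : LocData (M := (StMod.comapQ G).obj M) (N := (StMod.comapQ F).obj M) (fun _ => PUnit.{u + 2})
      fun x _ _ => AddMonoidHom.mk'
        (fun s => pullTop F M x (trT M.obj (e.toNatTrans.app x) ((pullTop G M x).symm s)))
        (fun s t => by simp only [map_add]) :=
    { grpd := h𝒜
      pull := fun _ _ => ⟨⟨⟩⟩
      cov := fun x t => ⟨x, 𝟙 x, hits_id x t, ⟨⟨⟩⟩⟩
      smul := fun x _ _ r s => by
        show pullTop F M x (trT M.obj (e.toNatTrans.app x) ((pullTop G M x).symm (r • s))) =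
          r • pullTop F M x (trT M.obj (e.toNatTrans.app x) ((pullTop G M x).symm s))
        refine (pullTop F M x).symm.injective ?_
        rw [AddEquiv.symm_apply_apply, pullTop_symm_smul, trT_smul, pullTop_symm_smul, AddEquiv.symm_apply_apply]
        congr 1
        show (_ ≫ (StMod.bmap ℬ (e.toNatTrans.app x)).appTop).hom r = _
        rw [← Scheme.Hom.comp_appTop]
        congr 3
        show (ℬ.p.map (e.toNatTrans.app x)).left ≫ _ = _
        rw [FibCatRep.map_app e x, Over.eqToHom_left]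
        exact eqToHom_trans _ _
      compat := fun {x' x} φ _ _ _ _ s => by
        show trT ((StMod.comapQ F).obj M).obj φ (pullTop F M x _) = pullTop F M x' _
        rw [pullTop_trT]
        refine congrArg (pullTop F M x') ?_
        rw [pullTop_symm_trT, trT_comp, trT_comp]
        exact trT_congr _ (e.toNatTrans.naturality φ) _ }
  obtain ⟨w, hw⟩ := hdata.exists_hom
  exact ⟨w, fun x hx s => hw x hx ⟨⟩ s⟩

theorem comap_iso_of_natIso (h𝒜 : FibCat.IsFibGrpd 𝒜.p) {F G : 𝒜 ⥤ᵇ ℬ} (e : F ≅ G) (M : StMod.QCoh ℬ) :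
    Nonempty ((StMod.comapQ F).obj M ≅ (StMod.comapQ G).obj M) := by
  obtain ⟨w, hw⟩ := exists_comap_hom h𝒜 e.inv M
  obtain ⟨w', hw'⟩ := exists_comap_hom h𝒜 e.hom M
  have key : ∀ {K : StMod.QCoh 𝒜} (v : K ⟶ K), (∀ (x : 𝒜.obj), IsAffine (StMod.sch 𝒜 x) →
      ∀ s, (v.hom.app x).app ⊤ s = s) → v = 𝟙 K := fun {K} v hv => by
    refine sub_eq_zero.1 (eq_zero_of_cover h𝒜 (v - 𝟙 _) fun x t => ⟨x, 𝟙 x, hits_id x t, fun x'' _ hx'' s => ?_⟩)
    have h0 := (AddMonoidHom.mk' (fun k : K ⟶ K => (k.hom.app x'').app ⊤ s) fun _ _ => rfl).map_sub v (𝟙 K)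
    exact h0.trans (sub_eq_zero.2 (hv x'' hx'' s))
  refine ⟨⟨w, w', key _ fun x hx s => ?_, key _ fun x hx s => ?_⟩⟩
  · show (w'.hom.app x).app ⊤ ((w.hom.app x).app ⊤ s) = s
    rw [hw x hx, hw' x hx, AddEquiv.symm_apply_apply, trT_comp]
    refine (AddEquiv.eq_symm_apply _).1 ?_
    have h1 : e.hom.toNatTrans.app x ≫ e.inv.toNatTrans.app x = 𝟙 (F.obj x) :=
      congrArg (fun k => k.toNatTrans.app x) e.hom_inv_id
    rw [h1]
    exact trT_id M.obj (F.obj x) _
  · show (w.hom.app x).app ⊤ ((w'.hom.app x).app ⊤ s) = s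
    rw [hw' x hx, hw x hx, AddEquiv.symm_apply_apply, trT_comp]
    refine (AddEquiv.eq_symm_apply _).1 ?_
    have h1 : e.inv.toNatTrans.app x ≫ e.hom.toNatTrans.app x = 𝟙 (G.obj x) :=
      congrArg (fun k => k.toNatTrans.app x) e.inv_hom_id
    rw [h1]
    exact trT_id M.obj (G.obj x) _

theorem IsEqv.isEquivOver {F : 𝒜 ⥤ᵇ ℬ} (h : IsEqv F) : FibCat.IsEquivOver F := by
  haveI := h.faithful
  haveI := h.full
  exact FibCatRep.isEquivOver_of_fullyFaithful F h.ess

/-- The inverse images of a generating family along an equivalence generate. -/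
theorem IsEqv.isGenFam_comap {F : 𝒜 ⥤ᵇ ℬ} (h : IsEqv F) {ι : Type*} {E : ι → StMod.QCoh ℬ}
    (hE : StMod.IsGenFam E) : StMod.IsGenFam fun i => (StMod.comapQ F).obj (E i) := by
  obtain ⟨G, ⟨e₁⟩, ⟨e₂⟩⟩ := h.isEquivOver
  obtain ⟨h1, h2⟩ := FibCatRep.isEquivOver_data (F := G) ⟨F, ⟨e₂⟩, ⟨e₁⟩⟩
  have hG : IsEqv G := ⟨inferInstance, inferInstance, h2, h.tgtFib, h.srcFib⟩
  have hi : ∀ i, Nonempty (E i ≅ (StMod.comapQ G).obj ((StMod.comapQ F).obj (E i))) := fun i => by
    obtain ⟨a⟩ := comap_iso_of_natIso h.tgtFib e₂ (E i)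
    exact ⟨((ObjectProperty.isoMk _ (StMod.comapCompIso F G (E i).obj)).symm ≪≫ a ≪≫
      ObjectProperty.isoMk _ (StMod.comapIdIso (E i).obj)).symm⟩
  exact hG.isGenFam (isGenFam_of_iso (fun i => Classical.choice (hi i)) hE)

/-- The inverse image of the structure sheaf. -/
def comapOQ (F : 𝒜 ⥤ᵇ ℬ) : (StMod.comapQ F).obj (StMod.OQ ℬ) ≅ StMod.OQ 𝒜 :=
  ObjectProperty.isoMk _ (StMod.comapOIso F)

/-- The inverse image along a composite. -/
def comapComp {𝒞 : AlgSt.Cat S} (F : 𝒜 ⥤ᵇ ℬ) (G : ℬ ⥤ᵇ 𝒞) (M : StMod.QCoh 𝒞) :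
    (StMod.comapQ (BasedFunctor.comp F G)).obj M ≅ (StMod.comapQ F).obj ((StMod.comapQ G).obj M) :=
  ObjectProperty.isoMk _ (StMod.comapCompIso G F M.obj)

end NatIso

section Slice

variable {𝒳 𝒴 : AlgSt.Cat S}

theorem isEqv_fibMap_iso (h𝒳 : FibCat.IsFibGrpd 𝒳.p) (f : 𝒳 ⥤ᵇ 𝒴) {η' η : 𝒴.obj} (i : η' ≅ η) :
    IsEqv (fibMap f i.hom) :=
  ⟨⟨fun {x y} {φ φ'} h => CostructuredArrow.hom_ext _ _ (congrArg CommaMorphism.left h :)⟩,
    ⟨fun {x y} ψ => ⟨CostructuredArrow.homMk ψ.left (by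
        refine (cancel_mono i.hom).1 ?_
        rw [Category.assoc]
        exact CostructuredArrow.w ψ), CostructuredArrow.hom_ext _ _ rfl⟩⟩,
    fun w => ⟨CostructuredArrow.mk (w.hom ≫ i.inv), CostructuredArrow.isoMk (Iso.refl _) (by
        show f.map (𝟙 w.left) ≫ w.hom = (w.hom ≫ i.inv) ≫ i.hom
        rw [f.toFunctor.map_id, Category.id_comp, Category.assoc, i.inv_hom_id, Category.comp_id]), rfl, by
      show 𝒳.p.map (𝟙 w.left) = 𝟙 _
      exact 𝒳.p.map_id _⟩, isFibGrpd_fibCat h𝒳 _ _, isFibGrpd_fibCat h𝒳 _ _⟩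

/-- The category over an object is an algebraic stack. -/
theorem isAlgStack_fibCat (h𝒳 : AS 𝒳) (h𝒴 : AS 𝒴) (f : 𝒳 ⥤ᵇ 𝒴) (η : 𝒴.obj) : AS (StMod.fibCat f η) := by
  obtain ⟨z, i, -, -⟩ := exists_chartAt h𝒴.isStack.1 η
  have hT := AlgStLib.isAlgStack_overCat (𝒴.p.obj η)
  have hW := AlgStLib.algFp h𝒴 h𝒳 hT f z
  exact AlgStLib.isAlgStack_of_equiv (isEqv_fibMap_iso h𝒳.isStack.1 f i).isEquivOver
    (AlgStLib.isAlgStack_of_equiv (isEqv_fibOfSnd f z h𝒳.isStack.1 h𝒴.isStack.1 hT.isStack.1 (topObj _)).isEquivOver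
      (AlgStLib.isAlgStack_of_equiv (isEqv_topFib (FibCat.fpSnd f z) hW.isStack.1).isEquivOver hW))

end Slice

section Comp

variable {𝒳 𝒴 𝒵 : AlgSt.Cat S} (f : 𝒳 ⥤ᵇ 𝒴) (g : 𝒴 ⥤ᵇ 𝒵)

/-- The functor between the fibres induced by the first factor of a composite. -/
def fibComp (ζ : 𝒵.obj) : StMod.fibCat (BasedFunctor.comp f g) ζ ⥤ᵇ StMod.fibCat g ζ where
  toFunctor :=
    { obj := fun x => CostructuredArrow.mk (show g.obj (f.obj x.left) ⟶ ζ from x.hom)
      map := fun {x y} φ => CostructuredArrow.homMk (f.map φ.left) (CostructuredArrow.w φ)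
      map_id := fun x => CostructuredArrow.hom_ext _ _ (f.toFunctor.map_id x.left)
      map_comp := fun φ φ' => CostructuredArrow.hom_ext _ _ (f.toFunctor.map_comp φ.left φ'.left) }
  w := congrArg (fun F => CostructuredArrow.proj (BasedFunctor.comp f g).toFunctor ζ ⋙ F) f.w

/-- A fibre of the first factor, as a fibre of the functor between the fibres. -/
def toFibComp (ζ : 𝒵.obj) (η : (StMod.fibCat g ζ).obj) :
    StMod.fibCat f η.left ⥤ᵇ StMod.fibCat (fibComp f g ζ) η where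
  toFunctor :=
    { obj := fun w =>
        let m : (StMod.fibCat (BasedFunctor.comp f g) ζ).obj :=
          CostructuredArrow.mk (show (BasedFunctor.comp f g).obj w.left ⟶ ζ from g.map w.hom ≫ η.hom)
        CostructuredArrow.mk (show (fibComp f g ζ).obj m ⟶ η from CostructuredArrow.homMk w.hom rfl)
      map := fun {w' w} φ => CostructuredArrow.homMk (CostructuredArrow.homMk φ.left (by
          show g.map (f.map φ.left) ≫ g.map w.hom ≫ η.hom = g.map w'.hom ≫ η.hom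
          rw [← Category.assoc, ← g.toFunctor.map_comp, CostructuredArrow.w φ]))
        (CostructuredArrow.hom_ext _ _ (CostructuredArrow.w φ))
      map_id := fun w => CostructuredArrow.hom_ext _ _ (CostructuredArrow.hom_ext _ _ rfl)
      map_comp := fun φ φ' => CostructuredArrow.hom_ext _ _ (CostructuredArrow.hom_ext _ _ rfl) }
  w := rfl

variable {f g} (h𝒳 : FibCat.IsFibGrpd 𝒳.p)

include h𝒳 in
theorem isEqv_toFibComp (ζ : 𝒵.obj) (η : (StMod.fibCat g ζ).obj) : IsEqv (toFibComp f g ζ η) :=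
  ⟨⟨fun {w' w} {φ φ'} h => CostructuredArrow.hom_ext _ _ (congrArg (fun k => k.left.left) h :)⟩,
    ⟨fun {w' w} ψ => ⟨CostructuredArrow.homMk ψ.left.left (congrArg CommaMorphism.left (CostructuredArrow.w ψ) :),
      CostructuredArrow.hom_ext _ _ (CostructuredArrow.hom_ext _ _ rfl)⟩⟩,
    fun x => ⟨CostructuredArrow.mk (show f.obj x.left.left ⟶ η.left from x.hom.left),
      CostructuredArrow.isoMk (CostructuredArrow.isoMk (Iso.refl _) (by
        show g.map (f.map (𝟙 x.left.left)) ≫ x.left.hom = g.map x.hom.left ≫ η.hom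
        rw [f.toFunctor.map_id, g.toFunctor.map_id, Category.id_comp]
        exact (CostructuredArrow.w x.hom).symm)) (by
        refine CostructuredArrow.hom_ext _ _ ?_
        show f.map (𝟙 x.left.left) ≫ x.hom.left = x.hom.left
        rw [f.toFunctor.map_id, Category.id_comp]), rfl, by
      show 𝒳.p.map (𝟙 x.left.left) = 𝟙 _
      exact 𝒳.p.map_id _⟩,
    isFibGrpd_fibCat h𝒳 _ _, isFibGrpd_fibCat (isFibGrpd_fibCat h𝒳 _ _) _ _⟩

end Comp

end Groth.Agent.RelGen
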