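import Mathlib
import Groth.Agent.RelGen.CompTools

/-!
# Surjectivity on sections of relative direct images: flat base change and flat descent
-/

universe u

open CategoryTheory CategoryTheory.Limits AlgebraicGeometry TopologicalSpace Opposite TensorProduct

set_option autoImplicit false
set_option backward.isDefEq.respectTransparency false
set_option backward.isDefEq.respectTransparency.types false
set_option linter.style.haveILetI false

noncomputable section

namespace Groth.Agent.RelGen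

open Groth.Agent.QC Groth.Agent.QDescent AffMod

variable {S : Scheme.{u}} {𝒳 Q : AlgSt.Cat S} {π : 𝒳 ⥤ᵇ Q}

theorem baseOver_left_eq (π : 𝒳 ⥤ᵇ Q) {η : Q.obj} (x : (StMod.fibCat π η).obj) :
    (StMod.baseOver π x.left x.hom).left = uFib π η x := rfl

variable (M : StMod.QCoh 𝒳) (η : Q.obj)

/-- The value at one of a morphism from the structure sheaf. -/
abbrev valOne (φ : onFib π (StMod.OQ 𝒳) η ⟶ onFib π M η) (x : (StMod.fibCat π η).obj) :
    Γ(M.obj.obj x.left, ⊤) :=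
  (φ.hom.app x).app ⊤ (show Γ((StMod.OQ 𝒳).obj.obj x.left, ⊤) from (1 : Γ(StMod.sch 𝒳 x.left, ⊤)))

theorem valOne_trT (φ : onFib π (StMod.OQ 𝒳) η ⟶ onFib π M η) {x' x : (StMod.fibCat π η).obj} (c : x' ⟶ x) :
    trT M.obj c.left (valOne M η φ x) = valOne M η φ x' := by
  have hc := top_le (𝒵 := StMod.fibCat π η) c
  have h1 : tr (onFib π M η).obj c ⊤ ⊤ hc (valOne M η φ x) = (φ.hom.app x').app ⊤
      (tr (onFib π (StMod.OQ 𝒳) η).obj c ⊤ ⊤ hc (1 : Γ(StMod.sch 𝒳 x.left, ⊤))) :=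
    tr_hom (𝒵 := StMod.fibCat π η) φ.hom c ⊤ ⊤ _ _
  rw [tr_onFib π M η c ⊤ ⊤ hc, tr_onFib π (StMod.OQ 𝒳) η c ⊤ ⊤ hc] at h1
  refine h1.trans (congrArg _ ?_)
  exact (trT_eq_map (StMod.OQ 𝒳).obj c.left _).trans (map_one (StMod.bmap 𝒳 c.left).appTop.hom)

/-- Sections of the relative direct image, as values at one. -/
def secHom : (onFib π (StMod.OQ 𝒳) η ⟶ onFib π M η) →+ StMod.Mod.RelSect π M.obj η :=
  AddMonoidHom.mk' (fun φ => ⟨fun ξ α => valOne M η φ (CostructuredArrow.mk α), fun ξ' ξ c α =>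
    (trT_eq_map M.obj c _).symm.trans (valOne_trT M η φ (x' := CostructuredArrow.mk (π.map c ≫ α))
      (x := CostructuredArrow.mk α) (CostructuredArrow.homMk c rfl))⟩)
    fun φ φ' => StMod.Mod.RelSect.ext _ _ _ fun ξ α => rfl

theorem secHom_bijective (hπ : FibData π) : Function.Bijective (secHom M η (π := π)) := by
  have hg := isFibGrpd_fibCat hπ.srcFib π η
  refine ⟨(injective_iff_map_eq_zero _).2 fun φ hφ => ?_, fun s => ?_⟩
  · refine eq_zero_of_cover hg φ fun x t => ⟨x, 𝟙 x, hits_id x t, fun x' _ hx' r => ?_⟩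
    have hr : r = (show Γ(StMod.sch 𝒳 x'.left, ⊤) from r) •
        (show Γ((StMod.OQ 𝒳).obj.obj x'.left, ⊤) from (1 : Γ(StMod.sch 𝒳 x'.left, ⊤))) :=
      (mul_one (show Γ(StMod.sch 𝒳 x'.left, ⊤) from r)).symm
    have h0 : valOne M η φ x' = 0 := congrArg (fun s : StMod.Mod.RelSect π M.obj η => s.1 x'.left x'.hom) hφ
    rw [hr]
    refine ((Scheme.Modules.Hom.app_smul _ _ _).trans ?_)
    exact (congrArg _ h0).trans (smul_zero _)
  · have hdata : LocData (M := onFib π (StMod.OQ 𝒳) η) (N := onFib π M η) (fun _ => PUnit.{u + 2})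
        fun x _ _ => AddMonoidHom.mk'
          (fun r => (show Γ(StMod.sch 𝒳 x.left, ⊤) from r) • (show Γ(M.obj.obj x.left, ⊤) from s.1 x.left x.hom))
          (fun a b => add_smul _ _ _) :=
      { grpd := hg
        pull := fun _ _ => ⟨⟨⟩⟩
        cov := fun x t => ⟨x, 𝟙 x, hits_id x t, ⟨⟨⟩⟩⟩
        smul := fun x _ _ r a => mul_smul r (show Γ(StMod.sch 𝒳 x.left, ⊤) from a) _
        compat := fun {x' x} c _ _ _ _ a => by
          have hc := top_le (𝒵 := StMod.fibCat π η) c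
          refine (tr_onFib π M η c ⊤ ⊤ hc _).trans ?_
          show trT M.obj c.left ((show Γ(StMod.sch 𝒳 x.left, ⊤) from a) • s.1 x.left x.hom) = _
          rw [trT_smul, show trT M.obj c.left (s.1 x.left x.hom) = s.1 x'.left x'.hom from
            (trT_eq_map M.obj c.left _).trans ((s.2 c.left x.hom).trans (congrArg (s.1 x'.left) (CostructuredArrow.w c)))]
          refine congrArg (· • s.1 x'.left x'.hom) ?_
          exact ((tr_onFib π (StMod.OQ 𝒳) η c ⊤ ⊤ hc a).trans (trT_eq_map (StMod.OQ 𝒳).obj c.left a)).symm }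
    obtain ⟨φ, hφ⟩ := hdata.exists_hom
    refine ⟨φ, StMod.Mod.RelSect.ext _ _ _ fun ξ α => ?_⟩
    refine top_ext M fun t => ?_
    obtain ⟨ξ', c, hξ', hhit, -⟩ := exists_affine_hit hπ.srcFib (𝟙 ξ) (hits_id ξ t) (U := ⊤) trivial
    refine ⟨ξ', c ≫ 𝟙 ξ, hhit, ?_⟩
    refine Eq.trans (valOne_trT M η φ (x' := CostructuredArrow.mk (π.map (c ≫ 𝟙 ξ) ≫ α))
      (x := CostructuredArrow.mk α) (CostructuredArrow.homMk (c ≫ 𝟙 ξ) rfl)) ?_
    refine Eq.trans ?_ ((trT_eq_map M.obj (c ≫ 𝟙 ξ) (s.1 ξ α)).trans (s.2 (c ≫ 𝟙 ξ) α)).symm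
    exact (hφ (CostructuredArrow.mk (π.map (c ≫ 𝟙 ξ) ≫ α)) hξ' ⟨⟩ _).trans (one_smul _ _)

variable (π) {M}

/-- Sections of the relative direct image along a morphism are surjected upon. -/
def SurjAt {F G : StMod.QCoh 𝒳} (u : F ⟶ G) : Prop :=
  Function.Surjective (StMod.Mod.relSectMap π u.hom η)

variable {π}

theorem surjAt_iff (hπ : FibData π) {F G : StMod.QCoh 𝒳} (u : F ⟶ G) :
    SurjAt π η u ↔ Function.Surjective (post (StMod.OQ 𝒳) F u η (π := π)) := by
  have hc : ∀ φ, secHom G η (π := π) (post (StMod.OQ 𝒳) F u η φ) =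
      StMod.Mod.relSectMap π u.hom η (secHom F η φ) := fun φ => StMod.Mod.RelSect.ext _ _ _ fun ξ α => rfl
  constructor
  · intro h ψ
    obtain ⟨s, hs⟩ := h (secHom G η ψ)
    obtain ⟨φ, rfl⟩ := (secHom_bijective F η hπ).2 s
    exact ⟨φ, (secHom_bijective G η hπ).1 ((hc φ).trans hs)⟩
  · intro h t
    obtain ⟨ψ, rfl⟩ := (secHom_bijective G η hπ).2 t
    obtain ⟨φ, rfl⟩ := h ψ
    exact ⟨secHom F η φ, (hc φ).symm⟩

variable {η}

/-- Surjectivity passes to flat affine objects below. -/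
theorem SurjAt.baseChange (hπ : FibData π) {F G : StMod.QCoh 𝒳} {u : F ⟶ G} {η' : Q.obj} (g : η' ⟶ η)
    [IsAffine (StMod.sch Q η)] [IsAffine (StMod.sch Q η')] [Flat (StMod.bmap Q g)] (h : SurjAt π η u) :
    SurjAt π η' u := by
  rw [surjAt_iff _ hπ] at h ⊢
  have hfp : (StMod.OQ 𝒳).obj.IsFinPres := fun ξ => SchDense.isFP_unit _
  let A : AObj Q := ⟨η, ‹_›⟩
  let A' : AObj Q := ⟨η', ‹_›⟩
  letI : Algebra (bR A.obj) (bR A'.obj) := (bmapR g).toAlgebra
  intro ψ
  obtain ⟨z, hz⟩ := (isBC_homMod (StMod.OQ 𝒳) G hπ hfp (A' := A') (A := A) g ‹_›).2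
    (homEquivOb (StMod.OQ 𝒳) G hπ A' ψ)
  suffices key : ∀ z, ∃ φ, post (StMod.OQ 𝒳) F u η' φ =
      (homEquivOb (StMod.OQ 𝒳) G hπ A').symm ((homMod (StMod.OQ 𝒳) G hπ).bcm (A' := A') (A := A) g z) by
    obtain ⟨φ, hφ⟩ := key z
    rw [hz, AddEquiv.symm_apply_apply] at hφ
    exact ⟨φ, hφ⟩
  intro z
  induction z using TensorProduct.induction_on with
  | zero =>
    refine ⟨0, ?_⟩
    rw [map_zero, map_zero]
    exact zero_comp
  | add a b ha hb =>
    obtain ⟨φa, ha⟩ := ha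
    obtain ⟨φb, hb⟩ := hb
    exact ⟨φa + φb, by rw [post_add, map_add, map_add, ha, hb]⟩
  | tmul b n =>
    obtain ⟨φ, hφ⟩ := h ((homEquivOb (StMod.OQ 𝒳) G hπ A).symm n)
    refine ⟨(show bR η' from b) • transp (StMod.OQ 𝒳) F g φ, ?_⟩
    rw [post_smul, post_transp, hφ, ← homMod_r (StMod.OQ 𝒳) G hπ (A' := A') (A := A) g n]
    exact (homEquivOb_symm_smul (StMod.OQ 𝒳) G hπ A' b _).symm

/-- Surjectivity descends along jointly surjective flat affine objects. -/
theorem surjAt_of_hits (hπ : FibData π) {F G : StMod.QCoh 𝒳} (u : F ⟶ G) [IsAffine (StMod.sch Q η)]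
    (h : ∀ t : StMod.sch Q η, ∃ (η' : Q.obj) (g : η' ⟶ η), IsAffine (StMod.sch Q η') ∧ Flat (StMod.bmap Q g) ∧
      t ∈ Set.range (StMod.bmap Q g).base ∧ SurjAt π η' u) : SurjAt π η u := by
  rw [surjAt_iff _ hπ]
  have hfp : (StMod.OQ 𝒳).obj.IsFinPres := fun ξ => SchDense.isFP_unit _
  let p : (onFib π (StMod.OQ 𝒳) η ⟶ onFib π F η) →ₗ[bR η] (onFib π (StMod.OQ 𝒳) η ⟶ onFib π G η) :=
    { toFun := post (StMod.OQ 𝒳) F u η
      map_add' := post_add (StMod.OQ 𝒳) F u η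
      map_smul' := post_smul (StMod.OQ 𝒳) F u η }
  intro ψ
  show ψ ∈ LinearMap.range p
  rw [← Submodule.Quotient.mk_eq_zero]
  set c := (Submodule.Quotient.mk ψ : _ ⧸ LinearMap.range p) with hc
  set I : Ideal (bR η) := LinearMap.ker (LinearMap.toSpanSingleton (bR η) _ c) with hI
  have key : ∀ t : StMod.sch Q η, ∃ r ∈ I, t ∈ (StMod.sch Q η).basicOpen r := by
    intro t
    obtain ⟨η', g, hη', hfl, ⟨w, hw⟩, hs⟩ := h t
    rw [surjAt_iff _ hπ] at hs
    haveI := hη'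
    haveI := hfl
    let A : AObj Q := ⟨η, ‹_›⟩
    let A' : AObj Q := ⟨η', hη'⟩
    letI : Algebra (bR η) (bR η') := (bmapR g).toAlgebra
    haveI : Module.Flat (bR η) (bR η') := HasRingHomProperty.appTop (P := @Flat) _ hfl
    -- the base change of morphisms
    let el : ∀ K : StMod.QCoh 𝒳, homOb (StMod.OQ 𝒳) K hπ A ≃ₗ[bR η] (onFib π (StMod.OQ 𝒳) η ⟶ onFib π K η) :=
      fun K => { (homEquivOb (StMod.OQ 𝒳) K hπ A).symm with map_smul' := homEquivOb_symm_smul (StMod.OQ 𝒳) K hπ A }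
    let B : ∀ K : StMod.QCoh 𝒳, bR η' ⊗[bR η] (onFib π (StMod.OQ 𝒳) η ⟶ onFib π K η) →
        (onFib π (StMod.OQ 𝒳) η' ⟶ onFib π K η') :=
      fun K z => (homEquivOb (StMod.OQ 𝒳) K hπ A').symm ((homMod (StMod.OQ 𝒳) K hπ).bcm (A' := A') (A := A) g
        ((LinearEquiv.lTensor (bR η') (el K)).symm z))
    have hB : ∀ K, Function.Bijective (B K) := fun K =>
      ((homEquivOb (StMod.OQ 𝒳) K hπ A').symm.bijective.comp
        (isBC_homMod (StMod.OQ 𝒳) K hπ hfp (A' := A') (A := A) g hfl)).comp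
        (LinearEquiv.lTensor (bR η') (el K)).symm.bijective
    have hBadd : ∀ K a b, B K (a + b) = B K a + B K b := fun K a b => by
      simp only [B, map_add]
    have hBt : ∀ K b φ, B K (b ⊗ₜ φ) = (show bR η' from b) • transp (StMod.OQ 𝒳) K g φ := fun K b φ => by
      show (homEquivOb (StMod.OQ 𝒳) K hπ A').symm (b • (homMod (StMod.OQ 𝒳) K hπ).r (A' := A') (A := A) g
        (homEquivOb (StMod.OQ 𝒳) K hπ A φ)) = _
      rw [homEquivOb_symm_smul, homMod_r, AddEquiv.symm_apply_apply]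
    have hcomm : ∀ z, B G (LinearMap.lTensor (bR η') p z) = post (StMod.OQ 𝒳) F u η' (B F z) := by
      intro z
      induction z using TensorProduct.induction_on with
      | zero =>
        rw [map_zero, show B G 0 = 0 by simp [B], show B F 0 = 0 by simp [B]]
        exact ((AddMonoidHom.mk' _ (post_add (StMod.OQ 𝒳) F u η')).map_zero).symm
      | add a b ha hb => rw [map_add, hBadd, hBadd, post_add, ha, hb]
      | tmul b φ =>
        rw [LinearMap.lTensor_tmul, hBt, hBt, post_smul, post_transp]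
        rfl
    obtain ⟨χ, hχ⟩ := hs (transp (StMod.OQ 𝒳) G g ψ)
    obtain ⟨z, rfl⟩ := (hB F).2 χ
    rw [← hcomm] at hχ
    have h1 : LinearMap.lTensor (bR η') p z = (1 : bR η') ⊗ₜ ψ := (hB G).1 (hχ.trans (by rw [hBt, one_smul]))
    have h2 : (1 : bR η') ⊗ₜ[bR η] c = 0 := by
      have h3 := congrArg (LinearMap.lTensor (bR η') (LinearMap.range p).mkQ) h1
      rw [← LinearMap.lTensor_comp_apply, LinearMap.range_mkQ_comp, LinearMap.lTensor_zero, LinearMap.zero_apply,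
        LinearMap.lTensor_tmul] at h3
      exact h3.symm
    have h3 := map_ker_eq_top c h2
    rw [Ideal.map, ← (isAffineOpen_top (StMod.sch Q η')).self_le_iSup_basicOpen_iff] at h3
    obtain ⟨⟨_, r, hr, rfl⟩, hrw⟩ := Opens.mem_iSup.1 (h3 (trivial : w ∈ (⊤ : (StMod.sch Q η').Opens)))
    refine ⟨r, hr, ?_⟩
    have h4 : w ∈ StMod.bmap Q g ⁻¹ᵁ (StMod.sch Q η).basicOpen r := by
      rw [Scheme.preimage_basicOpen_top]
      exact hrw
    rw [← hw]
    exact h4
  have htop : Ideal.span (I : Set (bR η)) = ⊤ := by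
    rw [← (isAffineOpen_top (StMod.sch Q η)).self_le_iSup_basicOpen_iff]
    intro t _
    obtain ⟨r, hr, ht⟩ := key t
    exact Opens.mem_iSup.2 ⟨⟨r, hr⟩, ht⟩
  rw [Ideal.span_eq] at htop
  have h1 : (1 : bR η) ∈ I := by rw [htop]; trivial
  rw [hI, LinearMap.mem_ker, LinearMap.toSpanSingleton_apply, one_smul] at h1
  exact h1

end Groth.Agent.RelGen
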