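import Mathlib
import Groth.Agent.RelGen.CohCore

/-!
# Surjectivity on sections of relative direct images and base change of the target
-/

universe u

open CategoryTheory CategoryTheory.Limits AlgebraicGeometry TopologicalSpace Opposite

set_option autoImplicit false
set_option backward.isDefEq.respectTransparency false
set_option backward.isDefEq.respectTransparency.types false
set_option linter.style.haveILetI false

noncomputable section

namespace Groth.Agent.RelGen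

open Groth.Agent.QC Groth.Agent.QDescent

variable {S : Scheme.{u}}

section Cast

theorem castTop_castHom {X T : Scheme.{u}} (h : X = T) {M N : X.Modules} (a : M ⟶ N) (s : Γ(M, ⊤)) :
    castTop h N (a.app ⊤ s) = (StMod.castHom h a).app ⊤ (castTop h M s) := by
  subst h; rfl

variable {𝒳 𝒴 : AlgSt.Cat S} (π : 𝒳 ⥤ᵇ 𝒴) {F G : StMod.QCoh 𝒴}

theorem pullTop_app (u : F ⟶ G) (x : 𝒳.obj) (s : Γ(F.obj.obj (π.obj x), ⊤)) :
    pullTop π G x ((u.hom.app (π.obj x)).app ⊤ s) = (((StMod.comapQ π).map u).hom.app x).app ⊤ (pullTop π F x s) :=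
  castTop_castHom (StMod.sch_obj_eq π x) _ _

theorem pullTop_symm_app (u : F ⟶ G) (x : 𝒳.obj) (s : Γ(((StMod.comapQ π).obj F).obj.obj x, ⊤)) :
    (pullTop π G x).symm ((((StMod.comapQ π).map u).hom.app x).app ⊤ s) =
      (u.hom.app (π.obj x)).app ⊤ ((pullTop π F x).symm s) := by
  refine (pullTop π G x).injective ?_
  rw [AddEquiv.apply_symm_apply, pullTop_app, AddEquiv.apply_symm_apply]

theorem isSurj_comap (u : F ⟶ G) (hu : StMod.Mod.IsSurj u.hom) : StMod.Mod.IsSurj ((StMod.comapQ π).map u).hom := by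
  intro x hx t
  obtain ⟨s, hs⟩ := hu (π.obj x) (isAffine_map π hx) ((pullTop π G x).symm t)
  refine ⟨pullTop π F x s, ?_⟩
  refine (pullTop_app π u x s).symm.trans ?_
  rw [hs, AddEquiv.apply_symm_apply]

end Cast

variable {𝒳 Q Q' : AlgSt.Cat S} (G : Q' ⥤ᵇ Q) (π : 𝒳 ⥤ᵇ Q)

theorem exists_sqObj (hQ : FibCat.IsFibGrpd Q.p) (hQ' : FibCat.IsFibGrpd Q'.p) (ξ : 𝒳.obj) {o : Q'.obj}
    (α : π.obj ξ ⟶ G.obj o) : ∃ (w : Q'.obj) (β : w ⟶ o) (j : G.obj w ≅ π.obj ξ),
      Q.p.IsHomLift (𝟙 (Q'.p.obj w)) j.hom ∧ j.hom ≫ α = G.map β := by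
  obtain ⟨w, β, hβl⟩ := GerbLib.lift_at hQ' rfl (StMod.baseOver π ξ α ≫ eqToHom (G.w_obj o))
  haveI := hβl
  have ho : Q'.p.obj w = 𝒳.p.obj ξ :=
    IsHomLift.domain_eq Q'.p (StMod.baseOver π ξ α ≫ eqToHom (G.w_obj o)) β
  have hβ : StMod.bmap Q' β = eqToHom (congrArg Comma.left ho) ≫ (StMod.baseOver π ξ α).left ≫
      eqToHom (StMod.sch_obj_eq G o) := by
    rw [show StMod.bmap Q' β = (Q'.p.map β).left from rfl,
      IsHomLift.fac' Q'.p (StMod.baseOver π ξ α ≫ eqToHom (G.w_obj o)) β]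
    simp [Over.eqToHom_left]
  have hw : Q.p.obj (G.obj w) = Q.p.obj (π.obj ξ) := (G.w_obj w).trans (ho.trans (π.w_obj ξ).symm)
  obtain ⟨χ, hχ, hχ'⟩ := exists_factor hQ α (G.map β) (eqToHom (congrArg Comma.left hw)) (by
    rw [bmap_map G β, hβ, baseOver_left]
    simp)
  have hm : Q.p.map χ = eqToHom hw := by
    refine Over.OverMorphism.ext ?_
    show StMod.bmap Q χ = _
    rw [hχ, Over.eqToHom_left]
  haveI : IsIso (Q.p.map χ) := by rw [hm]; infer_instance
  haveI : IsIso χ := FibCatRep.isIso_of_map hQ χ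
  exact ⟨w, β, asIso χ, IsHomLift.of_fac' _ _ _ (G.w_obj w) ((π.w_obj ξ).trans ho.symm) (hm.trans (by simp)), hχ'⟩

variable {G π}

/-- Surjectivity over an object of a base change gives surjectivity over its image. -/
theorem surjAt_of_bc (hQ : FibCat.IsFibGrpd Q.p) (hQ' : FibCat.IsFibGrpd Q'.p) {o : Q'.obj}
    {F M : StMod.QCoh 𝒳} (u : F ⟶ M)
    (h : SurjAt (FibCat.fpFst G π) o ((StMod.comapQ (FibCat.fpSnd G π)).map u)) : SurjAt π (G.obj o) u := by
  intro t
  let t' : StMod.Mod.RelSect (FibCat.fpFst G π) ((StMod.comapQ (FibCat.fpSnd G π)).obj M).obj o :=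
    ⟨fun P β => pullTop (FibCat.fpSnd G π) M P (t.1 P.obj.snd (P.obj.iso.inv ≫ G.map β)), fun P' P c β => by
      refine (trT_eq_map ((StMod.comapQ (FibCat.fpSnd G π)).obj M).obj c _).symm.trans ?_
      rw [pullTop_trT]
      refine congrArg (pullTop (FibCat.fpSnd G π) M P') ?_
      refine ((trT_eq_map M.obj c.hom.snd _).trans (t.2 c.hom.snd _)).trans (congrArg (t.1 P'.obj.snd) ?_)
      show π.map c.hom.snd ≫ P.obj.iso.inv ≫ G.map β = P'.obj.iso.inv ≫ G.map (c.hom.fst ≫ β)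
      rw [G.toFunctor.map_comp, ← Category.assoc, ← Category.assoc P'.obj.iso.inv]
      congr 1
      rw [Iso.eq_inv_comp, ← Category.assoc, ← c.hom.w, Category.assoc, Iso.hom_inv_id, Category.comp_id]⟩
  obtain ⟨s', hs'⟩ := h t'
  choose w β j hj hjβ using fun (ξ : 𝒳.obj) (α : π.obj ξ ⟶ G.obj o) => exists_sqObj G π hQ hQ' ξ α
  let P : ∀ (ξ : 𝒳.obj) (_ : π.obj ξ ⟶ G.obj o), (FibCat.fp G π).obj :=
    fun ξ α => ⟨{ fst := w ξ α, snd := ξ, iso := j ξ α }, hj ξ α⟩
  let s : StMod.Mod.RelSect π F.obj (G.obj o) :=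
    ⟨fun ξ α => (pullTop (FibCat.fpSnd G π) F (P ξ α)).symm (s'.1 (P ξ α) (β ξ α)), fun ξ' ξ φ α => by
      obtain ⟨e', he'⟩ := bmap_of_isHomLift_id _ (hj ξ' (π.map φ ≫ α))
      obtain ⟨e, he⟩ := bmap_of_isHomLift_id _ (hj ξ α)
      have hG : (j ξ' (π.map φ ≫ α)).hom ≫ π.map φ ≫ α = G.map (β ξ' (π.map φ ≫ α)) := hjβ ξ' (π.map φ ≫ α)
      have h1 := congrArg (StMod.bmap Q) hG
      rw [StMod.bmap_comp, StMod.bmap_comp, he', bmap_map π φ, bmap_map G (β ξ' (π.map φ ≫ α))] at h1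
      have h2 := congrArg (StMod.bmap Q) (hjβ ξ α)
      rw [StMod.bmap_comp, he, bmap_map G (β ξ α)] at h2
      obtain ⟨b, hb, hb'⟩ := exists_factor hQ' (β ξ α) (β ξ' (π.map φ ≫ α))
        (eqToHom ((StMod.sch_obj_eq G (w ξ' (π.map φ ≫ α))).symm.trans (e'.trans (StMod.sch_obj_eq π ξ'))) ≫
          StMod.bmap 𝒳 φ ≫
          eqToHom ((StMod.sch_obj_eq π ξ).symm.trans (e.symm.trans (StMod.sch_obj_eq G (w ξ α))))) (by
          have h3 := congrArg (fun k => eqToHom ((StMod.sch_obj_eq π ξ).symm.trans e.symm) ≫ k ≫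
            eqToHom (StMod.sch_obj_eq G o)) h2
          simp only [Category.assoc, eqToHom_trans, eqToHom_trans_assoc, eqToHom_refl, Category.id_comp,
            Category.comp_id] at h3 ⊢
          rw [← h3]
          have h4 := congrArg (fun k => eqToHom (StMod.sch_obj_eq G (w ξ' (π.map φ ≫ α))).symm ≫ k ≫
            eqToHom (StMod.sch_obj_eq G o)) h1
          simpa using h4)
      let m : P ξ' (π.map φ ≫ α) ⟶ P ξ α := ObjectProperty.homMk
        { fst := b
          snd := φ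
          w := by
            show G.map b ≫ (j ξ α).hom = (j ξ' (π.map φ ≫ α)).hom ≫ π.map φ
            refine eq_of_bmap hQ α ?_ ?_
            · rw [StMod.bmap_comp, StMod.bmap_comp, bmap_map G b, bmap_map π φ, hb, he, he']
              simp
            · rw [Category.assoc, hjβ, ← G.toFunctor.map_comp, hb', Category.assoc, hG] }
      refine (trT_eq_map F.obj φ _).symm.trans ?_
      refine (pullTop_symm_trT (FibCat.fpSnd G π) F m _).symm.trans (congrArg _ ?_)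
      exact ((trT_eq_map _ m _).trans (s'.2 m (β ξ α))).trans (congrArg (s'.1 (P ξ' (π.map φ ≫ α))) hb')⟩
  refine ⟨s, StMod.Mod.RelSect.ext _ _ _ fun ξ α => ?_⟩
  show (u.hom.app ξ).app ⊤ ((pullTop (FibCat.fpSnd G π) F (P ξ α)).symm (s'.1 (P ξ α) (β ξ α))) = t.1 ξ α
  have h1 := congrArg (fun k : StMod.Mod.RelSect (FibCat.fpFst G π) ((StMod.comapQ (FibCat.fpSnd G π)).obj M).obj o =>
    k.1 (P ξ α) (β ξ α)) hs'
  have h2 := congrArg (pullTop (FibCat.fpSnd G π) M (P ξ α)).symm h1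
  refine ((pullTop_symm_app (FibCat.fpSnd G π) u (P ξ α) _).symm.trans h2).trans ?_
  show (pullTop (FibCat.fpSnd G π) M (P ξ α)).symm (pullTop (FibCat.fpSnd G π) M (P ξ α) _) = _
  rw [AddEquiv.symm_apply_apply]
  refine congrArg (t.1 ξ) ?_
  show (j ξ α).inv ≫ G.map (β ξ α) = α
  rw [← hjβ, Iso.inv_hom_id_assoc]

end Groth.Agent.RelGen
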