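import Mathlib
import Groth.Agent.RelGen.CompTools

/-!
# Fibres over an affine object of a functor into a fibre of a composite, as fibres of the diagonal
-/

universe u

open CategoryTheory CategoryTheory.Limits AlgebraicGeometry TopologicalSpace Opposite

set_option autoImplicit false
set_option backward.isDefEq.respectTransparency false
set_option backward.isDefEq.respectTransparency.types false
set_option linter.style.haveILetI false

noncomputable section

namespace Groth.Agent.RelGen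

open Groth.Agent.QC Groth.Agent.QDescent

variable {S : Scheme.{u}} {𝒳 𝒴 𝒵 : AlgSt.Cat S} (f : 𝒳 ⥤ᵇ 𝒴) (g : 𝒴 ⥤ᵇ 𝒵)

/-- A fibre of the first factor maps to the fibre of the composite. -/
def fibIn (η : 𝒴.obj) : StMod.fibCat f η ⥤ᵇ StMod.fibCat (BasedFunctor.comp f g) (g.obj η) where
  toFunctor :=
    { obj := fun x => CostructuredArrow.mk (show (BasedFunctor.comp f g).obj x.left ⟶ g.obj η from g.map x.hom)
      map := fun {x y} φ => CostructuredArrow.homMk φ.left (by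
        show g.map (f.map φ.left) ≫ g.map y.hom = g.map x.hom
        rw [← g.toFunctor.map_comp, CostructuredArrow.w φ])
      map_id := fun x => CostructuredArrow.hom_ext _ _ rfl
      map_comp := fun φ φ' => CostructuredArrow.hom_ext _ _ rfl }
  w := rfl

variable {f g} (h𝒳 : FibCat.IsFibGrpd 𝒳.p) (h𝒴 : FibCat.IsFibGrpd 𝒴.p) (h𝒵 : FibCat.IsFibGrpd 𝒵.p)

include h𝒴 h𝒵 in
/-- An object of the self product of `g` from a morphism of images. -/
theorem exists_fpObj {a η : 𝒴.obj} (θ : g.obj a ⟶ g.obj η) :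
    ∃ (η₀ : 𝒴.obj) (e₀ : η₀ ⟶ η) (j : g.obj a ≅ g.obj η₀),
      𝒵.p.IsHomLift (𝟙 (𝒴.p.obj a)) j.hom ∧ j.hom ≫ g.map e₀ = θ := by
  let β : 𝒴.p.obj a ⟶ 𝒴.p.obj η := eqToHom (g.w_obj a).symm ≫ 𝒵.p.map θ ≫ eqToHom (g.w_obj η)
  obtain ⟨η₀, e₀, he₀⟩ := GerbLib.lift_at h𝒴 rfl β
  haveI := he₀
  haveI : 𝒵.p.IsHomLift β (g.map e₀) := (BasedFunctor.isHomLift_iff g _ _).2 he₀
  have h0 : 𝒴.p.obj η₀ = 𝒴.p.obj a := IsHomLift.domain_eq 𝒴.p β e₀
  have hm : 𝒵.p.map (g.map e₀) = eqToHom ((g.w_obj η₀).trans h0) ≫ β ≫ eqToHom (g.w_obj η).symm := by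
    rw [IsHomLift.fac' 𝒵.p β (g.map e₀)]
  obtain ⟨χ, hχ, hχ'⟩ := exists_factor h𝒵 (g.map e₀) θ
    (eqToHom (congrArg Comma.left ((g.w_obj a).trans (h0.symm.trans (g.w_obj η₀).symm)))) (by
      show eqToHom _ ≫ (𝒵.p.map (g.map e₀)).left = (𝒵.p.map θ).left
      rw [hm]
      simp [β, Over.eqToHom_left])
  have hm' : 𝒵.p.map χ = eqToHom ((g.w_obj a).trans (h0.symm.trans (g.w_obj η₀).symm)) := by
    refine Over.OverMorphism.ext ?_
    show StMod.bmap 𝒵 χ = _
    rw [hχ, Over.eqToHom_left]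
  haveI : IsIso (𝒵.p.map χ) := by rw [hm']; infer_instance
  haveI : IsIso χ := FibCatRep.isIso_of_map h𝒵 χ
  exact ⟨η₀, e₀, asIso χ, IsHomLift.of_fac' _ _ _ (g.w_obj a) ((g.w_obj η₀).trans h0) (hm'.trans (by simp)), hχ'⟩

include h𝒴 in
/-- Morphisms into a pair with the same first component and the same composite of the second one are equal. -/
theorem fp_hom_ext {o k : (FibCat.fp g g).obj} {η : 𝒴.obj} (e₀ : o.obj.snd ⟶ η) (m m' : k ⟶ o)
    (h₁ : m.hom.fst = m'.hom.fst) (h₂ : m.hom.snd ≫ e₀ = m'.hom.snd ≫ e₀) : m = m' := by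
  refine ObjectProperty.hom_ext _ (CategoricalPullback.hom_ext h₁ (eq_of_bmap h𝒴 e₀ ?_ h₂))
  show StMod.bmap 𝒴 ((FibCat.fpSnd g g).map m) = StMod.bmap 𝒴 ((FibCat.fpSnd g g).map m')
  rw [bmap_map, bmap_map]
  congr 2
  show StMod.bmap 𝒴 m.hom.fst = StMod.bmap 𝒴 m'.hom.fst
  rw [h₁]

include h𝒳 h𝒴 h𝒵 in
/-- The fibres of `fibIn` are fibres of the diagonal. -/
theorem exists_isEqv_diag (η : 𝒴.obj) (q : (StMod.fibCat (BasedFunctor.comp f g) (g.obj η)).obj)
    (hq : IsAffine (StMod.sch 𝒳 q.left)) :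
    ∃ (o : (FibCat.fp g g).obj) (P : StMod.fibCat (fibIn f g η) q ⥤ᵇ StMod.fibCat (FibCat.diag g) o),
      IsEqv P ∧ IsAffine (StMod.sch (FibCat.fp g g) o) := by
  obtain ⟨η₀, e₀, j, hj, hje⟩ := exists_fpObj h𝒴 h𝒵 (show g.obj (f.obj q.left) ⟶ g.obj η from q.hom)
  replace hje : j.hom ≫ g.map e₀ = q.hom := hje
  let o : (FibCat.fp g g).obj := ⟨{ fst := f.obj q.left, snd := η₀, iso := j }, hj⟩
  have hw : ∀ x : (StMod.fibCat (fibIn f g η) q).obj,
      g.map (f.map x.hom.left) ≫ q.hom = g.map x.left.hom := fun x => CostructuredArrow.w x.hom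
  have hm : ∀ x : (StMod.fibCat (fibIn f g η) q).obj, ∃ m : (FibCat.diag g).obj (f.obj x.left.left) ⟶ o,
      m.hom.fst = f.map x.hom.left ∧ m.hom.snd ≫ e₀ = x.left.hom := fun x => by
    obtain ⟨e1, he1⟩ := bmap_of_isHomLift_id _ hj
    have h1 := congrArg (StMod.bmap 𝒵) (hw x)
    rw [← hje, StMod.bmap_comp, StMod.bmap_comp, he1, bmap_map g (f.map x.hom.left), bmap_map g e₀, bmap_map g x.left.hom] at h1
    obtain ⟨m₂, hm₂, hm₂'⟩ := exists_factor h𝒴 e₀ x.left.hom
      (StMod.bmap 𝒴 (f.map x.hom.left) ≫ eqToHom ((StMod.sch_obj_eq g (f.obj q.left)).symm.trans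
        (e1.trans (StMod.sch_obj_eq g η₀)))) (by
        simp only [Category.assoc, eqToHom_trans_assoc] at h1 ⊢
        have h2 := congrArg (fun k => eqToHom (StMod.sch_obj_eq g (f.obj x.left.left)).symm ≫ k ≫
          eqToHom (StMod.sch_obj_eq g η)) h1
        simpa using h2)
    refine ⟨ObjectProperty.homMk { fst := f.map x.hom.left, snd := m₂, w := ?_ }, rfl, hm₂'⟩
    show g.map (f.map x.hom.left) ≫ j.hom = 𝟙 _ ≫ g.map m₂
    rw [Category.id_comp]
    refine eq_of_bmap h𝒵 (g.map e₀) ?_ ?_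
    · rw [StMod.bmap_comp, bmap_map g (f.map x.hom.left), bmap_map g m₂, he1, hm₂]
      simp
    · rw [Category.assoc, hje, ← g.toFunctor.map_comp, hm₂']
      exact hw x
  choose m hm₁ hm₂ using hm
  let P : StMod.fibCat (fibIn f g η) q ⥤ᵇ StMod.fibCat (FibCat.diag g) o :=
    { toFunctor :=
        { obj := fun x => CostructuredArrow.mk (m x)
          map := fun {x' x} φ => CostructuredArrow.homMk (f.map φ.left.left) (fp_hom_ext h𝒴 (o := o) e₀ _ _ (by
            show f.map φ.left.left ≫ (m x).hom.fst = (m x').hom.fst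
            rw [hm₁, hm₁, ← f.toFunctor.map_comp]
            exact congrArg f.map (congrArg CommaMorphism.left (CostructuredArrow.w φ))) (by
            show (f.map φ.left.left ≫ (m x).hom.snd) ≫ e₀ = (m x').hom.snd ≫ e₀
            rw [Category.assoc, hm₂, hm₂]
            exact CostructuredArrow.w φ.left))
          map_id := fun x => CostructuredArrow.hom_ext _ _ (f.toFunctor.map_id _)
          map_comp := fun φ φ' => CostructuredArrow.hom_ext _ _ (f.toFunctor.map_comp _ _) }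
      w := congrArg (fun F => (CostructuredArrow.proj (fibIn f g η).toFunctor q ⋙
        CostructuredArrow.proj f.toFunctor η) ⋙ F) f.w }
  refine ⟨o, P, ⟨⟨fun {x' x} {φ φ'} h => ?_⟩, ⟨fun {x' x} ψ => ?_⟩, fun y => ?_,
    isFibGrpd_fibCat (isFibGrpd_fibCat h𝒳 _ _) _ _, isFibGrpd_fibCat h𝒴 _ _⟩, ?_⟩
  · -- faithful
    have h0 : f.map φ.left.left = f.map φ'.left.left := congrArg CommaMorphism.left h
    refine CostructuredArrow.hom_ext _ _ (CostructuredArrow.hom_ext _ _ (eq_of_bmap h𝒳 x.hom.left ?_ ?_))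
    · have h1 := congrArg (StMod.bmap 𝒴) h0
      rw [bmap_map, bmap_map] at h1
      simp only [cancel_epi, cancel_mono] at h1
      exact h1
    · exact (congrArg CommaMorphism.left (CostructuredArrow.w φ)).trans
        (congrArg CommaMorphism.left (CostructuredArrow.w φ')).symm
  · -- full
    let b : f.obj x'.left.left ⟶ f.obj x.left.left := ψ.left
    have hb := CostructuredArrow.w ψ
    have hb₁ : b ≫ f.map x.hom.left = f.map x'.hom.left := by
      rw [← hm₁, ← hm₁]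
      exact congrArg (fun k => k.hom.fst) hb
    have hb₂ : b ≫ x.left.hom = x'.left.hom := by
      rw [← hm₂, ← hm₂, ← Category.assoc]
      exact congrArg (fun k => k.hom.snd ≫ e₀) hb
    have h1 := congrArg (StMod.bmap 𝒴) hb₁
    rw [StMod.bmap_comp, bmap_map, bmap_map] at h1
    obtain ⟨a, ha, ha'⟩ := exists_factor h𝒳 x.hom.left x'.hom.left
      (eqToHom (StMod.sch_obj_eq f x'.left.left).symm ≫ StMod.bmap 𝒴 b ≫ eqToHom (StMod.sch_obj_eq f x.left.left)) (by
        simp only [Category.assoc] at h1 ⊢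
        have h2 := congrArg (fun k => eqToHom (StMod.sch_obj_eq f x'.left.left).symm ≫ k ≫
          eqToHom (StMod.sch_obj_eq f q.left)) h1
        simpa using h2)
    have hab : f.map a = b := eq_of_bmap h𝒴 (f.map x.hom.left) (by
      rw [bmap_map, ha]
      simp) (by rw [hb₁, ← f.toFunctor.map_comp, ha'])
    refine ⟨CostructuredArrow.homMk (CostructuredArrow.homMk a (by rw [hab]; exact hb₂))
      (CostructuredArrow.hom_ext _ _ ha'), CostructuredArrow.hom_ext _ _ hab⟩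
  · -- essentially surjective
    let n : (FibCat.diag g).obj y.left ⟶ o := y.hom
    let n₁ : y.left ⟶ f.obj q.left := n.hom.fst
    let n₂ : y.left ⟶ η₀ := n.hom.snd
    have hn : g.map n₁ ≫ j.hom = g.map n₂ := n.hom.w.trans (Category.id_comp _)
    obtain ⟨ξ, e, φ, hφ⟩ := exists_lift_scheme h𝒳 (StMod.bmap 𝒴 n₁ ≫ eqToHom (StMod.sch_obj_eq f q.left))
    obtain ⟨χ, hχ, hχ'⟩ := exists_factor h𝒴 n₁ (f.map φ) (eqToHom ((StMod.sch_obj_eq f ξ).trans e)) (by
      rw [bmap_map, hφ]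
      simp)
    have hm' : ∃ h : 𝒴.p.obj (f.obj ξ) = 𝒴.p.obj y.left, 𝒴.p.map χ = eqToHom h := by
      have h1 : (𝒴.p.map χ).left = eqToHom ((StMod.sch_obj_eq f ξ).trans e) := hχ
      have h2 := Over.w (𝒴.p.map χ)
      rw [h1] at h2
      have h3 : ∀ {U V : Over S} (h : U.left = V.left), eqToHom h ≫ V.hom = U.hom → U = V := by
        intro U V h hh
        obtain ⟨Ul, ⟨⟨⟩⟩, Uh⟩ := U
        obtain ⟨Vl, ⟨⟨⟩⟩, Vh⟩ := V
        obtain rfl : Ul = Vl := h
        obtain rfl : Vh = Uh := (Category.id_comp Vh).symm.trans hh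
        rfl
      refine ⟨h3 _ h2, Over.OverMorphism.ext ?_⟩
      rw [h1, Over.eqToHom_left]
    obtain ⟨hy, hy'⟩ := hm'
    haveI : IsIso (𝒴.p.map χ) := by rw [hy']; infer_instance
    haveI : IsIso χ := FibCatRep.isIso_of_map h𝒴 χ
    let x₀ : (StMod.fibCat f η).obj := CostructuredArrow.mk (χ ≫ n₂ ≫ e₀)
    let x : (StMod.fibCat (fibIn f g η) q).obj := CostructuredArrow.mk
      (show (fibIn f g η).obj x₀ ⟶ q from CostructuredArrow.homMk φ (by
        show g.map (f.map φ) ≫ q.hom = g.map (χ ≫ n₂ ≫ e₀)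
        rw [← hje, ← hχ', g.toFunctor.map_comp, g.toFunctor.map_comp, g.toFunctor.map_comp, Category.assoc,
          ← Category.assoc (g.map n₁), hn]))
    refine ⟨x, CostructuredArrow.isoMk (asIso χ) (fp_hom_ext h𝒴 (o := o) e₀ _ _ ?_ ?_), hy, hy'⟩
    · show χ ≫ n₁ = (m x).hom.fst
      rw [hm₁]
      exact hχ'
    · show (χ ≫ n₂) ≫ e₀ = (m x).hom.snd ≫ e₀
      rw [hm₂, Category.assoc]
      rfl
  · show IsAffine (StMod.sch 𝒴 (f.obj q.left))
    exact isAffine_map f hq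

end Groth.Agent.RelGen
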