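import Mathlib
import Groth.Agent.RelGen.DiagFib

/-!
# Generating families relative to composites
-/

universe u

open CategoryTheory CategoryTheory.Limits AlgebraicGeometry TopologicalSpace Opposite

set_option autoImplicit false
set_option backward.isDefEq.respectTransparency false
set_option backward.isDefEq.respectTransparency.types false
set_option linter.style.haveILetI false

noncomputable section

namespace Groth.Agent.RelGen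

open Groth.Agent.QC Groth.Agent.QDescent

variable {S : Scheme.{u}}

local notation "AS" => AlgSt.IsAlgStack Scheme.fppfPrecoverage

variable {𝒳 𝒴 𝒵 : AlgSt.Cat S}

theorem fibData_fibComp (h𝒳 : AS 𝒳) (h𝒴 : AS 𝒴) (f : 𝒳 ⥤ᵇ 𝒴)
    (hfqc : AlgSt.IsQuasiCompactMor Scheme.fppfPrecoverage f) (hfqs : AlgSt.IsQuasiSeparatedMor f) (g : 𝒴 ⥤ᵇ 𝒵)
    (ζ : 𝒵.obj) : FibData (fibComp f g ζ) :=
  ⟨isFibGrpd_fibCat h𝒳.isStack.1 _ _, isFibGrpd_fibCat h𝒴.isStack.1 _ _,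
    fun η hη => (isEqv_toFibComp h𝒳.isStack.1 ζ η).isQC_tgt (isQC_fibCat_of_qc h𝒳 h𝒴 f hfqc η.left hη),
    fun η hη => (isEqv_toFibComp h𝒳.isStack.1 ζ η).isQS_tgt
      (isQS_fibCat_of_diag h𝒳.isStack.1 h𝒴.isStack.1 f hfqs η.left hη)⟩

/-- A module on the source, on a fibre of a fibre. -/
def fibCompIso (f : 𝒳 ⥤ᵇ 𝒴) (g : 𝒴 ⥤ᵇ 𝒵) (ζ : 𝒵.obj) (η : (StMod.fibCat g ζ).obj) (E : StMod.QCoh 𝒳) :
    onFib f E η.left ≅
      (StMod.comapQ (toFibComp f g ζ η)).obj (onFib (fibComp f g ζ) (onFib (BasedFunctor.comp f g) E ζ) η) :=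
  comapComp (toFibComp f g ζ η)
      (BasedFunctor.comp (StMod.fibFst (fibComp f g ζ) η) (StMod.fibFst (BasedFunctor.comp f g) ζ)) E ≪≫
    (StMod.comapQ (toFibComp f g ζ η)).mapIso
      (comapComp (StMod.fibFst (fibComp f g ζ) η) (StMod.fibFst (BasedFunctor.comp f g) ζ) E)

theorem isGenFam_fibComp (h𝒳 : AS 𝒳) (f : 𝒳 ⥤ᵇ 𝒴) (g : 𝒴 ⥤ᵇ 𝒵) (ζ : 𝒵.obj) (η : (StMod.fibCat g ζ).obj)
    {ι : Type*} (E : ι → StMod.QCoh 𝒳) (h : StMod.IsGenFam fun i => onFib f (E i) η.left) :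
    StMod.IsGenFam fun i => onFib (fibComp f g ζ) (onFib (BasedFunctor.comp f g) (E i) ζ) η :=
  (isEqv_toFibComp h𝒳.isStack.1 ζ η).isGenFam (isGenFam_of_iso (fun i => fibCompIso f g ζ η (E i)) h)

theorem isRelGenFam_comap_comp (h𝒳 : AS 𝒳) (h𝒴 : AS 𝒴) (h𝒵 : AS 𝒵) (f : 𝒳 ⥤ᵇ 𝒴)
    (hfqc : AlgSt.IsQuasiCompactMor Scheme.fppfPrecoverage f) (hfqs : AlgSt.IsQuasiSeparatedMor f) (g : 𝒴 ⥤ᵇ 𝒵)
    {ι : Type*} (F : ι → StMod.QCoh 𝒴) (hO : StMod.IsRelGenFam f fun _ : PUnit.{u + 1} => StMod.OQ 𝒳)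
    (hF : StMod.IsRelGenFam g F) :
    StMod.IsRelGenFam (BasedFunctor.comp f g) fun j => (StMod.comapQ f).obj (F j) := fun ζ hζ => by
  refine isGenFam_of_iso (fun j => ((comapComp (fibComp f g ζ) (StMod.fibFst g ζ) (F j)).symm ≪≫
      comapComp (StMod.fibFst (BasedFunctor.comp f g) ζ) f (F j) :
        (StMod.comapQ (fibComp f g ζ)).obj (onFib g (F j) ζ) ≅ onFib (BasedFunctor.comp f g) ((StMod.comapQ f).obj (F j)) ζ))
    (isGenFam_comap (fibData_fibComp h𝒳 h𝒴 f hfqc hfqs g ζ) (isAlgStack_fibCat h𝒴 h𝒵 g ζ) _ (hF ζ hζ) fun η hη => ?_)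
  exact isGenFam_of_iso
    (fun _ => (StMod.comapQ (StMod.fibFst (fibComp f g ζ) η)).mapIso (comapOQ (StMod.fibFst (BasedFunctor.comp f g) ζ)))
    (isGenFam_fibComp h𝒳 f g ζ η (fun _ : PUnit.{u + 1} => StMod.OQ 𝒳) (hO η.left hη))

theorem isRelGenFam_comp (h𝒳 : AS 𝒳) (h𝒴 : AS 𝒴) (h𝒵 : AS 𝒵) (f : 𝒳 ⥤ᵇ 𝒴)
    (hfqc : AlgSt.IsQuasiCompactMor Scheme.fppfPrecoverage f) (hfqs : AlgSt.IsQuasiSeparatedMor f) (g : 𝒴 ⥤ᵇ 𝒵)
    {ι : Type*} (E : ι → StMod.QCoh 𝒳) (hE : ∀ i, (E i).obj.IsFinPres) (hE' : StMod.IsRelGenFam f E)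
    (hO : StMod.IsRelGenFam g fun _ : PUnit.{u + 1} => StMod.OQ 𝒴) :
    StMod.IsRelGenFam (BasedFunctor.comp f g) E := fun ζ hζ =>
  isGenFam_of_fibres (fibData_fibComp h𝒳 h𝒴 f hfqc hfqs g ζ) (isAlgStack_fibCat h𝒴 h𝒵 g ζ)
    (fun i => onFib (BasedFunctor.comp f g) (E i) ζ) (fun i x => hE i x.left)
    (isGenFam_of_iso (fun _ => comapOQ (StMod.fibFst g ζ)) (hO ζ hζ))
    fun η hη => isGenFam_fibComp h𝒳 f g ζ η E (hE' η.left hη)

theorem isQuasiCompact_diag (g : 𝒴 ⥤ᵇ 𝒵) (hgqs : AlgSt.IsQuasiSeparatedMor g) :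
    AlgSt.RepByAlgSpWith AlgSp.IsQuasiCompactMor (FibCat.diag g) :=
  AlgStLib.repWith_mono hgqs fun _ _ _ _ ha => ha.1

theorem isRelGenFam_of_comp (h𝒳 : AS 𝒳) (h𝒴 : AS 𝒴) (h𝒵 : AS 𝒵) (f : 𝒳 ⥤ᵇ 𝒴) (g : 𝒴 ⥤ᵇ 𝒵)
    (hgqs : AlgSt.IsQuasiSeparatedMor g) {ι : Type*} (E : ι → StMod.QCoh 𝒳)
    (hh : StMod.IsRelGenFam (BasedFunctor.comp f g) E)
    (hO : StMod.IsRelGenFam (FibCat.diag g) fun _ : PUnit.{u + 1} => StMod.OQ 𝒴) :
    StMod.IsRelGenFam f E := fun η hη => by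
  have hfp : AS (FibCat.fp g g) := AlgStLib.algFp h𝒵 h𝒴 h𝒴 g g
  have hdqc : AlgSt.IsQuasiCompactMor Scheme.fppfPrecoverage (FibCat.diag g) :=
    AlgStLib.isQuasiCompactMor_of_repWith h𝒴 hfp (isQuasiCompact_diag g hgqs)
  have hddqc := ((AlgStLib.isQuasiSeparatedMor_iff (AlgStLib.repByAlgSp1_of_with hgqs)).1 hgqs).2
  have key := exists_isEqv_diag h𝒳.isStack.1 h𝒴.isStack.1 h𝒵.isStack.1 (f := f) (g := g) η
  have hπ : FibData (fibIn f g η) := ⟨isFibGrpd_fibCat h𝒳.isStack.1 _ _, isFibGrpd_fibCat h𝒳.isStack.1 _ _,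
    fun q hq => by
      obtain ⟨o, P, hP, ho⟩ := key q hq
      exact hP.isQC_src (isQC_fibCat_of_qc h𝒴 hfp (FibCat.diag g) hdqc o ho),
    fun q hq => by
      obtain ⟨o, P, hP, ho⟩ := key q hq
      exact hP.isQS_src (isQS_fibCat_of_qc_diag h𝒴.isStack.1 hfp.isStack.1 (FibCat.diag g) hddqc o ho)⟩
  refine isGenFam_of_iso (fun j => ((comapComp (fibIn f g η) (StMod.fibFst (BasedFunctor.comp f g) (g.obj η)) (E j)).symm :
      (StMod.comapQ (fibIn f g η)).obj (onFib (BasedFunctor.comp f g) (E j) (g.obj η)) ≅ onFib f (E j) η))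
    (isGenFam_comap hπ (isAlgStack_fibCat h𝒳 h𝒵 _ _) _ (hh (g.obj η) (isAffine_map g hη)) fun q hq => ?_)
  obtain ⟨o, P, hP, ho⟩ := key q hq
  refine isGenFam_of_iso (fun _ => (StMod.comapQ P).mapIso (comapOQ (StMod.fibFst (FibCat.diag g) o)) ≪≫
    comapOQ P ≪≫ (comapOQ (StMod.fibFst (fibIn f g η) q)).symm) (hP.isGenFam_comap (hO o ho))

/-- A fibre of a functor, as a fibre of an isomorphic one. -/
def fibIso {F G : 𝒳 ⥤ᵇ 𝒵} (e : F ≅ G) (η : 𝒵.obj) : StMod.fibCat G η ⥤ᵇ StMod.fibCat F η where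
  toFunctor :=
    { obj := fun x => CostructuredArrow.mk (e.hom.toNatTrans.app x.left ≫ x.hom)
      map := fun {x y} φ => CostructuredArrow.homMk φ.left (by
        show F.map φ.left ≫ e.hom.toNatTrans.app y.left ≫ y.hom = e.hom.toNatTrans.app x.left ≫ x.hom
        have h := e.hom.toNatTrans.naturality φ.left
        rw [← Category.assoc, h, Category.assoc, CostructuredArrow.w φ])
      map_id := fun x => CostructuredArrow.hom_ext _ _ rfl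
      map_comp := fun φ φ' => CostructuredArrow.hom_ext _ _ rfl }
  w := rfl

theorem isEqv_fibIso (h𝒳 : FibCat.IsFibGrpd 𝒳.p) {F G : 𝒳 ⥤ᵇ 𝒵} (e : F ≅ G) (η : 𝒵.obj) : IsEqv (fibIso e η) := by
  have h1 : ∀ x : 𝒳.obj, e.inv.toNatTrans.app x ≫ e.hom.toNatTrans.app x = 𝟙 (G.obj x) :=
    fun x => congrArg (fun k => k.toNatTrans.app x) e.inv_hom_id
  have h2 : ∀ x : 𝒳.obj, e.hom.toNatTrans.app x ≫ e.inv.toNatTrans.app x = 𝟙 (F.obj x) :=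
    fun x => congrArg (fun k => k.toNatTrans.app x) e.hom_inv_id
  refine ⟨⟨fun {x y} {φ φ'} h => CostructuredArrow.hom_ext _ _ (congrArg CommaMorphism.left h :)⟩,
    ⟨fun {x y} ψ => ⟨CostructuredArrow.homMk ψ.left ?_, CostructuredArrow.hom_ext _ _ rfl⟩⟩,
    fun w => ⟨CostructuredArrow.mk (e.inv.toNatTrans.app w.left ≫ w.hom), CostructuredArrow.isoMk (Iso.refl _) ?_, rfl, ?_⟩,
    isFibGrpd_fibCat h𝒳 _ _, isFibGrpd_fibCat h𝒳 _ _⟩
  · have h := CostructuredArrow.w ψ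
    have hn : F.map ψ.left ≫ e.hom.toNatTrans.app y.left = e.hom.toNatTrans.app x.left ≫ G.map ψ.left :=
      e.hom.toNatTrans.naturality ψ.left
    calc G.map ψ.left ≫ y.hom
        = (e.inv.toNatTrans.app x.left ≫ e.hom.toNatTrans.app x.left) ≫ G.map ψ.left ≫ y.hom := by
          rw [h1, Category.id_comp]
      _ = e.inv.toNatTrans.app x.left ≫ (F.map ψ.left ≫ e.hom.toNatTrans.app y.left ≫ y.hom) := by
          rw [Category.assoc, ← Category.assoc (F.map ψ.left), hn, Category.assoc]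
      _ = e.inv.toNatTrans.app x.left ≫ e.hom.toNatTrans.app x.left ≫ x.hom :=
          congrArg (fun k => e.inv.toNatTrans.app x.left ≫ k) h
      _ = x.hom := by rw [← Category.assoc, h1, Category.id_comp]
  · show F.map (𝟙 w.left) ≫ w.hom = e.hom.toNatTrans.app w.left ≫ e.inv.toNatTrans.app w.left ≫ w.hom
    rw [F.toFunctor.map_id, Category.id_comp, ← Category.assoc, h2, Category.id_comp]
  · show 𝒳.p.map (𝟙 w.left) = 𝟙 _
    exact 𝒳.p.map_id _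

theorem isRelGenFam_of_natIso (h𝒳 : FibCat.IsFibGrpd 𝒳.p) {F G : 𝒳 ⥤ᵇ 𝒵} (e : F ≅ G) {ι : Type*}
    {E : ι → StMod.QCoh 𝒳} (h : StMod.IsRelGenFam F E) : StMod.IsRelGenFam G E := fun η hη =>
  isGenFam_of_iso (fun j => ((comapComp (fibIso e η) (StMod.fibFst F η) (E j)).symm :
      (StMod.comapQ (fibIso e η)).obj (onFib F (E j) η) ≅ onFib G (E j) η))
    ((isEqv_fibIso h𝒳 e η).isGenFam_comap (h η hη))

end Groth.Agent.RelGen
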