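import Mathlib
import Groth.Agent.RelGen.Compose
import Groth.Agent.TMul.GlobGen
import Groth.Agent.AlgStLib.OfPsh
import Groth.Agent.AlgStLib.OpenSub
import Groth.Agent.FibCat2Misc.Equiv

/-!
# The structure sheaf generates relative to quasi-affine morphisms
-/

universe u

open CategoryTheory CategoryTheory.Limits AlgebraicGeometry TopologicalSpace Opposite TensorProduct

set_option autoImplicit false
set_option backward.isDefEq.respectTransparency false
set_option backward.isDefEq.respectTransparency.types false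
set_option linter.style.haveILetI false

noncomputable section

namespace Groth.Agent.RelGen

open Groth.Agent.QC Groth.Agent.QDescent

variable {S : Scheme.{u}}

local notation "AS" => AlgSt.IsAlgStack Scheme.fppfPrecoverage

/-- Sections over an affine open of the bottom object generate those of an affine object mapping into it. -/
theorem app_top_eq_zero_of_le {𝒵 : AlgSt.Cat S} {M N : StMod.QCoh 𝒵} (u : M ⟶ N) {x' x : 𝒵.obj} (φ : x' ⟶ x)
    [IsAffine (StMod.sch 𝒵 x')] {V : (StMod.sch 𝒵 x).Opens} (hV : IsAffineOpen V)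
    (e : (⊤ : (StMod.sch 𝒵 x').Opens) ≤ StMod.bmap 𝒵 φ ⁻¹ᵁ V)
    (h : ∀ s : Γ(M.obj.obj x, V), (u.hom.app x).app V s = 0) (t : Γ(M.obj.obj x', ⊤)) :
    (u.hom.app x').app ⊤ t = 0 := by
  letI : Algebra Γ(StMod.sch 𝒵 x, V) Γ(StMod.sch 𝒵 x', ⊤) := ((StMod.bmap 𝒵 φ).appLE V ⊤ e).hom.toAlgebra
  obtain ⟨Φ, hΦ⟩ := exists_bijective_tr M φ hV (isAffineOpen_top _) e
  obtain ⟨z, rfl⟩ := Φ.surjective t
  induction z using TensorProduct.induction_on with
  | zero => rw [map_zero, map_zero]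
  | add a b ha hb => rw [map_add, map_add, ha, hb, add_zero]
  | tmul r s =>
    rw [show r ⊗ₜ[Γ(StMod.sch 𝒵 x, V)] s = r • ((1 : Γ(StMod.sch 𝒵 x', ⊤)) ⊗ₜ s) by
      rw [TensorProduct.smul_tmul', smul_eq_mul, mul_one], map_smul, hΦ, Scheme.Modules.Hom.app_smul, ← tr_hom, h,
      map_zero, smul_zero]

/-- On a quasi-affine scheme a morphism from a quasi-coherent module killing global sections kills sections over
affine basic opens. -/
theorem app_eq_zero_basicOpen {X : Scheme.{u}} [X.IsQuasiAffine] {M N : X.Modules} (hM : Coh.IsQCoh M) (u : M ⟶ N)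
    (h : ∀ s : Γ(M, ⊤), u.app ⊤ s = 0) (r : Γ(X, ⊤)) (y : Γ(M, X.basicOpen r)) : u.app (X.basicOpen r) y = 0 := by
  have : M.IsQuasicoherent := hM
  obtain ⟨n, s, hs⟩ := Groth.Agent.QC.exists_pow_smul_extends_of_isCompact (M := M)
    (W := (⊤ : X.Opens)) isCompact_univ isQuasiSeparated_univ r y
  have hu : IsUnit (Groth.Agent.QC.resO X (X.basicOpen_le r) r) := X.toRingedSpace.isUnit_res_basicOpen r
  have h1 := congrArg (u.app (X.basicOpen r)) hs
  rw [Scheme.Modules.Hom.app_smul, ← app_res, h s, map_zero] at h1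
  exact (hu.pow n).smul_eq_zero.1 h1.symm

/-- The structure sheaf generates on a quasi-affine scheme. -/
theorem isGenFam_OQ_overCat (W : Over S) [W.left.IsQuasiAffine] :
    StMod.IsGenFam fun _ : PUnit.{u + 1} => StMod.OQ (FibCat.overCat W) := by
  rw [StMod.isGenFam_iff]
  intro M N u hu
  have hW := FibCatRep.isFibGrpd_overCat W
  haveI : (StMod.sch (FibCat.overCat W) (topObj W)).IsQuasiAffine := inferInstanceAs W.left.IsQuasiAffine
  have htop : ∀ s : Γ(M.obj.obj (topObj W), ⊤), (u.hom.app (topObj W)).app ⊤ s = 0 := fun s => by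
    have hdata : LocData (M := StMod.OQ (FibCat.overCat W)) (N := M) (fun _ => PUnit.{u + 2})
        fun x _ _ => AddMonoidHom.mk'
          (fun r => (show Γ(StMod.sch (FibCat.overCat W) x, ⊤) from r) • trT M.obj (toTop x) s)
          (fun a b => add_smul _ _ _) :=
      { grpd := hW
        pull := fun _ _ => ⟨⟨⟩⟩
        cov := fun x t => ⟨x, 𝟙 x, hits_id x t, ⟨⟨⟩⟩⟩
        smul := fun x _ _ r a => mul_smul r (show Γ(StMod.sch (FibCat.overCat W) x, ⊤) from a) _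
        compat := fun {x' x} φ _ _ _ _ a => by
          show trT M.obj φ ((show Γ(StMod.sch (FibCat.overCat W) x, ⊤) from a) • trT M.obj (toTop x) s) = _
          rw [trT_smul, trT_comp, trT_congr M.obj (toTop_unique (φ ≫ toTop x) (toTop x'))]
          exact congrArg (· • trT M.obj (toTop x') s) (trT_eq_map (StMod.OQ (FibCat.overCat W)).obj φ a).symm }
    obtain ⟨Φ, hΦ⟩ := hdata.exists_hom
    have hΦu : Φ.hom ≫ u.hom = 0 := hu ⟨⟩ Φ.hom
    refine top_ext N fun t => ?_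
    obtain ⟨x, ι, hx, hhit, -⟩ := exists_affine_hit hW (𝟙 (topObj W)) (hits_id _ t)
      (U := ⊤) trivial
    refine ⟨x, ι ≫ 𝟙 _, hhit, ?_⟩
    have h1 : (Φ.hom.app x).app ⊤ (1 : Γ(StMod.sch (FibCat.overCat W) x, ⊤)) = trT M.obj (toTop x) s :=
      (hΦ x hx ⟨⟩ _).trans (one_smul _ _)
    rw [map_zero, trT_congr N.obj (toTop_unique (ι ≫ 𝟙 _) (toTop x)), tr_hom]
    refine Eq.trans (congrArg _ h1.symm) ?_
    exact congr(($hΦu).app x |>.app ⊤ (1 : Γ(StMod.sch (FibCat.overCat W) x, ⊤)))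
  refine eq_zero_of_cover hW u fun x t => ?_
  obtain ⟨-, ⟨r, hr, rfl⟩, htr, -⟩ := TopologicalSpace.Opens.isBasis_iff_nbhd.mp
    (Scheme.IsQuasiAffine.isBasis_basicOpen (StMod.sch (FibCat.overCat W) (topObj W)))
    (show (StMod.bmap (FibCat.overCat W) (toTop x)).base t ∈ (⊤ : (StMod.sch (FibCat.overCat W) (topObj W)).Opens) from trivial)
  obtain ⟨x', ι, -, hhit, hle⟩ := exists_affine_hit hW (𝟙 x) (hits_id x t)
    (U := StMod.bmap (FibCat.overCat W) (toTop x) ⁻¹ᵁ (StMod.sch (FibCat.overCat W) (topObj W)).basicOpen r) htr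
  refine ⟨x', ι ≫ 𝟙 x, hhit, fun x'' g hx'' s => ?_⟩
  haveI := hx''
  refine app_top_eq_zero_of_le u (g ≫ (ι ≫ 𝟙 x) ≫ toTop x) hr ?_
    (app_eq_zero_basicOpen (M.property.2 _) _ htop r) s
  rw [StMod.bmap_comp, StMod.bmap_comp, Scheme.Hom.comp_preimage, Scheme.Hom.comp_preimage]
  exact le_trans le_top ((StMod.bmap _ g).preimage_mono hle)

/-- The category of a functor over an affine object of a quasi-affine representable functor. -/
theorem exists_fib_overCat {𝒳 𝒴 : AlgSt.Cat S} (h𝒳 : AS 𝒳) (h𝒴 : AS 𝒴) (f : 𝒳 ⥤ᵇ 𝒴)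
    (hf : AlgSt.RepByAlgSpWith AlgSp.IsQuasiAffineMor f) (η : 𝒴.obj) (hη : IsAffine (StMod.sch 𝒴 η)) :
    ∃ (W : Over S) (_ : W.left.IsQuasiAffine) (G : FibCat.overCat W ⥤ᵇ StMod.fibCat f η), IsEqv G := by
  obtain ⟨z, i, -, -⟩ := exists_chartAt h𝒴.isStack.1 η
  have hT := AlgStLib.isAlgStack_overCat (𝒴.p.obj η)
  obtain ⟨F, e, he, hq⟩ := hf (𝒴.p.obj η) z
  obtain ⟨W, j, fst, hpb, hW⟩ := hq (Z := 𝒴.p.obj η) hη (𝟙 _)
  haveI : IsIso fst := hpb.isIso_fst_of_isIso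
  haveI : IsIso fst.hom := inferInstanceAs (IsIso ((CategoryTheory.sheafToPresheaf _ _).map fst))
  let hW' := AlgStLib.algFp h𝒴 h𝒳 hT f z
  have h1 := FibCat2Misc.isEquivOver_comp (AlgStLib.isEquivOver_ofOverCat W) (AlgStLib.isEquivOver_ofPshMap fst.hom)
  have h2 := FibCat2Misc.isEquivOver_comp (FibCat2Misc.isEquivOver_comp h1 he) (AlgStLib.isEquivOver_swapFun z f)
  have h3 := FibCat2Misc.isEquivOver_comp h2 (isEqv_topFib (FibCat.fpSnd f z) hW'.isStack.1).isEquivOver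
  have h4 := FibCat2Misc.isEquivOver_comp h3
    (isEqv_fibOfSnd f z h𝒳.isStack.1 h𝒴.isStack.1 hT.isStack.1 (topObj _)).isEquivOver
  have h5 := FibCat2Misc.isEquivOver_comp h4 (isEqv_fibMap_iso h𝒳.isStack.1 f i).isEquivOver
  obtain ⟨h6, h7⟩ := FibCatRep.isEquivOver_data h5
  exact ⟨W, hW, _, ⟨inferInstance, inferInstance, h7, FibCatRep.isFibGrpd_overCat W, isFibGrpd_fibCat h𝒳.isStack.1 _ _⟩⟩

theorem isRelGenFam_OQ_of_quasiAffine {𝒳 𝒴 : AlgSt.Cat S} (h𝒳 : AS 𝒳) (h𝒴 : AS 𝒴) (f : 𝒳 ⥤ᵇ 𝒴)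
    (hf : AlgSt.RepByAlgSpWith AlgSp.IsQuasiAffineMor f) :
    StMod.IsRelGenFam f fun _ : PUnit.{u + 1} => StMod.OQ 𝒳 := fun η hη => by
  obtain ⟨W, hW, G, hG⟩ := exists_fib_overCat h𝒳 h𝒴 f hf η hη
  exact hG.isGenFam (isGenFam_of_iso
    (fun _ => ((StMod.comapQ G).mapIso (comapOQ (StMod.fibFst f η)) ≪≫ comapOQ G).symm) (isGenFam_OQ_overCat W))

end Groth.Agent.RelGen
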