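import Mathlib
import Groth.Agent.RelGen.CohBC
import Groth.Agent.RelGen.QuasiAff
import Groth.Prelude.Def_StMod2

/-!
# Cohomologically affine morphisms to algebraic spaces: flat descent
-/

universe u

open CategoryTheory CategoryTheory.Limits AlgebraicGeometry TopologicalSpace Opposite

set_option autoImplicit false
set_option backward.isDefEq.respectTransparency false
set_option backward.isDefEq.respectTransparency.types false
set_option linter.style.haveILetI false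

noncomputable section

namespace Groth.Agent.RelGen

open Groth.Agent.QC Groth.Agent.QDescent
open _root_.AlgSp _root_.AlgSt

variable {S : Scheme.{u}}

local notation "AS" => IsAlgStack Scheme.fppfPrecoverage

theorem fibData_of_qcqs {𝒳 Q : AlgSt.Cat S} (h𝒳 : AS 𝒳) (hQ : AS Q) (π : 𝒳 ⥤ᵇ Q)
    (hqc : AlgSt.IsQuasiCompactMor Scheme.fppfPrecoverage π) (hqs : AlgSt.IsQuasiSeparatedMor π) : FibData π :=
  ⟨h𝒳.isStack.1, hQ.isStack.1, fun η hη => isQC_fibCat_of_qc h𝒳 hQ π hqc η hη,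
    fun η hη => isQS_fibCat_of_diag h𝒳.isStack.1 hQ.isStack.1 π hqs η hη⟩

theorem isCohAffine_iff_surjAt {𝒳 : AlgSt.Cat S} {M : AlgSp.Sp S} (π : 𝒳 ⥤ᵇ AlgSt.ofSp M) :
    StMod.IsCohAffine π ↔ ∀ ⦃F G : StMod.QCoh 𝒳⦄ (u : F ⟶ G), StMod.Mod.IsSurj u.hom →
      ∀ E : AlgSp.EtOver M, IsAffine E.obj.left.left → SurjAt π (StMod.etaOf E) u := Iff.rfl

/-- An etale affine chart of the source hitting a point of an etale chart of the target of a flat surjection. -/
theorem exists_chart_hit {M' M : AlgSp.Space S} (g : M'.obj ⟶ M.obj) (hgf : AlgSp.LocP @Flat g)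
    (hgs : AlgSp.IsSurjectiveMor g) (E : AlgSp.EtOver M.obj) (t : E.obj.left.left) :
    ∃ (E' : AlgSp.EtOver M'.obj) (h : E'.obj.left ⟶ E.obj.left), IsAffine E'.obj.left.left ∧ Flat h.left ∧
      t ∈ Set.range h.left.base ∧ E'.obj.hom ≫ g = (yon S).map h ≫ E.obj.hom := by
  obtain ⟨W, q, hq₁, hq₂⟩ := M'.property.atlas
  obtain ⟨P, fst, pr, sq, het⟩ := AlgSpLib.exists_repWith E.property (q ≫ g)
  -- the point
  obtain ⟨x, hx⟩ := hgs (Points.ofPt E.obj.hom t)
  obtain ⟨w, hw⟩ := AlgSpLib.isSurjectiveMor_of_repWith hq₂ x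
  obtain ⟨p, hp, -⟩ := AlgSpLib.exists_point_of_isPullback sq (Points.ofScheme E.obj.left t) w (by
    rw [Points.map_comp, hw, hx, Points.map_ofPt, Category.id_comp])
  obtain ⟨k, rfl⟩ := (Points.schemeEquiv P).surjective p
  obtain ⟨f₀, rfl⟩ := AlgSpLib.exists_map_eq fst
  obtain ⟨V, hV, hkV, -⟩ := exists_isAffineOpen_mem_and_subset (X := P.left) (x := k) (U := ⊤) trivial
  let j : Over.mk (V.ι ≫ P.hom) ⟶ P := Over.homMk V.ι rfl
  have hje : RepWith @Etale ((yon S).map (j ≫ pr) ≫ q) :=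
    AlgSpLib.repWith_comp ((AlgSpLib.repWith_yon_iff (P := @Etale) _).2 (by
      haveI : Etale pr.left := het
      haveI : Etale V.ι := inferInstance
      rw [Over.comp_left]
      exact MorphismProperty.comp_mem _ V.ι pr.left inferInstance inferInstance)) hq₁
  have hcomm : ((yon S).map (j ≫ pr) ≫ q) ≫ g = (yon S).map (j ≫ f₀) ≫ E.obj.hom := by
    rw [(yon S).map_comp, (yon S).map_comp, Category.assoc, Category.assoc, Category.assoc, sq.w]
  refine ⟨AlgSp.EtOver.mk ((yon S).map (j ≫ pr) ≫ q) hje, j ≫ f₀, ?_, hgf _ E.obj.hom (j ≫ f₀) hje E.property hcomm,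
    ⟨⟨k, hkV⟩, ?_⟩, hcomm⟩
  · show IsAffine (Over.mk (V.ι ≫ P.hom)).left
    exact hV
  · change Points.map ((yon S).map f₀) (Points.ofPt (𝟙 _) k) = _ at hp
    rw [Points.map_ofPt, Category.id_comp, AlgSpLib.ofScheme_map] at hp
    exact (Points.schemeEquiv E.obj.left).injective hp

theorem isCohAffine_of_bc {𝒳 : AlgSt.Cat S} (h𝒳 : AS 𝒳) {M' M : AlgSp.Space S} (g : M'.obj ⟶ M.obj)
    (hgf : AlgSp.LocP @Flat g) (hgs : AlgSp.IsSurjectiveMor g) (π : 𝒳 ⥤ᵇ AlgSt.ofSp M.obj)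
    (hqc : AlgSt.IsQuasiCompactMor Scheme.fppfPrecoverage π) (hqs : AlgSt.IsQuasiSeparatedMor π)
    (h' : StMod.IsCohAffine (FibCat.fpFst (AlgSt.ofSpMap g) π)) : StMod.IsCohAffine π := by
  have hM := AlgStLib.isAlgStack_ofSp M
  have hπ := fibData_of_qcqs h𝒳 hM π hqc hqs
  intro F G u hu E hE
  show SurjAt π (StMod.etaOf E) u
  haveI : IsAffine (StMod.sch (AlgSt.ofSp M.obj) (StMod.etaOf E)) := hE
  refine surjAt_of_hits hπ u fun t => ?_
  obtain ⟨E', h, hE', hfl, ht, hcomm⟩ := exists_chart_hit g hgf hgs E t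
  let η' : (AlgSt.ofSp M.obj).obj := (AlgSt.ofSpMap g).obj (StMod.etaOf E')
  let φ : η' ⟶ StMod.etaOf E := ⟨h, by
    show M.obj.obj.map h.op ((AlgSp.J S).uliftYonedaEquiv E.obj.hom) =
      g.hom.app _ ((AlgSp.J S).uliftYonedaEquiv E'.obj.hom)
    rw [GrothendieckTopology.uliftYonedaEquiv_naturality, ← GrothendieckTopology.uliftYonedaEquiv_comp]
    exact congrArg _ hcomm.symm⟩
  refine ⟨η', φ, hE', hfl, ht, ?_⟩
  exact surjAt_of_bc hM.isStack.1 (AlgStLib.isAlgStack_ofSp M').isStack.1 u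
    (h' _ (isSurj_comap (FibCat.fpSnd (AlgSt.ofSpMap g) π) u hu) E' hE')

end Groth.Agent.RelGen
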