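import Mathlib
import Groth.Agent.RelGen.CohSp

/-!
# Morphisms of quasi-coherent modules from their values on the objects through which everything is flat
-/

universe u

open CategoryTheory CategoryTheory.Limits AlgebraicGeometry TopologicalSpace Opposite TensorProduct

set_option autoImplicit false
set_option backward.isDefEq.respectTransparency false
set_option backward.isDefEq.respectTransparency.types false
set_option linter.style.haveILetI false

noncomputable section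

namespace Groth.Agent.RelGen

open Groth.Agent.QC Groth.Agent.QDescent
open _root_.AlgSp _root_.AlgSt

variable {S : Scheme.{u}}

local notation "AS" => IsAlgStack Scheme.fppfPrecoverage

theorem repWith_flat_overMap {U V : Over S} (d : U ⟶ V) [Flat d.left] :
    RepByAlgSpWith (LocP @Flat) (AlgSt.overMap d) := by
  refine (AlgStLib.repWith_iff_of_equiv _ (AlgSt.overMap d) (Stk.ofPshMap ((yon S).map d).hom)
    (AlgSt.toOverCat U) (AlgSt.toOverCat V)
    (AlgStLib.isEquivOver_toOverCat U) (AlgStLib.isEquivOver_toOverCat V) ?_).2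
    (AlgStLib.repWith_mono ((AlgStLib.repWith_ofPshMap_iff _ _).2
      (AlgStLib.repBySpWith_repWith (IsAlgSpace.yon_obj U) (IsAlgSpace.yon_obj V) ((yon S).map d)
        ((AlgSpLib.repWith_yon_iff (P := @Flat) d).2 ‹_›)))
      fun _ T a _ ha => (AlgSpLib.locP_iff_repWith AlgSpLib.etST_flat (IsAlgSpace.yon_obj T) ha.1).2 ha)
  exact Iso.refl _

/-- Invariance of the objects through which everything is flat under vertical isomorphisms. -/
theorem isOk_congr {Q : AlgSt.Cat S} (hQ : FibCat.IsFibGrpd Q.p) {y' y : Q.obj} (i : y' ≅ y) :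
    IsOk y ↔ IsOk y' :=
  AlgStLib.repWith_iff_of_equiv _ (StMod.fibFst (BasedFunctor.id Q) y) (StMod.fibFst (BasedFunctor.id Q) y')
    (fibMap (BasedFunctor.id Q) i.hom) (BasedFunctor.id Q) (isEqv_fibMap_iso hQ _ i).isEquivOver
    FibCat2Misc.isEquivOver_id (Iso.refl _)

/-- An object flat over one through which everything is flat is such an object. -/
theorem isOk_of_flat {Q : AlgSt.Cat S} (hQ : FibCat.IsFibGrpd Q.p) {y a : Q.obj} (g : y ⟶ a)
    [Flat (StMod.bmap Q g)] (ha : IsOk a) : IsOk y := by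
  obtain ⟨z, i, h, hi⟩ := exists_chartAt hQ a
  let d : Q.p.obj y ⟶ Q.p.obj a := Q.p.map g
  haveI : Flat d.left := ‹Flat (StMod.bmap Q g)›
  have hz : RepByAlgSpWith (LocP @Flat) z :=
    (AlgStLib.repWith_iff_of_equiv _ (StMod.fibFst (BasedFunctor.id Q) (z.obj (topObj _))) z (chartFib z)
      (BasedFunctor.id Q) (isEquivOver_chartFib hQ z) FibCat2Misc.isEquivOver_id (Iso.refl _)).1
      ((isOk_congr hQ i).1 ha)
  let zy : FibCat.overCat (Q.p.obj y) ⥤ᵇ Q := BasedFunctor.comp (AlgSt.overMap d) z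
  have hzy : IsOk (zy.obj (topObj _)) := isOk_of_chart hQ zy
    (AlgStLib.repWith_comp (FibCatRep.isFibGrpd_overCat _) (FibCatRep.isFibGrpd_overCat _)
      AlgStLib.cls_flat.bc AlgStLib.cls_flat.comp AlgStLib.cls_flat.loc (repWith_flat_overMap d) hz)
  let q := (AlgSt.overMap d).obj (topObj (Q.p.obj y))
  let β : zy.obj (topObj _) ⟶ a := z.map (toTop q) ≫ i.hom
  have e : StMod.sch Q (zy.obj (topObj _)) = StMod.sch Q y := StMod.sch_obj_eq zy (topObj _)
  have hβ : StMod.bmap Q β = eqToHom e ≫ StMod.bmap Q g := by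
    rw [StMod.bmap_comp, bmap_map z (toTop q), hi]
    simp only [Category.assoc, eqToHom_trans]
    refine congrArg (eqToHom e ≫ ·) ?_
    show ((𝟙 (Q.p.obj y) ≫ d).left ≫ _) = _
    rw [Category.id_comp, eqToHom_refl]
    exact Category.comp_id _
  obtain ⟨χ, hχ, hχ'⟩ := exists_factor hQ g β (eqToHom e) hβ.symm
  have hx : Q.p.obj (zy.obj (topObj _)) = Q.p.obj y := zy.w_obj _
  have hm : Q.p.map χ = eqToHom hx := by
    refine Over.OverMorphism.ext ?_
    show StMod.bmap Q χ = _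
    rw [hχ, Over.eqToHom_left]
  haveI : IsIso (Q.p.map χ) := by rw [hm]; infer_instance
  haveI : IsIso χ := FibCatRep.isIso_of_map hQ χ
  exact (isOk_congr hQ (asIso χ)).2 hzy

variable {Q : AlgSt.Cat S} {M P : StMod.QCoh Q}

/-- A morphism is determined by its values on the affine objects through which everything is flat. -/
theorem hom_ext_of_ok (hQ : AS Q) {w w' : M ⟶ P}
    (h : ∀ (a : Q.obj), IsAffine (StMod.sch Q a) → IsOk a → ∀ s, (w.hom.app a).app ⊤ s = (w'.hom.app a).app ⊤ s) :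
    w = w' := by
  refine sub_eq_zero.1 (eq_zero_of_cover hQ.isStack.1 _ fun x t => ?_)
  obtain ⟨x', φ, a, hφ, haff, hok, ⟨χ⟩⟩ := exists_ok_hit hQ x t
  refine ⟨x', φ, hφ, fun x'' g hx'' s => ?_⟩
  haveI := haff
  haveI := hx''
  refine app_top_eq_zero _ (g ≫ χ) (fun s => ?_) s
  exact ((AddMonoidHom.mk' (fun k : M ⟶ P => (k.hom.app a).app ⊤ s) fun _ _ => rfl).map_sub w w').trans
    (sub_eq_zero.2 (h a haff hok s))

/-- Compatible maps of sections on the affine objects through which everything is flat give a morphism. -/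
theorem exists_hom_of_ok (hQ : AS Q)
    (f : ∀ a : Q.obj, IsAffine (StMod.sch Q a) → IsOk a → (Γ(M.obj.obj a, ⊤) →+ Γ(P.obj.obj a, ⊤)))
    (hsmul : ∀ a ha hok (r : Γ(StMod.sch Q a, ⊤)) s, f a ha hok (r • s) = r • f a ha hok s)
    (hnat : ∀ {a' a : Q.obj} (c : a' ⟶ a) ha' hok' ha hok s,
      trT P.obj c (f a ha hok s) = f a' ha' hok' (trT M.obj c s)) :
    ∃ w : M ⟶ P, ∀ a ha hok s, (w.hom.app a).app ⊤ s = f a ha hok s := by
  have gQ := hQ.isStack.1
  let Dec : Q.obj → Type (u + 1) := fun x =>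
    Σ a : {a : AObj Q // IsOk a.obj}, ULift.{u + 1} (x ⟶ a.1.obj)
  have hl : ∀ (x : Q.obj) (_ : IsAffine (StMod.sch Q x)) (d : Dec x),
      ∃ l : Γ(M.obj.obj x, ⊤) →ₗ[Γ(StMod.sch Q x, ⊤)] Γ(P.obj.obj x, ⊤),
        ∀ s, l (trT M.obj d.2.down s) = trT P.obj d.2.down (f d.1.1.obj d.1.1.aff d.1.2 s) := by
    intro x hx d
    haveI := hx
    obtain ⟨l, hl, -⟩ := exists_lin M d.2.down
      (P := Γ(P.obj.obj x, ⊤)) ((trT P.obj d.2.down).comp (f d.1.1.obj d.1.1.aff d.1.2))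
      fun r s => by
        show trT P.obj d.2.down (f d.1.1.obj d.1.1.aff d.1.2 (r • s)) =
          _ • trT P.obj d.2.down (f d.1.1.obj d.1.1.aff d.1.2 s)
        rw [hsmul, trT_smul]
    exact ⟨l, hl⟩
  choose L hL using hl
  have hpull : ∀ {x' x} (φ : x' ⟶ x) hx hx' (d : Dec x) s,
      trT P.obj φ (L x hx d s) = L x' hx' ⟨d.1, ⟨φ ≫ d.2.down⟩⟩ (trT M.obj φ s) := by
    intro x' x φ hx hx' d s
    haveI := hx
    refine top_induction M d.2.down (p := fun s => trT P.obj φ (L x hx d s) =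
      L x' hx' ⟨d.1, ⟨φ ≫ d.2.down⟩⟩ (trT M.obj φ s)) (by simp)
      (fun a b ha hb => by rw [map_add, map_add, map_add, map_add, ha, hb]) (fun r m => ?_) s
    rw [map_smul, hL, trT_smul, trT_smul, map_smul, trT_comp, trT_comp, hL]
  have hok : ∀ z hz (hzok : IsOk z) (d : Dec z) s, L z hz d s = f z hz hzok s := by
    intro z hz hzok d s
    haveI := hz
    refine top_induction M d.2.down (p := fun s => L z hz d s = f z hz hzok s) (by simp)
      (fun a b ha hb => by rw [map_add, map_add, ha, hb]) (fun r m => ?_) s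
    rw [map_smul, hL, hsmul, hnat d.2.down hz hzok]
  have hindep : ∀ x hx (d d' : Dec x) s, L x hx d s = L x hx d' s := by
    intro x hx d d' s
    refine top_ext P fun t => ?_
    obtain ⟨x', φ, z, p, q, v, hφ, hx', hz, hq, hvp, hvq⟩ := exists_good gQ d.1.2 d.2.down d'.2.down t
    haveI := hq
    have hzok : IsOk z := isOk_of_flat gQ q d'.1.2
    refine ⟨x', φ, hφ, ?_⟩
    rw [hpull φ hx hx', hpull φ hx hx', ← hvp, ← hvq]
    haveI := hx'
    haveI := hz
    generalize trT M.obj φ s = s'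
    refine top_induction M v (p := fun s' => L x' hx' ⟨d.1, ⟨v ≫ p⟩⟩ s' = L x' hx' ⟨d'.1, ⟨v ≫ q⟩⟩ s') (by simp)
      (fun a b ha hb => by rw [map_add, map_add, ha, hb]) (fun r m => ?_) s'
    rw [map_smul, map_smul, ← hpull v hz hx' ⟨d.1, ⟨p⟩⟩, ← hpull v hz hx' ⟨d'.1, ⟨q⟩⟩, hok z hz hzok, hok z hz hzok]
  have hdata : LocData (M := M) (N := P) Dec fun x hx d => (L x hx d).toAddMonoidHom :=
    { grpd := gQ
      pull := fun φ d => ⟨⟨d.1, ⟨φ ≫ d.2.down⟩⟩⟩
      cov := fun x t => by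
        obtain ⟨x', φ, a, hφ, haff, hok, ⟨χ⟩⟩ := exists_ok_hit hQ x t
        exact ⟨x', φ, hφ, ⟨⟨⟨⟨a, haff⟩, hok⟩, ⟨χ⟩⟩⟩⟩
      smul := fun x hx d r s => map_smul (L x hx d) r s
      compat := fun φ hx hx' d d' s => (hpull φ hx hx' d s).trans (hindep _ hx' _ d' _) }
  obtain ⟨w, hw⟩ := hdata.exists_hom
  refine ⟨w, fun a ha hao s => ?_⟩
  exact (hw a ha ⟨⟨⟨a, ha⟩, hao⟩, ⟨𝟙 a⟩⟩ s).trans (hok a ha hao _ s)

/-- The unit section. -/
def oneSec (𝒵 : AlgSt.Cat S) (x : 𝒵.obj) : Γ((StMod.OQ 𝒵).obj.obj x, ⊤) := (1 : Γ(StMod.sch 𝒵 x, ⊤))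

theorem trT_oneSec {𝒵 : AlgSt.Cat S} {x' x : 𝒵.obj} (φ : x' ⟶ x) :
    trT (StMod.OQ 𝒵).obj φ (oneSec 𝒵 x) = oneSec 𝒵 x' :=
  (trT_eq_map (StMod.OQ 𝒵).obj φ _).trans (map_one (StMod.bmap 𝒵 φ).appTop.hom)

theorem app_eq_smul_oneSec (φ : StMod.OQ Q ⟶ M) (x : Q.obj) (r : Γ((StMod.OQ Q).obj.obj x, ⊤)) :
    (φ.hom.app x).app ⊤ r = (show Γ(StMod.sch Q x, ⊤) from r) • (φ.hom.app x).app ⊤ (oneSec Q x) := by
  rw [← Scheme.Modules.Hom.app_smul]
  exact congrArg _ (mul_one (show Γ(StMod.sch Q x, ⊤) from r)).symm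

/-- A compatible family on the affine objects through which everything is flat is a global section. -/
theorem exists_sect_of_ok (hQ : AS Q) (f : ∀ a : Q.obj, IsAffine (StMod.sch Q a) → IsOk a → Γ(M.obj.obj a, ⊤))
    (hnat : ∀ {a' a : Q.obj} (c : a' ⟶ a) ha' hok' ha hok, trT M.obj c (f a ha hok) = f a' ha' hok') :
    ∃ φ : StMod.OQ Q ⟶ M, ∀ a ha hok, (φ.hom.app a).app ⊤ (oneSec Q a) = f a ha hok := by
  obtain ⟨φ, hφ⟩ := exists_hom_of_ok (M := StMod.OQ Q) (P := M) hQ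
    (fun a ha hok => AddMonoidHom.mk' (fun r => (show Γ(StMod.sch Q a, ⊤) from r) • f a ha hok)
      fun _ _ => add_smul _ _ _)
    (fun a ha hok r s => mul_smul r (show Γ(StMod.sch Q a, ⊤) from s) _)
    (fun {a' a} c ha' hok' ha hok s => by
      show trT M.obj c ((show Γ(StMod.sch Q a, ⊤) from s) • f a ha hok) = _
      rw [trT_smul, hnat c ha' hok' ha hok]
      exact congrArg (· • f a' ha' hok') (trT_eq_map (StMod.OQ Q).obj c s).symm)
  exact ⟨φ, fun a ha hok => (hφ a ha hok _).trans (one_smul _ _)⟩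

theorem sect_ext_of_ok (hQ : AS Q) {φ φ' : StMod.OQ Q ⟶ M}
    (h : ∀ a, IsAffine (StMod.sch Q a) → IsOk a →
      (φ.hom.app a).app ⊤ (oneSec Q a) = (φ'.hom.app a).app ⊤ (oneSec Q a)) : φ = φ' :=
  hom_ext_of_ok hQ fun a ha hok r =>
    (app_eq_smul_oneSec φ a r).trans (((congrArg _ (h a ha hok))).trans (app_eq_smul_oneSec φ' a r).symm)

end Groth.Agent.RelGen
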