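import Mathlib
import Groth.Agent.RelGen.OkHom
import Groth.Agent.RelGen.AffPush

/-!
# Categories on which global sections are exact, and base change
-/

universe u

open CategoryTheory CategoryTheory.Limits AlgebraicGeometry TopologicalSpace Opposite

set_option autoImplicit false
set_option backward.isDefEq.respectTransparency false
set_option backward.isDefEq.respectTransparency.types false
set_option linter.style.haveILetI false

noncomputable section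

namespace Groth.Agent.RelGen

open Groth.Agent.QC Groth.Agent.QDescent

variable {S : Scheme.{u}}

/-- Global sections of quasi-coherent modules are exact. -/
def GExact (𝒵 : AlgSt.Cat S) : Prop :=
  ∀ ⦃F G : StMod.QCoh 𝒵⦄ (u : F ⟶ G), StMod.Mod.IsSurj u.hom →
    ∀ φ : StMod.OQ 𝒵 ⟶ G, ∃ φ' : StMod.OQ 𝒵 ⟶ F, φ' ≫ u = φ

/-- A compatible family on the affine objects is a global section. -/
theorem exists_sect {𝒵 : AlgSt.Cat S} (hZ : FibCat.IsFibGrpd 𝒵.p) {M : StMod.QCoh 𝒵}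
    (f : ∀ x : 𝒵.obj, IsAffine (StMod.sch 𝒵 x) → Γ(M.obj.obj x, ⊤))
    (hnat : ∀ {x' x : 𝒵.obj} (c : x' ⟶ x) hx' hx, trT M.obj c (f x hx) = f x' hx') :
    ∃ φ : StMod.OQ 𝒵 ⟶ M, ∀ x hx, (φ.hom.app x).app ⊤ (oneSec 𝒵 x) = f x hx := by
  have hdata : LocData (M := StMod.OQ 𝒵) (N := M) (fun _ => PUnit.{u + 2})
      fun x hx _ => AddMonoidHom.mk' (fun r => (show Γ(StMod.sch 𝒵 x, ⊤) from r) • f x hx)
        (fun _ _ => add_smul _ _ _) :=
    { grpd := hZ
      pull := fun _ _ => ⟨⟨⟩⟩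
      cov := fun x t => ⟨x, 𝟙 x, hits_id x t, ⟨⟨⟩⟩⟩
      smul := fun x _ _ r s => mul_smul r (show Γ(StMod.sch 𝒵 x, ⊤) from s) _
      compat := fun {x' x} c hx hx' _ _ s => by
        show trT M.obj c ((show Γ(StMod.sch 𝒵 x, ⊤) from s) • f x hx) = _
        rw [trT_smul, hnat c hx' hx]
        exact congrArg (· • f x' hx') (trT_eq_map (StMod.OQ 𝒵).obj c s).symm }
  obtain ⟨φ, hφ⟩ := hdata.exists_hom
  exact ⟨φ, fun x hx => (hφ x hx ⟨⟩ _).trans (one_smul _ _)⟩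

theorem sect_ext {𝒵 : AlgSt.Cat S} (hZ : FibCat.IsFibGrpd 𝒵.p) {M : StMod.QCoh 𝒵} {φ φ' : StMod.OQ 𝒵 ⟶ M}
    (h : ∀ x, IsAffine (StMod.sch 𝒵 x) → (φ.hom.app x).app ⊤ (oneSec 𝒵 x) = (φ'.hom.app x).app ⊤ (oneSec 𝒵 x)) :
    φ = φ' := by
  refine sub_eq_zero.1 (eq_zero_of_cover hZ _ fun x t => ⟨x, 𝟙 x, hits_id x t, fun x' _ hx' r => ?_⟩)
  refine ((AddMonoidHom.mk' (fun k : StMod.OQ 𝒵 ⟶ M => (k.hom.app x').app ⊤ r) fun _ _ => rfl).map_sub φ φ').trans
    (sub_eq_zero.2 ?_)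
  exact (app_eq_smul_oneSec φ x' r).trans ((congrArg _ (h x' hx')).trans (app_eq_smul_oneSec φ' x' r).symm)

theorem trT_app_oneSec {𝒵 : AlgSt.Cat S} {M : StMod.QCoh 𝒵} (φ : StMod.OQ 𝒵 ⟶ M) {x' x : 𝒵.obj} (c : x' ⟶ x) :
    trT M.obj c ((φ.hom.app x).app ⊤ (oneSec 𝒵 x)) = (φ.hom.app x').app ⊤ (oneSec 𝒵 x') :=
  (tr_hom φ.hom c ⊤ ⊤ (top_le c) _).trans (congrArg _ (trT_oneSec c))

section AffineBC

variable {𝒳 𝒴 : AlgSt.Cat S} {π : 𝒳 ⥤ᵇ 𝒴} {η' η : 𝒴.obj} (ψ : η' ⟶ η)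

/-- Exactness of global sections passes along affine morphisms of the base. -/
theorem GExact.baseChange (h𝒳 : FibCat.IsFibGrpd 𝒳.p) (h𝒴 : FibCat.IsFibGrpd 𝒴.p)
    [IsAffineHom (StMod.bmap 𝒴 ψ)] (h : GExact (StMod.fibCat π η)) : GExact (StMod.fibCat π η') := by
  obtain ⟨d⟩ := exists_bcData (π := π) ψ h𝒳 h𝒴
  intro F G u hu φ
  have haff : ∀ x, IsAffine (StMod.sch (StMod.fibCat π η) x) →
      IsAffine (StMod.sch (StMod.fibCat π η') (d.obj x)) := fun x hx => by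
    haveI := d.isAffineHom_prj x
    haveI := hx
    exact isAffine_of_isAffineHom (d.prj x)
  obtain ⟨Φ, hΦ⟩ := exists_sect (M := d.pushQ G) (isFibGrpd_fibCat h𝒳 π η)
    (fun x _ => (show Γ(G.obj.obj (d.obj x), d.prj x ⁻¹ᵁ ⊤) from
      (φ.hom.app (d.obj x)).app ⊤ (oneSec _ (d.obj x))))
    (fun {x' x} c hx' hx => (d.tr_pushQ G c ⊤ ⊤ (top_le c) _).trans (trT_app_oneSec φ (d.mapObj c)))
  have hs : StMod.Mod.IsSurj (d.pushHomQ u).hom := fun x hx => hu (d.obj x) (haff x hx)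
  obtain ⟨Ψ, hΨ⟩ := h (d.pushHomQ u) hs Φ
  obtain ⟨φ₀, hφ₀⟩ := d.exists_transpose Ψ
  obtain ⟨φ', hφ'⟩ := exists_sect (M := F) (isFibGrpd_fibCat h𝒳 π η')
    (fun w _ => (φ₀.hom.app w).app ⊤ (show Γ((StMod.OQ (StMod.fibCat π η)).obj.obj (push π ψ w), ⊤) from
      oneSec (StMod.fibCat π η) (push π ψ w)))
    (fun {w' w} c hw' hw => (tr_hom φ₀.hom c ⊤ ⊤ (top_le c) _).trans (congrArg _
      ((tr_restrQ π ψ _ c ⊤ ⊤ (top_le c) _).trans (trT_oneSec ((fibMap π ψ).map c)))))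
  refine ⟨φ', sect_ext (isFibGrpd_fibCat h𝒳 π η') fun w hw => ?_⟩
  show (u.hom.app w).app ⊤ ((φ'.hom.app w).app ⊤ (oneSec _ w)) = _
  rw [hφ' w hw, hφ₀ w ⊤, ← tr_hom u.hom (d.sec w)]
  refine Eq.trans ?_ (trT_app_oneSec φ (d.sec w))
  refine congrArg (trT G.obj (d.sec w)) ?_
  have h1 := congrArg (fun k : StMod.OQ (StMod.fibCat π η) ⟶ d.pushQ G =>
    (k.hom.app (push π ψ w)).app ⊤ (oneSec _ (push π ψ w))) hΨ
  exact h1.trans (hΦ _ hw)

end AffineBC

section Square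

variable {𝒳 Q Q' : AlgSt.Cat S} {G : Q' ⥤ᵇ Q} {π : 𝒳 ⥤ᵇ Q}

/-- The objects of a base change over an object, from the objects over its image. -/
structure SqData (G : Q' ⥤ᵇ Q) (π : 𝒳 ⥤ᵇ Q) (o : Q'.obj) where
  hQ : FibCat.IsFibGrpd Q.p
  hQ' : FibCat.IsFibGrpd Q'.p
  w : (StMod.fibCat π (G.obj o)).obj → Q'.obj
  β : ∀ x, w x ⟶ o
  j : ∀ x, G.obj (w x) ≅ π.obj x.left
  hj : ∀ x, Q.p.IsHomLift (𝟙 (Q'.p.obj (w x))) (j x).hom
  hjβ : ∀ x, (j x).hom ≫ x.hom = G.map (β x)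

theorem exists_sqData (hQ : FibCat.IsFibGrpd Q.p) (hQ' : FibCat.IsFibGrpd Q'.p) (o : Q'.obj) :
    Nonempty (SqData G π o) := by
  choose w β j hj hjβ using fun x : (StMod.fibCat π (G.obj o)).obj => exists_sqObj G π hQ hQ' x.left x.hom
  exact ⟨⟨hQ, hQ', w, β, j, hj, hjβ⟩⟩

namespace SqData

variable {o : Q'.obj} (d : SqData G π o)

/-- The object of the base change. -/
abbrev P (x : (StMod.fibCat π (G.obj o)).obj) : (FibCat.fp G π).obj :=
  ⟨{ fst := d.w x, snd := x.left, iso := d.j x }, d.hj x⟩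

theorem exists_lift {A : (FibCat.fp G π).obj} {x : (StMod.fibCat π (G.obj o)).obj} (c : A.obj.snd ⟶ x.left)
    (γ : A.obj.fst ⟶ o) (h : A.obj.iso.hom ≫ π.map c ≫ x.hom = G.map γ) :
    ∃ m : A ⟶ d.P x, m.hom.snd = c ∧ m.hom.fst ≫ d.β x = γ := by
  obtain ⟨e', he'⟩ := bmap_of_isHomLift_id _ A.property
  obtain ⟨e, he⟩ := bmap_of_isHomLift_id _ (d.hj x)
  have h1 := congrArg (StMod.bmap Q) h
  rw [StMod.bmap_comp, StMod.bmap_comp, he', bmap_map π c, bmap_map G γ] at h1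
  have h2 := congrArg (StMod.bmap Q) (d.hjβ x)
  rw [StMod.bmap_comp, he, bmap_map G (d.β x)] at h2
  obtain ⟨b, hb, hb'⟩ := exists_factor d.hQ' (d.β x) γ
    (eqToHom ((StMod.sch_obj_eq G A.obj.fst).symm.trans (e'.trans (StMod.sch_obj_eq π A.obj.snd))) ≫
      StMod.bmap 𝒳 c ≫
      eqToHom ((StMod.sch_obj_eq π x.left).symm.trans (e.symm.trans (StMod.sch_obj_eq G (d.w x))))) (by
      have h3 := congrArg (fun k => eqToHom ((StMod.sch_obj_eq π x.left).symm.trans e.symm) ≫ k ≫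
        eqToHom (StMod.sch_obj_eq G o)) h2
      simp only [Category.assoc, eqToHom_trans, eqToHom_trans_assoc, eqToHom_refl, Category.id_comp,
        Category.comp_id] at h3 ⊢
      rw [← h3]
      have h4 := congrArg (fun k => eqToHom (StMod.sch_obj_eq G A.obj.fst).symm ≫ k ≫
        eqToHom (StMod.sch_obj_eq G o)) h1
      simpa using h4)
  refine ⟨ObjectProperty.homMk
    { fst := b
      snd := c
      w := by
        show G.map b ≫ (d.j x).hom = A.obj.iso.hom ≫ π.map c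
        refine eq_of_bmap d.hQ x.hom ?_ ?_
        · rw [StMod.bmap_comp, StMod.bmap_comp, bmap_map G b, bmap_map π c, hb, he, he']
          simp
        · rw [Category.assoc, d.hjβ, ← G.toFunctor.map_comp, hb', Category.assoc, h] }, rfl, hb'⟩

theorem hom_ext {A : (FibCat.fp G π).obj} {x : (StMod.fibCat π (G.obj o)).obj} {m m' : A ⟶ d.P x}
    (h₁ : m.hom.snd = m'.hom.snd) (h₂ : m.hom.fst ≫ d.β x = m'.hom.fst ≫ d.β x) : m = m' := by
  refine ObjectProperty.hom_ext _ (CategoricalPullback.hom_ext ?_ h₁)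
  refine eq_of_bmap d.hQ' (d.β x) ?_ h₂
  have key : ∀ k : A ⟶ d.P x, StMod.bmap Q' k.hom.fst =
      eqToHom (StMod.sch_obj_eq (FibCat.fpSnd G π) A).symm ≫ StMod.bmap 𝒳 k.hom.snd ≫
        eqToHom (StMod.sch_obj_eq (FibCat.fpSnd G π) (d.P x)) := fun k => by
    have h3 : StMod.bmap 𝒳 k.hom.snd = eqToHom (StMod.sch_obj_eq (FibCat.fpSnd G π) A) ≫ StMod.bmap Q' k.hom.fst ≫
        eqToHom (StMod.sch_obj_eq (FibCat.fpSnd G π) (d.P x)).symm := bmap_map (FibCat.fpSnd G π) k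
    rw [h3]
    simp
  rw [key m, key m', h₁]

theorem hom_self {x' x : (StMod.fibCat π (G.obj o)).obj} (c : x' ⟶ x) :
    ∃ m : d.P x' ⟶ d.P x, m.hom.snd = c.left ∧ m.hom.fst ≫ d.β x = d.β x' :=
  d.exists_lift (A := d.P x') c.left (d.β x') (by
    show (d.j x').hom ≫ π.map c.left ≫ x.hom = _
    rw [show π.map c.left ≫ x.hom = x'.hom from CostructuredArrow.w c, d.hjβ])

/-- The functor from the objects over the image. -/
def functor : StMod.fibCat π (G.obj o) ⥤ᵇ FibCat.fp G π where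
  toFunctor :=
    { obj := d.P
      map := fun c => (d.hom_self c).choose
      map_id := fun x => d.hom_ext ((d.hom_self (𝟙 x)).choose_spec.1) (((d.hom_self (𝟙 x)).choose_spec.2).trans
        (Category.id_comp _).symm)
      map_comp := fun {x'' x' x} c c' => d.hom_ext ((d.hom_self (c ≫ c')).choose_spec.1.trans (by
          show c.left ≫ c'.left = (d.hom_self c).choose.hom.snd ≫ (d.hom_self c').choose.hom.snd
          rw [(d.hom_self c).choose_spec.1, (d.hom_self c').choose_spec.1]))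
        (((d.hom_self (c ≫ c')).choose_spec.2).trans (by
          show _ = ((d.hom_self c).choose.hom.fst ≫ (d.hom_self c').choose.hom.fst) ≫ d.β x
          rw [Category.assoc, (d.hom_self c').choose_spec.2, (d.hom_self c).choose_spec.2])) }
  w := CategoryTheory.Functor.ext (fun x => ((FibCat.fpSnd G π).w_obj (d.P x)).symm) fun x' x c => by
    show Q'.p.map (d.hom_self c).choose.hom.fst = _ ≫ 𝒳.p.map c.left ≫ _
    have h := (d.hom_self c).choose_spec.1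
    revert h
    generalize (d.hom_self c).choose = k
    intro h
    rw [← h]
    have h3 : 𝒳.p.map k.hom.snd = eqToHom ((FibCat.fpSnd G π).w_obj (d.P x')) ≫
        (FibCat.fp G π).p.map k ≫ eqToHom ((FibCat.fpSnd G π).w_obj (d.P x)).symm :=
      FibCatRep.map_map (FibCat.fpSnd G π) k
    rw [h3]
    simp

end SqData

/-- Exactness over the image of an object gives surjectivity on sections over it, after base change. -/
theorem surjAt_fpFst_of_gExact (hQ : FibCat.IsFibGrpd Q.p) (hQ' : FibCat.IsFibGrpd Q'.p)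
    (h𝒳 : FibCat.IsFibGrpd 𝒳.p) {o : Q'.obj} (h : GExact (StMod.fibCat π (G.obj o)))
    {F M : StMod.QCoh (FibCat.fp G π)} (u : F ⟶ M) (hu : StMod.Mod.IsSurj u.hom) :
    SurjAt (FibCat.fpFst G π) o u := by
  obtain ⟨d⟩ := exists_sqData (G := G) (π := π) hQ hQ' o
  let L := d.functor
  intro t
  obtain ⟨φ, hφ⟩ := exists_sect (M := (StMod.comapQ L).obj M) (isFibGrpd_fibCat h𝒳 π _)
    (fun x _ => pullTop L M x (t.1 (d.P x) (d.β x))) (fun {x' x} c _ _ => by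
      rw [pullTop_trT]
      refine congrArg (pullTop L M x') ?_
      refine (trT_eq_map M.obj _ _).trans ((t.2 (L.map c) (d.β x)).trans (congrArg (t.1 (d.P x')) ?_))
      exact (d.hom_self c).choose_spec.2)
  obtain ⟨φ', hφ'⟩ := h ((StMod.comapQ L).map u) (isSurj_comap L u hu) φ
  -- the objects over `o`
  let xOf : ∀ (A : (FibCat.fp G π).obj), ((FibCat.fpFst G π).obj A ⟶ o) → (StMod.fibCat π (G.obj o)).obj :=
    fun A γ => CostructuredArrow.mk (show π.obj A.obj.snd ⟶ G.obj o from A.obj.iso.inv ≫ G.map γ)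
  choose m hm₁ hm₂ using fun (A : (FibCat.fp G π).obj) (γ : (FibCat.fpFst G π).obj A ⟶ o) =>
    d.exists_lift (x := xOf A γ) (𝟙 A.obj.snd) γ (by
      show A.obj.iso.hom ≫ π.map (𝟙 A.obj.snd) ≫ A.obj.iso.inv ≫ G.map γ = G.map γ
      rw [π.toFunctor.map_id, Category.id_comp, Iso.hom_inv_id_assoc])
  let val : ∀ x, Γ(F.obj.obj (d.P x), ⊤) := fun x =>
    (pullTop L F x).symm ((φ'.hom.app x).app ⊤ (oneSec _ x))
  have hval : ∀ {x' x : (StMod.fibCat π (G.obj o)).obj} (c : x' ⟶ x), trT F.obj (L.map c) (val x) = val x' := by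
    intro x' x c
    refine (pullTop_symm_trT L F c _).symm.trans (congrArg _ ?_)
    exact trT_app_oneSec φ' c
  refine ⟨⟨fun A γ => trT F.obj (m A γ) (val (xOf A γ)), fun A' A c γ => ?_⟩,
    StMod.Mod.RelSect.ext _ _ _ fun A γ => ?_⟩
  · refine (trT_eq_map F.obj c _).symm.trans ?_
    have hn : π.map c.hom.snd ≫ A.obj.iso.inv ≫ G.map γ = A'.obj.iso.inv ≫ G.map (c.hom.fst ≫ γ) := by
      rw [G.toFunctor.map_comp, ← Category.assoc, ← Category.assoc A'.obj.iso.inv]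
      congr 1
      rw [Iso.eq_inv_comp, ← Category.assoc, ← c.hom.w, Category.assoc, Iso.hom_inv_id, Category.comp_id]
    let n : xOf A' (c.hom.fst ≫ γ) ⟶ xOf A γ := CostructuredArrow.homMk c.hom.snd hn
    show trT F.obj c (trT F.obj (m A γ) (val (xOf A γ))) = trT F.obj (m A' (c.hom.fst ≫ γ)) (val _)
    rw [← hval n]
    refine (trT_comp F.obj c (m A γ) _).trans (Eq.trans ?_ (trT_comp F.obj _ (L.map n) _).symm)
    refine trT_congr F.obj (d.hom_ext ?_ ?_) _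
    · show c.hom.snd ≫ (m A γ).hom.snd = (m A' (c.hom.fst ≫ γ)).hom.snd ≫ (d.hom_self n).choose.hom.snd
      rw [(d.hom_self n).choose_spec.1, hm₁, hm₁]
      exact (Category.comp_id _).trans (Category.id_comp _).symm
    · show (c.hom.fst ≫ (m A γ).hom.fst) ≫ _ =
        ((m A' (c.hom.fst ≫ γ)).hom.fst ≫ (d.hom_self n).choose.hom.fst) ≫ _
      rw [Category.assoc, Category.assoc, (d.hom_self n).choose_spec.2, hm₂, hm₂]
  · show (u.hom.app A).app ⊤ (trT F.obj (m A γ) (val (xOf A γ))) = t.1 A γ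
    refine (tr_hom u.hom (m A γ) ⊤ ⊤ (top_le _) _).symm.trans ?_
    refine Eq.trans (congrArg (trT M.obj (m A γ)) ?_)
      ((trT_eq_map M.obj (m A γ) _).trans ((t.2 (m A γ) (d.β (xOf A γ))).trans (congrArg (t.1 A) (hm₂ A γ))))
    -- values at a chosen object
    refine top_ext M fun p => ?_
    obtain ⟨x', c, hx', hc, -⟩ := exists_affine_hit (isFibGrpd_fibCat h𝒳 π (G.obj o)) (𝟙 (xOf A γ))
      (hits_id _ (((eqToHom (StMod.sch_obj_eq L (xOf A γ))) : _ ⟶ StMod.sch (StMod.fibCat π (G.obj o)) _).base p))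
      (U := ⊤) trivial
    refine ⟨L.obj x', L.map (c ≫ 𝟙 _), ?_, ?_⟩
    · obtain ⟨y, hy⟩ := hc.mem
      haveI := hc.flat
      haveI := hc.lfp
      refine hits_of_bmap (L.map (c ≫ 𝟙 _))
        (StMod.bmap _ (c ≫ 𝟙 (xOf A γ)) ≫ eqToHom (StMod.sch_obj_eq L (xOf A γ)).symm)
        (eqToHom (StMod.sch_obj_eq L x')) (bmap_map L _) ⟨y, ?_⟩
      rw [Scheme.Hom.comp_apply, hy, eqToHom_apply_cancel]
    refine (tr_hom u.hom (L.map (c ≫ 𝟙 _)) ⊤ ⊤ (top_le _) _).trans ?_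
    refine (congrArg ((u.hom.app (L.obj x')).app ⊤) (hval (c ≫ 𝟙 _))).trans ?_
    refine Eq.trans ?_ ((trT_eq_map M.obj _ _).trans ((t.2 _ _).trans
      (congrArg (t.1 (d.P x')) (d.hom_self (c ≫ 𝟙 _)).choose_spec.2))).symm
    have h1 := congrArg (fun k : StMod.OQ _ ⟶ (StMod.comapQ L).obj M =>
      (pullTop L M x').symm ((k.hom.app x').app ⊤ (oneSec _ x'))) hφ'
    refine ((pullTop_symm_app L u x' _).symm.trans h1).trans ?_
    rw [hφ x' hx', AddEquiv.symm_apply_apply]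

end Square

end Groth.Agent.RelGen
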