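import Mathlib
import Groth.Agent.RelGen.GExact

/-!
# Extension by zero along a functor with open and closed diagonal
-/

universe u

open CategoryTheory CategoryTheory.Limits AlgebraicGeometry TopologicalSpace Opposite

set_option autoImplicit false
set_option backward.isDefEq.respectTransparency false
set_option backward.isDefEq.respectTransparency.types false
set_option linter.style.haveILetI false

noncomputable section

namespace Groth.Agent.RelGen

open Groth.Agent.QC Groth.Agent.QDescent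

variable {S : Scheme.{u}} {𝒴 𝒳 : AlgSt.Cat S}

/-- Nowhere does the morphism of images come from a morphism. -/
def Nowhere (j : 𝒴 ⥤ᵇ 𝒳) {y x : 𝒴.obj} (γ : j.obj y ⟶ j.obj x) : Prop :=
  ∀ ⦃y' : 𝒴.obj⦄ (ψ : y' ⟶ y) (c : y' ⟶ x), j.map c = j.map ψ ≫ γ → IsEmpty (StMod.sch 𝒴 y')

/-- Flat functors along which morphisms of images come from morphisms on an open and closed part. -/
structure SplitData (j : 𝒴 ⥤ᵇ 𝒳) : Prop where
  fd : FibData j
  okMap : ∀ x : 𝒴.obj, IsOk x → IsOk (j.obj x)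
  faithful : j.toFunctor.Faithful
  split : ∀ {y x : 𝒴.obj} (γ : j.obj y ⟶ j.obj x) (t : StMod.sch 𝒴 y), ∃ (y' : 𝒴.obj) (φ : y' ⟶ y),
    Hits φ t ∧ ((∃ c : y' ⟶ x, j.map c = j.map φ ≫ γ) ∨ Nowhere j (j.map φ ≫ γ))

theorem subsingleton_sections {𝒵 : AlgSt.Cat S} (M : StMod.QCoh 𝒵) {x : 𝒵.obj} (h : IsEmpty (StMod.sch 𝒵 x))
    (s s' : Γ(M.obj.obj x, ⊤)) : s = s' :=
  top_ext M fun t => (h.false t).elim

namespace SplitData

variable {j : 𝒴 ⥤ᵇ 𝒳} (d : SplitData j)

theorem Nowhere.pull {y x : 𝒴.obj} {γ : j.obj y ⟶ j.obj x} (h : Nowhere j γ) {y' : 𝒴.obj} (ψ : y' ⟶ y) :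
    Nowhere j (j.map ψ ≫ γ) := fun y'' χ c hc => h (χ ≫ ψ) c (by rw [j.toFunctor.map_comp, Category.assoc, hc])

include d in
theorem cover (x : 𝒴.obj) (w : (StMod.fibCat j (j.obj x)).obj) (t : StMod.sch (StMod.fibCat j (j.obj x)) w) :
    ∃ (w' : (StMod.fibCat j (j.obj x)).obj) (φ : w' ⟶ w), Hits φ t ∧
      ((∃ c : w'.left ⟶ x, j.map c = w'.hom) ∨ Nowhere j (show j.obj w'.left ⟶ j.obj x from w'.hom)) := by
  obtain ⟨y', φ, hφ, h⟩ := d.split (show j.obj w.left ⟶ j.obj x from w.hom) t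
  exact ⟨CostructuredArrow.mk (j.map φ ≫ w.hom), CostructuredArrow.homMk φ rfl, ⟨hφ.flat, hφ.lfp, hφ.mem⟩, h⟩

variable (F : StMod.QCoh 𝒴)

include d in
/-- Sections on an object extend by zero over its image. -/
theorem exists_extZero (x : 𝒴.obj) (g : Γ(F.obj.obj x, ⊤)) :
    ∃ e : onFib j (StMod.OQ 𝒴) (j.obj x) ⟶ onFib j F (j.obj x),
      (∀ (w : (StMod.fibCat j (j.obj x)).obj), IsAffine (StMod.sch (StMod.fibCat j (j.obj x)) w) →
        ∀ c : w.left ⟶ x, j.map c = w.hom → valOne F (j.obj x) e w = trT F.obj c g) ∧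
      ∀ (w : (StMod.fibCat j (j.obj x)).obj), IsAffine (StMod.sch (StMod.fibCat j (j.obj x)) w) →
        Nowhere j (show j.obj w.left ⟶ j.obj x from w.hom) → valOne F (j.obj x) e w = 0 := by
  have hg := isFibGrpd_fibCat d.fd.srcFib j (j.obj x)
  let Dec : (StMod.fibCat j (j.obj x)).obj → Type (u + 1) := fun w =>
    ULift.{u + 1} {c : w.left ⟶ x // j.map c = w.hom} ⊕
      ULift.{u + 1} (PLift (Nowhere j (show j.obj w.left ⟶ j.obj x from w.hom)))
  let val : ∀ w, Dec w → Γ(F.obj.obj w.left, ⊤) := fun w k =>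
    match k with
    | Sum.inl c => trT F.obj c.down.1 g
    | Sum.inr _ => 0
  have hdata : LocData (M := onFib j (StMod.OQ 𝒴) (j.obj x)) (N := onFib j F (j.obj x)) Dec
      fun w _ k => AddMonoidHom.mk'
        (fun r => (show Γ(StMod.sch 𝒴 w.left, ⊤) from r) • (show Γ(F.obj.obj w.left, ⊤) from val w k))
        (fun a b => add_smul _ _ _) :=
    { grpd := hg
      pull := fun {w' w} φ k => by
        rcases k with c | h
        · exact ⟨Sum.inl ⟨⟨φ.left ≫ c.down.1, by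
            rw [j.toFunctor.map_comp, c.down.2]
            exact CostructuredArrow.w φ⟩⟩⟩
        · refine ⟨Sum.inr ⟨⟨?_⟩⟩⟩
          have := Nowhere.pull h.down.down φ.left
          rwa [show j.map φ.left ≫ w.hom = w'.hom from CostructuredArrow.w φ] at this
      cov := fun w t => by
        obtain ⟨w', φ, hφ, h⟩ := d.cover x w t
        rcases h with ⟨c, hc⟩ | h
        · exact ⟨w', φ, hφ, ⟨Sum.inl ⟨⟨c, hc⟩⟩⟩⟩
        · exact ⟨w', φ, hφ, ⟨Sum.inr ⟨⟨h⟩⟩⟩⟩
      smul := fun w _ _ r a => mul_smul r (show Γ(StMod.sch 𝒴 w.left, ⊤) from a) _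
      compat := fun {w' w} φ _ _ k k' a => by
        have hc := top_le (𝒵 := StMod.fibCat j (j.obj x)) φ
        refine (tr_onFib j F (j.obj x) φ ⊤ ⊤ hc _).trans ?_
        show trT F.obj φ.left ((show Γ(StMod.sch 𝒴 w.left, ⊤) from a) • val w k) = _
        rw [trT_smul]
        refine Eq.trans ?_ (congrArg (fun q : Γ(StMod.sch 𝒴 w'.left, ⊤) =>
          q • (show Γ(F.obj.obj w'.left, ⊤) from val w' k'))
          ((tr_onFib j (StMod.OQ 𝒴) (j.obj x) φ ⊤ ⊤ hc a).trans (trT_eq_map (StMod.OQ 𝒴).obj φ.left a)).symm)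
        refine congrArg _ ?_
        have hw : j.map φ.left ≫ w.hom = w'.hom := CostructuredArrow.w φ
        rcases k with c | h <;> rcases k' with c' | h'
        · show trT F.obj φ.left (trT F.obj c.down.1 g) = trT F.obj c'.down.1 g
          rw [trT_comp]
          refine trT_congr F.obj (d.faithful.map_injective ?_) g
          rw [j.toFunctor.map_comp, c.down.2, c'.down.2, hw]
        · refine subsingleton_sections F (h'.down.down (𝟙 _) (φ.left ≫ c.down.1) ?_) _ _
          rw [j.toFunctor.map_comp, c.down.2, hw, j.toFunctor.map_id, Category.id_comp]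
        · refine subsingleton_sections F (h.down.down φ.left c'.down.1 ?_) _ _
          rw [c'.down.2, hw]
        · exact map_zero _ }
  obtain ⟨e, he⟩ := hdata.exists_hom
  refine ⟨e, fun w hw c hc => ?_, fun w hw h => ?_⟩
  · exact (he w hw (Sum.inl ⟨⟨c, hc⟩⟩) _).trans (one_smul _ _)
  · exact (he w hw (Sum.inr ⟨⟨h⟩⟩) _).trans (smul_zero _)

/-- Extension by zero. -/
def ext0 (x : 𝒴.obj) (g : Γ(F.obj.obj x, ⊤)) : onFib j (StMod.OQ 𝒴) (j.obj x) ⟶ onFib j F (j.obj x) :=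
  (d.exists_extZero F x g).choose

variable {F}

theorem ext0_agree {x : 𝒴.obj} (g : Γ(F.obj.obj x, ⊤)) (w : (StMod.fibCat j (j.obj x)).obj)
    (hw : IsAffine (StMod.sch (StMod.fibCat j (j.obj x)) w)) (c : w.left ⟶ x) (hc : j.map c = w.hom) :
    valOne F (j.obj x) (d.ext0 F x g) w = trT F.obj c g :=
  (d.exists_extZero F x g).choose_spec.1 w hw c hc

theorem ext0_nowhere {x : 𝒴.obj} (g : Γ(F.obj.obj x, ⊤)) (w : (StMod.fibCat j (j.obj x)).obj)
    (hw : IsAffine (StMod.sch (StMod.fibCat j (j.obj x)) w))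
    (h : Nowhere j (show j.obj w.left ⟶ j.obj x from w.hom)) : valOne F (j.obj x) (d.ext0 F x g) w = 0 :=
  (d.exists_extZero F x g).choose_spec.2 w hw h

include d in
theorem ext_of_cover {x : 𝒴.obj} {e e' : onFib j (StMod.OQ 𝒴) (j.obj x) ⟶ onFib j F (j.obj x)}
    (h₁ : ∀ (w : (StMod.fibCat j (j.obj x)).obj), IsAffine (StMod.sch (StMod.fibCat j (j.obj x)) w) →
      ∀ c : w.left ⟶ x, j.map c = w.hom → valOne F (j.obj x) e w = valOne F (j.obj x) e' w)
    (h₂ : ∀ (w : (StMod.fibCat j (j.obj x)).obj), IsAffine (StMod.sch (StMod.fibCat j (j.obj x)) w) →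
        Nowhere j (show j.obj w.left ⟶ j.obj x from w.hom) → valOne F (j.obj x) e w = valOne F (j.obj x) e' w) :
    e = e' := by
  have hg := isFibGrpd_fibCat d.fd.srcFib j (j.obj x)
  refine (secHom_bijective F (j.obj x) d.fd).1 (StMod.Mod.RelSect.ext _ _ _ fun y γ => ?_)
  show valOne F (j.obj x) e (CostructuredArrow.mk γ) = valOne F (j.obj x) e' (CostructuredArrow.mk γ)
  refine top_ext F fun t => ?_
  obtain ⟨w', φ, hφ, h⟩ := d.cover x (CostructuredArrow.mk γ) t
  obtain ⟨w'', ι, hw'', hit, -⟩ := exists_affine_hit hg φ hφ (U := ⊤) trivial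
  refine ⟨w''.left, (ι ≫ φ).left, ⟨hit.flat, hit.lfp, hit.mem⟩, ?_⟩
  refine (valOne_trT F (j.obj x) e (ι ≫ φ)).trans (Eq.trans ?_ (valOne_trT F (j.obj x) e' (ι ≫ φ)).symm)
  rcases h with ⟨c, hc⟩ | h
  · refine h₁ w'' hw'' (ι.left ≫ c) ?_
    rw [j.toFunctor.map_comp, hc]
    exact CostructuredArrow.w ι
  · refine h₂ w'' hw'' ?_
    have := Nowhere.pull h ι.left
    rwa [show j.map ι.left ≫ w'.hom = w''.hom from CostructuredArrow.w ι] at this

theorem ext0_map {G : StMod.QCoh 𝒴} (u : F ⟶ G) (x : 𝒴.obj) (g : Γ(F.obj.obj x, ⊤)) :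
    post (StMod.OQ 𝒴) F u (j.obj x) (d.ext0 F x g) = d.ext0 G x ((u.hom.app x).app ⊤ g) := by
  refine d.ext_of_cover (fun w hw c hc => ?_) (fun w hw h => ?_)
  · rw [d.ext0_agree _ w hw c hc]
    show (u.hom.app w.left).app ⊤ (valOne F (j.obj x) (d.ext0 F x g) w) = _
    rw [d.ext0_agree g w hw c hc]
    exact (tr_hom u.hom c ⊤ ⊤ (top_le c) g).symm
  · rw [d.ext0_nowhere _ w hw h]
    show (u.hom.app w.left).app ⊤ (valOne F (j.obj x) (d.ext0 F x g) w) = _
    rw [d.ext0_nowhere g w hw h, map_zero]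

theorem ext0_transp {x' x : 𝒴.obj} (c : x' ⟶ x) (g : Γ(F.obj.obj x, ⊤)) :
    transp (StMod.OQ 𝒴) F (j.map c) (d.ext0 F x g) = d.ext0 F x' (trT F.obj c g) := by
  refine d.ext_of_cover (fun w hw c' hc' => ?_) (fun w hw h => ?_)
  · rw [d.ext0_agree _ w hw c' hc', trT_comp]
    refine d.ext0_agree g (push j (j.map c) w) hw (c' ≫ c) ?_
    rw [j.toFunctor.map_comp, hc']
    rfl
  · rw [d.ext0_nowhere _ w hw h]
    refine top_ext F fun t => ?_
    obtain ⟨w', φ, hφ, h'⟩ := d.cover x (push j (j.map c) w) t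
    obtain ⟨w'', ι, hw'', hit, -⟩ := exists_affine_hit (isFibGrpd_fibCat d.fd.srcFib j (j.obj x)) φ hφ
      (U := ⊤) trivial
    refine ⟨w''.left, (ι ≫ φ).left, ⟨hit.flat, hit.lfp, hit.mem⟩, ?_⟩
    rw [map_zero]
    refine (valOne_trT F (j.obj x) (d.ext0 F x g) (ι ≫ φ)).trans ?_
    rcases h' with ⟨k, hk⟩ | h'
    · -- the morphism factors through the smaller object, which happens nowhere
      refine subsingleton_sections F ?_ _ _
      let ψ : w''.left ⟶ w.left := (ι ≫ φ).left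
      have hψ : j.map ψ ≫ w.hom ≫ j.map c = w''.hom := CostructuredArrow.w (ι ≫ φ)
      have hk' : j.map (ι.left ≫ k) = w''.hom := by
        rw [j.toFunctor.map_comp, hk]
        exact CostructuredArrow.w ι
      have e₀ := congrArg (StMod.bmap 𝒳) (hk'.trans hψ.symm)
      rw [← Category.assoc, StMod.bmap_comp, bmap_map j, bmap_map j c] at e₀
      obtain ⟨χ, hχ, hχc⟩ := exists_factor d.fd.srcFib c (ι.left ≫ k)
        (eqToHom (StMod.sch_obj_eq j w''.left).symm ≫ StMod.bmap 𝒳 (j.map ψ ≫ w.hom) ≫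
          eqToHom (StMod.sch_obj_eq j x')) (by
          have e₁ := congrArg (fun q => eqToHom (StMod.sch_obj_eq j w''.left).symm ≫ q ≫
            eqToHom (StMod.sch_obj_eq j x)) e₀
          simp only [Category.assoc, eqToHom_trans, eqToHom_trans_assoc, eqToHom_refl, Category.id_comp,
            Category.comp_id] at e₁ ⊢
          exact e₁.symm)
      refine h ψ χ (eq_of_bmap d.fd.tgtFib (j.map c) ?_ ?_)
      · rw [bmap_map j χ, hχ]
        simp
      · rw [← j.toFunctor.map_comp, hχc, Category.assoc, hk', hψ]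
    · refine d.ext0_nowhere g w'' hw'' ?_
      have := Nowhere.pull h' ι.left
      rwa [show j.map ι.left ≫ w'.hom = w''.hom from CostructuredArrow.w ι] at this

end SplitData

end Groth.Agent.RelGen
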