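import Mathlib
import Groth.Agent.RelGen.ExtZero

/-!
# Exactness of global sections through direct images along functors with open and closed diagonal
-/

universe u

open CategoryTheory CategoryTheory.Limits AlgebraicGeometry TopologicalSpace Opposite TensorProduct

set_option autoImplicit false
set_option backward.isDefEq.respectTransparency false
set_option backward.isDefEq.respectTransparency.types false
set_option linter.style.haveILetI false

noncomputable section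

namespace Groth.Agent.RelGen

open Groth.Agent.QC Groth.Agent.QDescent AffMod

variable {S : Scheme.{u}}

local notation "AS" => AlgSt.IsAlgStack Scheme.fppfPrecoverage

variable {Q : AlgSt.Cat S}

/-- A morphism surjective on the affine objects through which everything is flat is surjective. -/
theorem isSurj_of_ok (hQ : AS Q) {M P : StMod.QCoh Q} (w : M ⟶ P)
    (h : ∀ a, IsAffine (StMod.sch Q a) → IsOk a → Function.Surjective ((w.hom.app a).app ⊤)) :
    StMod.Mod.IsSurj w.hom := by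
  intro x hx g
  haveI := hx
  let p : Γ(M.obj.obj x, ⊤) →ₗ[Γ(StMod.sch Q x, ⊤)] Γ(P.obj.obj x, ⊤) :=
    { toFun := fun s => (w.hom.app x).app ⊤ s
      map_add' := map_add _
      map_smul' := fun r s => Scheme.Modules.Hom.app_smul _ r s }
  show g ∈ LinearMap.range p
  rw [← Submodule.Quotient.mk_eq_zero]
  set c := (Submodule.Quotient.mk g : _ ⧸ LinearMap.range p) with hc
  set I : Ideal Γ(StMod.sch Q x, ⊤) := LinearMap.ker (LinearMap.toSpanSingleton _ _ c) with hI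
  have key : ∀ t : StMod.sch Q x, ∃ r ∈ I, t ∈ (StMod.sch Q x).basicOpen r := by
    intro t
    obtain ⟨x₁, φ₁, a, hφ₁, haff, hok, ⟨χ⟩⟩ := exists_ok_hit hQ x t
    obtain ⟨x', ι, hx', hit, -⟩ := exists_affine_hit hQ.isStack.1 φ₁ hφ₁ (U := ⊤) trivial
    obtain ⟨wp, hw⟩ := hit.mem
    haveI := hx'
    haveI := haff
    have hsurj : ∀ r : Γ(P.obj.obj x', ⊤), ∃ s, (w.hom.app x').app ⊤ s = r := fun r => by
      refine top_induction P (ι ≫ χ) (p := fun r => ∃ s, (w.hom.app x').app ⊤ s = r) ⟨0, map_zero _⟩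
        (fun a b ⟨s, hs⟩ ⟨s', hs'⟩ => ⟨s + s', by rw [map_add, hs, hs']⟩) (fun b m => ?_) r
      obtain ⟨s, rfl⟩ := h a haff hok m
      refine ⟨b • trT M.obj (ι ≫ χ) s, ?_⟩
      rw [Scheme.Modules.Hom.app_smul]
      exact congrArg (b • ·) (tr_hom w.hom (ι ≫ χ) ⊤ ⊤ (top_le _) s).symm
    let φ := ι ≫ φ₁
    letI : Algebra Γ(StMod.sch Q x, ⊤) Γ(StMod.sch Q x', ⊤) :=
      ((StMod.bmap Q φ).appLE ⊤ ⊤ (top_le φ)).hom.toAlgebra
    haveI : Module.Flat Γ(StMod.sch Q x, ⊤) Γ(StMod.sch Q x', ⊤) :=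
      HasRingHomProperty.appLE (P := @Flat) _ hit.flat ⟨⊤, isAffineOpen_top _⟩ ⟨⊤, isAffineOpen_top _⟩ (top_le φ)
    obtain ⟨ΦM, hΦM⟩ := exists_bijective_tr M φ (isAffineOpen_top (StMod.sch Q x))
      (isAffineOpen_top (StMod.sch Q x')) (top_le φ)
    obtain ⟨ΦP, hΦP⟩ := exists_bijective_tr P φ (isAffineOpen_top (StMod.sch Q x))
      (isAffineOpen_top (StMod.sch Q x')) (top_le φ)
    have hcomm : ∀ z, ΦP (LinearMap.lTensor Γ(StMod.sch Q x', ⊤) p z) = (w.hom.app x').app ⊤ (ΦM z) := by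
      intro z
      induction z using TensorProduct.induction_on with
      | zero => simp
      | add a b ha hb => rw [map_add, map_add, map_add, map_add, ha, hb]
      | tmul b s =>
        have e : ∀ {N : StMod.QCoh Q} (n : Γ(N.obj.obj x, ⊤)), b ⊗ₜ[Γ(StMod.sch Q x, ⊤)] n = b • ((1 : Γ(StMod.sch Q x', ⊤)) ⊗ₜ n) :=
          fun n => by rw [TensorProduct.smul_tmul', smul_eq_mul, mul_one]
        rw [LinearMap.lTensor_tmul, e, map_smul, hΦP, e, map_smul, hΦM, Scheme.Modules.Hom.app_smul]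
        exact congrArg (b • ·) (tr_hom w.hom φ ⊤ ⊤ (top_le φ) s)
    obtain ⟨s', hs'⟩ := hsurj (trT P.obj φ g)
    obtain ⟨z, rfl⟩ := ΦM.surjective s'
    rw [← hcomm, show trT P.obj φ g = ΦP (1 ⊗ₜ g) from (hΦP g).symm] at hs'
    have h1 := ΦP.injective hs'
    have h2 : (1 : Γ(StMod.sch Q x', ⊤)) ⊗ₜ[Γ(StMod.sch Q x, ⊤)] c = 0 := by
      have h3 := congrArg (LinearMap.lTensor Γ(StMod.sch Q x', ⊤) (LinearMap.range p).mkQ) h1
      rw [← LinearMap.lTensor_comp_apply, LinearMap.range_mkQ_comp, LinearMap.lTensor_zero, LinearMap.zero_apply,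
        LinearMap.lTensor_tmul] at h3
      exact h3.symm
    have h3 := map_ker_eq_top c h2
    rw [Ideal.map, ← (isAffineOpen_top (StMod.sch Q x')).self_le_iSup_basicOpen_iff] at h3
    obtain ⟨⟨_, r, hr, rfl⟩, hrw⟩ := Opens.mem_iSup.1 (h3 (trivial : wp ∈ (⊤ : (StMod.sch Q x').Opens)))
    refine ⟨r, hr, ?_⟩
    rw [← hw]
    show wp ∈ StMod.bmap Q φ ⁻¹ᵁ (StMod.sch Q x).basicOpen r
    rw [Scheme.preimage_basicOpen_top, ← appLE_top_eq φ]
    exact hrw
  have htop : Ideal.span (I : Set Γ(StMod.sch Q x, ⊤)) = ⊤ := by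
    rw [← (isAffineOpen_top (StMod.sch Q x)).self_le_iSup_basicOpen_iff]
    intro t _
    obtain ⟨r, hr, ht⟩ := key t
    exact Opens.mem_iSup.2 ⟨⟨r, hr⟩, ht⟩
  rw [Ideal.span_eq] at htop
  have h1 : (1 : Γ(StMod.sch Q x, ⊤)) ∈ I := by rw [htop]; trivial
  rw [hI, LinearMap.mem_ker, LinearMap.toSpanSingleton_apply, one_smul] at h1
  exact h1

/-- Natural linear maps between compatible modules. -/
structure ModMap (N N' : AffMod Q) where
  app : ∀ A : AObj Q, N.ob A →ₗ[Γ(StMod.sch Q A.obj, ⊤)] N'.ob A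
  nat : ∀ {A' A : AObj Q} (g : A'.obj ⟶ A.obj) (n : N.ob A), N'.r g (app A n) = app A' (N.r g n)

/-- The image of a natural linear map. -/
def ModMap.img {N N' : AffMod Q} (p : ModMap N N') : AffMod Q where
  ob A := ModuleCat.of _ (LinearMap.range (p.app A))
  r {A' A} g := AddMonoidHom.mk'
    (fun n => (⟨N'.r g n.1, by
      obtain ⟨m, hm⟩ := n.2
      exact ⟨N.r g m, by rw [← p.nat, hm]⟩⟩ : LinearMap.range (p.app A')))
    (fun a b => Subtype.ext (map_add (N'.r g) a.1 b.1))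
  r_smul g b n := Subtype.ext (N'.r_smul g b n.1)
  r_id A n := Subtype.ext (N'.r_id A n.1)
  r_comp h g n := Subtype.ext (N'.r_comp h g n.1)

theorem ModMap.isBC_img {N N' : AffMod Q} (p : ModMap N N') (hN : N.IsBC) (hN' : N'.IsBC) : p.img.IsBC := by
  intro A' A g hg
  letI : Algebra Γ(StMod.sch Q A.obj, ⊤) Γ(StMod.sch Q A'.obj, ⊤) := (StMod.bmap Q g).appTop.hom.toAlgebra
  haveI : Module.Flat Γ(StMod.sch Q A.obj, ⊤) Γ(StMod.sch Q A'.obj, ⊤) :=
    HasRingHomProperty.appTop (P := @Flat) _ hg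
  let B := Γ(StMod.sch Q A'.obj, ⊤)
  let ι : p.img.ob A →ₗ[Γ(StMod.sch Q A.obj, ⊤)] N'.ob A := Submodule.subtype (LinearMap.range (p.app A))
  have hι : ∀ z, N'.bcm g (LinearMap.lTensor B ι z) =
      (show N'.ob A' from Subtype.val (p.img.bcm g z : LinearMap.range (p.app A'))) := by
    intro z
    induction z using TensorProduct.induction_on with
    | zero => simp
    | add a b ha hb =>
      rw [map_add, map_add, ha, hb, map_add]
      rfl
    | tmul b n => rfl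
  refine ⟨fun z z' h => ?_, fun n => ?_⟩
  · refine Module.Flat.lTensor_preserves_injective_linearMap (M := B) ι Subtype.val_injective ((hN' g hg).1 ?_)
    rw [hι, hι, h]
  · obtain ⟨m, hm⟩ := n.2
    obtain ⟨z, rfl⟩ := (hN g hg).2 m
    have key : ∀ z, (p.app A') (N.bcm g z) =
        (show N'.ob A' from Subtype.val (p.img.bcm g
          (LinearMap.lTensor B ((p.app A).rangeRestrict : N.ob A →ₗ[Γ(StMod.sch Q A.obj, ⊤)] p.img.ob A) z) :
            LinearMap.range (p.app A'))) := by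
      intro z
      induction z using TensorProduct.induction_on with
      | zero => simp
      | add a b ha hb =>
        rw [map_add, map_add, ha, hb, map_add, map_add]
        rfl
      | tmul b k =>
        show (p.app A') (b • N.r g k) = b • N'.r g (p.app A k)
        rw [map_smul, p.nat]
    exact ⟨_, Subtype.ext ((key z).symm.trans hm)⟩

theorem Realization.ρ_topOk_bijective {N : AffMod Q} (R : Realization N) (a : AObj Q) (ha : IsOk a.obj) :
    Function.Bijective (R.ρ (topOk a ha) a.aff) :=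
  R.ρ_bij (topOk a ha) a.aff (flat_topOk a ha)

/-- The morphism of realizations onto the image. -/
theorem ModMap.exists_toImg (hQ : AS Q) {N N' : AffMod Q} (p : ModMap N N') (R : Realization N)
    (R' : Realization p.img) : ∃ w : R.G ⟶ R'.G, StMod.Mod.IsSurj w.hom ∧
      ∀ (a : AObj Q) (ha : IsOk a.obj) (s : Γ(R.G.obj.obj a.obj, ⊤)),
        (Subtype.val (R'.ρ (topOk a ha) a.aff ((w.hom.app a.obj).app ⊤ s) : LinearMap.range (p.app a)) : N'.ob a) =
          p.app a (R.ρ (topOk a ha) a.aff s) := by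
  let e : ∀ (a : AObj Q) (ha : IsOk a.obj), Γ(R'.G.obj.obj a.obj, ⊤) ≃+ p.img.ob a := fun a ha =>
    AddEquiv.ofBijective (R'.ρ (topOk a ha) a.aff) (R'.ρ_topOk_bijective a ha)
  let f : ∀ a : Q.obj, IsAffine (StMod.sch Q a) → IsOk a → (Γ(R.G.obj.obj a, ⊤) →+ Γ(R'.G.obj.obj a, ⊤)) :=
    fun a ha hok => (e ⟨a, ha⟩ hok).symm.toAddMonoidHom.comp
      (((p.app ⟨a, ha⟩).rangeRestrict.toAddMonoidHom : N.ob ⟨a, ha⟩ →+ p.img.ob ⟨a, ha⟩).comp
        (R.ρ (topOk ⟨a, ha⟩ hok) ha))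
  have he : ∀ a ha hok s, R'.ρ (topOk ⟨a, ha⟩ hok) ha (f a ha hok s) =
      ((p.app ⟨a, ha⟩).rangeRestrict (R.ρ (topOk ⟨a, ha⟩ hok) ha s) : p.img.ob ⟨a, ha⟩) := fun a ha hok s =>
    (e ⟨a, ha⟩ hok).apply_symm_apply _
  obtain ⟨w, hw⟩ := exists_hom_of_ok hQ f
    (fun a ha hok r s => by
      refine (R'.ρ_topOk_bijective ⟨a, ha⟩ hok).1 ?_
      rw [he, R'.ρ_smul, he, R.ρ_smul]
      exact Subtype.ext (map_smul (p.app ⟨a, ha⟩) r _))
    (fun {a' a} c ha' hok' ha hok s => by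
      refine (R'.ρ_topOk_bijective ⟨a', ha'⟩ hok').1 ?_
      rw [he]
      refine (R'.ρ_nat (o' := topOk ⟨a', ha'⟩ hok') (o := topOk ⟨a, ha⟩ hok) (covHom c) ha' ha _).trans ?_
      rw [he]
      refine Subtype.ext ((p.nat (A' := ⟨a', ha'⟩) (A := ⟨a, ha⟩) c _).trans (congrArg (p.app ⟨a', ha'⟩) ?_))
      exact (R.ρ_nat (o' := topOk ⟨a', ha'⟩ hok') (o := topOk ⟨a, ha⟩ hok) (covHom c) ha' ha s).symm)
  refine ⟨w, isSurj_of_ok hQ w fun a ha hok r => ?_, fun a ha s => ?_⟩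
  · obtain ⟨m, hm⟩ := (R'.ρ (topOk ⟨a, ha⟩ hok) ha r).2
    obtain ⟨s, rfl⟩ := (R.ρ_topOk_bijective ⟨a, ha⟩ hok).2 m
    refine ⟨s, (R'.ρ_topOk_bijective ⟨a, ha⟩ hok).1 ?_⟩
    rw [hw a ha hok, he]
    exact Subtype.ext hm
  · rw [hw a.obj a.aff ha s, he]
    rfl

variable {𝒴 𝒳 : AlgSt.Cat S} {j : 𝒴 ⥤ᵇ 𝒳}

/-- Post-composition, between the modules of morphisms out of the structure sheaf. -/
def pushModMap (hj : FibData j) {F G : StMod.QCoh 𝒴} (u : F ⟶ G) :
    ModMap (homMod (StMod.OQ 𝒴) F hj) (homMod (StMod.OQ 𝒴) G hj) where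
  app A :=
    { toFun := fun n => homEquivOb (StMod.OQ 𝒴) G hj A
        (post (StMod.OQ 𝒴) F u A.obj ((homEquivOb (StMod.OQ 𝒴) F hj A).symm n))
      map_add' := fun a b => by rw [map_add, post_add, map_add]
      map_smul' := fun r a => by
        rw [homEquivOb_symm_smul, post_smul, homEquivOb_smul]
        rfl }
  nat := fun {A' A} g n => by
    refine (homEquivOb (StMod.OQ 𝒴) G hj A').symm.injective ?_
    refine (homMod_r (StMod.OQ 𝒴) G hj g _).trans ?_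
    show transp _ G g ((homEquivOb (StMod.OQ 𝒴) G hj A).symm (homEquivOb (StMod.OQ 𝒴) G hj A _)) =
      (homEquivOb (StMod.OQ 𝒴) G hj A').symm (homEquivOb (StMod.OQ 𝒴) G hj A' _)
    rw [AddEquiv.symm_apply_apply, AddEquiv.symm_apply_apply, homMod_r, post_transp]

theorem pushModMap_app (hj : FibData j) {F G : StMod.QCoh 𝒴} (u : F ⟶ G) (A : AObj 𝒳)
    (e : onFib j (StMod.OQ 𝒴) A.obj ⟶ onFib j F A.obj) :
    (pushModMap hj u).app A (homEquivOb (StMod.OQ 𝒴) F hj A e) =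
      homEquivOb (StMod.OQ 𝒴) G hj A (post (StMod.OQ 𝒴) F u A.obj e) :=
  congrArg (fun q => homEquivOb (StMod.OQ 𝒴) G hj A (post (StMod.OQ 𝒴) F u A.obj q))
    ((homEquivOb (StMod.OQ 𝒴) F hj A).symm_apply_apply e)

theorem pushModMap_app' (hj : FibData j) {F G : StMod.QCoh 𝒴} (u : F ⟶ G) (A : AObj 𝒳)
    (n : homOb (StMod.OQ 𝒴) F hj A) :
    (homEquivOb (StMod.OQ 𝒴) G hj A).symm ((pushModMap hj u).app A n) =
      post (StMod.OQ 𝒴) F u A.obj ((homEquivOb (StMod.OQ 𝒴) F hj A).symm n) :=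
  (homEquivOb (StMod.OQ 𝒴) G hj A).symm_apply_apply _

/-- The image object over the image of an affine object. -/
abbrev imgObj (j : 𝒴 ⥤ᵇ 𝒳) (x : 𝒴.obj) (hx : IsAffine (StMod.sch 𝒴 x)) : AObj 𝒳 := ⟨j.obj x, isAffine_map j hx⟩

/-- The extensions by zero of the values of a section define a section of the image. -/
theorem exists_tau (h𝒴 : AS 𝒴) (d : SplitData j) {F G : StMod.QCoh 𝒴} (u : F ⟶ G) (hu : StMod.Mod.IsSurj u.hom)
    (φ : StMod.OQ 𝒴 ⟶ G) (R : Realization (pushModMap d.fd u).img) :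
    ∃ τ : StMod.OQ 𝒴 ⟶ (StMod.comapQ j).obj R.G, ∀ (x : 𝒴.obj) (hx : IsAffine (StMod.sch 𝒴 x)) (hok : IsOk x),
      (homEquivOb (StMod.OQ 𝒴) G d.fd (imgObj j x hx)).symm
          (Subtype.val (R.ρ (topOk (imgObj j x hx) (d.okMap x hok)) (isAffine_map j hx)
            ((pullTop j R.G x).symm ((τ.hom.app x).app ⊤ (oneSec 𝒴 x))) :
              LinearMap.range ((pushModMap d.fd u).app (imgObj j x hx)))) =
        d.ext0 G x ((φ.hom.app x).app ⊤ (oneSec 𝒴 x)) := by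
  have hmem : ∀ (x : 𝒴.obj) (hx : IsAffine (StMod.sch 𝒴 x)),
      homEquivOb (StMod.OQ 𝒴) G d.fd (imgObj j x hx) (d.ext0 G x ((φ.hom.app x).app ⊤ (oneSec 𝒴 x))) ∈
        LinearMap.range ((pushModMap d.fd u).app (imgObj j x hx)) := by
    intro x hx
    obtain ⟨r, hr⟩ := hu x hx ((φ.hom.app x).app ⊤ (oneSec 𝒴 x))
    refine ⟨homEquivOb (StMod.OQ 𝒴) F d.fd (imgObj j x hx) (d.ext0 F x r), ?_⟩
    rw [pushModMap_app, d.ext0_map, hr]
  let n : ∀ (x : 𝒴.obj) (hx : IsAffine (StMod.sch 𝒴 x)), (pushModMap d.fd u).img.ob (imgObj j x hx) :=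
    fun x hx => ⟨_, hmem x hx⟩
  choose T hT using fun (x : 𝒴.obj) (hx : IsAffine (StMod.sch 𝒴 x)) (hok : IsOk x) =>
    (R.ρ_topOk_bijective (imgObj j x hx) (d.okMap x hok)).2 (n x hx)
  obtain ⟨τ, hτ⟩ := exists_sect_of_ok (M := (StMod.comapQ j).obj R.G) h𝒴
    (fun x hx hok => pullTop j R.G x (T x hx hok))
    (fun {x' x} c hx' hok' hx hok => by
      rw [pullTop_trT]
      refine congrArg (pullTop j R.G x') ((R.ρ_topOk_bijective (imgObj j x' hx') (d.okMap x' hok')).1 ?_)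
      rw [hT]
      refine (R.ρ_nat (o' := topOk (imgObj j x' hx') (d.okMap x' hok')) (o := topOk (imgObj j x hx) (d.okMap x hok))
        (covHom (j.map c)) (isAffine_map j hx') (isAffine_map j hx) _).trans ?_
      rw [hT]
      refine Subtype.ext ?_
      refine (homEquivOb (StMod.OQ 𝒴) G d.fd (imgObj j x' hx')).symm.injective ?_
      refine (homMod_r (StMod.OQ 𝒴) G d.fd (A' := imgObj j x' hx') (A := imgObj j x hx) (j.map c) _).trans ?_
      show transp _ G (j.map c) ((homEquivOb (StMod.OQ 𝒴) G d.fd (imgObj j x hx)).symm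
          (homEquivOb (StMod.OQ 𝒴) G d.fd (imgObj j x hx) _)) =
        (homEquivOb (StMod.OQ 𝒴) G d.fd (imgObj j x' hx')).symm
          (homEquivOb (StMod.OQ 𝒴) G d.fd (imgObj j x' hx') _)
      rw [AddEquiv.symm_apply_apply, AddEquiv.symm_apply_apply, d.ext0_transp]
      exact congrArg (d.ext0 G x') (trT_app_oneSec φ c))
  refine ⟨τ, fun x hx hok => ?_⟩
  rw [hτ x hx hok, AddEquiv.symm_apply_apply, hT]
  exact (homEquivOb (StMod.OQ 𝒴) G d.fd (imgObj j x hx)).symm_apply_apply _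

/-- A section of the direct image gives a section. -/
theorem exists_counit (h𝒴 : AS 𝒴) (d : SplitData j) {F : StMod.QCoh 𝒴}
    (R : Realization (homMod (StMod.OQ 𝒴) F d.fd)) (τ' : StMod.OQ 𝒴 ⟶ (StMod.comapQ j).obj R.G) :
    ∃ φ' : StMod.OQ 𝒴 ⟶ F, ∀ (x : 𝒴.obj) (hx : IsAffine (StMod.sch 𝒴 x)) (hok : IsOk x),
      (φ'.hom.app x).app ⊤ (oneSec 𝒴 x) = valOne F (j.obj x)
        (val d.fd R (topOk (imgObj j x hx) (d.okMap x hok)) (isAffine_map j hx)
          ((pullTop j R.G x).symm ((τ'.hom.app x).app ⊤ (oneSec 𝒴 x)))) (CostructuredArrow.mk (𝟙 (j.obj x))) := by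
  refine exists_sect_of_ok (M := F) h𝒴
    (fun x hx hok => valOne F (j.obj x)
        (val d.fd R (topOk (imgObj j x hx) (d.okMap x hok)) (isAffine_map j hx)
          ((pullTop j R.G x).symm ((τ'.hom.app x).app ⊤ (oneSec 𝒴 x)))) (CostructuredArrow.mk (𝟙 (j.obj x))))
    (fun {x' x} c hx' hok' hx hok => ?_)
  rw [← trT_app_oneSec τ' c, pullTop_symm_trT, val_trT d.fd R
    (o' := topOk (imgObj j x' hx') (d.okMap x' hok')) (o := topOk (imgObj j x hx) (d.okMap x hok)) (j.map c)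
    (isAffine_map j hx') (isAffine_map j hx)]
  refine valOne_trT F (j.obj x) _ (x' := push j (j.map c) (CostructuredArrow.mk (𝟙 (j.obj x'))))
    (x := CostructuredArrow.mk (𝟙 (j.obj x))) (CostructuredArrow.homMk c ?_)
  show j.map c ≫ 𝟙 _ = 𝟙 _ ≫ j.map c
  rw [Category.comp_id, Category.id_comp]

/-- Exactness of global sections on the source of a functor with open and closed diagonal. -/
theorem gExact_of_splitData (h𝒴 : AS 𝒴) (h𝒳 : AS 𝒳) (d : SplitData j)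
    (hlift : ∀ ⦃A B : StMod.QCoh 𝒳⦄ (w : A ⟶ B), StMod.Mod.IsSurj w.hom →
      ∀ τ : StMod.OQ 𝒴 ⟶ (StMod.comapQ j).obj B,
        ∃ τ' : StMod.OQ 𝒴 ⟶ (StMod.comapQ j).obj A, τ' ≫ (StMod.comapQ j).map w = τ) : GExact 𝒴 := by
  intro F G u hu φ
  have hfp : (StMod.OQ 𝒴).obj.IsFinPres := fun ξ => SchDense.isFP_unit _
  obtain ⟨RF⟩ := exists_realization (homMod (StMod.OQ 𝒴) F d.fd) h𝒳 (isBC_homMod _ F d.fd hfp)
  obtain ⟨RB⟩ := exists_realization (pushModMap d.fd u).img h𝒳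
    ((pushModMap d.fd u).isBC_img (isBC_homMod _ F d.fd hfp) (isBC_homMod _ G d.fd hfp))
  obtain ⟨w, hwsurj, hw⟩ := (pushModMap d.fd u).exists_toImg h𝒳 RF RB
  obtain ⟨τ, hτ⟩ := exists_tau h𝒴 d u hu φ RB
  obtain ⟨τ', hτ'⟩ := hlift w hwsurj τ
  obtain ⟨φ', hφ'⟩ := exists_counit h𝒴 d RF τ'
  refine ⟨φ', sect_ext_of_ok h𝒴 fun x hx hok => ?_⟩
  show (u.hom.app x).app ⊤ ((φ'.hom.app x).app ⊤ (oneSec 𝒴 x)) = _
  rw [hφ' x hx hok]
  have h3 : (w.hom.app (j.obj x)).app ⊤ ((pullTop j RF.G x).symm ((τ'.hom.app x).app ⊤ (oneSec 𝒴 x))) =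
      (pullTop j RB.G x).symm ((τ.hom.app x).app ⊤ (oneSec 𝒴 x)) := by
    rw [← hτ']
    exact (pullTop_symm_app j w x _).symm
  have h2 : post (StMod.OQ 𝒴) F u (j.obj x) (val d.fd RF (topOk (imgObj j x hx) (d.okMap x hok)) (isAffine_map j hx)
      ((pullTop j RF.G x).symm ((τ'.hom.app x).app ⊤ (oneSec 𝒴 x)))) =
      d.ext0 G x ((φ.hom.app x).app ⊤ (oneSec 𝒴 x)) := by
    rw [← hτ x hx hok, ← h3, hw (imgObj j x hx) (d.okMap x hok)]
    exact (pushModMap_app' d.fd u (imgObj j x hx) _).symm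
  show valOne G (j.obj x) (post (StMod.OQ 𝒴) F u (j.obj x) _) (CostructuredArrow.mk (𝟙 (j.obj x))) = _
  rw [h2, d.ext0_agree _ (CostructuredArrow.mk (𝟙 (j.obj x))) hx (𝟙 x) (j.toFunctor.map_id x)]
  exact trT_id G.obj x _

end Groth.Agent.RelGen
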