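import Mathlib
import Groth.Agent.RelGen.Basic

/-!
# Descent of surjectivity of a morphism of quasi-coherent modules along faithfully flat affine objects
-/

universe u

open CategoryTheory CategoryTheory.Limits AlgebraicGeometry TopologicalSpace Opposite TensorProduct

set_option autoImplicit false
set_option backward.isDefEq.respectTransparency false
set_option backward.isDefEq.respectTransparency.types false
set_option linter.style.haveILetI false

noncomputable section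

namespace Groth.Agent.RelGen

open Groth.Agent.QC Groth.Agent.QDescent

variable {S : Scheme.{u}} {𝒵 : AlgSt.Cat S}

/-- Surjectivity on global sections descends along a faithfully flat morphism of affine objects. -/
theorem surjective_app_of_ff {F G : StMod.QCoh 𝒵} (u : F ⟶ G) {x' x : 𝒵.obj} (φ : x' ⟶ x)
    [IsAffine (StMod.sch 𝒵 x)] [IsAffine (StMod.sch 𝒵 x')] [Flat (StMod.bmap 𝒵 φ)]
    [Surjective (StMod.bmap 𝒵 φ)] (h : Function.Surjective ((u.hom.app x').app ⊤)) :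
    Function.Surjective ((u.hom.app x).app ⊤) := by
  letI : Algebra Γ(StMod.sch 𝒵 x, ⊤) Γ(StMod.sch 𝒵 x', ⊤) :=
    ((StMod.bmap 𝒵 φ).appLE ⊤ ⊤ (top_le φ)).hom.toAlgebra
  have hff : ((StMod.bmap 𝒵 φ).appLE ⊤ ⊤ (top_le φ)).hom.FaithfullyFlat := by
    rw [show (StMod.bmap 𝒵 φ).appLE ⊤ ⊤ (top_le φ) = (StMod.bmap 𝒵 φ).appTop from
      (Scheme.Hom.appLE_eq_app _ :)]
    exact (Flat.flat_and_surjective_iff_faithfullyFlat_of_isAffine _).1 ⟨inferInstance, inferInstance⟩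
  haveI : Module.FaithfullyFlat Γ(StMod.sch 𝒵 x, ⊤) Γ(StMod.sch 𝒵 x', ⊤) := hff
  obtain ⟨ΦF, hΦF⟩ := exists_bijective_tr F φ (isAffineOpen_top (StMod.sch 𝒵 x))
    (isAffineOpen_top (StMod.sch 𝒵 x')) (top_le φ)
  obtain ⟨ΦG, hΦG⟩ := exists_bijective_tr G φ (isAffineOpen_top (StMod.sch 𝒵 x))
    (isAffineOpen_top (StMod.sch 𝒵 x')) (top_le φ)
  let p : Γ(F.obj.obj x, ⊤) →ₗ[Γ(StMod.sch 𝒵 x, ⊤)] Γ(G.obj.obj x, ⊤) :=
    { toFun := fun s => (u.hom.app x).app ⊤ s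
      map_add' := fun s t => map_add _ s t
      map_smul' := fun r s => Scheme.Modules.Hom.app_smul _ r s }
  have key : ∀ z, ΦG (p.lTensor Γ(StMod.sch 𝒵 x', ⊤) z) = (u.hom.app x').app ⊤ (ΦF z) := by
    intro z
    induction z using TensorProduct.induction_on with
    | zero => simp only [map_zero]
    | add a b ha hb => simp only [map_add, ha, hb]
    | tmul r s =>
      rw [LinearMap.lTensor_tmul,
        show (r ⊗ₜ[Γ(StMod.sch 𝒵 x, ⊤)] p s) = r • ((1 : Γ(StMod.sch 𝒵 x', ⊤)) ⊗ₜ[Γ(StMod.sch 𝒵 x, ⊤)] p s) by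
          rw [TensorProduct.smul_tmul', smul_eq_mul, mul_one],
        show (r ⊗ₜ[Γ(StMod.sch 𝒵 x, ⊤)] s) = r • ((1 : Γ(StMod.sch 𝒵 x', ⊤)) ⊗ₜ[Γ(StMod.sch 𝒵 x, ⊤)] s) by
          rw [TensorProduct.smul_tmul', smul_eq_mul, mul_one],
        map_smul, map_smul, hΦF, hΦG, Scheme.Modules.Hom.app_smul]
      exact congrArg (r • ·) (tr_hom u.hom φ ⊤ ⊤ (top_le φ) s)
  refine (Module.FaithfullyFlat.lTensor_surjective_iff_surjective Γ(StMod.sch 𝒵 x, ⊤) Γ(StMod.sch 𝒵 x', ⊤) p).1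
    fun t => ?_
  obtain ⟨s, hs⟩ := h (ΦG t)
  obtain ⟨z, rfl⟩ := ΦF.surjective s
  exact ⟨z, ΦG.injective ((key z).trans hs)⟩

end Groth.Agent.RelGen
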