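import Mathlib
import Groth.Agent.RelGen.CohSp
import Groth.Agent.AlgStLib.QC2
import Groth.Agent.AlgSpLib.FpqcProps
import Groth.Agent.AlgSpLib.DiagCrit

/-!
# Affine morphisms to algebraic spaces are cohomologically affine
-/

universe u

open CategoryTheory CategoryTheory.Limits AlgebraicGeometry TopologicalSpace Opposite

set_option autoImplicit false
set_option backward.isDefEq.respectTransparency false
set_option backward.isDefEq.respectTransparency.types false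
set_option linter.style.haveILetI false

noncomputable section

namespace Groth.Agent.RelGen

open Groth.Agent.QC Groth.Agent.QDescent
open _root_.AlgSp _root_.AlgSt

variable {S : Scheme.{u}}

local notation "AS" => IsAlgStack Scheme.fppfPrecoverage

/-- The category of a functor over an affine object of an affine representable functor. -/
theorem exists_fib_overCat_affine {𝒳 𝒴 : AlgSt.Cat S} (h𝒳 : AS 𝒳) (h𝒴 : AS 𝒴) (f : 𝒳 ⥤ᵇ 𝒴)
    (hf : AlgSt.RepByAlgSpWith AlgSp.IsAffineMor f) (η : 𝒴.obj) (hη : IsAffine (StMod.sch 𝒴 η)) :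
    ∃ (W : Over S) (_ : IsAffine W.left) (G : FibCat.overCat W ⥤ᵇ StMod.fibCat f η), IsEqv G := by
  obtain ⟨z, i, -, -⟩ := exists_chartAt h𝒴.isStack.1 η
  have hT := AlgStLib.isAlgStack_overCat (𝒴.p.obj η)
  obtain ⟨F, e, he, hq⟩ := hf (𝒴.p.obj η) z
  obtain ⟨W, j, fst, hpb, hW⟩ := hq (Z := 𝒴.p.obj η) hη (𝟙 _)
  haveI : IsIso fst := hpb.isIso_fst_of_isIso
  haveI : IsIso fst.hom := inferInstanceAs (IsIso ((CategoryTheory.sheafToPresheaf _ _).map fst))
  let hW' := AlgStLib.algFp h𝒴 h𝒳 hT f z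
  have h1 := FibCat2Misc.isEquivOver_comp (AlgStLib.isEquivOver_ofOverCat W) (AlgStLib.isEquivOver_ofPshMap fst.hom)
  have h2 := FibCat2Misc.isEquivOver_comp (FibCat2Misc.isEquivOver_comp h1 he) (AlgStLib.isEquivOver_swapFun z f)
  have h3 := FibCat2Misc.isEquivOver_comp h2 (isEqv_topFib (FibCat.fpSnd f z) hW'.isStack.1).isEquivOver
  have h4 := FibCat2Misc.isEquivOver_comp h3
    (isEqv_fibOfSnd f z h𝒳.isStack.1 h𝒴.isStack.1 hT.isStack.1 (topObj _)).isEquivOver
  have h5 := FibCat2Misc.isEquivOver_comp h4 (isEqv_fibMap_iso h𝒳.isStack.1 f i).isEquivOver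
  obtain ⟨h6, h7⟩ := FibCatRep.isEquivOver_data h5
  exact ⟨W, hW, _, ⟨inferInstance, inferInstance, h7, FibCatRep.isFibGrpd_overCat W, isFibGrpd_fibCat h𝒳.isStack.1 _ _⟩⟩

/-- Surjectivity on sections over an object whose category is an affine scheme. -/
theorem surjAt_of_isEqv_overCat {𝒳 Q : AlgSt.Cat S} (π : 𝒳 ⥤ᵇ Q) (η : Q.obj) {W : Over S} [IsAffine W.left]
    (G : FibCat.overCat W ⥤ᵇ StMod.fibCat π η) (hG : IsEqv G) {F M : StMod.QCoh 𝒳} (u : F ⟶ M)
    (hu : StMod.Mod.IsSurj u.hom) : SurjAt π η u := by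
  intro t
  haveI := hG.full
  have huniq : ∀ x : (StMod.fibCat π η).obj, ∃ f : x ⟶ G.obj (topObj W), ∀ g, g = f := by
    intro x
    obtain ⟨o, e, -, -⟩ := hG.ess x
    refine ⟨e.inv ≫ G.map (toTop o), fun g => ?_⟩
    obtain ⟨g', hg'⟩ := G.toFunctor.map_surjective (e.hom ≫ g)
    rw [Iso.eq_inv_comp, ← hg']
    exact congrArg G.map (toTop_unique g' (toTop o))
  choose f hf using huniq
  haveI : IsAffine (StMod.sch 𝒳 (G.obj (topObj W)).left) := by
    have h1 : StMod.sch (StMod.fibCat π η) (G.obj (topObj W)) = StMod.sch (FibCat.overCat W) (topObj W) :=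
      StMod.sch_obj_eq G (topObj W)
    change IsAffine (StMod.sch (StMod.fibCat π η) (G.obj (topObj W)))
    rw [h1]
    exact ‹IsAffine W.left›
  obtain ⟨s₀, hs₀⟩ := hu (G.obj (topObj W)).left inferInstance (t.1 (G.obj (topObj W)).left (G.obj (topObj W)).hom)
  refine ⟨⟨fun ξ α => trT F.obj (f (CostructuredArrow.mk α)).left s₀, fun ξ' ξ φ α => ?_⟩,
    StMod.Mod.RelSect.ext _ _ _ fun ξ α => ?_⟩
  · refine (trT_eq_map F.obj φ _).symm.trans ((trT_comp F.obj _ _ _).trans (trT_congr F.obj ?_ _))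
    exact congrArg CommaMorphism.left (hf (CostructuredArrow.mk (π.map φ ≫ α))
      ((show (CostructuredArrow.mk (π.map φ ≫ α) : (StMod.fibCat π η).obj) ⟶ CostructuredArrow.mk α from
        CostructuredArrow.homMk φ rfl) ≫ f (CostructuredArrow.mk α)))
  · show (u.hom.app ξ).app ⊤ (trT F.obj (f (CostructuredArrow.mk α)).left s₀) = t.1 ξ α
    refine (tr_hom u.hom (f (CostructuredArrow.mk α)).left ⊤ ⊤ (top_le _) s₀).symm.trans ?_
    rw [hs₀]
    refine (trT_eq_map M.obj _ _).trans ((t.2 (f (CostructuredArrow.mk α)).left _).trans (congrArg (t.1 ξ) ?_))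
    exact CostructuredArrow.w (f (CostructuredArrow.mk α))

theorem isCohAffine_of_isAffineMor {𝒳 : AlgSt.Cat S} (h𝒳 : AS 𝒳) {M : AlgSp.Space S} (π : 𝒳 ⥤ᵇ AlgSt.ofSp M.obj)
    (hπ : AlgSt.RepByAlgSpWith AlgSp.IsAffineMor π) : StMod.IsCohAffine π := by
  intro F G u hu E hE
  obtain ⟨W, hW, T, hT⟩ := exists_fib_overCat_affine h𝒳 (AlgStLib.isAlgStack_ofSp M) π hπ (StMod.etaOf E) hE
  exact surjAt_of_isEqv_overCat π (StMod.etaOf E) T hT u hu

theorem isQuasiCompactMor_of_isAffineMor {𝒳 𝒴 : AlgSt.Cat S} (h𝒳 : AS 𝒳) (h𝒴 : AS 𝒴) (π : 𝒳 ⥤ᵇ 𝒴)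
    (hπ : AlgSt.RepByAlgSpWith AlgSp.IsAffineMor π) : AlgSt.IsQuasiCompactMor Scheme.fppfPrecoverage π :=
  AlgStLib.isQuasiCompactMor_of_repWith h𝒳 h𝒴 (AlgStLib.repWith_mono hπ fun _ U _ hX ha => by
    have hr := (AlgSpLib.isAffineMor_iff_repWith _).1 ha
    exact (AlgSpLib.isQuasiCompactMor_iff_repWith hX (IsAlgSpace.yon_obj U) hr.1).2
      (AlgSpLib.repWith_mono (fun _ _ r h => by
        haveI : IsAffineHom r := h
        infer_instance) hr))

end Groth.Agent.RelGen
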