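import Mathlib
import Groth.Agent.RelGen.ExtZero
import Groth.Agent.EtaleSections.Basic

/-!
# The category over a separated etale quasi-compact chart of an algebraic space
-/

universe u

open CategoryTheory CategoryTheory.Limits AlgebraicGeometry TopologicalSpace Opposite

set_option autoImplicit false
set_option backward.isDefEq.respectTransparency false
set_option backward.isDefEq.respectTransparency.types false
set_option linter.style.haveILetI false

noncomputable section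

namespace Groth.Agent.RelGen

open Groth.Agent.QC Groth.Agent.QDescent
open _root_.AlgSp _root_.AlgSt

variable {S : Scheme.{u}}

local notation "AS" => IsAlgStack Scheme.fppfPrecoverage

variable {M : AlgSp.Sp S}

/-- An object of the category of a sheaf as a morphism of sheaves. -/
def toYon (o : (AlgSt.ofSp M).obj) : (yon S).obj o.base ⟶ M := (AlgSp.J S).uliftYonedaEquiv.symm o.sec

theorem toYon_etaOf (E : AlgSp.EtOver M) : toYon (StMod.etaOf E) = E.obj.hom :=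
  (AlgSp.J S).uliftYonedaEquiv.symm_apply_apply _

theorem toYon_map {o' o : (AlgSt.ofSp M).obj} (c : o' ⟶ o) : (yon S).map c.hom ≫ toYon o = toYon o' := by
  refine (AlgSp.J S).uliftYonedaEquiv.injective ?_
  refine ((AlgSp.J S).uliftYonedaEquiv_naturality (toYon o) c.hom).symm.trans ?_
  rw [toYon, toYon, Equiv.apply_symm_apply, Equiv.apply_symm_apply]
  exact c.map_sec

/-- A morphism of the category of a sheaf from one of the bases. -/
def eltHom {o' o : (AlgSt.ofSp M).obj} (k : o'.base ⟶ o.base) (h : (yon S).map k ≫ toYon o = toYon o') : o' ⟶ o :=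
  ⟨k, by
    have h1 := congrArg (AlgSp.J S).uliftYonedaEquiv h
    rw [toYon, toYon, Equiv.apply_symm_apply] at h1
    refine Eq.trans ?_ h1
    refine Eq.trans ?_ ((AlgSp.J S).uliftYonedaEquiv_naturality _ k)
    rw [Equiv.apply_symm_apply]⟩

theorem elt_hom_ext {o' o : (AlgSt.ofSp M).obj} {c c' : o' ⟶ o} (h : c.hom = c'.hom) : c = c' :=
  Stk.EltObj.hom_ext h

/-- A sheaf map from a scheme that is etale, quasi-compact and separated. -/
structure GoodChartObj (η : (AlgSt.ofSp M).obj) : Prop where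
  et : RepWith @Etale (toYon η)
  qc : RepWith @QuasiCompact (toYon η)
  sep : RepWith @IsSeparated (toYon η)

theorem isOk_of_etale {M : AlgSp.Space S} (η : (AlgSt.ofSp M.obj).obj) (h : RepWith @Etale (toYon η)) : IsOk η := by
  have hM := AlgStLib.isAlgStack_ofSp M
  let z : FibCat.overCat η.base ⥤ᵇ AlgSt.ofSp M.obj :=
    BasedFunctor.comp (AlgSt.ofOverCat η.base) (Stk.ofPshMap (toYon η).hom)
  have hfl : RepWith @Flat (toYon η) := AlgSpLib.repWith_mono (fun _ _ r hr => by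
    haveI : Etale r := hr
    infer_instance) h
  have hz : RepByAlgSpWith (LocP @Flat) z := (AlgStLib.repWith_ofOverCat_iff _ _).2
    (AlgStLib.repWith_mono ((AlgStLib.repWith_ofPshMap_iff _ _).2
      (AlgStLib.repBySpWith_repWith (IsAlgSpace.yon_obj η.base) M.property (toYon η) hfl))
      fun _ T a _ ha => (AlgSpLib.locP_iff_repWith AlgSpLib.etST_flat (IsAlgSpace.yon_obj T) ha.1).2 ha)
  have e : z.obj (topObj η.base) = η := by
    have hs : (AlgSp.J S).uliftYonedaEquiv (toYon η) = η.sec := Equiv.apply_symm_apply _ η.sec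
    exact congrArg (fun s => (⟨η.base, s⟩ : (AlgSt.ofSp M.obj).obj)) hs
  exact (isOk_congr hM.isStack.1 (eqToIso e)).2 (isOk_of_chart hM.isStack.1 z hz)

variable {𝒳 : AlgSt.Cat S} (π : 𝒳 ⥤ᵇ AlgSt.ofSp M) {η : (AlgSt.ofSp M).obj}

theorem baseHom_map {ξ' ξ : 𝒳.obj} (φ : ξ' ⟶ ξ) :
    (π.map φ).hom = eqToHom (π.w_obj ξ') ≫ 𝒳.p.map φ ≫ eqToHom (π.w_obj ξ).symm :=
  FibCatRep.map_map π φ

/-- The base changes of an object to a chart. -/
structure Model (η : (AlgSt.ofSp M).obj) (a : 𝒳.obj) where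
  P : Over S
  q₁ : P ⟶ 𝒳.p.obj a
  q₂ : P ⟶ η.base
  sq : IsPullback ((yon S).map (q₁ ≫ eqToHom (π.w_obj a).symm)) ((yon S).map q₂) (toYon (π.obj a)) (toYon η)
  et : Etale q₁.left
  qc : QuasiCompact q₁.left
  sep : IsSeparated q₁.left

theorem exists_model (hη : GoodChartObj η) (a : 𝒳.obj) : Nonempty (Model π η a) := by
  obtain ⟨P, fst, i, sq, hi⟩ := AlgSpLib.exists_repWith hη.et (toYon (π.obj a))
  obtain ⟨q₂, rfl⟩ := AlgSpLib.exists_map_eq fst
  have h₂ : QuasiCompact i.left := hη.qc.2 _ _ i sq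
  have h₃ : IsSeparated i.left := hη.sep.2 _ _ i sq
  haveI : Etale i.left := hi
  have e : (i ≫ eqToHom (π.w_obj a)) ≫ eqToHom (π.w_obj a).symm = i := by simp
  refine ⟨⟨P, i ≫ eqToHom (π.w_obj a), q₂, ?_, ?_, ?_, ?_⟩⟩
  · rw [e]; exact sq.flip
  · rw [Over.comp_left, Over.eqToHom_left]; infer_instance
  · rw [Over.comp_left, Over.eqToHom_left]; infer_instance
  · rw [Over.comp_left, Over.eqToHom_left]; infer_instance

namespace Model

variable {π} {a : 𝒳.obj} (m : Model π η a)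

theorem cond {W : Over S} {u v : W ⟶ m.P} (h₁ : u ≫ m.q₁ = v ≫ m.q₁) (h₂ : u ≫ m.q₂ = v ≫ m.q₂) : u = v := by
  refine (yon S).map_injective (m.sq.hom_ext ?_ ?_)
  · rw [← Functor.map_comp, ← Functor.map_comp, ← Category.assoc, h₁, Category.assoc]
  · rw [← Functor.map_comp, ← Functor.map_comp, h₂]

theorem exists_uP (w : (StMod.fibCat (StMod.fibFst π η) a).obj) :
    ∃ u : 𝒳.p.obj w.left.left ⟶ m.P, u ≫ m.q₁ = 𝒳.p.map w.hom ∧
      u ≫ m.q₂ = eqToHom (π.w_obj w.left.left).symm ≫ w.left.hom.hom := by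
  let k₁ : 𝒳.p.obj w.left.left ⟶ (π.obj a).base := 𝒳.p.map w.hom ≫ eqToHom (π.w_obj a).symm
  let k₂ : 𝒳.p.obj w.left.left ⟶ η.base := eqToHom (π.w_obj w.left.left).symm ≫ w.left.hom.hom
  have hc : (yon S).map k₁ ≫ toYon (π.obj a) = (yon S).map k₂ ≫ toYon η := by
    have h1 := toYon_map (π.map (show w.left.left ⟶ a from w.hom))
    have h2 := toYon_map w.left.hom
    have e : k₁ = eqToHom (π.w_obj w.left.left).symm ≫ (π.map (show w.left.left ⟶ a from w.hom)).hom := by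
      rw [baseHom_map]
      simp [k₁]
    rw [e, Functor.map_comp, Category.assoc, h1, Functor.map_comp, Category.assoc, h2]
  obtain ⟨u, hu⟩ := AlgSpLib.exists_map_eq (m.sq.lift _ _ hc)
  have hu₁ : u ≫ m.q₁ ≫ eqToHom (π.w_obj a).symm = k₁ := (yon S).map_injective (by
    rw [Functor.map_comp, hu, m.sq.lift_fst])
  have hu₂ : u ≫ m.q₂ = k₂ := (yon S).map_injective (by rw [Functor.map_comp, hu, m.sq.lift_snd])
  refine ⟨u, ?_, hu₂⟩
  rw [← cancel_mono (eqToHom (π.w_obj a).symm), Category.assoc]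
  exact hu₁

/-- The map to the base change. -/
def uP (w : (StMod.fibCat (StMod.fibFst π η) a).obj) : 𝒳.p.obj w.left.left ⟶ m.P := (m.exists_uP w).choose

theorem uP₁ (w : (StMod.fibCat (StMod.fibFst π η) a).obj) : m.uP w ≫ m.q₁ = 𝒳.p.map w.hom :=
  (m.exists_uP w).choose_spec.1

theorem uP₂ (w : (StMod.fibCat (StMod.fibFst π η) a).obj) :
    m.uP w ≫ m.q₂ = eqToHom (π.w_obj w.left.left).symm ≫ w.left.hom.hom :=
  (m.exists_uP w).choose_spec.2

theorem uP_map {w' w : (StMod.fibCat (StMod.fibFst π η) a).obj} (c : w' ⟶ w) :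
    𝒳.p.map c.left.left ≫ m.uP w = m.uP w' := by
  refine m.cond ?_ ?_
  · rw [Category.assoc, m.uP₁, m.uP₁, ← Functor.map_comp]
    exact congrArg 𝒳.p.map (CostructuredArrow.w c)
  · have h := congrArg Stk.EltObj.Hom.hom (CostructuredArrow.w c.left)
    rw [Category.assoc, m.uP₂, m.uP₂]
    refine Eq.trans ?_ (congrArg (eqToHom (π.w_obj w'.left.left).symm ≫ ·) h)
    show _ = _ ≫ (π.map c.left.left).hom ≫ w.left.hom.hom
    rw [baseHom_map]
    simp

theorem exists_mor (h𝒳 : FibCat.IsFibGrpd 𝒳.p) {w' w : (StMod.fibCat (StMod.fibFst π η) a).obj}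
    (k : 𝒳.p.obj w'.left.left ⟶ 𝒳.p.obj w.left.left) (h : k ≫ m.uP w = m.uP w') :
    ∃ c : w' ⟶ w, 𝒳.p.map c.left.left = k := by
  have h1 : k ≫ 𝒳.p.map w.hom = 𝒳.p.map w'.hom := by rw [← m.uP₁, ← m.uP₁, ← Category.assoc, h]
  obtain ⟨χ, hχ, hχc⟩ := exists_factor h𝒳 (show w.left.left ⟶ a from w.hom) w'.hom k.left (congrArg (fun q => q.left) h1)
  have hk : 𝒳.p.map χ = k := Over.OverMorphism.ext hχ
  refine ⟨CostructuredArrow.homMk (CostructuredArrow.homMk χ (elt_hom_ext ?_)) hχc, hk⟩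
  show (π.map χ).hom ≫ w.left.hom.hom = w'.left.hom.hom
  rw [baseHom_map, hk]
  have h2 : k ≫ eqToHom (π.w_obj w.left.left).symm ≫ w.left.hom.hom =
      eqToHom (π.w_obj w'.left.left).symm ≫ w'.left.hom.hom := by rw [← m.uP₂, ← m.uP₂, ← Category.assoc, h]
  rw [Category.assoc, Category.assoc, h2]
  simp

theorem mor_ext (h𝒳 : FibCat.IsFibGrpd 𝒳.p) {w' w : (StMod.fibCat (StMod.fibFst π η) a).obj} {c c' : w' ⟶ w}
    (h : 𝒳.p.map c.left.left = 𝒳.p.map c'.left.left) : c = c' :=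
  CostructuredArrow.hom_ext _ _ (CostructuredArrow.hom_ext _ _
    (eq_of_bmap h𝒳 (show w.left.left ⟶ a from w.hom) (congrArg (fun q => q.left) h)
      ((CostructuredArrow.w c).trans (CostructuredArrow.w c').symm)))

theorem exists_obj (h𝒳 : FibCat.IsFibGrpd 𝒳.p) {O : Over S} (r : O ⟶ m.P) :
    ∃ (w : (StMod.fibCat (StMod.fibFst π η) a).obj) (e : 𝒳.p.obj w.left.left = O), m.uP w = eqToHom e ≫ r := by
  obtain ⟨ξ, φ, hφ⟩ := GerbLib.lift_at h𝒳 (x := a) rfl (r ≫ m.q₁)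
  haveI := hφ
  have e : 𝒳.p.obj ξ = O := IsHomLift.domain_eq 𝒳.p (r ≫ m.q₁) φ
  have hm : 𝒳.p.map φ = eqToHom e ≫ r ≫ m.q₁ := by
    rw [IsHomLift.fac' 𝒳.p (r ≫ m.q₁) φ]
    simp
  let α : π.obj ξ ⟶ η := eltHom (eqToHom ((π.w_obj ξ).trans e) ≫ r ≫ m.q₂) (by
    have hs := m.sq.w
    rw [Functor.map_comp, Functor.map_comp, Category.assoc, Category.assoc, ← hs, ← Category.assoc,
      ← Category.assoc, ← Functor.map_comp, ← Functor.map_comp]
    refine Eq.trans ?_ (toYon_map (π.map φ))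
    rw [baseHom_map, hm]
    simp)
  let w : (StMod.fibCat (StMod.fibFst π η) a).obj :=
    CostructuredArrow.mk (S := (StMod.fibFst π η).toFunctor) (Y := CostructuredArrow.mk α) φ
  refine ⟨w, e, m.cond ?_ ?_⟩
  · rw [m.uP₁, Category.assoc]
    exact hm
  · rw [m.uP₂]
    show eqToHom _ ≫ eqToHom _ ≫ r ≫ m.q₂ = _
    simp

end Model

variable {π} (hη : GoodChartObj η) (h𝒳 : FibCat.IsFibGrpd 𝒳.p)

include hη h𝒳 in
theorem isQC_fibFst (a : 𝒳.obj) (ha : IsAffine (StMod.sch 𝒳 a)) : IsQC (StMod.fibCat (StMod.fibFst π η) a) := by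
  obtain ⟨m⟩ := exists_model π hη a
  haveI : CompactSpace ↥m.P.left := by
    haveI := m.qc
    haveI : IsAffine (𝒳.p.obj a).left := ha
    exact QuasiCompact.compactSpace_of_compactSpace m.q₁.left
  have hg := isFibGrpd_fibCat (isFibGrpd_fibCat h𝒳 π η) (StMod.fibFst π η) a
  obtain ⟨s, hs, hcov⟩ := exists_finite_affine_cover m.P.left
  haveI := hs.to_subtype
  choose z e hz using fun O : s => m.exists_obj h𝒳
    (Over.homMk O.1.1.ι rfl : Over.mk (O.1.1.ι ≫ m.P.hom) ⟶ m.P)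
  refine ⟨s, inferInstance, z, fun O => ?_, fun w t => ?_⟩
  · haveI : IsAffine (Over.mk (O.1.1.ι ≫ m.P.hom) : Over S).left := O.1.2
    exact IsAffine.of_isIso (eqToHom (congrArg Comma.left (e O)) :
      StMod.sch (StMod.fibCat (StMod.fibFst π η) a) (z O) ⟶ (Over.mk (O.1.1.ι ≫ m.P.hom) : Over S).left)
  · obtain ⟨O, hO, hmem⟩ := hcov ((m.uP w).left.base t)
    obtain ⟨w', φ, hw', hφ, hle⟩ := exists_affine_hit hg (𝟙 w) (hits_id w t)
      (U := (m.uP w).left ⁻¹ᵁ O.1) hmem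
    refine ⟨w', φ ≫ 𝟙 w, hφ, ⟨O, hO⟩, ?_⟩
    have hk : (m.uP w').left = StMod.bmap 𝒳 (φ ≫ 𝟙 w).left.left ≫ (m.uP w).left :=
      (congrArg (fun q => q.left) (m.uP_map (φ ≫ 𝟙 w))).symm
    have hrange : Set.range (m.uP w').left.base ⊆ Set.range O.1.ι.base := by
      rintro _ ⟨p, rfl⟩
      rw [Scheme.Opens.range_ι, hk, Scheme.Hom.comp_apply]
      exact hle (trivial : p ∈ (⊤ : (StMod.sch (StMod.fibCat (StMod.fibFst π η) a) w').Opens))
    let k₀ : 𝒳.p.obj w'.left.left ⟶ Over.mk (O.1.ι ≫ m.P.hom) :=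
      Over.homMk (IsOpenImmersion.lift O.1.ι (m.uP w').left hrange) (by
        show IsOpenImmersion.lift O.1.ι (m.uP w').left hrange ≫ O.1.ι ≫ m.P.hom = _
        rw [IsOpenImmersion.lift_fac_assoc, Over.w (m.uP w')])
    obtain ⟨c, -⟩ := m.exists_mor h𝒳 (w' := w') (w := z ⟨O, hO⟩) (k₀ ≫ eqToHom (e ⟨O, hO⟩).symm) (by
      rw [hz]
      simp only [Category.assoc, eqToHom_trans_assoc, eqToHom_refl, Category.id_comp]
      exact Over.OverMorphism.ext (IsOpenImmersion.lift_fac _ _ hrange))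
    exact ⟨c⟩
where
  exists_finite_affine_cover (X : Scheme.{u}) [CompactSpace X] :
      ∃ s : Set X.affineOpens, s.Finite ∧ ∀ x : X, ∃ O ∈ s, x ∈ O.1 := by
    choose O hO hxO hle using fun x : X =>
      exists_isAffineOpen_mem_and_subset (X := X) (x := x) (U := ⊤) trivial
    obtain ⟨t, ht⟩ := isCompact_univ.elim_finite_subcover (fun x : X => (O x : Set X)) (fun x => (O x).2)
      fun x _ => Set.mem_iUnion.2 ⟨x, hxO x⟩
    refine ⟨(fun x => (⟨O x, hO x⟩ : X.affineOpens)) '' t, t.finite_toSet.image _, fun x => ?_⟩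
    obtain ⟨y, hy, hx⟩ := Set.mem_iUnion₂.1 (ht (Set.mem_univ x))
    exact ⟨_, ⟨y, hy, rfl⟩, hx⟩

include hη h𝒳 in
theorem isQS_fibFst (a : 𝒳.obj) (ha : IsAffine (StMod.sch 𝒳 a)) : IsQS (StMod.fibCat (StMod.fibFst π η) a) := by
  obtain ⟨m⟩ := exists_model π hη a
  haveI : m.P.left.IsSeparated := by
    haveI := m.sep
    haveI : IsAffine (𝒳.p.obj a).left := ha
    exact ⟨by rw [← terminal.comp_from m.q₁.left]; infer_instance⟩
  intro A B hA hB
  haveI : IsAffine (𝒳.p.obj A.left.left).left := hA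
  haveI : IsAffine (𝒳.p.obj B.left.left).left := hB
  let R : Over S := Over.mk (pullback.fst (m.uP A).left (m.uP B).left ≫ (𝒳.p.obj A.left.left).hom)
  let pA : R ⟶ 𝒳.p.obj A.left.left := Over.homMk (pullback.fst _ _) rfl
  let pB : R ⟶ 𝒳.p.obj B.left.left := Over.homMk (pullback.snd (m.uP A).left (m.uP B).left) (by
    show pullback.snd _ _ ≫ (𝒳.p.obj B.left.left).hom = pullback.fst _ _ ≫ (𝒳.p.obj A.left.left).hom
    rw [← Over.w (m.uP A), ← Over.w (m.uP B)]
    exact (pullback.condition_assoc _).symm)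
  have hAB : pA ≫ m.uP A = pB ≫ m.uP B := Over.OverMorphism.ext pullback.condition
  obtain ⟨z, e, hz⟩ := m.exists_obj h𝒳 (pA ≫ m.uP A)
  obtain ⟨p, hp⟩ := m.exists_mor h𝒳 (w' := z) (w := A) (eqToHom e ≫ pA) (by rw [Category.assoc, hz])
  obtain ⟨q, hq⟩ := m.exists_mor h𝒳 (w' := z) (w := B) (eqToHom e ≫ pB) (by rw [Category.assoc, ← hAB, hz])
  refine ⟨PUnit.{u + 1}, inferInstance, fun _ => z, fun _ => p, fun _ => q, fun _ => ?_, fun w c d t => ?_⟩
  · haveI : IsAffineHom (m.uP A).left := by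
      haveI : IsAffineHom ((m.uP A).left ≫ terminal.from m.P.left) := by rw [terminal.comp_from]; infer_instance
      exact IsAffineHom.of_comp (m.uP A).left (terminal.from m.P.left)
    haveI : IsAffine R.left := inferInstanceAs (IsAffine (pullback (m.uP A).left (m.uP B).left))
    exact IsAffine.of_isIso (eqToHom (congrArg Comma.left e) :
      StMod.sch (StMod.fibCat (StMod.fibFst π η) a) z ⟶ R.left)
  · have hcd : (𝒳.p.map c.left.left).left ≫ (m.uP A).left = (𝒳.p.map d.left.left).left ≫ (m.uP B).left := by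
      rw [← Over.comp_left, ← Over.comp_left, m.uP_map c, m.uP_map d]
    let l : 𝒳.p.obj w.left.left ⟶ R := Over.homMk (pullback.lift _ _ hcd) (by
      show pullback.lift _ _ hcd ≫ pullback.fst _ _ ≫ _ = _
      rw [pullback.lift_fst_assoc]
      exact Over.w (𝒳.p.map c.left.left))
    have hlA : l ≫ pA = 𝒳.p.map c.left.left := Over.OverMorphism.ext (pullback.lift_fst _ _ _)
    have hlB : l ≫ pB = 𝒳.p.map d.left.left := Over.OverMorphism.ext (pullback.lift_snd _ _ _)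
    obtain ⟨v, hv⟩ := m.exists_mor h𝒳 (w' := w) (w := z) (l ≫ eqToHom e.symm) (by
      rw [hz, Category.assoc, eqToHom_trans_assoc, eqToHom_refl, Category.id_comp, ← Category.assoc, hlA,
        m.uP_map c])
    refine ⟨w, 𝟙 w, ⟨⟩, v, hits_id w t, Model.mor_ext h𝒳 ?_, Model.mor_ext h𝒳 ?_⟩
    · rw [Category.id_comp]
      show 𝒳.p.map (v.left.left ≫ p.left.left) = _
      rw [Functor.map_comp, hv, hp, Category.assoc, eqToHom_trans_assoc, eqToHom_refl, Category.id_comp, hlA]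
    · rw [Category.id_comp]
      show 𝒳.p.map (v.left.left ≫ q.left.left) = _
      rw [Functor.map_comp, hv, hq, Category.assoc, eqToHom_trans_assoc, eqToHom_refl, Category.id_comp, hlB]

end Groth.Agent.RelGen

namespace Groth.Agent.RelGen

open Groth.Agent.QC Groth.Agent.QDescent
open _root_.AlgSp _root_.AlgSt

variable {S : Scheme.{u}}

local notation "AS" => IsAlgStack Scheme.fppfPrecoverage

/-- The category over an object through which everything is flat maps flatly to the source. -/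
theorem repWith_flat_fibFst {𝒳 Q : AlgSt.Cat S} (h𝒳 : FibCat.IsFibGrpd 𝒳.p) (hQ : FibCat.IsFibGrpd Q.p)
    (π : 𝒳 ⥤ᵇ Q) {η : Q.obj} (hη : IsOk η) : RepByAlgSpWith (LocP @Flat) (StMod.fibFst π η) := by
  obtain ⟨z, i, -, -⟩ := exists_chartAt hQ η
  have hT := FibCatRep.isFibGrpd_overCat (Q.p.obj η)
  have hz : RepByAlgSpWith (LocP @Flat) z :=
    (AlgStLib.repWith_iff_of_equiv _ (StMod.fibFst (BasedFunctor.id Q) (z.obj (topObj _))) z (chartFib z)
      (BasedFunctor.id Q) (isEquivOver_chartFib hQ z) FibCat2Misc.isEquivOver_id (Iso.refl _)).1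
      ((isOk_congr hQ i).1 hη)
  have hW : FibCat.IsFibGrpd (FibCat.fp π z).p := FibCatRep.isFibGrpd_fp h𝒳 hT hQ π z
  let A := BasedFunctor.comp (BasedFunctor.comp (topFib (FibCat.fpSnd π z)) (fibOfSnd π z (topObj _))) (fibMap π i.hom)
  have hA : FibCat.IsEquivOver A := FibCat2Misc.isEquivOver_comp
    (FibCat2Misc.isEquivOver_comp (isEqv_topFib (FibCat.fpSnd π z) hW).isEquivOver
      (isEqv_fibOfSnd π z h𝒳 hQ hT (topObj _)).isEquivOver) (isEqv_fibMap_iso h𝒳 π i).isEquivOver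
  exact (AlgStLib.repWith_iff_of_equiv _ (StMod.fibFst π η) (FibCat.fpFst π z) A (BasedFunctor.id 𝒳) hA
    FibCat2Misc.isEquivOver_id (Iso.refl _)).2 (AlgStLib.repWith_fpFst _ z π hz)

theorem isOk_left {𝒳 Q : AlgSt.Cat S} (h𝒳 : FibCat.IsFibGrpd 𝒳.p) (hQ : FibCat.IsFibGrpd Q.p)
    (π : 𝒳 ⥤ᵇ Q) {η : Q.obj} (hη : IsOk η) (x : (StMod.fibCat π η).obj) (hx : IsOk x) : IsOk x.left := by
  have g𝒴 := isFibGrpd_fibCat h𝒳 π η
  obtain ⟨z, i, -, -⟩ := exists_chartAt g𝒴 x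
  have hz : RepByAlgSpWith (LocP @Flat) z :=
    (AlgStLib.repWith_iff_of_equiv _ (StMod.fibFst (BasedFunctor.id _) (z.obj (topObj _))) z (chartFib z)
      (BasedFunctor.id _) (isEquivOver_chartFib g𝒴 z) FibCat2Misc.isEquivOver_id (Iso.refl _)).1
      ((isOk_congr g𝒴 i).1 hx)
  have h := isOk_of_chart h𝒳 (BasedFunctor.comp z (StMod.fibFst π η))
    (AlgStLib.repWith_comp (FibCatRep.isFibGrpd_overCat _) g𝒴 AlgStLib.cls_flat.bc AlgStLib.cls_flat.comp
      AlgStLib.cls_flat.loc hz (repWith_flat_fibFst h𝒳 hQ π hη))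
  exact (isOk_congr h𝒳 ((StMod.fibFst π η).toFunctor.mapIso i).symm).1 h

/-- The category over a separated etale quasi-compact chart. -/
theorem splitData_fibFst {M : AlgSp.Space S} {𝒳 : AlgSt.Cat S} (h𝒳 : AS 𝒳) (π : 𝒳 ⥤ᵇ AlgSt.ofSp M.obj)
    {η : (AlgSt.ofSp M.obj).obj} (hη : GoodChartObj η) : SplitData (StMod.fibFst π η) := by
  have g𝒳 := h𝒳.isStack.1
  have hM := AlgStLib.isAlgStack_ofSp M
  refine ⟨⟨isFibGrpd_fibCat g𝒳 π η, g𝒳, fun a ha => isQC_fibFst hη g𝒳 a ha, fun a ha => isQS_fibFst hη g𝒳 a ha⟩,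
    fun x hx => isOk_left g𝒳 hM.isStack.1 π (isOk_of_etale η hη.et) x hx,
    ⟨fun {_ _} _ _ h => CostructuredArrow.hom_ext _ _ h⟩, fun {y x} γ t => ?_⟩
  let γ' : y.left ⟶ x.left := γ
  let c₁ : π.obj y.left ⟶ η := y.hom
  let c₂ : π.obj y.left ⟶ η := π.map γ' ≫ x.hom
  obtain ⟨R, fst, q₁, sq, hq₁⟩ := AlgSpLib.exists_repWith hη.et (toYon η)
  obtain ⟨q₂, rfl⟩ := AlgSpLib.exists_map_eq fst
  haveI : Etale q₁.left := hq₁
  haveI : IsSeparated q₁.left := hη.sep.2 _ _ q₁ sq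
  obtain ⟨Δ, hΔ⟩ := AlgSpLib.exists_map_eq (sq.lift (𝟙 _) (𝟙 _) rfl)
  have hΔ₁ : Δ ≫ q₁ = 𝟙 η.base := (yon S).map_injective (by
    rw [Functor.map_comp, hΔ, sq.lift_snd, CategoryTheory.Functor.map_id])
  have hΔ₂ : Δ ≫ q₂ = 𝟙 η.base := (yon S).map_injective (by
    rw [Functor.map_comp, hΔ, sq.lift_fst, CategoryTheory.Functor.map_id])
  have hl : Δ.left ≫ q₁.left = 𝟙 _ := congrArg (fun q => q.left) hΔ₁
  haveI : IsClosedImmersion Δ.left := by
    haveI : IsClosedImmersion (Δ.left ≫ q₁.left) := by rw [hl]; infer_instance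
    exact IsClosedImmersion.of_comp Δ.left q₁.left
  haveI : Etale Δ.left := by
    haveI : Etale (Δ.left ≫ q₁.left) := by rw [hl]; infer_instance
    exact Etale.of_comp Δ.left q₁.left
  have hopen : IsOpen (Set.range Δ.left.base) := Δ.left.isOpenMap.isOpen_range
  have hclosed : IsClosed (Set.range Δ.left.base) := Δ.left.isClosedEmbedding.isClosed_range
  obtain ⟨u, hu⟩ := AlgSpLib.exists_map_eq (sq.lift ((yon S).map c₂.hom) ((yon S).map c₁.hom) (by
    rw [toYon_map, toYon_map]))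
  have hu₁ : u ≫ q₁ = c₁.hom := (yon S).map_injective (by rw [Functor.map_comp, hu, sq.lift_snd])
  have hu₂ : u ≫ q₂ = c₂.hom := (yon S).map_injective (by rw [Functor.map_comp, hu, sq.lift_fst])
  have g𝒴 := isFibGrpd_fibCat g𝒳 π η
  let e₀ : StMod.sch (StMod.fibCat π η) y ⟶ (π.obj y.left).base.left :=
    eqToHom (congrArg Comma.left (π.w_obj y.left)).symm
  -- the composite to the pairs, for an object below
  have hcomp : ∀ {y'' : (StMod.fibCat π η).obj} (ψ : y'' ⟶ y),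
      (π.map ψ.left).hom.left ≫ u.left =
        eqToHom (congrArg Comma.left (π.w_obj y''.left)) ≫ StMod.bmap (StMod.fibCat π η) ψ ≫ e₀ ≫ u.left := by
    intro y'' ψ
    rw [baseHom_map π ψ.left]
    simp [e₀, Over.eqToHom_left]
    rfl
  have hin : ∀ {y'' : (StMod.fibCat π η).obj} (ψ : y'' ⟶ y),
      Set.range (StMod.bmap (StMod.fibCat π η) ψ ≫ e₀ ≫ u.left).base ⊆ Set.range Δ.left.base →
      ∃ c : y'' ⟶ x, (StMod.fibFst π η).map c = (StMod.fibFst π η).map ψ ≫ γ := by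
    intro y'' ψ hr
    haveI : IsOpenImmersion Δ.left := EtaleSections.isOpenImmersion_of_etale_universallyInjective Δ.left
    have hr' : Set.range ((π.map ψ.left).hom.left ≫ u.left).base ⊆ Set.range Δ.left.base := by
      rw [hcomp]
      rintro _ ⟨p, rfl⟩
      rw [Scheme.Hom.comp_apply]
      exact hr ⟨_, rfl⟩
    let d₀ := IsOpenImmersion.lift Δ.left _ hr'
    let d : (π.obj y''.left).base ⟶ η.base := Over.homMk d₀ (by
      rw [← Over.w Δ, ← Category.assoc, IsOpenImmersion.lift_fac]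
      exact Over.w ((π.map ψ.left).hom ≫ u))
    have hd : d ≫ Δ = (π.map ψ.left).hom ≫ u := Over.OverMorphism.ext (IsOpenImmersion.lift_fac _ _ hr')
    have heq : (π.map ψ.left).hom ≫ c₁.hom = (π.map ψ.left).hom ≫ c₂.hom := by
      rw [← hu₁, ← hu₂, ← Category.assoc, ← Category.assoc, ← hd, Category.assoc, Category.assoc, hΔ₁, hΔ₂]
    refine ⟨CostructuredArrow.homMk (ψ.left ≫ γ') ?_, rfl⟩
    rw [π.toFunctor.map_comp, Category.assoc]
    refine Eq.trans ?_ (CostructuredArrow.w ψ)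
    exact elt_hom_ext heq.symm
  have hout : ∀ {y'' : (StMod.fibCat π η).obj} (ψ : y'' ⟶ y) (c : y'' ⟶ x),
      (StMod.fibFst π η).map c = (StMod.fibFst π η).map ψ ≫ γ →
      Set.range (StMod.bmap (StMod.fibCat π η) ψ ≫ e₀ ≫ u.left).base ⊆ Set.range Δ.left.base := by
    intro y'' ψ c hc
    have hc' : c.left = ψ.left ≫ γ' := hc
    have h1 : π.map ψ.left ≫ c₂ = π.map ψ.left ≫ c₁ := by
      show π.map ψ.left ≫ π.map γ' ≫ x.hom = π.map ψ.left ≫ y.hom
      rw [← Category.assoc, ← π.toFunctor.map_comp, ← hc', CostructuredArrow.w c, CostructuredArrow.w ψ]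
    have h2 : (π.map ψ.left).hom ≫ u = ((π.map ψ.left).hom ≫ c₁.hom) ≫ Δ := by
      refine (yon S).map_injective (sq.hom_ext ?_ ?_)
      · rw [← Functor.map_comp, ← Functor.map_comp, Category.assoc, Category.assoc, hu₂, hΔ₂, Category.comp_id]
        exact congrArg (fun k => (yon S).map k) (congrArg Stk.EltObj.Hom.hom h1)
      · rw [← Functor.map_comp, ← Functor.map_comp, Category.assoc, Category.assoc, hu₁, hΔ₁, Category.comp_id]
    rintro _ ⟨p, rfl⟩
    have h3 := (hcomp ψ).symm.trans (congrArg (fun q => q.left) h2)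
    have h4 : StMod.bmap (StMod.fibCat π η) ψ ≫ e₀ ≫ u.left =
        eqToHom (congrArg Comma.left (π.w_obj y''.left)).symm ≫ (((π.map ψ.left).hom ≫ c₁.hom) ≫ Δ).left := by
      rw [← h3, eqToHom_trans_assoc, eqToHom_refl, Category.id_comp]
    rw [h4, Over.comp_left, ← Category.assoc, Scheme.Hom.comp_apply]
    exact ⟨_, rfl⟩
  by_cases hp : (e₀ ≫ u.left).base t ∈ Set.range Δ.left.base
  · obtain ⟨y', φ, -, hφ, hle⟩ := exists_affine_hit g𝒴 (𝟙 y) (hits_id y t)
      (U := (e₀ ≫ u.left) ⁻¹ᵁ ⟨_, hopen⟩) hp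
    refine ⟨y', φ ≫ 𝟙 y, hφ, Or.inl (hin _ ?_)⟩
    rintro _ ⟨p, rfl⟩
    rw [Scheme.Hom.comp_apply]
    exact hle (trivial : p ∈ (⊤ : (StMod.sch (StMod.fibCat π η) y').Opens))
  · obtain ⟨y', φ, -, hφ, hle⟩ := exists_affine_hit g𝒴 (𝟙 y) (hits_id y t)
      (U := (e₀ ≫ u.left) ⁻¹ᵁ ⟨_, hclosed.isOpen_compl⟩) hp
    refine ⟨y', φ ≫ 𝟙 y, hφ, Or.inr fun y'' ψ c hc => ⟨fun p => ?_⟩⟩
    have h5 := hout (ψ ≫ φ ≫ 𝟙 y) c (by rw [hc, ← Category.assoc, ← Functor.map_comp]) ⟨p, rfl⟩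
    rw [StMod.bmap_comp, Category.assoc, Scheme.Hom.comp_apply, Scheme.Hom.comp_apply] at h5
    exact hle (trivial : (StMod.bmap (StMod.fibCat π η) ψ).base p ∈ (⊤ : (StMod.sch (StMod.fibCat π η) y').Opens)) h5

end Groth.Agent.RelGen
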