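import Mathlib
import Groth.Agent.RelGen.CohPush
import Groth.Agent.RelGen.EtaleChart
import Groth.Agent.AlgSpLib.SepAffine

/-!
# Cohomologically affine morphisms to algebraic spaces: base change
-/

universe u

open CategoryTheory CategoryTheory.Limits AlgebraicGeometry TopologicalSpace Opposite

set_option autoImplicit false
set_option backward.isDefEq.respectTransparency false
set_option backward.isDefEq.respectTransparency.types false
set_option linter.style.haveILetI false

noncomputable section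

namespace Groth.Agent.RelGen

open Groth.Agent.QC Groth.Agent.QDescent
open _root_.AlgSp _root_.AlgSt

variable {S : Scheme.{u}}

local notation "AS" => IsAlgStack Scheme.fppfPrecoverage

variable {𝒳 : AlgSt.Cat S}

/-- Cohomological affineness gives exactness of global sections over affine charts. -/
theorem gExact_fib_of_isCohAffine {M : AlgSp.Space S} (h𝒳 : AS 𝒳) (π : 𝒳 ⥤ᵇ AlgSt.ofSp M.obj)
    (h : StMod.IsCohAffine π) (E : AlgSp.EtOver M.obj) (hE : IsAffine E.obj.left.left)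
    (hη : GoodChartObj (StMod.etaOf E)) : GExact (StMod.fibCat π (StMod.etaOf E)) := by
  have hM := AlgStLib.isAlgStack_ofSp M
  have g𝒴 := isFibGrpd_fibCat h𝒳.isStack.1 π (StMod.etaOf E)
  refine gExact_of_splitData (isAlgStack_fibCat h𝒳 hM π _) h𝒳 (splitData_fibFst h𝒳 π hη) fun A B w hw τ => ?_
  let j := StMod.fibFst π (StMod.etaOf E)
  let t : StMod.Mod.RelSect π B.obj (StMod.etaOf E) :=
    ⟨fun ξ α => (pullTop j B (CostructuredArrow.mk α)).symm ((τ.hom.app (CostructuredArrow.mk α)).app ⊤ (oneSec _ _)),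
      fun ξ' ξ c α => by
        let k : (CostructuredArrow.mk (π.map c ≫ α) : (StMod.fibCat π (StMod.etaOf E)).obj) ⟶ CostructuredArrow.mk α :=
          CostructuredArrow.homMk c rfl
        refine (trT_eq_map B.obj c _).symm.trans ?_
        refine (pullTop_symm_trT j B k _).symm.trans (congrArg _ ?_)
        exact trT_app_oneSec τ k⟩
  obtain ⟨s, hs⟩ := h w hw E hE t
  obtain ⟨τ', hτ'⟩ := exists_sect (M := (StMod.comapQ j).obj A) g𝒴
    (fun x _ => pullTop j A x (s.1 x.left x.hom)) (fun {x' x} c _ _ => by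
      rw [pullTop_trT]
      refine congrArg (pullTop j A x') ?_
      refine (trT_eq_map A.obj _ _).trans ((s.2 c.left x.hom).trans (congrArg (s.1 x'.left) ?_))
      exact CostructuredArrow.w c)
  refine ⟨τ', sect_ext g𝒴 fun x hx => ?_⟩
  show (((StMod.comapQ j).map w).hom.app x).app ⊤ ((τ'.hom.app x).app ⊤ (oneSec _ x)) = _
  rw [hτ' x hx]
  refine (pullTop_app j w x _).symm.trans ?_
  have h1 := congrArg (fun k : StMod.Mod.RelSect π B.obj (StMod.etaOf E) => pullTop j B x (k.1 x.left x.hom)) hs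
  refine h1.trans ?_
  exact (pullTop j B x).apply_symm_apply _

/-- Affine etale charts of the target below affine etale charts of the new target. -/
theorem exists_chart_below {M' M : AlgSp.Space S} (g : M'.obj ⟶ M.obj) (E' : AlgSp.EtOver M'.obj)
    (t : E'.obj.left.left) :
    ∃ (E : AlgSp.EtOver M.obj) (O : AlgSp.EtOver M'.obj) (f : O.obj.left ⟶ E'.obj.left) (k : O.obj.left ⟶ E.obj.left),
      IsAffine E.obj.left.left ∧ IsAffine O.obj.left.left ∧ Flat f.left ∧ t ∈ Set.range f.left.base ∧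
      O.obj.hom = (yon S).map f ≫ E'.obj.hom ∧ O.obj.hom ≫ g = (yon S).map k ≫ E.obj.hom := by
  obtain ⟨W, q, hq₁, hq₂⟩ := M.property.atlas
  obtain ⟨P, fst, pr, sq, het⟩ := AlgSpLib.exists_repWith hq₁ (E'.obj.hom ≫ g)
  obtain ⟨a₁, rfl⟩ := AlgSpLib.exists_map_eq fst
  haveI : Surjective pr.left := hq₂.2 _ _ pr sq
  haveI : Etale pr.left := het
  obtain ⟨p, hp⟩ := pr.left.surjective t
  obtain ⟨V, hV, hpV, -⟩ := exists_isAffineOpen_mem_and_subset (X := W.left) (x := a₁.left.base p) (U := ⊤) trivial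
  obtain ⟨U, hU, hpU, hUV⟩ := exists_isAffineOpen_mem_and_subset (X := P.left) (x := p) (U := a₁.left ⁻¹ᵁ V) hpV
  let V₀ : Over S := Over.mk (V.ι ≫ W.hom)
  let U₀ : Over S := Over.mk (U.ι ≫ P.hom)
  let jV : V₀ ⟶ W := Over.homMk V.ι rfl
  let jU : U₀ ⟶ P := Over.homMk U.ι rfl
  have hV₀ : RepWith @Etale ((yon S).map jV ≫ q) :=
    AlgSpLib.repWith_comp ((AlgSpLib.repWith_yon_iff (P := @Etale) _).2 (inferInstanceAs (Etale V.ι))) hq₁
  haveI : Etale U.ι := inferInstance
  have hU₀ : RepWith @Etale ((yon S).map (jU ≫ pr) ≫ E'.obj.hom) :=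
    AlgSpLib.repWith_comp ((AlgSpLib.repWith_yon_iff (P := @Etale) _).2 (by
      rw [Over.comp_left]
      exact MorphismProperty.comp_mem _ U.ι pr.left inferInstance inferInstance)) E'.property
  have hrange : Set.range (U.ι ≫ a₁.left).base ⊆ Set.range V.ι.base := by
    rintro _ ⟨r, rfl⟩
    rw [Scheme.Opens.range_ι, Scheme.Hom.comp_apply]
    exact hUV r.2
  let k : U₀ ⟶ V₀ := Over.homMk (IsOpenImmersion.lift V.ι (U.ι ≫ a₁.left) hrange) (by
    show IsOpenImmersion.lift V.ι _ hrange ≫ V.ι ≫ W.hom = U.ι ≫ P.hom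
    rw [IsOpenImmersion.lift_fac_assoc, Category.assoc, Over.w a₁])
  have hk : k ≫ jV = jU ≫ a₁ := Over.OverMorphism.ext (IsOpenImmersion.lift_fac _ _ hrange)
  refine ⟨AlgSp.EtOver.mk _ hV₀, AlgSp.EtOver.mk _ hU₀, jU ≫ pr, k, hV, hU, ?_, ⟨⟨p, hpU⟩, ?_⟩, rfl, ?_⟩
  · show Flat (U.ι ≫ pr.left)
    infer_instance
  · show (U.ι ≫ pr.left).base _ = t
    rw [Scheme.Hom.comp_apply]
    exact hp
  · show ((yon S).map (jU ≫ pr) ≫ E'.obj.hom) ≫ g = (yon S).map k ≫ (yon S).map jV ≫ q
    rw [← Category.assoc ((yon S).map k), ← (yon S).map_comp, hk, (yon S).map_comp, (yon S).map_comp, Category.assoc,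
      Category.assoc, Category.assoc, sq.w]

theorem toYon_ofSpMap {M' M : AlgSp.Sp S} (g : M' ⟶ M) (o : (AlgSt.ofSp M').obj) :
    toYon ((AlgSt.ofSpMap g).obj o) = toYon o ≫ g := by
  refine (AlgSp.J S).uliftYonedaEquiv.injective ?_
  refine (Equiv.apply_symm_apply _ ((AlgSt.ofSpMap g).obj o).sec).trans ?_
  show g.hom.app (op o.base) o.sec = (AlgSp.J S).uliftYonedaEquiv (toYon o ≫ g)
  rw [GrothendieckTopology.uliftYonedaEquiv_comp]
  exact (congrArg (g.hom.app (op o.base))
    (show (AlgSp.J S).uliftYonedaEquiv (toYon o) = o.sec from Equiv.apply_symm_apply _ o.sec)).symm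

/-- Cohomological affineness is stable under base change. -/
theorem isCohAffine_fpFst {M' M : AlgSp.Space S} (h𝒳 : AS 𝒳) (g : M'.obj ⟶ M.obj) (π : 𝒳 ⥤ᵇ AlgSt.ofSp M.obj)
    (hqc : AlgSt.IsQuasiCompactMor Scheme.fppfPrecoverage π) (hqs : AlgSt.IsQuasiSeparatedMor π)
    (hgood : ∀ E : AlgSp.EtOver M.obj, IsAffine E.obj.left.left → GoodChartObj (StMod.etaOf E))
    (h : StMod.IsCohAffine π) : StMod.IsCohAffine (FibCat.fpFst (AlgSt.ofSpMap g) π) := by
  have hM := AlgStLib.isAlgStack_ofSp M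
  have hM' := AlgStLib.isAlgStack_ofSp M'
  have hfp : AS (FibCat.fp (AlgSt.ofSpMap g) π) := AlgStLib.algFp hM hM' h𝒳 (AlgSt.ofSpMap g) π
  intro F G u hu E' hE'
  show SurjAt (FibCat.fpFst (AlgSt.ofSpMap g) π) (StMod.etaOf E') u
  haveI : IsAffine (StMod.sch (AlgSt.ofSp M'.obj) (StMod.etaOf E')) := hE'
  refine surjAt_of_hits ?_ u fun t => ?_
  · exact fibData_fpFst h𝒳 hqc hqs
  obtain ⟨E, O, f, k, hE, hO, hf, ht, hOf, hOk⟩ := exists_chart_below g E' t
  let c : StMod.etaOf O ⟶ StMod.etaOf E' := eltHom f (by rw [toYon_etaOf, toYon_etaOf, hOf])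
  refine ⟨StMod.etaOf O, c, hO, hf, ht, ?_⟩
  let ψ : (AlgSt.ofSpMap g).obj (StMod.etaOf O) ⟶ StMod.etaOf E :=
    eltHom k (by rw [toYon_etaOf, toYon_ofSpMap, toYon_etaOf, hOk])
  haveI : IsAffineHom (StMod.bmap (AlgSt.ofSp M.obj) ψ) := by
    haveI : IsAffine O.obj.left.left := hO
    haveI : IsAffine E.obj.left.left := hE
    exact inferInstanceAs (IsAffineHom k.left)
  exact surjAt_fpFst_of_gExact hM.isStack.1 hM'.isStack.1 h𝒳.isStack.1
    ((gExact_fib_of_isCohAffine h𝒳 π h E hE (hgood E hE)).baseChange ψ h𝒳.isStack.1 hM.isStack.1) u hu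
where
  fibData_fpFst {M' M : AlgSp.Space S} {g : M'.obj ⟶ M.obj} {π : 𝒳 ⥤ᵇ AlgSt.ofSp M.obj} (h𝒳 : AS 𝒳)
      (hqc : AlgSt.IsQuasiCompactMor Scheme.fppfPrecoverage π) (hqs : AlgSt.IsQuasiSeparatedMor π) :
      FibData (FibCat.fpFst (AlgSt.ofSpMap g) π) := by
    have hM := AlgStLib.isAlgStack_ofSp M
    have hM' := AlgStLib.isAlgStack_ofSp M'
    exact fibData_of_qcqs (AlgStLib.algFp hM hM' h𝒳 (AlgSt.ofSpMap g) π) hM' _
      (AlgStLib.isQuasiCompactMor_fpFst h𝒳 hM hM' (AlgSt.ofSpMap g) hqc)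
      (AlgStLib.repWith_diag_fpFst π (AlgSt.ofSpMap g) hqs)

theorem goodChartObj_of {M : AlgSp.Sp S} (E : AlgSp.EtOver M) (hqc : RepWith @QuasiCompact E.obj.hom)
    (hsep : RepWith @IsSeparated E.obj.hom) : GoodChartObj (StMod.etaOf E) :=
  ⟨by rw [toYon_etaOf]; exact E.property, by rw [toYon_etaOf]; exact hqc, by rw [toYon_etaOf]; exact hsep⟩

/-- Affine etale charts of a quasi-separated space are quasi-compact and separated. -/
theorem goodChartObj_of_qsSp [QuasiSeparatedSpace ↥S] {M : AlgSp.Space S} (hM : AlgSp.IsQuasiSeparatedSp M.obj)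
    (E : AlgSp.EtOver M.obj) (hE : IsAffine E.obj.left.left) : GoodChartObj (StMod.etaOf E) := by
  haveI := hE
  refine goodChartObj_of E ?_ ?_
  · exact ⟨E.property.1, fun {T P} a fst snd sq => quasiCompact_of_qsSp hM a fst snd sq⟩
  · exact ⟨E.property.1, fun {T P} a fst snd sq => isSeparated_of_affine a fst snd sq⟩
where
  quasiCompact_of_qsSp {M : AlgSp.Space S} (hM : AlgSp.IsQuasiSeparatedSp M.obj)
      {E T P : Over S} [IsAffine E.left] {e : (yon S).obj E ⟶ M.obj} (a : (yon S).obj T ⟶ M.obj)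
      (fst : (yon S).obj P ⟶ (yon S).obj E) (snd : P ⟶ T) (sq : IsPullback fst ((yon S).map snd) e a) :
      QuasiCompact snd.left := by
    obtain ⟨f₀, rfl⟩ := AlgSpLib.exists_map_eq fst
    refine quasiCompact_iff_forall_isAffineOpen.2 fun U hU => ?_
    let U₀ : Over S := Over.mk (U.ι ≫ T.hom)
    let V₀ : Over S := Over.mk ((snd.left ⁻¹ᵁ U).ι ≫ P.hom)
    let jU : U₀ ⟶ T := Over.homMk U.ι rfl
    let jV : V₀ ⟶ P := Over.homMk (snd.left ⁻¹ᵁ U).ι rfl
    let r : V₀ ⟶ U₀ := Over.homMk (snd.left ∣_ U) (by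
      show snd.left ∣_ U ≫ U.ι ≫ T.hom = _
      rw [morphismRestrict_ι_assoc, Over.w snd]
      rfl)
    have sq₀ : IsPullback jV r snd jU := by
      refine IsPullback.of_map (Over.forget S) (Over.OverMorphism.ext ?_) ?_
      · exact (morphismRestrict_ι _ _).symm
      · exact (isPullback_morphismRestrict snd.left U).flip
    have sq₁ := (sq₀.map (yon S)).paste_horiz sq
    rw [← Functor.map_comp] at sq₁
    haveI : CompactSpace ↥U₀.left := isCompact_iff_compactSpace.1 hU.isCompact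
    haveI : CompactSpace ↥V₀.left := AlgSpLib.compact_pullback_of_isQuasiSeparatedSp hM sq₁
    exact isCompact_iff_compactSpace.2 ‹_›
  isSeparated_of_affine {M : AlgSp.Sp S} {E T P : Over S} [IsAffine E.left] {e : (yon S).obj E ⟶ M}
      (a : (yon S).obj T ⟶ M) (fst : (yon S).obj P ⟶ (yon S).obj E) (snd : P ⟶ T)
      (sq : IsPullback fst ((yon S).map snd) e a) : IsSeparated snd.left := by
    obtain ⟨f₀, rfl⟩ := AlgSpLib.exists_map_eq fst
    let m : P.left ⟶ pullback E.hom T.hom :=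
      pullback.lift f₀.left snd.left ((Over.w f₀).trans (Over.w snd).symm)
    haveI : Mono m := ⟨fun {W} x y hxy => by
      have h₁ := congrArg (· ≫ pullback.fst E.hom T.hom) hxy
      have h₂ := congrArg (· ≫ pullback.snd E.hom T.hom) hxy
      simp only [m, Category.assoc, pullback.lift_fst, pullback.lift_snd] at h₁ h₂
      have hP : x ≫ P.hom = y ≫ P.hom := by
        rw [← Over.w f₀, ← Category.assoc, ← Category.assoc, h₁]
      let x' : Over.mk (x ≫ P.hom) ⟶ P := Over.homMk x rfl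
      let y' : Over.mk (x ≫ P.hom) ⟶ P := Over.homMk y hP.symm
      have e : x' = y' := (yon S).map_injective (sq.hom_ext
        (by rw [← Functor.map_comp, ← Functor.map_comp]; exact congrArg _ (Over.OverMorphism.ext h₁))
        (by rw [← Functor.map_comp, ← Functor.map_comp]; exact congrArg _ (Over.OverMorphism.ext h₂)))
      exact congrArg (fun q => q.left) e⟩
    rw [show snd.left = m ≫ pullback.snd E.hom T.hom from (pullback.lift_snd _ _ _).symm]
    infer_instance

/-- Affine etale charts of a quasi-separated scheme are quasi-compact and separated. -/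
theorem goodChartObj_of_qsScheme {M : Over S} [QuasiSeparatedSpace ↥M.left] (E : AlgSp.EtOver ((yon S).obj M))
    (hE : IsAffine E.obj.left.left) : GoodChartObj (StMod.etaOf E) := by
  haveI := hE
  obtain ⟨a, ha⟩ := AlgSpLib.exists_map_eq E.obj.hom
  refine goodChartObj_of E ?_ ?_ <;> rw [← ha, AlgSpLib.repWith_yon_iff]
  · exact quasiCompact_of_compactSpace a.left
  · infer_instance

end Groth.Agent.RelGen
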