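import Mathlib
import Groth.Agent.RelGen.CohAff
import Groth.Agent.RelGen.CohBase
import Groth.Agent.RelGen.CompTools
import Groth.Agent.RelGen.Transfer

/-!
# Exactness of global sections passes along affine morphisms
-/

universe u

open CategoryTheory CategoryTheory.Limits AlgebraicGeometry TopologicalSpace Opposite

set_option autoImplicit false
set_option backward.isDefEq.respectTransparency false
set_option backward.isDefEq.respectTransparency.types false
set_option linter.style.haveILetI false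

noncomputable section

namespace Groth.Agent.RelGen

open Groth.Agent.QC Groth.Agent.QDescent AffMod

variable {S : Scheme.{u}}

local notation "AS" => AlgSt.IsAlgStack Scheme.fppfPrecoverage

section OverCat

variable (W : Over S)

theorem isQC_overCat_affine [IsAffine W.left] : IsQC (FibCat.overCat W) :=
  ⟨PUnit.{u + 1}, inferInstance, fun _ => topObj W, fun _ => inferInstanceAs (IsAffine W.left),
    fun x t => ⟨x, 𝟙 x, hits_id x t, PUnit.unit, ⟨toTop x⟩⟩⟩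

theorem isQS_overCat_affine [IsAffine W.left] : IsQS (FibCat.overCat W) := by
  intro A B hA hB
  let a : Over W := A
  let b : Over W := B
  let R : Over W := Over.mk (Over.homMk (U := Over.mk (pullback.fst a.hom.left b.hom.left ≫ a.left.hom))
    (V := W) (pullback.fst a.hom.left b.hom.left ≫ a.hom.left) (by
      show (_ ≫ a.hom.left) ≫ W.hom = _ ≫ a.left.hom
      rw [Category.assoc, Over.w a.hom]))
  let pA : R ⟶ a := Over.homMk (Over.homMk (pullback.fst a.hom.left b.hom.left) rfl) (Over.OverMorphism.ext rfl)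
  let pB : R ⟶ b := Over.homMk (Over.homMk (pullback.snd a.hom.left b.hom.left) (by
      show pullback.snd _ _ ≫ b.left.hom = pullback.fst _ _ ≫ a.left.hom
      rw [← Over.w a.hom, ← Over.w b.hom]
      exact (pullback.condition_assoc _).symm)) (Over.OverMorphism.ext pullback.condition.symm)
  refine ⟨PUnit.{u + 1}, inferInstance, fun _ => R, fun _ => pA, fun _ => pB, fun _ => ?_, fun w c d t => ?_⟩
  · haveI : IsAffine a.left.left := hA
    haveI : IsAffine b.left.left := hB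
    exact inferInstanceAs (IsAffine (pullback a.hom.left b.hom.left))
  · let w' : Over W := w
    let c' : w' ⟶ a := c
    let d' : w' ⟶ b := d
    have hc : c'.left ≫ a.hom = w'.hom := Over.w c'
    have hd : d'.left ≫ b.hom = w'.hom := Over.w d'
    let l : w'.left.left ⟶ pullback a.hom.left b.hom.left :=
      pullback.lift c'.left.left d'.left.left (congrArg (fun q => q.left) (hc.trans hd.symm))
    let v : w' ⟶ R := Over.homMk (Over.homMk l (by
      show l ≫ pullback.fst _ _ ≫ a.left.hom = w'.left.hom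
      rw [pullback.lift_fst_assoc]
      exact Over.w c'.left)) (Over.OverMorphism.ext (by
      show l ≫ pullback.fst _ _ ≫ a.hom.left = w'.hom.left
      rw [pullback.lift_fst_assoc]
      exact congrArg (fun q => q.left) hc))
    refine ⟨w, 𝟙 w, PUnit.unit, v, hits_id w t, ?_, ?_⟩
    · rw [Category.id_comp]
      exact Over.OverMorphism.ext (Over.OverMorphism.ext (pullback.lift_fst _ _ _))
    · rw [Category.id_comp]
      exact Over.OverMorphism.ext (Over.OverMorphism.ext (pullback.lift_snd _ _ _))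

end OverCat

section Transfer

variable {𝒳 Q : AlgSt.Cat S} {π : 𝒳 ⥤ᵇ Q}

theorem fibData_of_affineFib (h𝒳 : FibCat.IsFibGrpd 𝒳.p) (hQ : FibCat.IsFibGrpd Q.p)
    (h : ∀ η : Q.obj, IsAffine (StMod.sch Q η) →
      ∃ (W : Over S) (_ : IsAffine W.left) (T : FibCat.overCat W ⥤ᵇ StMod.fibCat π η), IsEqv T) : FibData π :=
  ⟨h𝒳, hQ, fun η hη => by
    obtain ⟨W, hW, T, hT⟩ := h η hη
    exact hT.isQC_tgt (isQC_overCat_affine W), fun η hη => by
    obtain ⟨W, hW, T, hT⟩ := h η hη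
    exact hT.isQS_tgt (isQS_overCat_affine W)⟩

/-- Exactness of global sections passes to the source of a functor with surjective post-compositions. -/
theorem gExact_of_surjAt (h𝒳 : AS 𝒳) (hQ : AS Q) (hπ : FibData π)
    (hsurj : ∀ η : Q.obj, IsAffine (StMod.sch Q η) → ∀ ⦃F G : StMod.QCoh 𝒳⦄ (u : F ⟶ G),
      StMod.Mod.IsSurj u.hom → SurjAt π η u)
    (h : GExact Q) : GExact 𝒳 := by
  intro F G u hu φ
  have hfp : (StMod.OQ 𝒳).obj.IsFinPres := fun ξ => SchDense.isFP_unit _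
  obtain ⟨RF⟩ := exists_realization (homMod (StMod.OQ 𝒳) F hπ) hQ (isBC_homMod _ F hπ hfp)
  obtain ⟨RG⟩ := exists_realization (homMod (StMod.OQ 𝒳) G hπ) hQ (isBC_homMod _ G hπ hfp)
  obtain ⟨w, hw⟩ := exists_map hπ RF hQ hfp u RG
  have hinj : ∀ (a : AObj Q) (ha : IsOk a.obj), Function.Bijective (val hπ RG (topOk a ha) a.aff) := fun a ha =>
    (homEquivOb (StMod.OQ 𝒳) G hπ (cob (topOk a ha) a.aff)).symm.bijective.comp (RG.ρ_topOk_bijective a ha)
  have hbij : ∀ (a : AObj Q) (ha : IsOk a.obj), Function.Bijective (val hπ RF (topOk a ha) a.aff) := fun a ha =>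
    (homEquivOb (StMod.OQ 𝒳) F hπ (cob (topOk a ha) a.aff)).symm.bijective.comp (RF.ρ_topOk_bijective a ha)
  have hwsurj : StMod.Mod.IsSurj w.hom := isSurj_of_ok hQ w fun a ha hok r => by
    obtain ⟨e, he⟩ := (surjAt_iff a hπ u).1 (hsurj a ha u hu) (val hπ RG (topOk ⟨a, ha⟩ hok) ha r)
    obtain ⟨s, rfl⟩ := (hbij ⟨a, ha⟩ hok).2 e
    exact ⟨s, (hinj ⟨a, ha⟩ hok).1 ((hw ⟨a, ha⟩ hok s).trans he)⟩
  choose T hT using fun (a : Q.obj) (ha : IsAffine (StMod.sch Q a)) (hok : IsOk a) =>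
    (hinj ⟨a, ha⟩ hok).2 ((StMod.comapQ (StMod.fibFst π a)).map φ)
  obtain ⟨Φ, hΦ⟩ := exists_sect_of_ok (M := RG.G) hQ T (fun {a' a} c ha' hok' ha hok => by
    refine (hinj ⟨a', ha'⟩ hok').1 ?_
    rw [val_trT hπ RG (o' := topOk ⟨a', ha'⟩ hok') (o := topOk ⟨a, ha⟩ hok) c ha' ha, hT, hT]
    exact fib_hom_ext _ _ fun x U s => rfl)
  obtain ⟨Φ', hΦ'⟩ := h w hwsurj Φ
  let f : ∀ (x : 𝒳.obj), IsAffine (StMod.sch 𝒳 x) → OkDec (π.obj x) → Γ(F.obj.obj x, ⊤) := fun x hx d =>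
    evAt hπ RF x (isAffine_map π hx) d ((Φ'.hom.app (π.obj x)).app ⊤ (oneSec Q (π.obj x))) (oneSec 𝒳 x)
  have hf : ∀ {x' x : 𝒳.obj} (c : x' ⟶ x) hx hx' (d : OkDec (π.obj x)) (d' : OkDec (π.obj x')),
      trT F.obj c (f x hx d) = f x' hx' d' := by
    intro x' x c hx hx' d d'
    refine (evAt_trT hπ RF c (isAffine_map π hx) (isAffine_map π hx') d d' _ _).trans ?_
    rw [trT_app_oneSec Φ' (π.map c), trT_oneSec c]
  have hdata : LocData (M := StMod.OQ 𝒳) (N := F) (fun x => OkDec (π.obj x))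
      fun x hx d => AddMonoidHom.mk' (fun r => (show Γ(StMod.sch 𝒳 x, ⊤) from r) • f x hx d)
        (fun _ _ => add_smul _ _ _) :=
    { grpd := h𝒳.isStack.1
      pull := fun c d => ⟨⟨d.1, ⟨π.map c ≫ d.2.down⟩⟩⟩
      cov := fun x t => cov_okDec hπ hQ x t
      smul := fun x _ _ r s => mul_smul r (show Γ(StMod.sch 𝒳 x, ⊤) from s) _
      compat := fun {x' x} c hx hx' d d' s => by
        show trT F.obj c ((show Γ(StMod.sch 𝒳 x, ⊤) from s) • f x hx d) = _
        rw [trT_smul, hf c hx hx' d d']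
        exact congrArg (· • f x' hx' d') (trT_eq_map (StMod.OQ 𝒳).obj c s).symm }
  obtain ⟨φ', hφ'⟩ := hdata.exists_hom
  refine ⟨φ', sub_eq_zero.1 (eq_zero_of_cover h𝒳.isStack.1 _ fun x t => ?_)⟩
  obtain ⟨x', c, hc, ⟨d⟩⟩ := cov_okDec hπ hQ x t
  refine ⟨x', c, hc, fun x'' g hx'' r => ?_⟩
  let d' : OkDec (π.obj x'') := ⟨d.1, ⟨π.map g ≫ d.2.down⟩⟩
  refine ((AddMonoidHom.mk' (fun k : StMod.OQ 𝒳 ⟶ G => (k.hom.app x'').app ⊤ r) fun _ _ => rfl).map_sub
    (φ' ≫ u) φ).trans (sub_eq_zero.2 ?_)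
  refine (app_eq_smul_oneSec (φ' ≫ u) x'' r).trans (Eq.trans ?_ (app_eq_smul_oneSec φ x'' r).symm)
  congr 1
  show (u.hom.app x'').app ⊤ ((φ'.hom.app x'').app ⊤ (oneSec 𝒳 x'')) = _
  rw [show (φ'.hom.app x'').app ⊤ (oneSec 𝒳 x'') = f x'' hx'' d' from (hφ' x'' hx'' d' _).trans (one_smul _ _)]
  let a : AObj Q := d.1.1
  let v : (StMod.fibCat π a.obj).obj := CostructuredArrow.mk (show π.obj x'' ⟶ a.obj from d'.2.down)
  have h1 : f x'' hx'' d' =
      ((val hπ RF (topOk a d.1.2) a.aff ((Φ'.hom.app a.obj).app ⊤ (oneSec Q a.obj))).hom.app v).app ⊤ (oneSec 𝒳 x'') := by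
    rw [evAt_pair hπ RF a d.1.2 v (isAffine_map π hx'')]
    show evAt hπ RF x'' _ d' _ _ = evAt hπ RF x'' _ d' (trT RF.G.obj d'.2.down _) _
    rw [trT_app_oneSec Φ' d'.2.down]
  rw [h1]
  refine (post_app (StMod.OQ 𝒳) F u a.obj _ v ⊤ _).symm.trans ?_
  rw [← hw a d.1.2]
  rw [show (w.hom.app a.obj).app ⊤ ((Φ'.hom.app a.obj).app ⊤ (oneSec Q a.obj)) = T a.obj a.aff d.1.2 from
    (congrArg (fun k : StMod.OQ Q ⟶ RG.G => (k.hom.app a.obj).app ⊤ (oneSec Q a.obj)) hΦ').trans (hΦ _ _ _), hT]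
  rfl

/-- Exactness of global sections passes along functors with affine fibres. -/
theorem gExact_of_affineFib (h𝒳 : AS 𝒳) (hQ : AS Q)
    (hfib : ∀ η : Q.obj, IsAffine (StMod.sch Q η) →
      ∃ (W : Over S) (_ : IsAffine W.left) (T : FibCat.overCat W ⥤ᵇ StMod.fibCat π η), IsEqv T)
    (h : GExact Q) : GExact 𝒳 :=
  gExact_of_surjAt h𝒳 hQ (fibData_of_affineFib h𝒳.isStack.1 hQ.isStack.1 hfib) (fun η hη F G u hu => by
    obtain ⟨W, hW, T, hT⟩ := hfib η hη
    exact surjAt_of_isEqv_overCat π η T hT u hu) h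

/-- Exactness of global sections over an object gives surjectivity on sections over it. -/
theorem surjAt_of_gExact (hπ : FibData π) {η : Q.obj} (h : GExact (StMod.fibCat π η)) {F G : StMod.QCoh 𝒳}
    (u : F ⟶ G) (hu : StMod.Mod.IsSurj u.hom) : SurjAt π η u := by
  rw [surjAt_iff _ hπ]
  intro ψ
  let i := comapOQ (StMod.fibFst π η)
  obtain ⟨φ', hφ'⟩ := h ((StMod.comapQ (StMod.fibFst π η)).map u) (isSurj_comap _ u hu) (i.inv ≫ ψ)
  refine ⟨i.hom ≫ φ', ?_⟩
  show (i.hom ≫ φ') ≫ _ = ψ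
  rw [Category.assoc, hφ', Iso.hom_inv_id_assoc]

end Transfer

section Comp

variable {𝒳' 𝒳 𝒴 : AlgSt.Cat S} (Γ₀ : 𝒳' ⥤ᵇ 𝒳) (π : 𝒳 ⥤ᵇ 𝒴)

/-- Surjectivity on sections along the composite of an affine morphism and an exact one. -/
theorem surjAt_comp (h𝒳' : AS 𝒳') (h𝒳 : AS 𝒳) (h𝒴 : AS 𝒴) (hΓ : AlgSt.RepByAlgSpWith AlgSp.IsAffineMor Γ₀)
    (hc : FibData (BasedFunctor.comp Γ₀ π)) {η : 𝒴.obj} (h : GExact (StMod.fibCat π η)) {F G : StMod.QCoh 𝒳'}
    (u : F ⟶ G) (hu : StMod.Mod.IsSurj u.hom) : SurjAt (BasedFunctor.comp Γ₀ π) η u := by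
  refine surjAt_of_gExact hc (gExact_of_affineFib (π := fibComp Γ₀ π η) (isAlgStack_fibCat h𝒳' h𝒴 _ η)
    (isAlgStack_fibCat h𝒳 h𝒴 π η) (fun o ho => ?_) h) u hu
  obtain ⟨W, hW, T, hT⟩ := exists_fib_overCat_affine h𝒳' h𝒳 Γ₀ hΓ o.left ho
  have h2 := FibCat2Misc.isEquivOver_comp hT.isEquivOver (isEqv_toFibComp (f := Γ₀) (g := π) h𝒳'.isStack.1 η o).isEquivOver
  obtain ⟨h6, h7⟩ := FibCatRep.isEquivOver_data h2
  exact ⟨W, hW, _, ⟨inferInstance, inferInstance, h7, FibCatRep.isFibGrpd_overCat W,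
    isFibGrpd_fibCat (isFibGrpd_fibCat h𝒳'.isStack.1 _ _) _ _⟩⟩

end Comp

end Groth.Agent.RelGen
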