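import Mathlib
import Groth.Agent.RelGen.AffComp
import Groth.Agent.AlgStLib.DiagFibres
import Groth.Agent.AlgStLib.Morphisms
import Groth.Agent.AlgStLib.QC2

/-!
# Cancellation for cohomologically affine morphisms
-/

universe u

open CategoryTheory CategoryTheory.Limits AlgebraicGeometry TopologicalSpace Opposite

set_option autoImplicit false
set_option backward.isDefEq.respectTransparency false
set_option backward.isDefEq.respectTransparency.types false
set_option linter.style.haveILetI false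

noncomputable section

namespace Groth.Agent.RelGen

open Groth.Agent.QC Groth.Agent.QDescent
open _root_.AlgSp

variable {S : Scheme.{u}}

local notation "AS" => AlgSt.IsAlgStack Scheme.fppfPrecoverage

theorem repWith_affine_diag_ofSpMap {M N : AlgSp.Space S} (g : M.obj ⟶ N.obj)
    (hg : AlgSp.IsAffineMor (pullback.diagonal g)) :
    AlgSt.RepByAlgSpWith AlgSp.IsAffineMor (FibCat.diag (AlgSt.ofSpMap g)) := by
  have hI : (AlgSp.IsAffineMor (S := S)) = RepWith (@IsAffineHom) :=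
    funext fun F => funext fun G => funext fun f => propext (AlgSpLib.isAffineMor_iff_repWith f)
  rw [hI] at hg ⊢
  refine (AlgStLib.repWith_diag_ofPshMap_iff ((IsPullback.of_hasPullback g g).map (sheafToPresheaf (J S) (Type (u + 1))))
    (Δ := (pullback.diagonal g).hom) (congrArg (fun k => k.hom) (pullback.diagonal_fst g))
    (congrArg (fun k => k.hom) (pullback.diagonal_snd g))).2 ?_
  exact AlgStLib.repBySpWith_repWith M.property
    (AlgSpLib.isAlgSpace_of_isPullback_space N.property M.property M.property (IsPullback.of_hasPullback g g)) _ hg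

theorem repWith_qc_of_affine {𝒳 𝒴 : AlgSt.Cat S} {π : 𝒳 ⥤ᵇ 𝒴} (hπ : AlgSt.RepByAlgSpWith AlgSp.IsAffineMor π) :
    AlgSt.RepByAlgSpWith AlgSp.IsQuasiCompactMor π :=
  AlgStLib.repWith_mono hπ fun _ U _ hX ha => by
    have hr := (AlgSpLib.isAffineMor_iff_repWith _).1 ha
    exact (AlgSpLib.isQuasiCompactMor_iff_repWith hX (IsAlgSpace.yon_obj U) hr.1).2
      (AlgSpLib.repWith_mono (fun _ _ r h => by
        haveI : IsAffineHom r := h
        infer_instance) hr)

theorem isCohAffine_of_comp {𝒳 : AlgSt.Cat S} (h𝒳 : AS 𝒳) {M N : AlgSp.Space S} [QuasiSeparatedSpace ↥S]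
    (hM : AlgSp.IsQuasiSeparatedSp M.obj) (hN : AlgSp.IsQuasiSeparatedSp N.obj)
    (f : 𝒳 ⥤ᵇ AlgSt.ofSp M.obj) (hfqs : AlgSt.IsQuasiSeparatedMor f) (g : M.obj ⟶ N.obj)
    (hg : AlgSp.IsAffineMor (pullback.diagonal g))
    (hqc : AlgSt.IsQuasiCompactMor Scheme.fppfPrecoverage (BasedFunctor.comp f (AlgSt.ofSpMap g)))
    (hqs : AlgSt.IsQuasiSeparatedMor (BasedFunctor.comp f (AlgSt.ofSpMap g)))
    (h : StMod.IsCohAffine (BasedFunctor.comp f (AlgSt.ofSpMap g))) :
    StMod.IsCohAffine f ∧ AlgSt.IsQuasiCompactMor Scheme.fppfPrecoverage f := by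
  have hMA := AlgStLib.isAlgStack_ofSp M
  have hNA := AlgStLib.isAlgStack_ofSp N
  have hd := repWith_affine_diag_ofSpMap g hg
  have hfqc : AlgSt.IsQuasiCompactMor Scheme.fppfPrecoverage f :=
    AlgStLib.isQuasiCompactMor_of_comp h𝒳 hMA hNA hqc (repWith_qc_of_affine hd)
  let π := BasedFunctor.comp f (AlgSt.ofSpMap g)
  have hP : AS (FibCat.fp (AlgSt.ofSpMap g) π) := AlgStLib.algFp hNA hMA h𝒳 _ _
  have hpr : StMod.IsCohAffine (FibCat.fpFst (AlgSt.ofSpMap g) π) :=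
    isCohAffine_fpFst h𝒳 g π hqc hqs (fun E hE => goodChartObj_of_qsSp hN E hE) h
  let Γ' : 𝒳 ⥤ᵇ FibCat.fp π (AlgSt.ofSpMap g) := FibCat.fpLift (BasedFunctor.id 𝒳) f (Iso.refl _)
  let Γ₀ : 𝒳 ⥤ᵇ FibCat.fp (AlgSt.ofSpMap g) π := BasedFunctor.comp Γ' (AlgStLib.swapFun π (AlgSt.ofSpMap g))
  have hΓ : AlgSt.RepByAlgSpWith AlgSp.IsAffineMor Γ₀ :=
    (AlgStLib.repWith_iff_of_equiv _ Γ₀ Γ' (BasedFunctor.id 𝒳) (AlgStLib.swapFun π (AlgSt.ofSpMap g))
      FibCat2Misc.isEquivOver_id (AlgStLib.isEquivOver_swapFun _ _) (Iso.refl _)).2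
      (AlgStLib.repWith_graph (p := π) (q := AlgSt.ofSpMap g) f (Iso.refl _) hd)
  have hc : FibData f := fibData_of_qcqs h𝒳 hMA f hfqc hfqs
  refine ⟨fun F G u hu E hE => ?_, hfqc⟩
  have hπ' : FibData (FibCat.fpFst (AlgSt.ofSpMap g) π) := isCohAffine_fpFst.fibData_fpFst h𝒳 hqc hqs
  have hG := gExact_fib_of_isCohAffine hP (FibCat.fpFst (AlgSt.ofSpMap g) π) hpr E hE (goodChartObj_of_qsSp hM E hE)
  have e : BasedFunctor.comp Γ₀ (FibCat.fpFst (AlgSt.ofSpMap g) π) = f := rfl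
  have hc' : FibData (BasedFunctor.comp Γ₀ (FibCat.fpFst (AlgSt.ofSpMap g) π)) := by rw [e]; exact hc
  have h1 := surjAt_comp Γ₀ (FibCat.fpFst (AlgSt.ofSpMap g) π) h𝒳 hP hMA hΓ hc' hG u hu
  rw [e] at h1
  exact h1

end Groth.Agent.RelGen
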