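import Mathlib
import Groth.Agent.RelGen.CohPush
import Groth.Agent.RelGen.GExact
import Groth.Agent.RelGen.CompTools

/-!
# Global functions locally in the ideal generated by finitely many global functions
-/

universe u

open CategoryTheory CategoryTheory.Limits AlgebraicGeometry TopologicalSpace Opposite TensorProduct

set_option autoImplicit false
set_option backward.isDefEq.respectTransparency false
set_option backward.isDefEq.respectTransparency.types false
set_option linter.style.haveILetI false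

noncomputable section

namespace Groth.Agent.RelGen

open Groth.Agent.QC Groth.Agent.QDescent AffMod

variable {S : Scheme.{u}} {Q : AlgSt.Cat S}

local notation "AS" => AlgSt.IsAlgStack Scheme.fppfPrecoverage

variable (Q) in
/-- The module of functions. -/
def funMod : AffMod Q where
  ob A := ModuleCat.of _ Γ(StMod.sch Q A.obj, ⊤)
  r g := (StMod.bmap Q g).appTop.hom.toAddMonoidHom
  r_smul g b n := map_mul (StMod.bmap Q g).appTop.hom b n
  r_id A n := by
    show (StMod.bmap Q (𝟙 A.obj)).appTop.hom n = n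
    rw [StMod.bmap_id]
    rfl
  r_comp h g n := by
    show (StMod.bmap Q (h ≫ g)).appTop.hom n = (StMod.bmap Q h).appTop.hom ((StMod.bmap Q g).appTop.hom n)
    rw [StMod.bmap_comp, Scheme.Hom.comp_appTop]
    rfl

theorem isBC_funMod : (funMod Q).IsBC := by
  intro A' A g _
  letI : Algebra Γ(StMod.sch Q A.obj, ⊤) Γ(StMod.sch Q A'.obj, ⊤) := (StMod.bmap Q g).appTop.hom.toAlgebra
  have e : ∀ z, (funMod Q).bcm g z = TensorProduct.rid Γ(StMod.sch Q A.obj, ⊤) Γ(StMod.sch Q A'.obj, ⊤) z := by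
    intro z
    induction z using TensorProduct.induction_on with
    | zero => simp
    | add a b ha hb => rw [map_add, map_add, ha, hb]
    | tmul b a =>
      show b * (StMod.bmap Q g).appTop.hom a = TensorProduct.rid _ _ (b ⊗ₜ (show Γ(StMod.sch Q A.obj, ⊤) from a))
      rw [TensorProduct.rid_tmul]
      exact mul_comm b _
  rw [show ⇑((funMod Q).bcm g) = _ from funext e]
  exact (TensorProduct.rid Γ(StMod.sch Q A.obj, ⊤) Γ(StMod.sch Q A'.obj, ⊤)).bijective

variable (Q) in
/-- The free module. -/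
def freeMod (n : ℕ) : AffMod Q where
  ob A := ModuleCat.of _ (Fin n → Γ(StMod.sch Q A.obj, ⊤))
  r g := AddMonoidHom.mk' (fun v i => (StMod.bmap Q g).appTop.hom (v i)) fun v w => funext fun i => map_add _ _ _
  r_smul g b v := funext fun i => map_mul (StMod.bmap Q g).appTop.hom b (v i)
  r_id A v := funext fun i => (funMod Q).r_id A (v i)
  r_comp h g v := funext fun i => (funMod Q).r_comp h g (v i)

theorem isBC_freeMod (n : ℕ) : (freeMod Q n).IsBC := by
  intro A' A g _
  letI : Algebra Γ(StMod.sch Q A.obj, ⊤) Γ(StMod.sch Q A'.obj, ⊤) := (StMod.bmap Q g).appTop.hom.toAlgebra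
  let e := TensorProduct.piScalarRight Γ(StMod.sch Q A.obj, ⊤) Γ(StMod.sch Q A.obj, ⊤) Γ(StMod.sch Q A'.obj, ⊤)
    (Fin n)
  have he : ∀ z, (freeMod Q n).bcm g z = e z := by
    intro z
    induction z using TensorProduct.induction_on with
    | zero => simp
    | add a b ha hb => rw [map_add, map_add, ha, hb]
    | tmul b v =>
      refine funext fun i => ?_
      show b * (StMod.bmap Q g).appTop.hom ((show Fin n → Γ(StMod.sch Q A.obj, ⊤) from v) i) = _
      rw [TensorProduct.piScalarRight_apply, TensorProduct.piScalarRightHom_tmul]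
      exact mul_comm b _
  rw [show ⇑((freeMod Q n).bcm g) = _ from funext he]
  exact e.bijective

/-- The value at one. -/
abbrev valSec (φ : StMod.OQ Q ⟶ StMod.OQ Q) (x : Q.obj) : Γ(StMod.sch Q x, ⊤) :=
  (φ.hom.app x).app ⊤ (oneSec Q x)

theorem valSec_nat (φ : StMod.OQ Q ⟶ StMod.OQ Q) {x' x : Q.obj} (c : x' ⟶ x) :
    (StMod.bmap Q c).appTop.hom (valSec φ x) = valSec φ x' :=
  (trT_eq_map (StMod.OQ Q).obj c _).symm.trans (trT_app_oneSec φ c)

/-- Linear combinations with the given functions. -/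
def combMap {n : ℕ} (a : Fin n → (StMod.OQ Q ⟶ StMod.OQ Q)) : ModMap (freeMod Q n) (funMod Q) where
  app A :=
    { toFun := fun v =>
        (∑ i, (show Fin n → Γ(StMod.sch Q A.obj, ⊤) from v) i * valSec (a i) A.obj : Γ(StMod.sch Q A.obj, ⊤))
      map_add' := fun v w => by
        show (∑ i, ((show Fin n → Γ(StMod.sch Q A.obj, ⊤) from v) i + (show Fin n → Γ(StMod.sch Q A.obj, ⊤) from w) i) *
            valSec (a i) A.obj : Γ(StMod.sch Q A.obj, ⊤)) =
          (∑ i, (show Fin n → Γ(StMod.sch Q A.obj, ⊤) from v) i * valSec (a i) A.obj : Γ(StMod.sch Q A.obj, ⊤)) +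
          ∑ i, (show Fin n → Γ(StMod.sch Q A.obj, ⊤) from w) i * valSec (a i) A.obj
        rw [← Finset.sum_add_distrib]
        exact Finset.sum_congr rfl fun i _ => add_mul _ _ _
      map_smul' := fun b v => by
        show (∑ i, (b * (show Fin n → Γ(StMod.sch Q A.obj, ⊤) from v) i) * valSec (a i) A.obj : Γ(StMod.sch Q A.obj, ⊤)) =
          b * (∑ i, (show Fin n → Γ(StMod.sch Q A.obj, ⊤) from v) i * valSec (a i) A.obj : Γ(StMod.sch Q A.obj, ⊤))
        rw [Finset.mul_sum]
        exact Finset.sum_congr rfl fun i _ => mul_assoc _ _ _ }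
  nat {A' A} g v := by
    show (StMod.bmap Q g).appTop.hom
        (∑ i, (show Fin n → Γ(StMod.sch Q A.obj, ⊤) from v) i * valSec (a i) A.obj) =
      (∑ i, (StMod.bmap Q g).appTop.hom ((show Fin n → Γ(StMod.sch Q A.obj, ⊤) from v) i) * valSec (a i) A'.obj :
        Γ(StMod.sch Q A'.obj, ⊤))
    rw [map_sum]
    exact Finset.sum_congr rfl fun i _ => (map_mul _ _ _).trans (congrArg _ (valSec_nat (a i) g))

/-- A global function locally in the ideal generated by finitely many global functions is globally so. -/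
theorem exists_comb (hQ : AS Q) (hG : GExact Q) {n : ℕ} (a : Fin n → (StMod.OQ Q ⟶ StMod.OQ Q))
    (r : StMod.OQ Q ⟶ StMod.OQ Q)
    (h : ∀ x, IsAffine (StMod.sch Q x) → IsOk x → valSec r x ∈ Ideal.span (Set.range fun i => valSec (a i) x)) :
    ∃ s : Fin n → (StMod.OQ Q ⟶ StMod.OQ Q), ∀ x, IsAffine (StMod.sch Q x) → IsOk x →
      valSec r x = ∑ i, valSec (s i) x * valSec (a i) x := by
  let p := combMap a
  obtain ⟨R⟩ := exists_realization (freeMod Q n) hQ (isBC_freeMod n)
  obtain ⟨R'⟩ := exists_realization p.img hQ (p.isBC_img (isBC_freeMod n) isBC_funMod)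
  obtain ⟨u, hu, huv⟩ := p.exists_toImg hQ R R'
  have hmem : ∀ (A : AObj Q), IsOk A.obj →
      (show (funMod Q).ob A from valSec r A.obj) ∈ LinearMap.range (p.app A) := fun A hok => by
    obtain ⟨c, hc⟩ := Ideal.mem_span_range_iff_exists_fun.1 (h A.obj A.aff hok)
    exact ⟨c, hc⟩
  choose T hT using fun (A : AObj Q) (hok : IsOk A.obj) =>
    (R'.ρ_topOk_bijective A hok).2 (⟨_, hmem A hok⟩ : LinearMap.range (p.app A))
  obtain ⟨φ, hφ⟩ := exists_sect_of_ok (M := R'.G) hQ (fun x hx hok => T ⟨x, hx⟩ hok)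
    (fun {x' x} c hx' hok' hx hok => by
      refine (R'.ρ_topOk_bijective ⟨x', hx'⟩ hok').1 ?_
      refine (R'.ρ_nat (o' := topOk ⟨x', hx'⟩ hok') (o := topOk ⟨x, hx⟩ hok) (covHom c) hx' hx _).trans ?_
      rw [hT, hT]
      exact Subtype.ext (valSec_nat r c))
  obtain ⟨φ', hφ'⟩ := hG u hu φ
  let co : ∀ x (hx : IsAffine (StMod.sch Q x)) (hok : IsOk x), Fin n → Γ(StMod.sch Q x, ⊤) := fun x hx hok =>
    R.ρ (topOk ⟨x, hx⟩ hok) hx ((φ'.hom.app x).app ⊤ (oneSec Q x))
  choose s hs using fun i : Fin n => exists_sect_of_ok (M := StMod.OQ Q) hQ (fun x hx hok => co x hx hok i)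
    (fun {x' x} c hx' hok' hx hok => by
      refine (trT_eq_map (StMod.OQ Q).obj c _).trans ?_
      have e := R.ρ_nat (o' := topOk ⟨x', hx'⟩ hok') (o := topOk ⟨x, hx⟩ hok) (covHom c) hx' hx
        ((φ'.hom.app x).app ⊤ (oneSec Q x))
      have e2 : R.ρ (topOk ⟨x', hx'⟩ hok') hx' (trT R.G.obj c ((φ'.hom.app x).app ⊤ (oneSec Q x))) =
          co x' hx' hok' := congrArg _ (trT_app_oneSec φ' c)
      exact (congrFun (e2.symm.trans e) i).symm)
  refine ⟨s, fun x hx hok => ?_⟩
  have e1 : (u.hom.app x).app ⊤ ((φ'.hom.app x).app ⊤ (oneSec Q x)) = T ⟨x, hx⟩ hok :=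
    (congrArg (fun k : StMod.OQ Q ⟶ R'.G => (k.hom.app x).app ⊤ (oneSec Q x)) hφ').trans (hφ x hx hok)
  have e3 : (∑ i, co x hx hok i * valSec (a i) x : Γ(StMod.sch Q x, ⊤)) = valSec r x := by
    have e2 := huv ⟨x, hx⟩ hok ((φ'.hom.app x).app ⊤ (oneSec Q x))
    rw [e1, hT] at e2
    exact e2.symm
  rw [← e3]
  exact Finset.sum_congr rfl fun i _ => congrArg (· * valSec (a i) x) (hs i x hx hok).symm

end Groth.Agent.RelGen
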