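import Mathlib
import Groth.Agent.RelGen.IdealSect

/-!
# Global sections locally in the span of finitely many global sections
-/

universe u

open CategoryTheory CategoryTheory.Limits AlgebraicGeometry TopologicalSpace Opposite TensorProduct

set_option autoImplicit false
set_option backward.isDefEq.respectTransparency false
set_option backward.isDefEq.respectTransparency.types false
set_option linter.style.haveILetI false

noncomputable section

namespace Groth.Agent.RelGen

open Groth.Agent.QC Groth.Agent.QDescent AffMod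

variable {S : Scheme.{u}} {Q : AlgSt.Cat S}

local notation "AS" => AlgSt.IsAlgStack Scheme.fppfPrecoverage

/-- The sections of a quasi-coherent module on the affine objects. -/
def secMod (M : StMod.QCoh Q) : AffMod Q where
  ob A := ModuleCat.of _ Γ(M.obj.obj A.obj, ⊤)
  r g := trT M.obj g
  r_smul g b n := trT_smul M.obj g b n
  r_id A n := trT_id M.obj A.obj n
  r_comp h g n := (trT_comp M.obj h g n).symm

theorem isBC_secMod (M : StMod.QCoh Q) : (secMod M).IsBC := by
  intro A' A g _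
  have key : ∀ (h : Γ(StMod.sch Q A.obj, ⊤) ⟶ Γ(StMod.sch Q A'.obj, ⊤))
      (_ : h = (StMod.bmap Q g).appLE ⊤ ⊤ (top_le g)),
      letI := h.hom.toAlgebra
      ∀ f : (Γ(StMod.sch Q A'.obj, ⊤) ⊗[Γ(StMod.sch Q A.obj, ⊤)] Γ(M.obj.obj A.obj, ⊤)) →+ Γ(M.obj.obj A'.obj, ⊤),
        (∀ b s, f (b ⊗ₜ s) = b • trT M.obj g s) → Function.Bijective f := by
    rintro h rfl
    letI : Algebra Γ(StMod.sch Q A.obj, ⊤) Γ(StMod.sch Q A'.obj, ⊤) :=
      ((StMod.bmap Q g).appLE ⊤ ⊤ (top_le g)).hom.toAlgebra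
    intro f hf
    obtain ⟨Φ, hΦ⟩ := exists_bijective_tr M g (isAffineOpen_top (StMod.sch Q A.obj))
      (isAffineOpen_top (StMod.sch Q A'.obj)) (top_le g)
    have e : ∀ z, f z = Φ z := by
      intro z
      induction z using TensorProduct.induction_on with
      | zero => simp
      | add a b ha hb => rw [map_add, map_add, ha, hb]
      | tmul b s =>
        rw [hf, show trT M.obj g s = Φ (1 ⊗ₜ s) from (hΦ s).symm, ← map_smul, TensorProduct.smul_tmul', smul_eq_mul,
          mul_one]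
    rw [show ⇑f = _ from funext e]
    exact Φ.bijective
  exact key _ (appLE_top_eq g).symm ((secMod M).bcm g) fun b s => rfl

variable {M : StMod.QCoh Q}

/-- The value at one. -/
abbrev valMod (φ : StMod.OQ Q ⟶ M) (x : Q.obj) : Γ(M.obj.obj x, ⊤) :=
  (φ.hom.app x).app ⊤ (oneSec Q x)

theorem valMod_nat (φ : StMod.OQ Q ⟶ M) {x' x : Q.obj} (c : x' ⟶ x) :
    trT M.obj c (valMod φ x) = valMod φ x' :=
  trT_app_oneSec φ c

/-- Linear combinations of the given sections. -/
def combModMap {n : ℕ} (a : Fin n → (StMod.OQ Q ⟶ M)) : ModMap (freeMod Q n) (secMod M) where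
  app A :=
    { toFun := fun v =>
        (∑ i, (show Fin n → Γ(StMod.sch Q A.obj, ⊤) from v) i • valMod (a i) A.obj : Γ(M.obj.obj A.obj, ⊤))
      map_add' := fun v w => by
        show (∑ i, ((show Fin n → Γ(StMod.sch Q A.obj, ⊤) from v) i + (show Fin n → Γ(StMod.sch Q A.obj, ⊤) from w) i) •
            valMod (a i) A.obj : Γ(M.obj.obj A.obj, ⊤)) =
          (∑ i, (show Fin n → Γ(StMod.sch Q A.obj, ⊤) from v) i • valMod (a i) A.obj : Γ(M.obj.obj A.obj, ⊤)) +
          ∑ i, (show Fin n → Γ(StMod.sch Q A.obj, ⊤) from w) i • valMod (a i) A.obj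
        rw [← Finset.sum_add_distrib]
        exact Finset.sum_congr rfl fun i _ => add_smul _ _ _
      map_smul' := fun b v => by
        show (∑ i, (b * (show Fin n → Γ(StMod.sch Q A.obj, ⊤) from v) i) • valMod (a i) A.obj : Γ(M.obj.obj A.obj, ⊤)) =
          b • (∑ i, (show Fin n → Γ(StMod.sch Q A.obj, ⊤) from v) i • valMod (a i) A.obj : Γ(M.obj.obj A.obj, ⊤))
        rw [Finset.smul_sum]
        exact Finset.sum_congr rfl fun i _ => mul_smul _ _ _ }
  nat {A' A} g v := by
    show trT M.obj g (∑ i, (show Fin n → Γ(StMod.sch Q A.obj, ⊤) from v) i • valMod (a i) A.obj) =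
      (∑ i, (StMod.bmap Q g).appTop.hom ((show Fin n → Γ(StMod.sch Q A.obj, ⊤) from v) i) • valMod (a i) A'.obj :
        Γ(M.obj.obj A'.obj, ⊤))
    rw [map_sum]
    exact Finset.sum_congr rfl fun i _ => (trT_smul M.obj g _ _).trans (congrArg _ (valMod_nat (a i) g))

/-- A global section locally in the span of finitely many global sections is a combination of them with global
functions as coefficients. -/
theorem exists_combMod (hQ : AS Q) (hG : GExact Q) {n : ℕ} (a : Fin n → (StMod.OQ Q ⟶ M))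
    (r : StMod.OQ Q ⟶ M)
    (h : ∀ x, IsAffine (StMod.sch Q x) → IsOk x →
      valMod r x ∈ Submodule.span Γ(StMod.sch Q x, ⊤) (Set.range fun i => valMod (a i) x)) :
    ∃ s : Fin n → (StMod.OQ Q ⟶ StMod.OQ Q), ∀ x, IsAffine (StMod.sch Q x) → IsOk x →
      valMod r x = ∑ i, valSec (s i) x • valMod (a i) x := by
  let p := combModMap a
  obtain ⟨R⟩ := exists_realization (freeMod Q n) hQ (isBC_freeMod n)
  obtain ⟨R'⟩ := exists_realization p.img hQ (p.isBC_img (isBC_freeMod n) (isBC_secMod M))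
  obtain ⟨u, hu, huv⟩ := p.exists_toImg hQ R R'
  have hmem : ∀ (A : AObj Q), IsOk A.obj →
      (show (secMod M).ob A from valMod r A.obj) ∈ LinearMap.range (p.app A) := fun A hok => by
    obtain ⟨c, hc⟩ := (Submodule.mem_span_range_iff_exists_fun _).1 (h A.obj A.aff hok)
    exact ⟨c, hc⟩
  choose T hT using fun (A : AObj Q) (hok : IsOk A.obj) =>
    (R'.ρ_topOk_bijective A hok).2 (⟨_, hmem A hok⟩ : LinearMap.range (p.app A))
  obtain ⟨φ, hφ⟩ := exists_sect_of_ok (M := R'.G) hQ (fun x hx hok => T ⟨x, hx⟩ hok)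
    (fun {x' x} c hx' hok' hx hok => by
      refine (R'.ρ_topOk_bijective ⟨x', hx'⟩ hok').1 ?_
      refine (R'.ρ_nat (o' := topOk ⟨x', hx'⟩ hok') (o := topOk ⟨x, hx⟩ hok) (covHom c) hx' hx _).trans ?_
      rw [hT, hT]
      exact Subtype.ext (valMod_nat r c))
  obtain ⟨φ', hφ'⟩ := hG u hu φ
  let co : ∀ x (hx : IsAffine (StMod.sch Q x)) (hok : IsOk x), Fin n → Γ(StMod.sch Q x, ⊤) := fun x hx hok =>
    R.ρ (topOk ⟨x, hx⟩ hok) hx ((φ'.hom.app x).app ⊤ (oneSec Q x))
  choose s hs using fun i : Fin n => exists_sect_of_ok (M := StMod.OQ Q) hQ (fun x hx hok => co x hx hok i)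
    (fun {x' x} c hx' hok' hx hok => by
      refine (trT_eq_map (StMod.OQ Q).obj c _).trans ?_
      have e := R.ρ_nat (o' := topOk ⟨x', hx'⟩ hok') (o := topOk ⟨x, hx⟩ hok) (covHom c) hx' hx
        ((φ'.hom.app x).app ⊤ (oneSec Q x))
      have e2 : R.ρ (topOk ⟨x', hx'⟩ hok') hx' (trT R.G.obj c ((φ'.hom.app x).app ⊤ (oneSec Q x))) =
          co x' hx' hok' := congrArg _ (trT_app_oneSec φ' c)
      exact (congrFun (e2.symm.trans e) i).symm)
  refine ⟨s, fun x hx hok => ?_⟩
  have e1 : (u.hom.app x).app ⊤ ((φ'.hom.app x).app ⊤ (oneSec Q x)) = T ⟨x, hx⟩ hok :=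
    (congrArg (fun k : StMod.OQ Q ⟶ R'.G => (k.hom.app x).app ⊤ (oneSec Q x)) hφ').trans (hφ x hx hok)
  have e3 : (∑ i, co x hx hok i • valMod (a i) x : Γ(M.obj.obj x, ⊤)) = valMod r x := by
    have e2 := huv ⟨x, hx⟩ hok ((φ'.hom.app x).app ⊤ (oneSec Q x))
    rw [e1, hT] at e2
    exact e2.symm
  rw [← e3]
  exact Finset.sum_congr rfl fun i _ => congrArg (· • valMod (a i) x) (hs i x hx hok).symm

end Groth.Agent.RelGen
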