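import Mathlib
import Groth.Agent.RelGen.CohCore

/-!
# The functions of the target as sections of the direct image of the structure sheaf: flat base change
-/

universe u

open CategoryTheory CategoryTheory.Limits AlgebraicGeometry TopologicalSpace Opposite TensorProduct

set_option autoImplicit false
set_option backward.isDefEq.respectTransparency false
set_option backward.isDefEq.respectTransparency.types false
set_option linter.style.haveILetI false

noncomputable section

namespace Groth.Agent.RelGen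

open Groth.Agent.QC Groth.Agent.QDescent

variable {S : Scheme.{u}} {𝒳 Q : AlgSt.Cat S} {π : 𝒳 ⥤ᵇ Q}

theorem secHom_transp (M : StMod.QCoh 𝒳) {η' η : Q.obj} (g : η' ⟶ η) (φ : onFib π (StMod.OQ 𝒳) η ⟶ onFib π M η)
    (ξ : 𝒳.obj) (α : π.obj ξ ⟶ η') :
    (secHom M η' (transp (StMod.OQ 𝒳) M g φ)).1 ξ α = (secHom M η φ).1 ξ (α ≫ g) := rfl

theorem secHom_smul (M : StMod.QCoh 𝒳) {η : Q.obj} (b : bR η) (φ : onFib π (StMod.OQ 𝒳) η ⟶ onFib π M η) :
    secHom M η (b • φ) = (show Γ(StMod.sch Q η, ⊤) from b) • secHom M η φ :=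
  StMod.Mod.RelSect.ext _ _ _ fun ξ α => by
    show ((uFib π η (CostructuredArrow.mk α)).appLE ⊤ ⊤ le_top).hom b • valOne M η φ (CostructuredArrow.mk α) = _
    refine congrArg (fun k => k • valOne M η φ (CostructuredArrow.mk α))
      (congrArg (fun k => (CommRingCat.Hom.hom k) b) (Scheme.Hom.appLE_eq_app (uFib π η (CostructuredArrow.mk α)) :))

theorem relSect_restrict_unit {η' η : Q.obj} (g : η' ⟶ η) (r : Γ(StMod.sch Q η, ⊤)) (ξ : 𝒳.obj)
    (α : π.obj ξ ⟶ η') :
    (StMod.unitSect π η r).1 ξ (α ≫ g) = (StMod.unitSect π η' ((StMod.bmap Q g).appTop.hom r)).1 ξ α := by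
  show (StMod.baseOver π ξ (α ≫ g)).left.appTop.hom r =
    (StMod.baseOver π ξ α).left.appTop.hom ((StMod.bmap Q g).appTop.hom r)
  have e : (StMod.baseOver π ξ (α ≫ g)).left = (StMod.baseOver π ξ α).left ≫ StMod.bmap Q g := by
    show (StMod.baseOver π ξ (α ≫ g)).left = (StMod.baseOver π ξ α ≫ Q.p.map g).left
    simp [StMod.baseOver]
  rw [e, Scheme.Hom.comp_appTop]
  rfl

/-- Bijectivity of the unit passes to flat affine objects below. -/
theorem unitBij_baseChange (hπ : FibData π) {η' η : Q.obj} (g : η' ⟶ η) [IsAffine (StMod.sch Q η)]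
    [IsAffine (StMod.sch Q η')] [Flat (StMod.bmap Q g)] (h : Function.Bijective (StMod.unitSect π η)) :
    Function.Bijective (StMod.unitSect π η') := by
  have hfp : (StMod.OQ 𝒳).obj.IsFinPres := fun ξ => SchDense.isFP_unit _
  let E := StMod.OQ 𝒳
  let A : AObj Q := ⟨η, ‹_›⟩
  let A' : AObj Q := ⟨η', ‹_›⟩
  letI : Algebra (bR η) (bR η') := (bmapR g).toAlgebra
  obtain ⟨one, hone⟩ := (secHom_bijective E η hπ).2 (StMod.unitSect π η 1)
  have hr : ∀ (η₀ : Q.obj) (r : Γ(StMod.sch Q η₀, ⊤)), StMod.unitSect π η₀ r = r • StMod.unitSect π η₀ 1 :=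
    fun η₀ r => by rw [← map_smul, smul_eq_mul, mul_one]
  have hone' : secHom E η' (transp E E g one) = StMod.unitSect π η' 1 := StMod.Mod.RelSect.ext _ _ _ fun ξ α => by
    rw [secHom_transp, hone, relSect_restrict_unit, map_one]
  let one' := transp E E g one
  have hsec : ∀ (b : bR η'), secHom E η' (b • one') = StMod.unitSect π η' b := fun b => by
    rw [secHom_smul, hone', ← hr]
  -- the identification of functions with morphisms over `η`
  let n₁ : homOb E E hπ A := homEquivOb E E hπ A one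
  have hgen : ∀ n : homOb E E hπ A, ∃ r : bR η, n = r • n₁ := fun n => by
    obtain ⟨r, hr'⟩ := h.2 (secHom E η ((homEquivOb E E hπ A).symm n))
    refine ⟨r, (homEquivOb E E hπ A).symm.injective ((secHom_bijective E η hπ).1 ?_)⟩
    rw [homEquivOb_symm_smul, AddEquiv.symm_apply_apply, secHom_smul, hone, ← hr, hr']
  let L : bR η →ₗ[bR η] homOb E E hπ A := LinearMap.toSpanSingleton _ _ n₁
  have hL : Function.Bijective L := by
    refine ⟨fun r r' he => ?_, fun n => by obtain ⟨r, hr'⟩ := hgen n; exact ⟨r, hr'.symm⟩⟩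
    have he' : r • n₁ = r' • n₁ := he
    refine h.1 ?_
    have h2 := congrArg (fun n => secHom E η ((homEquivOb E E hπ A).symm n)) he'
    simp only [n₁] at h2
    rw [homEquivOb_symm_smul, homEquivOb_symm_smul, AddEquiv.symm_apply_apply, secHom_smul, secHom_smul, hone,
      ← hr, ← hr] at h2
    exact h2
  have hB := isBC_homMod E E hπ hfp (A' := A') (A := A) g ‹_›
  have hb : ∀ b : bR η', (homEquivOb E E hπ A').symm ((homMod E E hπ).bcm (A' := A') (A := A) g (b ⊗ₜ n₁)) = b • one' :=
    fun b => by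
      show (homEquivOb E E hπ A').symm (b • (homMod E E hπ).r (A' := A') (A := A) g n₁) = _
      rw [homEquivOb_symm_smul, homMod_r, AddEquiv.symm_apply_apply]
  have key : ∀ z : bR η' ⊗[bR η] homOb E E hπ A, ∃ b : bR η', z = b ⊗ₜ n₁ := by
    intro z
    induction z using TensorProduct.induction_on with
    | zero => exact ⟨0, (TensorProduct.zero_tmul _ _).symm⟩
    | add a c ha hc =>
      obtain ⟨b, rfl⟩ := ha
      obtain ⟨b', rfl⟩ := hc
      exact ⟨b + b', (TensorProduct.add_tmul _ _ _).symm⟩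
    | tmul b n =>
      obtain ⟨r, rfl⟩ := hgen n
      exact ⟨r • b, (TensorProduct.smul_tmul r b n₁).symm⟩
  refine ⟨fun b b' he => ?_, fun t => ?_⟩
  · have h1 : b • one' = b' • one' := (secHom_bijective E η' hπ).1 (by rw [hsec, hsec, he])
    rw [← hb, ← hb] at h1
    have h2 := hB.1 ((homEquivOb E E hπ A').symm.injective h1)
    have h3 : (LinearEquiv.ofBijective L hL).lTensor (bR η') (b ⊗ₜ (1 : bR η)) =
        (LinearEquiv.ofBijective L hL).lTensor (bR η') (b' ⊗ₜ (1 : bR η)) := by
      rw [LinearEquiv.lTensor_tmul, LinearEquiv.lTensor_tmul, LinearEquiv.ofBijective_apply,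
        LinearMap.toSpanSingleton_apply, one_smul]
      exact h2
    have h4 := congrArg (TensorProduct.rid (bR η) (bR η')) ((LinearEquiv.injective _) h3)
    simpa using h4
  · obtain ⟨φ, hφ⟩ := (secHom_bijective E η' hπ).2 t
    obtain ⟨z, hz⟩ := hB.2 (homEquivOb E E hπ A' φ)
    obtain ⟨b, rfl⟩ := key z
    refine ⟨b, ?_⟩
    rw [← hsec, ← hb, hz, AddEquiv.symm_apply_apply, hφ]

end Groth.Agent.RelGen
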