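import Mathlib
import Groth.Agent.RelGen.CohBC
import Groth.Agent.RelGen.UnitBC

/-!
# The unit into the direct image of the structure sheaf: base change of the target and flat descent
-/

universe u

open CategoryTheory CategoryTheory.Limits AlgebraicGeometry TopologicalSpace Opposite TensorProduct

set_option autoImplicit false
set_option backward.isDefEq.respectTransparency false
set_option backward.isDefEq.respectTransparency.types false
set_option linter.style.haveILetI false

noncomputable section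

namespace Groth.Agent.RelGen

open Groth.Agent.QC Groth.Agent.QDescent AffMod

variable {S : Scheme.{u}}

/-- An element of a module killed by a jointly surjective family of flat affine schemes is zero. -/
theorem eq_zero_of_flat_cover {X : Scheme.{u}} [IsAffine X] {N : Type u} [AddCommGroup N] [Module Γ(X, ⊤) N] (c : N)
    (h : ∀ t : X, ∃ (X' : Scheme.{u}) (g : X' ⟶ X), IsAffine X' ∧ Flat g ∧ t ∈ Set.range g.base ∧
      (letI : Algebra Γ(X, ⊤) Γ(X', ⊤) := g.appTop.hom.toAlgebra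
       (1 : Γ(X', ⊤)) ⊗ₜ[Γ(X, ⊤)] c = 0)) : c = 0 := by
  set I : Ideal Γ(X, ⊤) := LinearMap.ker (LinearMap.toSpanSingleton _ _ c) with hI
  have key : ∀ t : X, ∃ r ∈ I, t ∈ X.basicOpen r := by
    intro t
    obtain ⟨X', g, hX', hfl, ⟨w, hw⟩, h2⟩ := h t
    haveI := hX'
    letI : Algebra Γ(X, ⊤) Γ(X', ⊤) := g.appTop.hom.toAlgebra
    haveI : Module.Flat Γ(X, ⊤) Γ(X', ⊤) := HasRingHomProperty.appTop (P := @Flat) _ hfl
    have h3 := map_ker_eq_top c h2
    rw [Ideal.map, ← (isAffineOpen_top X').self_le_iSup_basicOpen_iff] at h3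
    obtain ⟨⟨_, r, hr, rfl⟩, hrw⟩ := Opens.mem_iSup.1 (h3 (trivial : w ∈ (⊤ : X'.Opens)))
    refine ⟨r, hr, ?_⟩
    have h4 : w ∈ g ⁻¹ᵁ X.basicOpen r := by
      rw [Scheme.preimage_basicOpen_top]
      exact hrw
    rw [← hw]
    exact h4
  have htop : Ideal.span (I : Set Γ(X, ⊤)) = ⊤ := by
    rw [← (isAffineOpen_top X).self_le_iSup_basicOpen_iff]
    intro t _
    obtain ⟨r, hr, ht⟩ := key t
    exact Opens.mem_iSup.2 ⟨⟨r, hr⟩, ht⟩
  rw [Ideal.span_eq] at htop
  have h1 : (1 : Γ(X, ⊤)) ∈ I := by rw [htop]; trivial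
  rw [hI, LinearMap.mem_ker, LinearMap.toSpanSingleton_apply, one_smul] at h1
  exact h1

section BC

variable {𝒳 Q Q' : AlgSt.Cat S} {G : Q' ⥤ᵇ Q} {π : 𝒳 ⥤ᵇ Q}

/-- The pairs over an object of a base change and their images. -/
theorem baseOver_fpFst {o : Q'.obj} (P : (FibCat.fp G π).obj) (β : P.obj.fst ⟶ o)
    (α : π.obj P.obj.snd ⟶ G.obj o) (hα : P.obj.iso.hom ≫ α = G.map β) :
    (StMod.baseOver (FibCat.fpFst G π) P β).left ≫ eqToHom (StMod.sch_obj_eq G o).symm =
      eqToHom (StMod.sch_obj_eq (FibCat.fpSnd G π) P).symm ≫ (StMod.baseOver π P.obj.snd α).left := by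
  obtain ⟨e, he⟩ := bmap_of_isHomLift_id _ P.property
  have h1 := congrArg (StMod.bmap Q) hα
  rw [StMod.bmap_comp, he, bmap_map G β] at h1
  have hα' : StMod.bmap Q α =
      eqToHom e.symm ≫ eqToHom (StMod.sch_obj_eq G P.obj.fst) ≫ StMod.bmap Q' β ≫ eqToHom (StMod.sch_obj_eq G o).symm := by
    rw [← h1, eqToHom_trans_assoc, eqToHom_refl, Category.id_comp]
  rw [baseOver_left, baseOver_left, hα']
  simp only [Category.assoc, eqToHom_trans_assoc]

/-- Bijectivity of the unit at an object of a base change gives bijectivity at its image. -/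
theorem unitBij_of_bc (hQ : FibCat.IsFibGrpd Q.p) (hQ' : FibCat.IsFibGrpd Q'.p) {o : Q'.obj}
    (h : Function.Bijective (StMod.unitSect (FibCat.fpFst G π) o)) :
    Function.Bijective (StMod.unitSect π (G.obj o)) := by
  let eo := (eqToHom (StMod.sch_obj_eq G o).symm).appTop
  let cP := fun P : (FibCat.fp G π).obj => (eqToHom (StMod.sch_obj_eq (FibCat.fpSnd G π) P).symm).appTop
  have hinj : ∀ {X Y : Scheme.{u}} (e : X = Y), Function.Bijective (eqToHom e).appTop.hom := fun e =>
    ConcreteCategory.bijective_of_isIso (eqToHom e).appTop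
  have key : ∀ (P : (FibCat.fp G π).obj) (β : P.obj.fst ⟶ o) (α : π.obj P.obj.snd ⟶ G.obj o),
      P.obj.iso.hom ≫ α = G.map β → ∀ r, (StMod.unitSect (FibCat.fpFst G π) o (eo.hom r)).1 P β =
        (cP P).hom ((StMod.unitSect π (G.obj o) r).1 P.obj.snd α) := fun P β α hα r => by
    show (StMod.baseOver (FibCat.fpFst G π) P β).left.appTop.hom (eo.hom r) =
      (cP P).hom ((StMod.baseOver π P.obj.snd α).left.appTop.hom r)
    have h1 := congrArg (fun k => (Scheme.Hom.appTop k).hom r) (baseOver_fpFst P β α hα)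
    simp only [Scheme.Hom.comp_appTop, CommRingCat.hom_comp, RingHom.comp_apply] at h1
    exact h1
  refine ⟨fun r r' he => (hinj (StMod.sch_obj_eq G o).symm).1 (h.1 (StMod.Mod.RelSect.ext _ _ _ fun P β => ?_)), fun t => ?_⟩
  · have hα : P.obj.iso.hom ≫ P.obj.iso.inv ≫ G.map β = G.map β := P.obj.iso.hom_inv_id_assoc _
    exact (key P β _ hα r).trans ((congrArg (fun k : StMod.Mod.RelSect π (StMod.O 𝒳) _ =>
      (cP P).hom (k.1 P.obj.snd (P.obj.iso.inv ≫ G.map β))) he).trans (key P β _ hα r').symm)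
  · let t' : StMod.Mod.RelSect (FibCat.fpFst G π) (StMod.O (FibCat.fp G π)) o :=
      ⟨fun P β => (cP P).hom (t.1 P.obj.snd (P.obj.iso.inv ≫ G.map β)), fun P' P c β => by
        have hc : P'.obj.iso.inv ≫ G.map (c.hom.fst ≫ β) = π.map c.hom.snd ≫ P.obj.iso.inv ≫ G.map β := by
          rw [G.toFunctor.map_comp, ← Category.assoc, ← Category.assoc (π.map c.hom.snd)]
          congr 1
          rw [Iso.inv_comp_eq, ← Category.assoc, ← c.hom.w, Category.assoc, Iso.hom_inv_id, Category.comp_id]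
        have ht := t.2 c.hom.snd (P.obj.iso.inv ≫ G.map β)
        rw [StMod.O_mapTop] at ht
        show (StMod.bmap (FibCat.fp G π) c).appTop.hom ((cP P).hom (t.1 P.obj.snd (P.obj.iso.inv ≫ G.map β))) =
          (cP P').hom (t.1 P'.obj.snd (P'.obj.iso.inv ≫ G.map (c.hom.fst ≫ β)))
        rw [hc, ← ht]
        have hb : StMod.bmap (FibCat.fp G π) c ≫ eqToHom (StMod.sch_obj_eq (FibCat.fpSnd G π) P).symm =
            eqToHom (StMod.sch_obj_eq (FibCat.fpSnd G π) P').symm ≫ StMod.bmap 𝒳 c.hom.snd := by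
          have h1 := bmap_map (FibCat.fpSnd G π) c
          rw [show (FibCat.fpSnd G π).map c = c.hom.snd from rfl] at h1
          rw [h1, eqToHom_trans_assoc, eqToHom_refl, Category.id_comp]
        have h2 := congrArg (fun k => (Scheme.Hom.appTop k).hom (t.1 P.obj.snd (P.obj.iso.inv ≫ G.map β))) hb
        simp only [Scheme.Hom.comp_appTop, CommRingCat.hom_comp, RingHom.comp_apply] at h2
        exact h2⟩
    obtain ⟨r', hr'⟩ := h.2 t'
    obtain ⟨r, rfl⟩ := (hinj (StMod.sch_obj_eq G o).symm).2 r'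
    refine ⟨r, StMod.Mod.RelSect.ext _ _ _ fun ξ α => ?_⟩
    obtain ⟨w, β, j, hj, hjβ⟩ := exists_sqObj G π hQ hQ' ξ α
    let P : (FibCat.fp G π).obj := ⟨{ fst := w, snd := ξ, iso := j }, hj⟩
    refine (hinj (StMod.sch_obj_eq (FibCat.fpSnd G π) P).symm).1 ?_
    refine ((key P β α hjβ r).symm.trans
      (congrArg (fun k : StMod.Mod.RelSect (FibCat.fpFst G π) (StMod.O _) o => k.1 P β) hr')).trans ?_
    show (cP P).hom (t.1 ξ (j.inv ≫ G.map β)) = _
    rw [show j.inv ≫ G.map β = α by rw [← hjβ, Iso.inv_hom_id_assoc]]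

end BC

variable {𝒳 Q : AlgSt.Cat S} {π : 𝒳 ⥤ᵇ Q}

/-- Bijectivity of the unit descends along jointly surjective flat affine objects. -/
theorem unitBij_of_hits (hπ : FibData π) {η : Q.obj} [IsAffine (StMod.sch Q η)]
    (h : ∀ t : StMod.sch Q η, ∃ (η' : Q.obj) (g : η' ⟶ η), IsAffine (StMod.sch Q η') ∧ Flat (StMod.bmap Q g) ∧
      t ∈ Set.range (StMod.bmap Q g).base ∧ Function.Bijective (StMod.unitSect π η')) :
    Function.Bijective (StMod.unitSect π η) := by
  refine ⟨(injective_iff_map_eq_zero _).2 fun r hr => ?_, fun s => ?_⟩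
  · refine eq_zero_of_flat_cover (X := StMod.sch Q η) r fun t => ?_
    obtain ⟨η', g, hη', hfl, ht, hb⟩ := h t
    refine ⟨StMod.sch Q η', StMod.bmap Q g, hη', hfl, ht, ?_⟩
    letI : Algebra Γ(StMod.sch Q η, ⊤) Γ(StMod.sch Q η', ⊤) := (StMod.bmap Q g).appTop.hom.toAlgebra
    have h0 : (StMod.bmap Q g).appTop.hom r = 0 := hb.1 (StMod.Mod.RelSect.ext _ _ _ fun ξ α => by
      refine (relSect_restrict_unit g r ξ α).symm.trans ?_
      rw [map_zero]
      exact congrArg (fun k : StMod.Mod.RelSect π (StMod.O 𝒳) η => k.1 ξ (α ≫ g)) hr)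
    refine (TensorProduct.rid _ _).injective ?_
    rw [TensorProduct.rid_tmul, map_zero]
    exact (mul_one _).trans h0
  · have hfp : (StMod.OQ 𝒳).obj.IsFinPres := fun ξ => SchDense.isFP_unit _
    let E := StMod.OQ 𝒳
    let A : AObj Q := ⟨η, ‹_›⟩
    obtain ⟨one, hone⟩ := (secHom_bijective E η hπ).2 (StMod.unitSect π η 1)
    obtain ⟨φ, rfl⟩ := (secHom_bijective E η hπ).2 s
    let n₁ : homOb E E hπ A := homEquivOb E E hπ A one
    let n : homOb E E hπ A := homEquivOb E E hπ A φ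
    let L : bR η →ₗ[bR η] homOb E E hπ A := LinearMap.toSpanSingleton _ _ n₁
    have hr : ∀ (η₀ : Q.obj) (r : Γ(StMod.sch Q η₀, ⊤)), StMod.unitSect π η₀ r = r • StMod.unitSect π η₀ 1 :=
      fun η₀ r => by rw [← map_smul, smul_eq_mul, mul_one]
    suffices hc : (Submodule.Quotient.mk n : homOb E E hπ A ⧸ LinearMap.range L) = 0 by
      rw [Submodule.Quotient.mk_eq_zero] at hc
      obtain ⟨r, hr'⟩ := hc
      refine ⟨r, ?_⟩
      have h1 : r • one = φ := by
        have h2 := congrArg (homEquivOb E E hπ A).symm hr'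
        simp only [L, n₁, n, LinearMap.toSpanSingleton_apply] at h2
        rwa [homEquivOb_symm_smul, AddEquiv.symm_apply_apply, AddEquiv.symm_apply_apply] at h2
      rw [← h1, secHom_smul, hone, ← hr]
    refine eq_zero_of_flat_cover (X := StMod.sch Q η) _ fun t => ?_
    obtain ⟨η', g, hη', hfl, ht, hb⟩ := h t
    refine ⟨StMod.sch Q η', StMod.bmap Q g, hη', hfl, ht, ?_⟩
    let A' : AObj Q := ⟨η', hη'⟩
    letI : Algebra (bR η) (bR η') := (bmapR g).toAlgebra
    obtain ⟨b, hb'⟩ := hb.2 (secHom E η' (transp E E g φ))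
    have hone' : secHom E η' (transp E E g one) = StMod.unitSect π η' 1 :=
      StMod.Mod.RelSect.ext _ _ _ fun ξ α => by rw [secHom_transp, hone, relSect_restrict_unit, map_one]
    have h1 : b • transp E E g one = transp E E g φ :=
      (secHom_bijective E η' hπ).1 (by rw [secHom_smul, hone', ← hr, hb'])
    have hbc : ∀ (b : bR η') (ψ : onFib π E η ⟶ onFib π E η),
        (homEquivOb E E hπ A').symm ((homMod E E hπ).bcm (A' := A') (A := A) g (b ⊗ₜ homEquivOb E E hπ A ψ)) =
          b • transp E E g ψ := fun b ψ => by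
      show (homEquivOb E E hπ A').symm (b • (homMod E E hπ).r (A' := A') (A := A) g (homEquivOb E E hπ A ψ)) = _
      rw [homEquivOb_symm_smul, homMod_r, AddEquiv.symm_apply_apply]
    have h2 : (1 : bR η') ⊗ₜ[bR η] n = b ⊗ₜ[bR η] n₁ :=
      (isBC_homMod E E hπ hfp (A' := A') (A := A) g hfl).1 ((homEquivOb E E hπ A').symm.injective (by
        rw [hbc, hbc, one_smul, h1]))
    show (1 : bR η') ⊗ₜ[bR η] (LinearMap.range L).mkQ n = 0
    rw [← LinearMap.lTensor_tmul, h2, LinearMap.lTensor_tmul,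
      show (LinearMap.range L).mkQ n₁ = 0 from
        (Submodule.Quotient.mk_eq_zero _).2 ⟨1, LinearMap.toSpanSingleton_apply_one _ _ _⟩, TensorProduct.tmul_zero]

end Groth.Agent.RelGen
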