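import Mathlib
import Groth.Agent.RelGen.IdealSect
import Groth.Agent.RelGen.UnitDesc

/-!
# The unit into the direct image of the structure sheaf: base change along affine morphisms
-/

universe u

open CategoryTheory CategoryTheory.Limits AlgebraicGeometry TopologicalSpace Opposite TensorProduct

set_option autoImplicit false
set_option backward.isDefEq.respectTransparency false
set_option backward.isDefEq.respectTransparency.types false
set_option linter.style.haveILetI false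

noncomputable section

namespace Groth.Agent.RelGen

open Groth.Agent.QC Groth.Agent.QDescent AffMod

variable {S : Scheme.{u}}

local notation "AS" => AlgSt.IsAlgStack Scheme.fppfPrecoverage

theorem isoSpec_inv_appTop (X : Scheme.{u}) [IsAffine X] :
    X.isoSpec.inv.appTop = (Scheme.ΓSpecIso Γ(X, ⊤)).inv := by
  have h1 : X.isoSpec.inv.appTop ≫ (Scheme.ΓSpecIso Γ(X, ⊤)).hom = 𝟙 _ := by
    have h2 : X.isoSpec.hom.appTop = (Scheme.ΓSpecIso Γ(X, ⊤)).hom := Scheme.toSpecΓ_appTop X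
    rw [← h2, ← Scheme.Hom.comp_appTop, Iso.hom_inv_id]
    rfl
  exact ((Iso.eq_comp_inv _).2 h1).trans (Category.id_comp _)

/-- A morphism to an affine scheme from a ring map. -/
theorem exists_toAffine {X : Scheme.{u}} [IsAffine X] {R : CommRingCat.{u}} (f : Γ(X, ⊤) ⟶ R) :
    ∃ k : Spec R ⟶ X, k.appTop = f ≫ (Scheme.ΓSpecIso R).inv := by
  refine ⟨Spec.map f ≫ X.isoSpec.inv, ?_⟩
  rw [Scheme.Hom.comp_appTop, isoSpec_inv_appTop, ← Scheme.ΓSpecIso_inv_naturality]

variable {𝒳 Q : AlgSt.Cat S} {π : 𝒳 ⥤ᵇ Q}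

/-- The pullback of a function on the base to an object over it. -/
abbrev resFun {η : Q.obj} (r : Γ(StMod.sch Q η, ⊤)) (x : (StMod.fibCat π η).obj) :
    Γ(StMod.sch (StMod.fibCat π η) x, ⊤) :=
  (uFib π η x).appTop.hom r

theorem resFun_nat {η : Q.obj} (r : Γ(StMod.sch Q η, ⊤)) {x' x : (StMod.fibCat π η).obj} (c : x' ⟶ x) :
    (StMod.bmap (StMod.fibCat π η) c).appTop.hom (resFun r x) = resFun r x' := by
  show ((uFib π η x).appTop ≫ (StMod.bmap (StMod.fibCat π η) c).appTop).hom r = _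
  rw [← Scheme.Hom.comp_appTop]
  exact congrArg (fun k => (Scheme.Hom.appTop k).hom r) (uFib_nat π c)

theorem resFun_push {η' η : Q.obj} (ψ : η' ⟶ η) (r : Γ(StMod.sch Q η, ⊤)) (w : (StMod.fibCat π η').obj) :
    resFun r (push π ψ w) = resFun ((StMod.bmap Q ψ).appTop.hom r) w := by
  show _ = ((StMod.bmap Q ψ).appTop ≫ (uFib π η' w).appTop).hom r
  rw [← Scheme.Hom.comp_appTop]
  exact congrArg (fun k => (Scheme.Hom.appTop k).hom r) (uFib_push π ψ w)

variable {η : Q.obj}

/-- A global section of the structure sheaf over `η` is a function on `η`. -/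
theorem exists_fun_of_sect (h : Function.Bijective (StMod.unitSect π η))
    (φ : StMod.OQ (StMod.fibCat π η) ⟶ StMod.OQ (StMod.fibCat π η)) :
    ∃ r, ∀ x, valSec φ x = resFun (π := π) r x := by
  let t : StMod.Mod.RelSect π (StMod.O 𝒳) η :=
    ⟨fun ξ α => valSec φ (CostructuredArrow.mk α), fun ξ' ξ c α =>
      valSec_nat φ (x' := CostructuredArrow.mk (π.map c ≫ α)) (x := CostructuredArrow.mk α)
        (CostructuredArrow.homMk c rfl)⟩
  obtain ⟨r, hr⟩ := h.2 t
  exact ⟨r, fun x => congrArg (fun k : StMod.Mod.RelSect π (StMod.O 𝒳) η => k.1 x.left x.hom) hr.symm⟩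

/-- A function on `η` as a global section of the structure sheaf. -/
theorem exists_sect_of_fun (h𝒳 : FibCat.IsFibGrpd 𝒳.p) (r : Γ(StMod.sch Q η, ⊤)) :
    ∃ φ : StMod.OQ (StMod.fibCat π η) ⟶ StMod.OQ (StMod.fibCat π η),
      ∀ x, IsAffine (StMod.sch (StMod.fibCat π η) x) → valSec φ x = resFun r x := by
  obtain ⟨φ, hφ⟩ := exists_sect (M := StMod.OQ (StMod.fibCat π η)) (isFibGrpd_fibCat h𝒳 π η)
    (fun x _ => resFun r x) (fun {x' x} c _ _ => (trT_eq_map (StMod.OQ _).obj c _).trans (resFun_nat r c))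
  exact ⟨φ, hφ⟩

theorem resFun_mem_of_zero {η' : Q.obj} {ψ : η' ⟶ η} [IsAffine (StMod.sch Q η)] [IsAffine (StMod.sch Q η')]
    [IsClosedImmersion (StMod.bmap Q ψ)] (d : BCData (π := π) ψ) (r : Γ(StMod.sch Q η, ⊤))
    (x : (StMod.fibCat π η).obj) [IsAffine (StMod.sch (StMod.fibCat π η) x)]
    (h : (d.prj x).appTop.hom (resFun r x) = 0) :
    resFun r x ∈ Ideal.span ((fun a => resFun a x) '' (RingHom.ker (StMod.bmap Q ψ).appTop.hom :
      Set Γ(StMod.sch Q η, ⊤))) := by
  set I := Ideal.span ((fun a => resFun a x) '' (RingHom.ker (StMod.bmap Q ψ).appTop.hom :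
    Set Γ(StMod.sch Q η, ⊤))) with hI
  let q : Γ(StMod.sch (StMod.fibCat π η) x, ⊤) ⟶ CommRingCat.of (_ ⧸ I) := CommRingCat.ofHom (Ideal.Quotient.mk I)
  have hs : Function.Surjective (StMod.bmap Q ψ).appTop.hom :=
    Scheme.Hom.app_surjective (StMod.bmap Q ψ) ⊤ (isAffineOpen_top _)
  let g : Γ(StMod.sch Q η', ⊤) ⟶ CommRingCat.of (_ ⧸ I) := CommRingCat.ofHom
    (RingHom.liftOfSurjective (StMod.bmap Q ψ).appTop.hom hs ⟨q.hom.comp (uFib π η x).appTop.hom, fun a ha => by
      show Ideal.Quotient.mk I ((uFib π η x).appTop.hom a) = 0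
      exact Ideal.Quotient.eq_zero_iff_mem.2 (Ideal.subset_span ⟨a, ha, rfl⟩)⟩)
  have hg : (StMod.bmap Q ψ).appTop ≫ g = (uFib π η x).appTop ≫ q := by
    refine CommRingCat.hom_ext ?_
    exact RingHom.liftOfSurjective_comp _ hs _
  obtain ⟨k, hk⟩ := exists_toAffine q
  obtain ⟨l, hl⟩ := exists_toAffine g
  have hc : k ≫ uFib π η x = l ≫ StMod.bmap Q ψ := ext_of_isAffine (by
    rw [Scheme.Hom.comp_appTop, Scheme.Hom.comp_appTop, hk, hl, reassoc_of% hg])
  have e := congrArg (fun m => (Scheme.Hom.appTop m).hom (resFun r x)) ((d.isBC x).lift_fst k l hc)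
  simp only [Scheme.Hom.comp_appTop, CommRingCat.hom_comp, RingHom.comp_apply] at e
  have h0 : k.appTop.hom (resFun r x) = 0 :=
    e.symm.trans ((congrArg (Scheme.Hom.appTop ((d.isBC x).lift k l hc)).hom h).trans (map_zero _))
  rw [hk] at h0
  exact Ideal.Quotient.eq_zero_iff_mem.1 ((ConcreteCategory.bijective_of_isIso
    (Scheme.ΓSpecIso (CommRingCat.of (_ ⧸ I))).inv).1 (h0.trans (map_zero _).symm))

/-- Bijectivity of the unit passes to closed subschemes of affine objects, by exactness. -/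
theorem unitBij_closedImm (h𝒳 : AS 𝒳) (hQ : AS Q) (hπ : FibData π) {η' : Q.obj} (ψ : η' ⟶ η)
    [IsAffine (StMod.sch Q η)] [IsAffine (StMod.sch Q η')] [IsClosedImmersion (StMod.bmap Q ψ)]
    (hG : GExact (StMod.fibCat π η)) (h : Function.Bijective (StMod.unitSect π η)) :
    Function.Bijective (StMod.unitSect π η') := by
  have hZ := isAlgStack_fibCat h𝒳 hQ π η
  have hg := hZ.isStack.1
  haveI : IsAffineHom (StMod.bmap Q ψ) := inferInstance
  obtain ⟨d⟩ := exists_bcData (π := π) ψ h𝒳.isStack.1 hQ.isStack.1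
  have hs : Function.Surjective (StMod.bmap Q ψ).appTop.hom :=
    Scheme.Hom.app_surjective (StMod.bmap Q ψ) ⊤ (isAffineOpen_top _)
  have hsec : ∀ (w : (StMod.fibCat π η').obj) (v : Γ(StMod.sch (StMod.fibCat π η) (push π ψ w), ⊤)),
      (StMod.bmap 𝒳 (d.sec w).left).appTop.hom ((d.prj (push π ψ w)).appTop.hom v) = v := fun w v => by
    have e : StMod.bmap 𝒳 (d.sec w).left ≫ d.prj (push π ψ w) = 𝟙 _ := by
      show StMod.bmap 𝒳 (d.sec w).left ≫ StMod.bmap 𝒳 (d.hom (push π ψ w)).left = _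
      exact (StMod.bmap_comp _ _).symm.trans ((congrArg (StMod.bmap 𝒳) (d.sec_left w)).trans (StMod.bmap_id _))
    have e1 := congrArg (fun m => (Scheme.Hom.appTop m).hom v) e
    simp only [Scheme.Hom.comp_appTop, CommRingCat.hom_comp, RingHom.comp_apply] at e1
    exact e1
  refine ⟨(injective_iff_map_eq_zero _).2 fun r' hr' => ?_, fun t => ?_⟩
  · obtain ⟨r, rfl⟩ := hs r'
    have h0 : ∀ x, IsAffine (StMod.sch (StMod.fibCat π η) x) → resFun (π := π) r x ∈
        Ideal.span ((fun a => resFun a x) '' (RingHom.ker (StMod.bmap Q ψ).appTop.hom :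
          Set Γ(StMod.sch Q η, ⊤))) := fun x hx => by
      haveI := hx
      refine resFun_mem_of_zero d r x ?_
      have h1 : resFun ((StMod.bmap Q ψ).appTop.hom r) (d.obj x) = 0 :=
        congrArg (fun k : StMod.Mod.RelSect π (StMod.O 𝒳) η' => k.1 (d.obj x).left (d.obj x).hom) hr'
      refine Eq.trans ?_ h1
      show ((uFib π η x).appTop ≫ (d.prj x).appTop).hom r = ((StMod.bmap Q ψ).appTop ≫ (uFib π η' (d.obj x)).appTop).hom r
      rw [← Scheme.Hom.comp_appTop, ← Scheme.Hom.comp_appTop]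
      exact congrArg (fun k => (Scheme.Hom.appTop k).hom r) (d.isBC x).w
    obtain ⟨I, _, a, haff, hcov⟩ := hπ.qc η ‹_›
    choose J hJ hmem using fun i => Submodule.mem_span_finite_of_mem_span (h0 (a i) (haff i))
    -- a finite set of functions vanishing on the closed subscheme
    classical
    letI := Fintype.ofFinite I
    choose f hf hfx using fun (i : I) (v : J i) => hJ i v.2
    let K := Σ i, J i
    let n := Fintype.card K
    let e := (Fintype.equivFin K).symm
    let ak : Fin n → Γ(StMod.sch Q η, ⊤) := fun k => f (e k).1 (e k).2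
    have hall : ∀ x, IsAffine (StMod.sch (StMod.fibCat π η) x) →
        resFun r x ∈ Ideal.span (Set.range fun k => resFun (π := π) (ak k) x) := by
      intro x hx
      haveI := hx
      rw [← Submodule.Quotient.mk_eq_zero]
      refine eq_zero_of_flat_cover (X := StMod.sch (StMod.fibCat π η) x) _ fun p => ?_
      obtain ⟨x₁, φ₁, hφ₁, i, ⟨c⟩⟩ := hcov x p
      obtain ⟨x', ι, hx', hit, -⟩ := exists_affine_hit hg φ₁ hφ₁ (U := ⊤) trivial
      refine ⟨_, StMod.bmap _ (ι ≫ φ₁), hx', hit.flat, hit.mem, ?_⟩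
      letI : Algebra Γ(StMod.sch (StMod.fibCat π η) x, ⊤) Γ(StMod.sch (StMod.fibCat π η) x', ⊤) :=
        (StMod.bmap _ (ι ≫ φ₁)).appTop.hom.toAlgebra
      set I' := Ideal.span (Set.range fun k => resFun (π := π) (ak k) x)
      have hmem' : resFun r x' ∈ Ideal.map (algebraMap _ Γ(StMod.sch (StMod.fibCat π η) x', ⊤)) I' := by
        rw [← resFun_nat r (ι ≫ c)]
        have hi : resFun r (a i) ∈ Ideal.span (Set.range fun k => resFun (π := π) (ak k) (a i)) := by
          refine Submodule.span_mono ?_ (hmem i)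
          intro v hv
          refine ⟨e.symm ⟨i, ⟨v, hv⟩⟩, ?_⟩
          exact (congrArg (fun q : K => resFun (π := π) (f q.1 q.2) (a i)) (e.apply_symm_apply ⟨i, ⟨v, hv⟩⟩)).trans
            (hfx i ⟨v, hv⟩)
        refine (?_ : Ideal.map (StMod.bmap _ (ι ≫ c)).appTop.hom (Ideal.span (Set.range fun k => resFun (π := π) (ak k) (a i))) ≤
          Ideal.map (algebraMap _ Γ(StMod.sch (StMod.fibCat π η) x', ⊤)) I') (Ideal.mem_map_of_mem _ hi)
        rw [Ideal.map_span, Ideal.span_le]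
        rintro _ ⟨_, ⟨k, rfl⟩, rfl⟩
        show (StMod.bmap _ (ι ≫ c)).appTop.hom (resFun (π := π) (ak k) (a i)) ∈ _
        rw [resFun_nat, ← resFun_nat (ak k) (ι ≫ φ₁)]
        exact Ideal.mem_map_of_mem _ (Ideal.subset_span ⟨k, rfl⟩)
      rw [← resFun_nat r (ι ≫ φ₁)] at hmem'
      have key : ∀ z ∈ Ideal.map (algebraMap _ Γ(StMod.sch (StMod.fibCat π η) x', ⊤)) I',
          z ⊗ₜ[Γ(StMod.sch (StMod.fibCat π η) x, ⊤)]
            (Submodule.Quotient.mk 1 : Γ(StMod.sch (StMod.fibCat π η) x, ⊤) ⧸ I') = 0 := by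
        intro z hz
        refine Submodule.span_induction ?_ (TensorProduct.zero_tmul _ _)
          (fun a b _ _ ha hb => by rw [TensorProduct.add_tmul, ha, hb, add_zero])
          (fun b a _ ha => by rw [← TensorProduct.smul_tmul', ha, smul_zero]) hz
        rintro _ ⟨v, hv, rfl⟩
        rw [Algebra.algebraMap_eq_smul_one, TensorProduct.smul_tmul, ← Submodule.Quotient.mk_smul, smul_eq_mul,
          mul_one, (Submodule.Quotient.mk_eq_zero _).2 hv, TensorProduct.tmul_zero]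
      rw [show (Submodule.Quotient.mk (resFun r x) : Γ(StMod.sch (StMod.fibCat π η) x, ⊤) ⧸ I') =
          resFun r x • Submodule.Quotient.mk 1 by rw [← Submodule.Quotient.mk_smul, smul_eq_mul, mul_one],
        ← TensorProduct.smul_tmul, ← Algebra.algebraMap_eq_smul_one]
      exact key _ hmem'
    choose φa hφa using fun k => exists_sect_of_fun (π := π) h𝒳.isStack.1 (ak k)
    obtain ⟨φr, hφr⟩ := exists_sect_of_fun (π := π) h𝒳.isStack.1 r
    obtain ⟨s, hs'⟩ := exists_comb hZ hG φa φr fun x hx _ => by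
      rw [hφr x hx, show (fun k => valSec (φa k) x) = fun k => resFun (ak k) x from funext fun k => hφa k x hx]
      exact hall x hx
    choose s₀ hs₀ using fun k => exists_fun_of_sect h (s k)
    have hrs : r = ∑ k, s₀ k * ak k := by
      refine h.1 ?_
      obtain ⟨φd, hφd⟩ := exists_sect_of_fun (π := π) h𝒳.isStack.1 (r - ∑ k, s₀ k * ak k)
      have hz : φd = 0 := sect_ext_of_ok hZ fun x hx hok => by
        show valSec φd x = 0
        rw [hφd x hx]
        show (uFib π η x).appTop.hom (r - ∑ k, s₀ k * ak k) = 0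
        rw [map_sub, map_sum, sub_eq_zero]
        refine (hφr x hx).symm.trans ((hs' x hx hok).trans (Finset.sum_congr rfl fun k _ => ?_))
        rw [hs₀, hφa k x hx, map_mul]
      refine sub_eq_zero.1 ?_
      rw [← map_sub]
      refine StMod.Mod.RelSect.ext _ _ _ fun ξ α => top_ext (StMod.OQ 𝒳) fun p => ?_
      obtain ⟨x', c, hx', hc, -⟩ := exists_affine_hit h𝒳.isStack.1 (𝟙 ξ) (hits_id ξ p) (U := ⊤) trivial
      refine ⟨x', c ≫ 𝟙 ξ, hc, ?_⟩
      rw [trT_eq_map, trT_eq_map]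
      refine ((StMod.unitSect π η _).2 (c ≫ 𝟙 ξ) α).trans ?_
      refine ((hφd (CostructuredArrow.mk (π.map (c ≫ 𝟙 ξ) ≫ α)) hx').symm.trans ?_).trans
        ((StMod.O 𝒳).mapTop_zero (c ≫ 𝟙 ξ)).symm
      rw [hz]
      rfl
    rw [hrs, map_sum]
    refine Finset.sum_eq_zero fun k _ => ?_
    rw [map_mul, show (StMod.bmap Q ψ).appTop.hom (ak k) = 0 from hf _ _, mul_zero]
  · have hf : ∀ {x' x : (StMod.fibCat π η).obj} (c : x' ⟶ x),
        (StMod.bmap 𝒳 (d.mapObj c).left).appTop.hom (t.1 (d.obj x).left (d.obj x).hom) =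
          t.1 (d.obj x').left (d.obj x').hom := fun {x' x} c =>
      (t.2 (d.mapObj c).left (d.obj x).hom).trans (congrArg (t.1 (d.obj x').left) (CostructuredArrow.w (d.mapObj c)))
    obtain ⟨Φ, hΦ⟩ := exists_sect (M := d.pushQ (StMod.OQ (StMod.fibCat π η'))) hg
      (fun x _ => (show Γ((StMod.OQ (StMod.fibCat π η')).obj.obj (d.obj x), d.prj x ⁻¹ᵁ ⊤) from
        t.1 (d.obj x).left (d.obj x).hom))
      (fun {x' x} c _ _ => (d.tr_pushQ _ c ⊤ ⊤ (top_le c) _).trans
        ((trT_eq_map (StMod.OQ (StMod.fibCat π η')).obj (d.mapObj c) _).trans (hf c)))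
    obtain ⟨v, hv⟩ := exists_sect (M := d.pushQ (StMod.OQ (StMod.fibCat π η'))) hg
      (fun x _ => (show Γ((StMod.OQ (StMod.fibCat π η')).obj.obj (d.obj x), d.prj x ⁻¹ᵁ ⊤) from
        oneSec (StMod.fibCat π η') (d.obj x)))
      (fun {x' x} c _ _ => (d.tr_pushQ _ c ⊤ ⊤ (top_le c) _).trans (trT_oneSec (d.mapObj c)))
    have hvb : ∀ x, IsAffine (StMod.sch (StMod.fibCat π η) x) → ∀ b : Γ(StMod.sch (StMod.fibCat π η) x, ⊤),
        (show Γ(StMod.sch (StMod.fibCat π η') (d.obj x), ⊤) from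
          (v.hom.app x).app ⊤ (show Γ((StMod.OQ (StMod.fibCat π η)).obj.obj x, ⊤) from b)) =
          (d.prj x).appTop.hom b := fun x hx b => by
      refine (app_eq_smul_oneSec v x b).trans ?_
      rw [hv x hx]
      exact mul_one ((d.prj x).appTop.hom b)
    have hsv : StMod.Mod.IsSurj v.hom := fun x hx g => by
      haveI := hx
      haveI : IsClosedImmersion (d.prj x) := MorphismProperty.of_isPullback (d.isBC x).flip ‹_›
      obtain ⟨b, hb⟩ := Scheme.Hom.app_surjective (d.prj x) ⊤ (isAffineOpen_top _) g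
      exact ⟨b, (hvb x hx b).trans hb⟩
    obtain ⟨φ', hφ'⟩ := hG v hsv Φ
    obtain ⟨r, hr⟩ := exists_fun_of_sect h φ'
    refine ⟨(StMod.bmap Q ψ).appTop.hom r, StMod.Mod.RelSect.ext _ _ _ fun ξ α => top_ext (StMod.OQ 𝒳) fun p => ?_⟩
    obtain ⟨x', c, hx', hc, -⟩ := exists_affine_hit h𝒳.isStack.1 (𝟙 ξ) (hits_id ξ p) (U := ⊤) trivial
    refine ⟨x', c ≫ 𝟙 ξ, hc, ?_⟩
    rw [trT_eq_map, trT_eq_map]
    refine ((StMod.unitSect π η' _).2 (c ≫ 𝟙 ξ) α).trans (Eq.trans ?_ (t.2 (c ≫ 𝟙 ξ) α).symm)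
    let w : (StMod.fibCat π η').obj := CostructuredArrow.mk (π.map (c ≫ 𝟙 ξ) ≫ α)
    show resFun ((StMod.bmap Q ψ).appTop.hom r) w = t.1 w.left w.hom
    have e1 : (d.prj (push π ψ w)).appTop.hom (resFun r (push π ψ w)) =
        t.1 (d.obj (push π ψ w)).left (d.obj (push π ψ w)).hom := by
      rw [← hr (push π ψ w)]
      refine (hvb (push π ψ w) hx' (valSec φ' (push π ψ w))).symm.trans ?_
      exact (congrArg (fun k : StMod.OQ _ ⟶ d.pushQ (StMod.OQ (StMod.fibCat π η')) =>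
        (k.hom.app (push π ψ w)).app ⊤ (oneSec _ (push π ψ w))) hφ').trans (hΦ (push π ψ w) hx')
    rw [← resFun_push, ← hsec w (resFun r (push π ψ w)), e1]
    exact (t.2 (d.sec w).left (d.obj (push π ψ w)).hom).trans (congrArg (t.1 w.left) (CostructuredArrow.w (d.sec w)))

/-- Bijectivity of the unit passes along morphisms of affine objects, by exactness. -/
theorem unitBij_affine (h𝒳 : AS 𝒳) (hQ : AS Q) (hπ : FibData π) {η' : Q.obj} (ψ : η' ⟶ η)
    [IsAffine (StMod.sch Q η)] [IsAffine (StMod.sch Q η')] (hG : GExact (StMod.fibCat π η))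
    (h : Function.Bijective (StMod.unitSect π η)) : Function.Bijective (StMod.unitSect π η') := by
  let A := Γ(StMod.sch Q η, ⊤)
  let P := CommRingCat.of (MvPolynomial Γ(StMod.sch Q η', ⊤) A)
  let i : A ⟶ P := CommRingCat.ofHom MvPolynomial.C
  obtain ⟨q, hq⟩ := exists_toAffine i
  let j : P ⟶ Γ(StMod.sch Q η', ⊤) := CommRingCat.ofHom (MvPolynomial.eval₂Hom (StMod.bmap Q ψ).appTop.hom id)
  let k : StMod.sch Q η' ⟶ Spec P := (StMod.sch Q η').isoSpec.hom ≫ Spec.map j
  have hk : k ≫ q = StMod.bmap Q ψ := ext_of_isAffine (by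
    rw [Scheme.Hom.comp_appTop, hq, Scheme.Hom.comp_appTop, Category.assoc, ← Category.assoc _ _ (Scheme.Hom.appTop _),
      ← Scheme.ΓSpecIso_inv_naturality, Category.assoc,
      show (StMod.sch Q η').isoSpec.hom.appTop = (Scheme.ΓSpecIso Γ(StMod.sch Q η', ⊤)).hom from
        Scheme.toSpecΓ_appTop _, Iso.inv_hom_id, Category.comp_id]
    exact CommRingCat.hom_ext (RingHom.ext fun a => MvPolynomial.eval₂Hom_C _ _ a))
  haveI : IsClosedImmersion k := by
    haveI : IsClosedImmersion (Spec.map j) := IsClosedImmersion.spec_of_surjective j fun b =>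
      ⟨MvPolynomial.X b, MvPolynomial.eval₂Hom_X' _ _ b⟩
    infer_instance
  haveI : Flat q := by
    rw [HasRingHomProperty.iff_of_isAffine (P := @Flat), hq]
    exact RingHom.Flat.respectsIso.1 i.hom (Scheme.ΓSpecIso P).symm.commRingCatIsoToRingEquiv
      (RingHom.flat_algebraMap_iff.2 (inferInstanceAs (Module.Flat A (MvPolynomial Γ(StMod.sch Q η', ⊤) A))))
  obtain ⟨η'', e, φ, hφ⟩ := exists_lift_scheme hQ.isStack.1 (x := η) q
  haveI : IsAffine (StMod.sch Q η'') := IsAffine.of_isIso (eqToHom e)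
  haveI : Flat (StMod.bmap Q φ) := by rw [hφ]; infer_instance
  obtain ⟨χ, hχ, -⟩ := exists_factor hQ.isStack.1 φ ψ (k ≫ eqToHom e.symm) (by
    rw [hφ, Category.assoc, eqToHom_trans_assoc, eqToHom_refl, Category.id_comp, hk])
  haveI : IsClosedImmersion (StMod.bmap Q χ) := by rw [hχ]; infer_instance
  exact unitBij_closedImm h𝒳 hQ hπ χ (hG.baseChange φ h𝒳.isStack.1 hQ.isStack.1)
    (unitBij_baseChange hπ φ h)

end Groth.Agent.RelGen
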