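import Mathlib
import Groth.Agent.RelGen.SpanSect
import Groth.Agent.RelGen.UnitAff

/-!
# Noetherianity of sections of direct images along morphisms with exact direct image
-/

universe u

open CategoryTheory CategoryTheory.Limits AlgebraicGeometry TopologicalSpace Opposite TensorProduct

set_option autoImplicit false
set_option backward.isDefEq.respectTransparency false
set_option backward.isDefEq.respectTransparency.types false
set_option linter.style.haveILetI false

noncomputable section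

namespace Groth.Agent.RelGen

open Groth.Agent.QC Groth.Agent.QDescent AffMod

variable {S : Scheme.{u}} {𝒳 Q : AlgSt.Cat S} {π : 𝒳 ⥤ᵇ Q} {η : Q.obj} (F : StMod.QCoh 𝒳)

local notation "AS" => AlgSt.IsAlgStack Scheme.fppfPrecoverage

/-- The value of a section of the direct image at an object over `η`. -/
abbrev valRel (t : StMod.Mod.RelSect π F.obj η) (x : (StMod.fibCat π η).obj) : Γ((onFib π F η).obj.obj x, ⊤) :=
  t.1 x.left x.hom

theorem valRel_nat (t : StMod.Mod.RelSect π F.obj η) {x' x : (StMod.fibCat π η).obj} (c : x' ⟶ x) :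
    trT (onFib π F η).obj c (valRel F t x) = valRel F t x' :=
  (tr_onFib π F η c ⊤ ⊤ (top_le c) _).trans ((trT_eq_map F.obj c.left _).trans
    ((t.2 c.left x.hom).trans (congrArg (t.1 x'.left) (CostructuredArrow.w c))))

theorem exists_hom_of_relSect (h𝒳 : FibCat.IsFibGrpd 𝒳.p) (t : StMod.Mod.RelSect π F.obj η) :
    ∃ φ : StMod.OQ (StMod.fibCat π η) ⟶ onFib π F η,
      ∀ x, IsAffine (StMod.sch (StMod.fibCat π η) x) → valMod φ x = valRel F t x :=
  exists_sect (M := onFib π F η) (isFibGrpd_fibCat h𝒳 π η) (fun x _ => valRel F t x)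
    (fun {_ _} c _ _ => valRel_nat F t c)

/-- Sections of the direct image are equal once they are so on affine objects. -/
theorem relSect_ext_aff (h𝒳 : FibCat.IsFibGrpd 𝒳.p) {t t' : StMod.Mod.RelSect π F.obj η}
    (h : ∀ x, IsAffine (StMod.sch (StMod.fibCat π η) x) → valRel F t x = valRel F t' x) : t = t' := by
  refine StMod.Mod.RelSect.ext _ _ _ fun ξ α => top_ext F fun p => ?_
  obtain ⟨x', c, hx', hc, -⟩ := exists_affine_hit h𝒳 (𝟙 ξ) (hits_id ξ p) (U := ⊤) trivial
  refine ⟨x', c ≫ 𝟙 ξ, hc, ?_⟩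
  rw [trT_eq_map, trT_eq_map]
  refine (t.2 (c ≫ 𝟙 ξ) α).trans (Eq.trans ?_ (t'.2 (c ≫ 𝟙 ξ) α).symm)
  exact h (CostructuredArrow.mk (π.map (c ≫ 𝟙 ξ) ≫ α)) hx'

theorem valRel_smul (r : Γ(StMod.sch Q η, ⊤)) (t : StMod.Mod.RelSect π F.obj η) (x : (StMod.fibCat π η).obj) :
    valRel F (r • t) x = (show Γ(StMod.sch 𝒳 x.left, ⊤) from resFun r x) •
      (show Γ(F.obj.obj x.left, ⊤) from valRel F t x) := rfl

/-- Linear combinations are computed on affine objects. -/
theorem valRel_sum {ι : Type*} (s : Finset ι) (f : ι → StMod.Mod.RelSect π F.obj η)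
    (x : (StMod.fibCat π η).obj) : valRel F (∑ i ∈ s, f i) x = ∑ i ∈ s, valRel F (f i) x :=
  map_sum (AddMonoidHom.mk' (fun t : StMod.Mod.RelSect π F.obj η => valRel F t x) fun _ _ => rfl) f s

/-- A section locally in the span of finitely many is a linear combination of them. -/
theorem mem_span_of_locally (h𝒳 : AS 𝒳) (hQ : AS Q) (hG : GExact (StMod.fibCat π η))
    (hb : Function.Bijective (StMod.unitSect π η)) {n : ℕ} (a : Fin n → StMod.Mod.RelSect π F.obj η)
    (r : StMod.Mod.RelSect π F.obj η)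
    (h : ∀ x, IsAffine (StMod.sch (StMod.fibCat π η) x) →
      valRel F r x ∈ Submodule.span Γ(StMod.sch (StMod.fibCat π η) x, ⊤) (Set.range fun i => valRel F (a i) x)) :
    r ∈ Submodule.span Γ(StMod.sch Q η, ⊤) (Set.range a) := by
  have hZ := isAlgStack_fibCat h𝒳 hQ π η
  choose φa hφa using fun i => exists_hom_of_relSect F h𝒳.isStack.1 (a i)
  obtain ⟨φr, hφr⟩ := exists_hom_of_relSect F h𝒳.isStack.1 r
  obtain ⟨s, hs⟩ := exists_combMod hZ hG φa φr fun x hx _ => by
    rw [hφr x hx, show (fun i => valMod (φa i) x) = fun i => valRel F (a i) x from funext fun i => hφa i x hx]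
    exact h x hx
  choose b hbs using fun i => exists_fun_of_sect hb (s i)
  refine (Submodule.mem_span_range_iff_exists_fun _).2 ⟨b, ?_⟩
  obtain ⟨φd, hφd⟩ := exists_hom_of_relSect F h𝒳.isStack.1 (∑ i, b i • a i)
  have e : φd = φr := sect_ext_of_ok hZ fun x hx hok => by
    show valMod φd x = valMod φr x
    rw [hs x hx hok, hφd x hx, valRel_sum]
    exact Finset.sum_congr rfl fun i _ => by rw [hφa i x hx, hbs i x]; rfl
  refine relSect_ext_aff F h𝒳.isStack.1 fun x hx => ?_
  rw [← hφd x hx, e, hφr x hx]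

/-- Membership in the span of given sections passes from a finite affine cover to all affine objects. -/
theorem mem_span_of_cover (hg : FibCat.IsFibGrpd (StMod.fibCat π η).p) {I : Type u}
    {a : I → (StMod.fibCat π η).obj}
    (hcov : ∀ (x : (StMod.fibCat π η).obj) (p : StMod.sch (StMod.fibCat π η) x), ∃ (x' : (StMod.fibCat π η).obj)
      (φ : x' ⟶ x), Hits φ p ∧ ∃ i, Nonempty (x' ⟶ a i))
    {n : ℕ} (g : Fin n → StMod.Mod.RelSect π F.obj η) (r : StMod.Mod.RelSect π F.obj η)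
    (h : ∀ i, valRel F r (a i) ∈
      Submodule.span Γ(StMod.sch (StMod.fibCat π η) (a i), ⊤) (Set.range fun k => valRel F (g k) (a i)))
    (x : (StMod.fibCat π η).obj) (hx : IsAffine (StMod.sch (StMod.fibCat π η) x)) :
    valRel F r x ∈ Submodule.span Γ(StMod.sch (StMod.fibCat π η) x, ⊤) (Set.range fun k => valRel F (g k) x) := by
  haveI := hx
  rw [← Submodule.Quotient.mk_eq_zero]
  refine eq_zero_of_flat_cover (X := StMod.sch (StMod.fibCat π η) x) _ fun p => ?_
  obtain ⟨x₁, φ₁, hφ₁, i, ⟨c⟩⟩ := hcov x p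
  obtain ⟨x', ι, hx', hit, -⟩ := exists_affine_hit hg φ₁ hφ₁ (U := ⊤) trivial
  refine ⟨_, StMod.bmap _ (ι ≫ φ₁), hx', hit.flat, hit.mem, ?_⟩
  haveI := hx'
  let M := onFib π F η
  set P := Submodule.span Γ(StMod.sch (StMod.fibCat π η) x, ⊤) (Set.range fun k => valRel F (g k) x) with hP
  obtain ⟨co, hco⟩ := (Submodule.mem_span_range_iff_exists_fun _).1 (h i)
  let co' : Fin n → Γ(StMod.sch (StMod.fibCat π η) x', ⊤) := fun k => (StMod.bmap _ (ι ≫ c)).appTop.hom (co k)
  have h' : valRel F r x' = ∑ k, co' k • valRel F (g k) x' := by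
    rw [← valRel_nat F r (ι ≫ c), ← hco, map_sum]
    exact Finset.sum_congr rfl fun k _ => by rw [trT_smul, valRel_nat]
  have key : ∀ (q : Γ(StMod.sch (StMod.fibCat π η) x, ⊤) ⟶ Γ(StMod.sch (StMod.fibCat π η) x', ⊤))
      (_ : q = (StMod.bmap _ (ι ≫ φ₁)).appLE ⊤ ⊤ (top_le (ι ≫ φ₁))),
      letI := q.hom.toAlgebra
      (1 : Γ(StMod.sch (StMod.fibCat π η) x', ⊤)) ⊗ₜ[Γ(StMod.sch (StMod.fibCat π η) x, ⊤)]
        (Submodule.Quotient.mk (valRel F r x) : Γ(M.obj.obj x, ⊤) ⧸ P) = 0 := by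
    rintro q rfl
    letI : Algebra Γ(StMod.sch (StMod.fibCat π η) x, ⊤) Γ(StMod.sch (StMod.fibCat π η) x', ⊤) :=
      ((StMod.bmap _ (ι ≫ φ₁)).appLE ⊤ ⊤ (top_le (ι ≫ φ₁))).hom.toAlgebra
    obtain ⟨Φ, hΦ⟩ := exists_bijective_tr M (ι ≫ φ₁) (isAffineOpen_top (StMod.sch (StMod.fibCat π η) x))
      (isAffineOpen_top (StMod.sch (StMod.fibCat π η) x')) (top_le (ι ≫ φ₁))
    have hv : ∀ (t : StMod.Mod.RelSect π F.obj η),
        Φ ((1 : Γ(StMod.sch (StMod.fibCat π η) x', ⊤)) ⊗ₜ valRel F t x) = valRel F t x' := fun t =>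
      (hΦ _).trans (valRel_nat F t _)
    have e : (1 : Γ(StMod.sch (StMod.fibCat π η) x', ⊤)) ⊗ₜ[Γ(StMod.sch (StMod.fibCat π η) x, ⊤)] valRel F r x =
        ∑ k, co' k • ((1 : Γ(StMod.sch (StMod.fibCat π η) x', ⊤)) ⊗ₜ valRel F (g k) x) := by
      refine Φ.injective ?_
      rw [hv, h', map_sum]
      exact Finset.sum_congr rfl fun k _ => by rw [map_smul, hv]
    have e2 := congrArg (LinearMap.lTensor Γ(StMod.sch (StMod.fibCat π η) x', ⊤) P.mkQ) e
    rw [LinearMap.lTensor_tmul, Submodule.mkQ_apply, map_sum] at e2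
    refine e2.trans (Finset.sum_eq_zero fun k _ => ?_)
    have h0 : P.mkQ (valRel F (g k) x) = 0 := (Submodule.Quotient.mk_eq_zero P).2 (Submodule.subset_span ⟨k, rfl⟩)
    rw [TensorProduct.smul_tmul', LinearMap.lTensor_tmul, h0, TensorProduct.tmul_zero]
  exact key _ (appLE_top_eq (ι ≫ φ₁)).symm

/-- The sections of the direct image form a Noetherian module when the values on a finite affine cover do. -/
theorem isNoetherian_relSect (h𝒳 : AS 𝒳) (hQ : AS Q) (hG : GExact (StMod.fibCat π η))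
    (hb : Function.Bijective (StMod.unitSect π η)) {I : Type u} [Finite I] (a : I → (StMod.fibCat π η).obj)
    (hcov : ∀ (x : (StMod.fibCat π η).obj) (p : StMod.sch (StMod.fibCat π η) x), ∃ (x' : (StMod.fibCat π η).obj)
      (φ : x' ⟶ x), Hits φ p ∧ ∃ i, Nonempty (x' ⟶ a i))
    (hN : ∀ i, IsNoetherian Γ(StMod.sch (StMod.fibCat π η) (a i), ⊤) Γ((onFib π F η).obj.obj (a i), ⊤)) :
    IsNoetherian Γ(StMod.sch Q η, ⊤) (StMod.Mod.RelSect π F.obj η) := by
  classical
  letI := Fintype.ofFinite I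
  refine ⟨fun N => ?_⟩
  choose J hJ hJspan using fun i =>
    (Submodule.fg_span_iff_fg_span_finset_subset ((fun t => valRel F t (a i)) '' (N : Set _))).1
      ((hN i).noetherian (Submodule.span _ _))
  choose f hf hfx using fun (i : I) (v : J i) => hJ i v.2
  let K := Σ i, J i
  let n := Fintype.card K
  let e := (Fintype.equivFin K).symm
  let g : Fin n → StMod.Mod.RelSect π F.obj η := fun k => f (e k).1 (e k).2
  refine Submodule.fg_def.2 ⟨Set.range g, Set.finite_range g, le_antisymm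
    (Submodule.span_le.2 (Set.range_subset_iff.2 fun k => hf _ _)) fun r hr => ?_⟩
  refine mem_span_of_locally F h𝒳 hQ hG hb g r
    (mem_span_of_cover F (isFibGrpd_fibCat h𝒳.isStack.1 π η) hcov g r fun i => ?_)
  have h1 := (hJspan i).le (Submodule.subset_span (Set.mem_image_of_mem _ hr))
  refine Submodule.span_mono ?_ h1
  intro v hv
  refine ⟨e.symm ⟨i, ⟨v, hv⟩⟩, ?_⟩
  exact (congrArg (fun q : K => valRel F (f q.1 q.2) (a i)) (e.apply_symm_apply ⟨i, ⟨v, hv⟩⟩)).trans (hfx i ⟨v, hv⟩)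

end Groth.Agent.RelGen
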