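import Mathlib
import Groth.Agent.RelGen.CohPush
import Groth.Agent.RelGen.CohAff
import Groth.Agent.RelGen.CompTools
import Groth.Agent.RelGen.Compose
import Groth.Agent.RelGen.NoethSect
import Groth.Agent.RelGen.CohBase

/-!
# Exactness of global sections passes along functors with exact direct image; composition with affine functors
-/

universe u

open CategoryTheory CategoryTheory.Limits AlgebraicGeometry TopologicalSpace Opposite TensorProduct

set_option autoImplicit false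
set_option backward.isDefEq.respectTransparency false
set_option backward.isDefEq.respectTransparency.types false
set_option linter.style.haveILetI false

noncomputable section

namespace Groth.Agent.RelGen

open Groth.Agent.QC Groth.Agent.QDescent AffMod
open _root_.AlgSp (IsAlgSpace)

variable {S : Scheme.{u}} {Z Q : AlgSt.Cat S} {j : Z ⥤ᵇ Q}

local notation "AS" => AlgSt.IsAlgStack Scheme.fppfPrecoverage

/-- Objects whose images map to affine objects through which everything is flat cover. -/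
theorem exists_okDec_hit (hZ : FibCat.IsFibGrpd Z.p) (hQ : AS Q) (j : Z ⥤ᵇ Q) (x : Z.obj) (t : StMod.sch Z x) :
    ∃ (x' : Z.obj) (φ : x' ⟶ x), Hits φ t ∧ Nonempty (OkDec (j.obj x')) := by
  obtain ⟨w, ψ, a, hψ, ha, hok, ⟨χ⟩⟩ := exists_ok_hit hQ (j.obj x) ((eqToHom (StMod.sch_obj_eq j x).symm).base t)
  haveI := hψ.flat
  haveI := hψ.lfp
  obtain ⟨x', e, φ, hφ⟩ := exists_lift_scheme hZ (x := x) (StMod.bmap Q ψ ≫ eqToHom (StMod.sch_obj_eq j x))
  obtain ⟨v, -, -⟩ := exists_factor hQ.isStack.1 ψ (j.map φ) (eqToHom (StMod.sch_obj_eq j x') ≫ eqToHom e) (by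
    rw [bmap_map, hφ]
    simp only [Category.assoc, eqToHom_trans, eqToHom_trans_assoc, eqToHom_refl, Category.comp_id])
  refine ⟨x', φ, hits_of_bmap φ (StMod.bmap Q ψ ≫ eqToHom (StMod.sch_obj_eq j x)) (eqToHom e) hφ ?_,
    ⟨⟨⟨⟨a, ha⟩, hok⟩, ⟨v ≫ χ⟩⟩⟩⟩
  obtain ⟨s, hs⟩ := hψ.mem
  exact ⟨s, by rw [Scheme.Hom.comp_apply, hs, eqToHom_apply_cancel]⟩

/-- Exactness of global sections passes along functors whose direct image is exact. -/
theorem gExact_of_post_surj (hZ : AS Z) (hQ : AS Q) (hj : FibData j) (hG : GExact Q)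
    (hsurj : ∀ A : AObj Q, ∀ ⦃F M : StMod.QCoh Z⦄ (u : F ⟶ M), StMod.Mod.IsSurj u.hom →
      Function.Surjective (post (StMod.OQ Z) F u A.obj (π := j))) : GExact Z := by
  intro F M u hu φ
  have hfp : (StMod.OQ Z).obj.IsFinPres := fun ξ => SchDense.isFP_unit _
  let p := pushModMap hj u
  obtain ⟨R⟩ := exists_realization (homMod (StMod.OQ Z) F hj) hQ (isBC_homMod _ F hj hfp)
  obtain ⟨R'⟩ := exists_realization p.img hQ (p.isBC_img (isBC_homMod _ F hj hfp) (isBC_homMod _ M hj hfp))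
  obtain ⟨w, hw, hwv⟩ := p.exists_toImg hQ R R'
  let e : ∀ y : Q.obj, onFib j (StMod.OQ Z) y ⟶ onFib j M y := fun y => (StMod.comapQ (StMod.fibFst j y)).map φ
  have he : ∀ {y' y : Q.obj} (g : y' ⟶ y), transp (StMod.OQ Z) M g (e y) = e y' := fun g =>
    fib_hom_ext _ M fun _ _ _ => rfl
  have hmem : ∀ A : AObj Q, homEquivOb (StMod.OQ Z) M hj A (e A.obj) ∈ LinearMap.range (p.app A) := fun A => by
    obtain ⟨e', he'⟩ := hsurj A u hu (e A.obj)
    exact ⟨homEquivOb (StMod.OQ Z) F hj A e', by rw [pushModMap_app, he']⟩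
  let n : ∀ A : AObj Q, p.img.ob A := fun A => ⟨_, hmem A⟩
  choose T hT using fun (A : AObj Q) (hok : IsOk A.obj) => (R'.ρ_topOk_bijective A hok).2 (n A)
  obtain ⟨τ, hτ⟩ := exists_sect_of_ok (M := R'.G) hQ (fun x hx hok => T ⟨x, hx⟩ hok)
    (fun {x' x} c hx' hok' hx hok => by
      refine (R'.ρ_topOk_bijective ⟨x', hx'⟩ hok').1 ?_
      refine (R'.ρ_nat (o' := topOk ⟨x', hx'⟩ hok') (o := topOk ⟨x, hx⟩ hok) (covHom c) hx' hx _).trans ?_
      rw [hT, hT]
      refine Subtype.ext ((homEquivOb (StMod.OQ Z) M hj ⟨x', hx'⟩).symm.injective ?_)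
      refine (homMod_r (StMod.OQ Z) M hj (A' := ⟨x', hx'⟩) (A := ⟨x, hx⟩) c _).trans ?_
      show transp _ M c ((homEquivOb (StMod.OQ Z) M hj ⟨x, hx⟩).symm (homEquivOb (StMod.OQ Z) M hj ⟨x, hx⟩ _)) =
        (homEquivOb (StMod.OQ Z) M hj ⟨x', hx'⟩).symm (homEquivOb (StMod.OQ Z) M hj ⟨x', hx'⟩ _)
      rw [AddEquiv.symm_apply_apply, AddEquiv.symm_apply_apply]
      exact he c)
  obtain ⟨τ', hτ'⟩ := hG w hw τ
  let one' : ∀ y : Q.obj, Γ(R.G.obj.obj y, ⊤) := fun y => (τ'.hom.app y).app ⊤ (oneSec Q y)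
  let v : ∀ (y : Q.obj), IsAffine (StMod.sch Q y) → OkDec y →
      (onFib j (StMod.OQ Z) y ⟶ onFib j F y) := fun y hy d => val hj R d.toObj hy (one' y)
  have hv : ∀ {y' y : Q.obj} (g : y' ⟶ y) hy' hy (d' : OkDec y') (d : OkDec y),
      transp (StMod.OQ Z) F g (v y hy d) = v y' hy' d' := fun {y' y} g hy' hy d' d =>
    (val_trT hj R (o' := d'.toObj) (o := d.toObj) g hy' hy (one' y)).symm.trans
      (congrArg (val hj R d'.toObj hy') (trT_app_oneSec τ' g))
  have hpost : ∀ (y : Q.obj) (hy : IsAffine (StMod.sch Q y)) (d : OkDec y),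
      post (StMod.OQ Z) F u y (v y hy d) = e y := fun y hy d => by
    rw [← hv d.2.down hy d.1.1.aff d ⟨d.1, ⟨𝟙 _⟩⟩, post_transp, ← he d.2.down]
    refine congrArg (transp (StMod.OQ Z) M d.2.down) ?_
    refine (pushModMap_app' hj u d.1.1 _).symm.trans ?_
    refine ((homEquivOb (StMod.OQ Z) M hj d.1.1).symm_apply_eq).2 ?_
    refine (hwv d.1.1 d.1.2 (one' d.1.1.obj)).symm.trans ?_
    rw [show (w.hom.app d.1.1.obj).app ⊤ (one' d.1.1.obj) = T d.1.1 d.1.2 from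
      (congrArg (fun k : StMod.OQ Q ⟶ R'.G => (k.hom.app d.1.1.obj).app ⊤ (oneSec Q d.1.1.obj)) hτ').trans
        (hτ d.1.1.obj d.1.1.aff d.1.2), hT]
  let val1 : ∀ (x : Z.obj), IsAffine (StMod.sch Z x) → OkDec (j.obj x) → Γ(F.obj.obj x, ⊤) := fun x hx d =>
    valOne F (j.obj x) (v (j.obj x) (isAffine_map j hx) d) (CostructuredArrow.mk (𝟙 (j.obj x)))
  have hval1 : ∀ {x' x : Z.obj} (c : x' ⟶ x) hx' hx d' d, trT F.obj c (val1 x hx d) = val1 x' hx' d' :=
    fun {x' x} c hx' hx d' d => by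
      show _ = valOne F (j.obj x') (v (j.obj x') (isAffine_map j hx') d') (CostructuredArrow.mk (𝟙 (j.obj x')))
      rw [← hv (j.map c) (isAffine_map j hx') (isAffine_map j hx) d' d]
      refine valOne_trT F (j.obj x) _ (x' := push j (j.map c) (CostructuredArrow.mk (𝟙 (j.obj x'))))
        (x := CostructuredArrow.mk (𝟙 (j.obj x))) (CostructuredArrow.homMk c ?_)
      show j.map c ≫ 𝟙 _ = 𝟙 _ ≫ j.map c
      rw [Category.comp_id, Category.id_comp]
  have hdata : LocData (M := StMod.OQ Z) (N := F) (fun x => OkDec (j.obj x))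
      fun x hx d => AddMonoidHom.mk' (fun r => (show Γ(StMod.sch Z x, ⊤) from r) • val1 x hx d)
        fun _ _ => add_smul _ _ _ :=
    { grpd := hZ.isStack.1
      pull := fun c d => ⟨⟨d.1, ⟨j.map c ≫ d.2.down⟩⟩⟩
      cov := fun x t => exists_okDec_hit hZ.isStack.1 hQ j x t
      smul := fun x _ _ r s => mul_smul r (show Γ(StMod.sch Z x, ⊤) from s) _
      compat := fun {x' x} c hx hx' d d' s => by
        show trT F.obj c ((show Γ(StMod.sch Z x, ⊤) from s) • val1 x hx d) = _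
        rw [trT_smul, hval1 c hx' hx d' d]
        exact congrArg (· • val1 x' hx' d') (trT_eq_map (StMod.OQ Z).obj c s).symm }
  obtain ⟨φ', hφ'⟩ := hdata.exists_hom
  refine ⟨φ', sub_eq_zero.1 (eq_zero_of_cover hZ.isStack.1 _ fun x t => ?_)⟩
  obtain ⟨x', ψ, hψ, ⟨d₀⟩⟩ := exists_okDec_hit hZ.isStack.1 hQ j x t
  refine ⟨x', ψ, hψ, fun x'' c hx'' s => ?_⟩
  refine ((AddMonoidHom.mk' (fun k : StMod.OQ Z ⟶ M => (k.hom.app x'').app ⊤ s) fun _ _ => rfl).map_sub _ _).trans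
    (sub_eq_zero.2 ?_)
  let d : OkDec (j.obj x'') := ⟨d₀.1, ⟨j.map c ≫ d₀.2.down⟩⟩
  show (u.hom.app x'').app ⊤ ((φ'.hom.app x'').app ⊤ s) = (φ.hom.app x'').app ⊤ s
  rw [hφ' x'' hx'' d s]
  show (u.hom.app x'').app ⊤ ((show Γ(StMod.sch Z x'', ⊤) from s) • val1 x'' hx'' d) = _
  rw [Scheme.Modules.Hom.app_smul, app_eq_smul_oneSec φ x'' s]
  refine congrArg (_ • ·) ?_
  exact congrArg (fun k => valOne M (j.obj x'') k (CostructuredArrow.mk (𝟙 (j.obj x''))))
    (hpost (j.obj x'') (isAffine_map j hx'') d)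

variable {𝒳 𝒴 : AlgSt.Cat S}

/-- Affine functors are quasi-separated. -/
theorem isQuasiSeparatedMor_of_isAffineMor (f : 𝒳 ⥤ᵇ 𝒴) (hf : AlgSt.RepByAlgSpWith AlgSp.IsAffineMor f) :
    AlgSt.IsQuasiSeparatedMor f :=
  AlgStLib.isQuasiSeparatedMor_of_quasiSeparated (AlgStLib.repWith_mono hf fun _ U _ hX ha => by
    have hr := (AlgSpLib.isAffineMor_iff_repWith _).1 ha
    exact (AlgSpLib.isQuasiSeparatedMor_iff_repWith hX (IsAlgSpace.yon_obj U) hr.1).2
      (AlgSpLib.repWith_mono (fun _ _ r h => by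
        haveI : IsAffineHom r := h
        infer_instance) hr))

/-- Exactness of global sections on the fibres of a composite with an affine functor. -/
theorem gExact_fib_comp_affine (h𝒳 : AS 𝒳) (h𝒴 : AS 𝒴) (h𝒵 : AS Q) (f : 𝒳 ⥤ᵇ 𝒴)
    (hf : AlgSt.RepByAlgSpWith AlgSp.IsAffineMor f) (hfqs : AlgSt.IsQuasiSeparatedMor f) (g : 𝒴 ⥤ᵇ Q) (η : Q.obj)
    (hG : GExact (StMod.fibCat g η)) : GExact (StMod.fibCat (BasedFunctor.comp f g) η) := by
  have hd := fibData_fibComp h𝒳 h𝒴 f (isQuasiCompactMor_of_isAffineMor h𝒳 h𝒴 f hf) hfqs g η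
  refine gExact_of_post_surj (isAlgStack_fibCat h𝒳 h𝒵 _ η) (isAlgStack_fibCat h𝒴 h𝒵 g η) hd hG
    fun A F M u hu => (surjAt_iff _ hd u).1 ?_
  obtain ⟨W, hW, T, hT⟩ := exists_fib_overCat_affine h𝒳 h𝒴 f hf A.obj.left A.aff
  haveI := hW
  have h5 := FibCat2Misc.isEquivOver_comp hT.isEquivOver
    (isEqv_toFibComp (f := f) (g := g) h𝒳.isStack.1 η A.obj).isEquivOver
  obtain ⟨h6, h7⟩ := FibCatRep.isEquivOver_data h5
  exact surjAt_of_isEqv_overCat _ A.obj (BasedFunctor.comp T (toFibComp f g η A.obj)) ⟨inferInstance, inferInstance, h7, FibCatRep.isFibGrpd_overCat W,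
    isFibGrpd_fibCat (isAlgStack_fibCat h𝒳 h𝒵 _ η).isStack.1 _ _⟩ u hu

/-- Cohomological affineness from exactness over the affine etale charts. -/
theorem isCohAffine_of_gExact {M : AlgSp.Sp S} (h𝒳 : FibCat.IsFibGrpd 𝒳.p) (π : 𝒳 ⥤ᵇ AlgSt.ofSp M)
    (h : ∀ E : AlgSp.EtOver M, IsAffine E.obj.left.left → GExact (StMod.fibCat π (StMod.etaOf E))) :
    StMod.IsCohAffine π := by
  intro F G u hu E hE t
  let η := StMod.etaOf E
  obtain ⟨φ, hφ⟩ := exists_hom_of_relSect G h𝒳 t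
  obtain ⟨φ', hφ'⟩ := h E hE (F := onFib π F η) (G := onFib π G η) ((StMod.comapQ (StMod.fibFst π η)).map u)
    (fun x hx g => hu x.left hx g) φ
  refine ⟨⟨fun ξ α => valMod φ' (CostructuredArrow.mk α), fun ξ' ξ c α => ?_⟩,
    relSect_ext_aff G h𝒳 fun x hx => ?_⟩
  · let k : (CostructuredArrow.mk (π.map c ≫ α) : (StMod.fibCat π η).obj) ⟶ CostructuredArrow.mk α :=
      CostructuredArrow.homMk c rfl
    exact (trT_eq_map F.obj c _).symm.trans ((tr_onFib π F η k ⊤ ⊤ (top_le (𝒵 := StMod.fibCat π η) k) _).symm.trans (valMod_nat φ' k))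
  · refine Eq.trans ?_ (hφ x hx)
    exact congrArg (fun k : StMod.OQ (StMod.fibCat π η) ⟶ onFib π G η => valMod k x) hφ'

/-- The composite of an affine functor with a cohomologically affine morphism to a scheme is cohomologically
affine. -/
theorem isCohAffine_comp_affine (h𝒳 : AS 𝒳) (h𝒴 : AS 𝒴) (f : 𝒳 ⥤ᵇ 𝒴)
    (hf : AlgSt.RepByAlgSpWith AlgSp.IsAffineMor f) (B : Over S) [QuasiSeparatedSpace ↥B.left]
    (τ : 𝒴 ⥤ᵇ AlgSt.ofSch B) (hτqc : AlgSt.IsQuasiCompactMor Scheme.fppfPrecoverage τ) (h : StMod.IsCohAffine τ) :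
    StMod.IsCohAffine (BasedFunctor.comp f τ) ∧
      AlgSt.IsQuasiCompactMor Scheme.fppfPrecoverage (BasedFunctor.comp f τ) := by
  let M : AlgSp.Space S := ⟨_, AlgSp.IsAlgSpace.yon_obj B⟩
  have hM := AlgStLib.isAlgStack_ofSp M
  refine ⟨isCohAffine_of_gExact h𝒳.isStack.1 _ fun E hE =>
    gExact_fib_comp_affine h𝒳 h𝒴 hM f hf (isQuasiSeparatedMor_of_isAffineMor f hf) τ _
      (gExact_fib_of_isCohAffine (M := M) h𝒴 τ h E hE (goodChartObj_of_qsScheme E hE)),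
    AlgStLib.qcMor_comp h𝒳 h𝒴 hM (isQuasiCompactMor_of_isAffineMor h𝒳 h𝒴 f hf) hτqc⟩

/-- Functors to the base are unique. -/
theorem toBase_eq (a b : 𝒳 ⥤ᵇ AlgSt.ofSch (Over.mk (𝟙 S))) : a = b := by
  have hsub : ∀ o o' : (AlgSt.ofSch (Over.mk (𝟙 S))).obj, o.base = o'.base → o = o' := by
    rintro ⟨T, s⟩ ⟨T', s'⟩ h
    cases h
    refine congrArg _ (ULift.ext _ _ (Over.OverMorphism.ext ?_))
    have h1 := Over.w s.down
    have h2 := Over.w s'.down
    dsimp at h1 h2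
    rw [Category.comp_id] at h1 h2
    exact h1.trans h2.symm
  have hmap : ∀ (A B : (AlgSt.ofSch (Over.mk (𝟙 S))).obj) (e : A = B),
      (eqToHom e).hom = eqToHom (congrArg Stk.EltObj.base e) := by
    intro A B e
    subst e
    rfl
  obtain ⟨F, hF⟩ := a
  obtain ⟨G, hG⟩ := b
  obtain rfl : F = G := CategoryTheory.Functor.ext
    (fun x => hsub _ _ ((AlgStLib.base_eq ⟨F, hF⟩ x).trans (AlgStLib.base_eq ⟨G, hG⟩ x).symm))
    fun x y m => Stk.EltObj.hom_ext (by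
      rw [Stk.EltObj.comp_hom, Stk.EltObj.comp_hom, hmap, hmap]
      refine (AlgStLib.hom_map ⟨F, hF⟩ m).trans ?_
      rw [show (G.map m).hom = _ from AlgStLib.hom_map ⟨G, hG⟩ m]
      simp)
  rfl

end Groth.Agent.RelGen
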