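import Mathlib
import Groth.Prelude.Def_ActBC
import Groth.Prelude.Def_AlgSt5

/-!
# Actions of a base changed group seen over the smaller base
-/

universe u

open CategoryTheory CategoryTheory.Limits MonoidalCategory CartesianMonoidalCategory MonObj GrpObj AlgebraicGeometry

set_option autoImplicit false
set_option backward.isDefEq.respectTransparency false
set_option backward.isDefEq.respectTransparency.types false

noncomputable section

namespace Groth.Agent.RelGen.BGBC

variable {S S' : Scheme.{u}} (f : S' ⟶ S) {G : Over S} [GrpObj G]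

/-- A point of the base changed group as a point of the group. -/
def un {T : Over S'} (g : T ⟶ Red.bc f G) : (Over.map f).obj T ⟶ G :=
  ((Over.mapPullbackAdj f).homEquiv T G).symm g

theorem un_comp {T T' : Over S'} (h : T ⟶ T') (g : T' ⟶ Red.bc f G) :
    un f (h ≫ g) = (Over.map f).map h ≫ un f g :=
  (Over.mapPullbackAdj f).homEquiv_naturality_left_symm h g

theorem un_mul {T : Over S'} (g g' : T ⟶ Red.bc f G) : un f (g * g') = un f g * un f g' := by
  apply ((Over.mapPullbackAdj f).homEquiv T G).injective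
  rw [AlgGrp.Action.homEquiv_mul]
  simp only [un, Equiv.apply_symm_apply]

theorem un_one {T : Over S'} : un f (1 : T ⟶ Red.bc f G) = 1 := by
  have h := un_mul f (1 : T ⟶ Red.bc f G) 1
  rw [_root_.one_mul] at h
  exact left_eq_mul.1 h

/-- Changing the base is faithful. -/
theorem faithful_map : (Over.map f).Faithful :=
  ⟨fun {X Y} a b h => Over.OverMorphism.ext (congrArg (fun m => m.left) h)⟩

variable {P : Over S'} {Q : Over S}

/-- A point of `G' ×_{S'} P` as a point of `G ×_S Q`. -/
def k (c : (Over.map f).obj P ⟶ Q) : (Over.map f).obj (Red.bc f G ⊗ P) ⟶ G ⊗ Q :=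
  lift (un f (fst (Red.bc f G) P)) ((Over.map f).map (snd (Red.bc f G) P) ≫ c)

@[reassoc]
theorem k_fst (c : (Over.map f).obj P ⟶ Q) : k f (G := G) c ≫ fst G Q = un f (fst (Red.bc f G) P) := lift_fst _ _

@[reassoc]
theorem k_snd (c : (Over.map f).obj P ⟶ Q) :
    k f (G := G) c ≫ snd G Q = (Over.map f).map (snd (Red.bc f G) P) ≫ c := lift_snd _ _

theorem k_eq (c : (Over.map f).obj P ⟶ Q) : k f (G := G) c = k f (𝟙 _) ≫ (G ◁ c) := by
  refine CartesianMonoidalCategory.hom_ext _ _ ?_ ?_
  · rw [k_fst, Category.assoc, whiskerLeft_fst, k_fst]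
  · rw [k_snd, Category.assoc, whiskerLeft_snd, k_snd_assoc, Category.id_comp]

theorem isIso_k_id : IsIso (k f (G := G) (𝟙 ((Over.map f).obj P))) := by
  have h₁ : IsPullback (fst (Red.bc f G) P).left (snd (Red.bc f G) P).left (Red.bc f G).hom P.hom := by
    have e₁ : (toUnit (Red.bc f G)).left = (Red.bc f G).hom := by
      have := Over.w (toUnit (Red.bc f G)); simpa using this
    have e₂ : (toUnit P).left = P.hom := by
      have := Over.w (toUnit P); simpa using this
    rw [← e₁, ← e₂]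
    exact (AlgSt.isPullback_fst_snd (Red.bc f G) P).map (Over.forget S')
  have h₂ := h₁.paste_horiz (IsPullback.of_hasPullback G.hom f)
  have h₃ : IsPullback (fst G ((Over.map f).obj P)).left (snd G ((Over.map f).obj P)).left G.hom (P.hom ≫ f) := by
    have e₁ : (toUnit G).left = G.hom := by
      have := Over.w (toUnit G); simpa using this
    have e₂ : (toUnit ((Over.map f).obj P)).left = P.hom ≫ f := by
      have := Over.w (toUnit ((Over.map f).obj P)); simpa using this
    rw [← e₁, ← e₂]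
    exact (AlgSt.isPullback_fst_snd G _).map (Over.forget S)
  have e : (k f (G := G) (𝟙 ((Over.map f).obj P))).left = (h₂.isoIsPullback _ _ h₃).hom := by
    apply h₃.hom_ext
    · rw [← Over.comp_left, k_fst, IsPullback.isoIsPullback_hom_fst, un, Adjunction.homEquiv_counit]
      rfl
    · rw [← Over.comp_left, k_snd, Category.comp_id]
      exact (IsPullback.isoIsPullback_hom_snd _ _ h₂ h₃).symm
  haveI : IsIso ((Over.forget S).map (k f (G := G) (𝟙 ((Over.map f).obj P)))) := by
    rw [Over.forget_map, e]; infer_instance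
  exact isIso_of_reflects_iso _ (Over.forget S)

instance isIso_k (c : (Over.map f).obj P ⟶ Q) [IsIso c] : IsIso (k f (G := G) c) := by
  haveI := isIso_k_id f (G := G) (P := P)
  rw [k_eq]
  infer_instance

theorem k_natural {P' : Over S'} {Q' : Over S} (c : (Over.map f).obj P ⟶ Q) (c' : (Over.map f).obj P' ⟶ Q')
    (q : P ⟶ P') (r : Q ⟶ Q') (h : (Over.map f).map q ≫ c' = c ≫ r) :
    (Over.map f).map (Red.bc f G ◁ q) ≫ k f c' = k f c ≫ (G ◁ r) := by
  refine CartesianMonoidalCategory.hom_ext _ _ ?_ ?_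
  · rw [Category.assoc, k_fst, ← un_comp, whiskerLeft_fst, Category.assoc, whiskerLeft_fst, k_fst]
  · rw [Category.assoc, k_snd, ← Functor.map_comp_assoc, whiskerLeft_snd, Functor.map_comp, Category.assoc, h,
      Category.assoc, whiskerLeft_snd, k_snd_assoc]

theorem k_mul (c : (Over.map f).obj P ⟶ Q) :
    (Over.map f).map (μ[Red.bc f G] ▷ P) ≫ k f c =
      (Over.map f).map (α_ (Red.bc f G) (Red.bc f G) P).hom ≫ k f (k f c) ≫ (α_ G G Q).inv ≫ (μ[G] ▷ Q) := by
  refine CartesianMonoidalCategory.hom_ext _ _ ?_ ?_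
  · have hμ : ∀ {C : Over S'}, fst (Red.bc f G ⊗ Red.bc f G) C ≫ μ[Red.bc f G] =
        (fst _ _ ≫ fst _ _) * (fst _ _ ≫ snd _ _) := fun {C} => by
      rw [Hom.mul_def, ← comp_lift, lift_fst_snd, Category.comp_id]
    have hμ' : fst (G ⊗ G) Q ≫ μ[G] = (fst _ _ ≫ fst G G) * (fst _ _ ≫ snd G G) := by
      rw [Hom.mul_def, ← comp_lift, lift_fst_snd, Category.comp_id]
    simp only [Category.assoc, whiskerRight_fst, k_fst, ← un_comp, hμ, hμ', comp_mul, un_mul, associator_inv_fst_fst,
      associator_inv_fst_snd, k_snd_assoc, ← Functor.map_comp_assoc]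
    congr 1
    · rw [associator_hom_fst]
    · rw [associator_hom_snd_fst]
  · simp only [Category.assoc, whiskerRight_snd, k_snd, ← Functor.map_comp_assoc, associator_inv_snd, k_snd_assoc,
      associator_hom_snd_snd]

theorem k_one (c : (Over.map f).obj P ⟶ Q) :
    (Over.map f).map (η[Red.bc f G] ▷ P) ≫ k f c =
      (Over.map f).map (λ_ P).hom ≫ c ≫ (λ_ Q).inv ≫ (η[G] ▷ Q) := by
  refine CartesianMonoidalCategory.hom_ext _ _ ?_ ?_
  · simp only [Category.assoc, whiskerRight_fst, k_fst, ← un_comp]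
    rw [toUnit_unique (fst (𝟙_ (Over S')) P) (toUnit _), ← Hom.one_def, un_one]
    simp only [← Category.assoc]
    rw [toUnit_unique (_ ≫ fst (𝟙_ (Over S)) Q) (toUnit _), ← Hom.one_def]
  · simp only [Category.assoc, whiskerRight_snd, k_snd, leftUnitor_hom, leftUnitor_inv_snd, Category.comp_id,
      ← Functor.map_comp_assoc]

section Transfer

variable {act : G ⊗ Q ⟶ Q} {act' : Red.bc f G ⊗ P ⟶ P} {c : (Over.map f).obj P ⟶ Q}
  (h : (Over.map f).map act' ≫ c = k f c ≫ act)

include h

theorem one_act_iff [IsIso c] :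
    (η[Red.bc f G] ▷ P) ≫ act' = (λ_ P).hom ↔ (η[G] ▷ Q) ≫ act = (λ_ Q).hom := by
  have e : (Over.map f).map ((η[Red.bc f G] ▷ P) ≫ act') ≫ c =
      (Over.map f).map (λ_ P).hom ≫ c ≫ (λ_ Q).inv ≫ (η[G] ▷ Q) ≫ act := by
    rw [Functor.map_comp, Category.assoc, h, reassoc_of% (k_one f c)]
  constructor
  · intro h'
    rw [h', cancel_epi] at e
    refine (cancel_epi (λ_ Q).inv).1 ((cancel_epi c).1 ?_)
    rw [Iso.inv_hom_id, Category.comp_id]
    exact e.symm
  · intro h'
    rw [h', Iso.inv_hom_id, Category.comp_id, cancel_mono] at e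
    haveI := faithful_map f
    exact (Over.map f).map_injective e

theorem mul_act_iff [IsIso c] :
    (μ[Red.bc f G] ▷ P) ≫ act' = (α_ _ _ P).hom ≫ (Red.bc f G ◁ act') ≫ act' ↔
      (μ[G] ▷ Q) ≫ act = (α_ G G Q).hom ≫ (G ◁ act) ≫ act := by
  have e₁ : (Over.map f).map ((μ[Red.bc f G] ▷ P) ≫ act') ≫ c =
      (Over.map f).map (α_ (Red.bc f G) (Red.bc f G) P).hom ≫ k f (k f c) ≫ (α_ G G Q).inv ≫ (μ[G] ▷ Q) ≫ act := by
    rw [Functor.map_comp, Category.assoc, h, reassoc_of% (k_mul f c)]
  have e₂ : (Over.map f).map ((α_ _ _ P).hom ≫ (Red.bc f G ◁ act') ≫ act') ≫ c =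
      (Over.map f).map (α_ (Red.bc f G) (Red.bc f G) P).hom ≫ k f (k f c) ≫ (G ◁ act) ≫ act := by
    rw [Functor.map_comp, Functor.map_comp, Category.assoc, Category.assoc, h, reassoc_of% (k_natural f (k f c) c act' act h)]
  constructor
  · intro h'
    rw [← h', e₁, cancel_epi, cancel_epi] at e₂
    rw [← Iso.inv_comp_eq]
    exact e₂
  · intro h'
    rw [h', Iso.inv_hom_id_assoc, ← e₂, cancel_mono] at e₁
    haveI := faithful_map f
    exact (Over.map f).map_injective e₁

theorem eqv_iff {P₁ : Over S'} {Q₁ : Over S} {c₁ : (Over.map f).obj P₁ ⟶ Q₁} [IsIso c] [IsIso c₁]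
    {act₁ : G ⊗ Q₁ ⟶ Q₁} {act₁' : Red.bc f G ⊗ P₁ ⟶ P₁} (h₁ : (Over.map f).map act₁' ≫ c₁ = k f c₁ ≫ act₁)
    {q : P ⟶ P₁} {r : Q ⟶ Q₁} (hq : (Over.map f).map q ≫ c₁ = c ≫ r) :
    act' ≫ q = (Red.bc f G ◁ q) ≫ act₁' ↔ act ≫ r = (G ◁ r) ≫ act₁ := by
  have e₁ : (Over.map f).map (act' ≫ q) ≫ c₁ = k f c ≫ act ≫ r := by
    rw [Functor.map_comp, Category.assoc, hq, reassoc_of% h]
  have e₂ : (Over.map f).map ((Red.bc f G ◁ q) ≫ act₁') ≫ c₁ = k f c ≫ (G ◁ r) ≫ act₁ := by
    rw [Functor.map_comp, Category.assoc, h₁, reassoc_of% (k_natural f c c₁ q r hq)]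
  constructor
  · intro h'
    rw [← h', e₁, cancel_epi] at e₂
    exact e₂
  · intro h'
    rw [h', ← e₂, cancel_mono] at e₁
    haveI := faithful_map f
    exact (Over.map f).map_injective e₁

theorem isPullback_iff [IsIso c] {B : Over S} {T : Over S'} (π : Q ⟶ B) (π' : P ⟶ T) (e : B.left ≅ T.left)
    (hπ : π'.left = c.left ≫ π.left ≫ e.hom) :
    IsPullback act' (snd (Red.bc f G) P) π' π' ↔ IsPullback act (snd G Q) π π := by
  haveI : IsIso c.left := inferInstanceAs (IsIso ((Over.forget S).map c))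
  haveI : IsIso (k f (G := G) c).left := inferInstanceAs (IsIso ((Over.forget S).map (k f (G := G) c)))
  have ha : act'.left ≫ c.left = (k f (G := G) c).left ≫ act.left := congrArg (fun m => m.left) h
  have hs : (snd (Red.bc f G) P).left ≫ c.left = (k f (G := G) c).left ≫ (snd G Q).left :=
    (congrArg (fun m => m.left) (k_snd f (G := G) c)).symm
  have hp : π'.left ≫ e.inv = c.left ≫ π.left := by rw [hπ, Category.assoc, Category.assoc, e.hom_inv_id, Category.comp_id]
  constructor
  · intro hc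
    have hl : IsPullback act.left (snd G Q).left π.left π.left :=
      (hc.map (Over.forget S')).of_iso (asIso (k f (G := G) c).left) (asIso c.left) (asIso c.left) e.symm ha hs hp hp
    exact IsPullback.of_map (Over.forget S) (Over.OverMorphism.ext hl.w) hl
  · intro hc
    have hl : IsPullback act'.left (snd (Red.bc f G) P).left π'.left π'.left :=
      (hc.map (Over.forget S)).of_iso (asIso (k f (G := G) c).left).symm (asIso c.left).symm (asIso c.left).symm e
        (by rw [Iso.symm_hom, asIso_inv, Iso.symm_hom, asIso_inv, IsIso.comp_inv_eq, Category.assoc,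
          IsIso.eq_inv_comp]; exact ha.symm)
        (by rw [Iso.symm_hom, asIso_inv, Iso.symm_hom, asIso_inv, IsIso.comp_inv_eq, Category.assoc,
          IsIso.eq_inv_comp]; exact hs.symm)
        (by rw [Iso.symm_hom, asIso_inv, IsIso.eq_inv_comp]; exact hπ.symm)
        (by rw [Iso.symm_hom, asIso_inv, IsIso.eq_inv_comp]; exact hπ.symm)
    exact IsPullback.of_map (Over.forget S') (Over.OverMorphism.ext hl.w) hl

end Transfer

end Groth.Agent.RelGen.BGBC
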