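import Mathlib
import Groth.Agent.RelGen.BGAct
import Groth.Prelude.Def_AlgSt2
import Groth.Prelude.Def_StMod
import Groth.Prelude.Def_StMod6

/-!
# Objects of the classifying stack of a base changed group and objects of the base change of the classifying stack
-/

universe u

open CategoryTheory CategoryTheory.Limits MonoidalCategory CartesianMonoidalCategory MonObj GrpObj AlgebraicGeometry Opposite

set_option autoImplicit false
set_option backward.isDefEq.respectTransparency false
set_option backward.isDefEq.respectTransparency.types false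

noncomputable section

namespace Groth.Agent.RelGen.BGBC

variable {S S' : Scheme.{u}} (f : S' ⟶ S) {G : Over S} [GrpObj G]

local notation "K" => Scheme.fppfPrecoverage

/-- The classifying stack. -/
abbrev BG0 (G : Over S) [GrpObj G] : AlgSt.Cat S := AlgSt.BG Scheme.fppfPrecoverage G

omit [GrpObj G] in
theorem loc_of_eq {B B' P : Over S} (π : P ⟶ B) (h : B = B')
    (hl : NonAbH1.IsLocallyTrivialFor K (Over.mk π.left : Over B.left)) :
    NonAbH1.IsLocallyTrivialFor K (Over.mk (π.left ≫ (eqToHom h).left) : Over B'.left) := by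
  subst h
  simpa using hl

theorem mapTo_unit {A : Over S} (m m' : A ⟶ 𝟙_ (Over S)) : m = m' := toUnit_unique _ _

section Up

variable (A : AlgSt.QuotObj K G (AlgSt.trivAction G)) (T : Over S') (h : A.base = (Over.map f).obj T)

/-- The total space over the new base. -/
abbrev upP : Over S' := Over.mk ((A.π.left ≫ (eqToHom h).left) ≫ T.hom)

/-- The comparison of total spaces. -/
def upC : (Over.map f).obj (upP f A T h) ⟶ A.P :=
  Over.homMk (𝟙 A.P.left) (by
    show 𝟙 _ ≫ A.P.hom = ((A.π.left ≫ (eqToHom h).left) ≫ T.hom) ≫ f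
    rw [Category.id_comp, Category.assoc, Category.assoc, ← Over.w A.π]
    congr 1
    exact (Over.w (eqToHom h)).symm)

theorem upC_left : (upC f A T h).left = 𝟙 A.P.left := rfl

instance isIso_upC : IsIso (upC f A T h) := by
  haveI : IsIso ((Over.forget S).map (upC f A T h)) := inferInstanceAs (IsIso (𝟙 A.P.left))
  exact isIso_of_reflects_iso _ (Over.forget S)

/-- The projection over the new base. -/
abbrev upπ : upP f A T h ⟶ T := Over.homMk (A.π.left ≫ (eqToHom h).left) rfl

/-- The action over the new base. -/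
def upAct : Red.bc f G ⊗ upP f A T h ⟶ upP f A T h :=
  Over.homMk (k f (upC f A T h) ≫ A.act.act).left (by
    show (k f (upC f A T h) ≫ A.act.act).left ≫ (A.π.left ≫ (eqToHom h).left) ≫ T.hom = _
    have e := congrArg (fun m => m.left) (congrArg (k f (upC f A T h) ≫ ·) A.cart.w)
    simp only [Over.comp_left] at e
    simp only [Over.comp_left, Category.assoc]
    rw [reassoc_of% e]
    have e' := congrArg (fun m => m.left) (k_snd f (G := G) (upC f A T h))
    simp only [Over.comp_left, upC_left, Category.comp_id] at e'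
    rw [reassoc_of% e']
    exact Over.w (snd (Red.bc f G) (upP f A T h)))

theorem upAct_key : (Over.map f).map (upAct f A T h) ≫ upC f A T h = k f (upC f A T h) ≫ A.act.act :=
  Over.OverMorphism.ext (Category.comp_id _)

/-- The torsor over the new base. -/
def upObj : AlgSt.QuotObj K (Red.bc f G) (AlgSt.trivAction (Red.bc f G)) where
  base := T
  P := upP f A T h
  act :=
    { act := upAct f A T h
      one_act := (one_act_iff f (upAct_key f A T h)).2 A.act.one_act
      mul_act := (mul_act_iff f (upAct_key f A T h)).2 A.act.mul_act }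
  π := upπ f A T h
  cart := (isPullback_iff f (upAct_key f A T h) A.π _ ((Over.forget S).mapIso (eqToIso h))
    (Category.id_comp _).symm).2 A.cart
  loc := loc_of_eq A.π h A.loc
  φ := toUnit _
  eqv := toUnit_unique _ _

variable {A T h}

theorem up_map_w {A' : AlgSt.QuotObj K G (AlgSt.trivAction G)} {T' : Over S'} {h' : A'.base = (Over.map f).obj T'}
    (m : A ⟶ A') (t : T ⟶ T') (ht : m.base ≫ eqToHom h' = eqToHom h ≫ (Over.map f).map t) :
    m.top.left ≫ A'.π.left ≫ (eqToHom h').left = (A.π.left ≫ (eqToHom h).left) ≫ t.left := by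
  have e := congrArg (fun q => q.left) ((m.cart.w_assoc (eqToHom h')).trans (congrArg (A.π ≫ ·) ht))
  simp only [Over.comp_left, Over.map_map_left] at e
  rw [Category.assoc]
  exact e

/-- A morphism of torsors over the new base. -/
def upMap {A' : AlgSt.QuotObj K G (AlgSt.trivAction G)} {T' : Over S'} {h' : A'.base = (Over.map f).obj T'}
    (m : A ⟶ A') (t : T ⟶ T') (ht : m.base ≫ eqToHom h' = eqToHom h ≫ (Over.map f).map t) :
    upObj f A T h ⟶ upObj f A' T' h' where
  base := t
  top := Over.homMk m.top.left (by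
    show m.top.left ≫ (A'.π.left ≫ (eqToHom h').left) ≫ T'.hom = (A.π.left ≫ (eqToHom h).left) ≫ T.hom
    rw [← Category.assoc, up_map_w f m t ht, Category.assoc, Over.w t])
  eqv := (eqv_iff f (upAct_key f A T h) (upAct_key f A' T' h') (r := m.top)
    (Over.OverMorphism.ext ((Category.comp_id _).trans (Category.id_comp _).symm))).2 m.eqv
  cart := by
    have he : (eqToHom h).left ≫ t.left = m.base.left ≫ (eqToHom h').left := by
      have := congrArg (fun q => q.left) ht
      simpa using this.symm
    haveI : IsIso (eqToHom h).left := inferInstanceAs (IsIso ((Over.forget S).map (eqToHom h)))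
    haveI : IsIso (eqToHom h').left := inferInstanceAs (IsIso ((Over.forget S).map (eqToHom h')))
    have hl : IsPullback m.top.left (A.π.left ≫ (eqToHom h).left) (A'.π.left ≫ (eqToHom h').left) t.left :=
      (m.cart.map (Over.forget S)).paste_vert (IsPullback.of_vert_isIso ⟨he.symm⟩)
    exact IsPullback.of_map (Over.forget S') (Over.OverMorphism.ext hl.w) hl
  wφ := toUnit_unique _ _

end Up

section Down

variable (B : AlgSt.QuotObj K (Red.bc f G) (AlgSt.trivAction (Red.bc f G)))

/-- The action over the old base. -/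
def downAct : G ⊗ (Over.map f).obj B.P ⟶ (Over.map f).obj B.P :=
  inv (k f (𝟙 ((Over.map f).obj B.P))) ≫ (Over.map f).map B.act.act

theorem downAct_key :
    (Over.map f).map B.act.act ≫ 𝟙 _ = k f (𝟙 ((Over.map f).obj B.P)) ≫ downAct f B := by
  rw [downAct, IsIso.hom_inv_id_assoc, Category.comp_id]

/-- The torsor over the old base. -/
def downObj : AlgSt.QuotObj K G (AlgSt.trivAction G) where
  base := (Over.map f).obj B.base
  P := (Over.map f).obj B.P
  act :=
    { act := downAct f B
      one_act := (one_act_iff f (downAct_key f B)).1 B.act.one_act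
      mul_act := (mul_act_iff f (downAct_key f B)).1 B.act.mul_act }
  π := (Over.map f).map B.π
  cart := (isPullback_iff f (downAct_key f B) ((Over.map f).map B.π) B.π (Iso.refl _)
    (by rw [Iso.refl_hom, Category.comp_id]; exact (Category.id_comp _).symm)).1 B.cart
  loc := B.loc
  φ := toUnit _
  eqv := toUnit_unique _ _

variable {B}

/-- A morphism of torsors over the old base. -/
def downMap {B' : AlgSt.QuotObj K (Red.bc f G) (AlgSt.trivAction (Red.bc f G))} (m : B ⟶ B') :
    downObj f B ⟶ downObj f B' where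
  base := (Over.map f).map m.base
  top := (Over.map f).map m.top
  eqv := (eqv_iff f (downAct_key f B) (downAct_key f B') (q := m.top)
    ((Category.comp_id _).trans (Category.id_comp _).symm)).1 m.eqv
  cart := IsPullback.of_map (Over.forget S) (Over.OverMorphism.ext (congrArg (fun q => q.left) m.cart.w :))
    (m.cart.map (Over.forget S'))
  wφ := toUnit_unique _ _

end Down

section Base

variable {S₀ : Scheme.{u}}

theorem sec_subsingleton {o : Over S₀} (a b : ((AlgSp.yon S₀).obj (Over.mk (𝟙 S₀))).obj.obj (op o)) : a = b := by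
  refine ULift.ext _ _ (Over.OverMorphism.ext ?_)
  have h₁ := Over.w a.down
  have h₂ := Over.w b.down
  simp only [Over.mk_hom] at h₁ h₂
  erw [Category.comp_id] at h₁ h₂
  exact h₁.trans h₂.symm

theorem elt_eqToHom_hom {o o' : (AlgSt.ofSch (Over.mk (𝟙 S₀))).obj} (h : o = o') :
    (eqToHom h).hom = eqToHom (congrArg (fun q => q.base) h) := by
  cases h; rfl

theorem bmap_vert {𝒵 : AlgSt.Cat S₀} {U : Over S₀} {z z' : 𝒵.obj} (φ : z ⟶ z') (h : 𝒵.p.IsHomLift (𝟙 U) φ) :
    ∃ e : StMod.sch 𝒵 z = StMod.sch 𝒵 z', StMod.bmap 𝒵 φ = eqToHom e := by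
  haveI := h
  refine ⟨congrArg Comma.left ((IsHomLift.domain_eq 𝒵.p (𝟙 U) φ).trans (IsHomLift.codomain_eq 𝒵.p (𝟙 U) φ).symm), ?_⟩
  rw [show StMod.bmap 𝒵 φ = (𝒵.p.map φ).left from rfl, IsHomLift.fac' 𝒵.p (𝟙 U) φ]
  simp [Over.eqToHom_left]

theorem eltBase_ext {o o' : (AlgSt.ofSch (Over.mk (𝟙 S₀))).obj} (h : o.base = o'.base) : o = o' := by
  cases o; cases o'; cases h
  exact congrArg _ (sec_subsingleton _ _)

end Base

variable (σ : BG0 G ⥤ᵇ AlgSt.ofSch (Over.mk (𝟙 S))) (W : Over S')

/-- The structure map of the base change. -/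
abbrev gMap : (AlgSp.yon S).obj ((Over.map f).obj W) ⟶ (AlgSp.yon S).obj (Over.mk (𝟙 S)) :=
  (AlgSp.yon S).map (Over.homMk ((Over.map f).obj W).hom (Category.comp_id _))

/-- The base change of the classifying stack. -/
abbrev FP : AlgSt.Cat S := FibCat.fp (AlgSt.ofSpMap (gMap f W)) σ

variable {σ W}

/-- The scheme over the new base under an object of the base change. -/
abbrev baseUp (x : (FP f σ W).obj) : Over S' := Over.mk (x.obj.fst.sec.down.left ≫ W.hom)

theorem baseUp_eq (x : (FP f σ W).obj) : x.obj.fst.base = (Over.map f).obj (baseUp f x) := by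
  have h : (x.obj.fst.sec.down.left ≫ W.hom) ≫ f = x.obj.fst.base.hom := by
    rw [Category.assoc]
    exact Over.w x.obj.fst.sec.down
  exact congrArg (Over.mk (Y := x.obj.fst.base.left)) h.symm

theorem objUp_eq (x : (FP f σ W).obj) : x.obj.snd.base = (Over.map f).obj (baseUp f x) :=
  ((FibCat.fpSnd (AlgSt.ofSpMap (gMap f W)) σ).w_obj x).trans (baseUp_eq f x)

theorem eqToHom_baseUp_left (x : (FP f σ W).obj) : (eqToHom (baseUp_eq f x)).left = 𝟙 _ :=
  Over.eqToHom_left _

/-- The morphism over the new base under a morphism of the base change. -/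
abbrev baseUpMap {x y : (FP f σ W).obj} (φ : x ⟶ y) : baseUp f x ⟶ baseUp f y :=
  Over.homMk φ.hom.fst.hom.left (by
    show φ.hom.fst.hom.left ≫ y.obj.fst.sec.down.left ≫ W.hom = x.obj.fst.sec.down.left ≫ W.hom
    rw [← Category.assoc, ← Over.comp_left]
    exact congrArg (fun q => q.left ≫ W.hom) (congrArg ULift.down φ.hom.fst.map_sec))

theorem snd_base_eq {x y : (FP f σ W).obj} (φ : x ⟶ y) :
    φ.hom.snd.base ≫ eqToHom (objUp_eq f y) = eqToHom (objUp_eq f x) ≫ (Over.map f).map (baseUpMap f φ) := by
  have h : φ.hom.snd.base.left ≫ eqToHom _ = eqToHom _ ≫ φ.hom.fst.hom.left :=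
    StMod.bmap_map_comm (FibCat.fpSnd (AlgSt.ofSpMap (gMap f W)) σ) φ rfl
  apply Over.OverMorphism.ext
  simp only [Over.comp_left, Over.eqToHom_left]
  exact h

/-- From the base change to the classifying stack of the base changed group. -/
def upFun (x : (FP f σ W).obj) : (BG0 (Red.bc f G)).obj :=
  upObj f x.obj.snd (baseUp f x) (objUp_eq f x)

/-- `upFun` on morphisms. -/
def upFunMap {x y : (FP f σ W).obj} (φ : x ⟶ y) : upFun f x ⟶ upFun f y :=
  upMap f φ.hom.snd (baseUpMap f φ) (snd_base_eq f φ)

theorem upFunMap_id (x : (FP f σ W).obj) : upFunMap f (𝟙 x) = 𝟙 (upFun f x) :=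
  AlgSt.QuotObj.hom_ext (Over.OverMorphism.ext rfl) (Over.OverMorphism.ext rfl)

theorem upFunMap_comp {x y z : (FP f σ W).obj} (φ : x ⟶ y) (ψ : y ⟶ z) :
    upFunMap f (φ ≫ ψ) = upFunMap f φ ≫ upFunMap f ψ :=
  AlgSt.QuotObj.hom_ext (Over.OverMorphism.ext rfl) (Over.OverMorphism.ext rfl)

variable (σ) in
theorem downIso_eq (B : (BG0 (Red.bc f G)).obj) (a : B.base ⟶ W) :
    (AlgSt.ofSpMap (gMap f W)).obj ⟨(Over.map f).obj B.base, ⟨(Over.map f).map a⟩⟩ = σ.obj (downObj f B) :=
  eltBase_ext (σ.w_obj (downObj f B)).symm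

variable (σ) in
/-- From the classifying stack of the base changed group to the base change. -/
def downFun (B : (BG0 (Red.bc f G)).obj) (a : B.base ⟶ W) : (FP f σ W).obj :=
  ⟨{ fst := ⟨(Over.map f).obj B.base, ⟨(Over.map f).map a⟩⟩
     snd := downObj f B
     iso := eqToIso (downIso_eq f σ B a) },
    IsHomLift.of_fac' _ _ _ rfl (σ.w_obj (downObj f B)) (by simp; exact elt_eqToHom_hom _)⟩

variable (σ) in
/-- `downFun` on morphisms. -/
def downFunMap {B B' : (BG0 (Red.bc f G)).obj} (m : B ⟶ B') {a : B.base ⟶ W} {a' : B'.base ⟶ W}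
    (h : m.base ≫ a' = a) : downFun f σ B a ⟶ downFun f σ B' a' :=
  ObjectProperty.homMk
    { fst := ⟨(Over.map f).map m.base, ULift.ext _ _ (by
        show (Over.map f).map m.base ≫ (Over.map f).map a' = _
        rw [← Functor.map_comp, h]; rfl)⟩
      snd := downMap f m
      w := by
        refine Stk.EltObj.hom_ext (Over.OverMorphism.ext ?_)
        have hσ : (σ.map (downMap f m)).hom.left ≫ eqToHom _ = eqToHom _ ≫ m.base.left :=
          StMod.bmap_map_comm σ (downMap f m) rfl
        rw [comp_eqToHom_iff] at hσ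
        show m.base.left ≫ (eqToHom (downIso_eq f σ B' a')).hom.left =
          (eqToHom (downIso_eq f σ B a)).hom.left ≫ (σ.map (downMap f m)).hom.left
        rw [elt_eqToHom_hom, elt_eqToHom_hom, Over.eqToHom_left, Over.eqToHom_left, hσ]
        simp }

/-- The unit of the correspondence. -/
def unitHom (B : (BG0 (Red.bc f G)).obj) (a : B.base ⟶ W) : B ⟶ upFun f (downFun f σ B a) where
  base := Over.homMk (𝟙 B.base.left) (by
    show 𝟙 _ ≫ a.left ≫ W.hom = _
    rw [Category.id_comp]; exact Over.w a)
  top := Over.homMk (𝟙 B.P.left) (by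
    show 𝟙 _ ≫ (B.π.left ≫ (eqToHom (objUp_eq f (downFun f σ B a))).left) ≫ a.left ≫ W.hom = B.P.hom
    erw [Over.eqToHom_left, eqToHom_refl, Category.comp_id, Category.id_comp, Over.w a]
    exact Over.w B.π)
  eqv := (eqv_iff f (downAct_key f B) (upAct_key f (downObj f B) _ (objUp_eq f (downFun f σ B a)))
    (r := 𝟙 _) (Over.OverMorphism.ext (by simp [upC_left]))).2 (by simp [downObj])
  cart := by
    have w : (𝟙 B.P.left) ≫ B.π.left ≫ (eqToHom (objUp_eq f (downFun f σ B a))).left = B.π.left ≫ 𝟙 B.base.left := by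
      erw [Over.eqToHom_left, eqToHom_refl, Category.id_comp, Category.comp_id]
    have sq : IsPullback (𝟙 B.P.left) B.π.left (B.π.left ≫ (eqToHom (objUp_eq f (downFun f σ B a))).left)
        (𝟙 B.base.left) := IsPullback.of_horiz_isIso ⟨w⟩
    exact IsPullback.of_map (Over.forget S') (Over.OverMorphism.ext w) sq
  wφ := toUnit_unique _ _

/-- The counit of the correspondence. -/
def counitHom (x : (FP f σ W).obj) (a : baseUp f x ⟶ W) (ha : a.left = x.obj.fst.sec.down.left) :
    x ⟶ downFun f σ (upFun f x) a :=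
  ObjectProperty.homMk
    { fst := ⟨eqToHom (baseUp_eq f x), ULift.ext _ _ (Over.OverMorphism.ext (by
        show (eqToHom (baseUp_eq f x)).left ≫ a.left = _
        rw [eqToHom_baseUp_left, Category.id_comp, ha]))⟩
      snd :=
        { base := eqToHom (objUp_eq f x)
          top := inv (upC f x.obj.snd (baseUp f x) (objUp_eq f x))
          eqv := (eqv_iff f (upAct_key f x.obj.snd _ (objUp_eq f x)) (downAct_key f (upFun f x)) (q := 𝟙 _)
            (by simp [upFun, upObj])).1 (by simp [upFun, upObj])
          cart := IsPullback.of_horiz_isIso ⟨by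
            rw [IsIso.inv_comp_eq]
            exact Over.OverMorphism.ext (Category.id_comp _).symm⟩
          wφ := toUnit_unique _ _ }
      w := by
        refine Stk.EltObj.hom_ext ?_
        let m : x.obj.snd ⟶ downObj f (upFun f x) :=
          { base := eqToHom (objUp_eq f x)
            top := inv (upC f x.obj.snd (baseUp f x) (objUp_eq f x))
            eqv := (eqv_iff f (upAct_key f x.obj.snd _ (objUp_eq f x)) (downAct_key f (upFun f x)) (q := 𝟙 _)
              (by simp [upFun, upObj])).1 (by simp [upFun, upObj])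
            cart := IsPullback.of_horiz_isIso ⟨by
              rw [IsIso.inv_comp_eq]
              exact Over.OverMorphism.ext (Category.id_comp _).symm⟩
            wφ := toUnit_unique _ _ }
        have hσ : (σ.map m).hom.left ≫ eqToHom _ = eqToHom _ ≫ (eqToHom (objUp_eq f x)).left :=
          StMod.bmap_map_comm σ m rfl
        rw [comp_eqToHom_iff] at hσ
        obtain ⟨e, he⟩ := bmap_vert _ x.property
        apply Over.OverMorphism.ext
        show (eqToHom (baseUp_eq f x)).left ≫ (eqToHom (downIso_eq f σ (upFun f x) a)).hom.left =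
          StMod.bmap (AlgSt.ofSch (Over.mk (𝟙 S))) x.obj.iso.hom ≫ (σ.map m).hom.left
        rw [he, elt_eqToHom_hom, Over.eqToHom_left, Over.eqToHom_left, hσ, Over.eqToHom_left]
        simp }

end Groth.Agent.RelGen.BGBC
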