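import Mathlib
import Groth.Agent.RelGen.BGFun
import Groth.Agent.RelGen.CohBase

/-!
# Cohomological affineness of classifying stacks and change of the base scheme
-/

universe u

open CategoryTheory CategoryTheory.Limits MonoidalCategory CartesianMonoidalCategory MonObj GrpObj AlgebraicGeometry Opposite
open StMod

set_option autoImplicit false
set_option backward.isDefEq.respectTransparency false
set_option backward.isDefEq.respectTransparency.types false

noncomputable section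

namespace Groth.Agent.RelGen.BGBC

variable {S S' : Scheme.{u}} {f : S' ⟶ S} {G : Over S} [GrpObj G]
  {σ : BG0 G ⥤ᵇ AlgSt.ofSch (Over.mk (𝟙 S))} {W : Over S'}

section Elts

theorem uliftYonedaEquiv_map {Z V : Over S} (k : V ⟶ Z) :
    (AlgSp.J S).uliftYonedaEquiv ((AlgSp.yon S).map k) = ULift.up k := by
  rw [GrothendieckTopology.uliftYonedaEquiv_apply]
  exact ULift.ext _ _ (Category.id_comp k)

/-- A morphism to a chart of a scheme. -/
def eMk {Z : Over S} {E : AlgSp.EtOver ((AlgSp.yon S).obj Z)} {k : E.obj.left ⟶ Z}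
    (hk : (AlgSp.yon S).map k = E.obj.hom) {o : (AlgSt.ofSp ((AlgSp.yon S).obj Z)).obj} (b : o.base ⟶ E.obj.left)
    (h : b ≫ k = o.sec.down) : o ⟶ StMod.etaOf E :=
  ⟨b, by
    show ((AlgSp.yon S).obj Z).obj.map b.op ((AlgSp.J S).uliftYonedaEquiv E.obj.hom) = o.sec
    rw [← hk, uliftYonedaEquiv_map]
    exact ULift.ext _ _ h⟩

theorem eMk_w {Z : Over S} {E : AlgSp.EtOver ((AlgSp.yon S).obj Z)} {k : E.obj.left ⟶ Z}
    (hk : (AlgSp.yon S).map k = E.obj.hom) {o : (AlgSt.ofSp ((AlgSp.yon S).obj Z)).obj} (β : o ⟶ StMod.etaOf E) :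
    β.hom ≫ k = o.sec.down := by
  have h : ((AlgSp.yon S).obj Z).obj.map β.hom.op ((AlgSp.J S).uliftYonedaEquiv E.obj.hom) = o.sec := β.map_sec
  rw [← hk, uliftYonedaEquiv_map] at h
  exact congrArg ULift.down h

/-- A morphism over the base scheme. -/
def toBase {S₀ : Scheme.{u}} {o o' : (AlgSt.ofSch (Over.mk (𝟙 S₀))).obj} (b : o.base ⟶ o'.base) : o ⟶ o' :=
  ⟨b, sec_subsingleton _ _⟩

theorem map_toBase_ext {S₀ : Scheme.{u}} {𝒳 : AlgSt.Cat S₀} (π : 𝒳 ⥤ᵇ AlgSt.ofSch (Over.mk (𝟙 S₀)))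
    {ξ' ξ : 𝒳.obj} (φ : ξ' ⟶ ξ) {o₁ : (AlgSt.ofSch (Over.mk (𝟙 S₀))).obj} {α : π.obj ξ ⟶ o₁} {α' : π.obj ξ' ⟶ o₁}
    (h : StMod.bmap 𝒳 φ ≫ (StMod.baseOver π ξ α).left = (StMod.baseOver π ξ' α').left) :
    π.map φ ≫ α = α' := by
  rw [StMod.bmap_comp_baseOver_left] at h
  refine Stk.EltObj.hom_ext (Over.OverMorphism.ext ?_)
  simp only [StMod.baseOver, Over.comp_left, cancel_epi] at h
  exact h

theorem baseOver_toBase {S₀ : Scheme.{u}} {𝒳 : AlgSt.Cat S₀} (π : 𝒳 ⥤ᵇ AlgSt.ofSch (Over.mk (𝟙 S₀))) (ξ : 𝒳.obj)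
    {o₁ : (AlgSt.ofSch (Over.mk (𝟙 S₀))).obj} (b : 𝒳.p.obj ξ ⟶ o₁.base) :
    StMod.baseOver π ξ (toBase (o' := o₁) (eqToHom (π.w_obj ξ) ≫ b)) = b := by
  show eqToHom _ ≫ eqToHom _ ≫ b = b
  simp

end Elts

section Mods

theorem map_congr {T : Scheme.{u}} {𝒳 : AlgSt.Cat T} (F : StMod.Mod 𝒳) {x' x : 𝒳.obj} {φ φ' : x' ⟶ x} (h : φ = φ')
    {g : StMod.sch 𝒳 x' ⟶ StMod.sch 𝒳 x} (hg : StMod.bmap 𝒳 φ = g) (hg' : StMod.bmap 𝒳 φ' = g) :
    F.map φ hg = F.map φ' hg' := by
  subst h; rfl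

variable (f σ W) in
/-- A quasi-coherent module seen on the base change. -/
def upMod (F : StMod.QCoh (BG0 (Red.bc f G))) : StMod.QCoh (FP f σ W) where
  obj :=
    { obj := fun x => F.obj.obj (upFun f x)
      map := fun φ g hg => F.obj.map (upFunMap f φ) hg
      map_id := fun x => (congrArg (· ≫ _) (map_congr F.obj (upFunMap_id f x) _ (StMod.bmap_id _))).trans
        (F.obj.map_id (upFun f x))
      map_comp := fun ψ φ h g hh hg =>
        (map_congr F.obj (upFunMap_comp f ψ φ) _ (by rw [StMod.bmap_comp]; exact congr (congrArg _ hh) hg)).trans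
          (F.obj.map_comp (upFunMap f ψ) (upFunMap f φ) hh hg) }
  property := ⟨fun _ _ φ _ hg => F.property.1 (upFunMap f φ) hg, fun x => F.property.2 (upFun f x)⟩

variable (f σ W) in
/-- `upMod` on morphisms. -/
def upModMap {F F' : StMod.QCoh (BG0 (Red.bc f G))} (u : F ⟶ F') : upMod f σ W F ⟶ upMod f σ W F' :=
  ObjectProperty.homMk ⟨fun x => u.hom.app (upFun f x), fun φ _ hg => u.hom.comm (upFunMap f φ) hg⟩

/-- The structure map of the terminal scheme. -/
abbrev tB {S₀ : Scheme.{u}} (T : Over S₀) : T ⟶ Over.mk (𝟙 S₀) := Over.homMk T.hom (Category.comp_id _)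

theorem tB_unique {S₀ : Scheme.{u}} {T : Over S₀} (a b : T ⟶ Over.mk (𝟙 S₀)) : a = b := by
  have h₁ := Over.w a
  have h₂ := Over.w b
  simp only [Over.mk_hom] at h₁ h₂
  erw [Category.comp_id] at h₁ h₂
  exact Over.OverMorphism.ext (h₁.trans h₂.symm)

variable (f σ) in
/-- `downFun` over the terminal scheme. -/
abbrev dF (B : (BG0 (Red.bc f G)).obj) : (FP f σ (Over.mk (𝟙 S'))).obj := downFun f σ B (tB B.base)

variable (f σ) in
/-- `dF` on morphisms. -/
abbrev dFMap {B B' : (BG0 (Red.bc f G)).obj} (m : B ⟶ B') : dF f σ B ⟶ dF f σ B' :=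
  downFunMap f σ m (tB_unique _ _)

theorem dFMap_id (B : (BG0 (Red.bc f G)).obj) : dFMap f σ (𝟙 B) = 𝟙 (dF f σ B) := by
  apply ObjectProperty.hom_ext
  apply CategoricalPullback.hom_ext
  · exact Stk.EltObj.hom_ext (Over.OverMorphism.ext rfl)
  · exact AlgSt.QuotObj.hom_ext (Over.OverMorphism.ext rfl) (Over.OverMorphism.ext rfl)

theorem dFMap_comp {B B' B'' : (BG0 (Red.bc f G)).obj} (m : B ⟶ B') (m' : B' ⟶ B'') :
    dFMap f σ (m ≫ m') = dFMap f σ m ≫ dFMap f σ m' := by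
  apply ObjectProperty.hom_ext
  apply CategoricalPullback.hom_ext
  · exact Stk.EltObj.hom_ext (Over.OverMorphism.ext rfl)
  · exact AlgSt.QuotObj.hom_ext (Over.OverMorphism.ext rfl) (Over.OverMorphism.ext rfl)

variable (f σ) in
/-- A quasi-coherent module on the base change seen on the classifying stack over the new base. -/
def downMod (F : StMod.QCoh (FP f σ (Over.mk (𝟙 S')))) : StMod.QCoh (BG0 (Red.bc f G)) where
  obj :=
    { obj := fun B => F.obj.obj (dF f σ B)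
      map := fun φ g hg => F.obj.map (dFMap f σ φ) hg
      map_id := fun B => (congrArg (· ≫ _) (map_congr F.obj (dFMap_id B) _ (StMod.bmap_id _))).trans
        (F.obj.map_id (dF f σ B))
      map_comp := fun ψ φ h g hh hg =>
        (map_congr F.obj (dFMap_comp ψ φ) _ (by rw [StMod.bmap_comp]; exact congr (congrArg _ hh) hg)).trans
          (F.obj.map_comp (dFMap f σ ψ) (dFMap f σ φ) hh hg) }
  property := ⟨fun _ _ φ _ hg => F.property.1 (dFMap f σ φ) hg, fun B => F.property.2 (dF f σ B)⟩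

variable (f σ) in
/-- `downMod` on morphisms. -/
def downModMap {F F' : StMod.QCoh (FP f σ (Over.mk (𝟙 S')))} (u : F ⟶ F') : downMod f σ F ⟶ downMod f σ F' :=
  ObjectProperty.homMk ⟨fun B => u.hom.app (dF f σ B), fun φ _ hg => u.hom.comm (dFMap f σ φ) hg⟩

end Mods

/-- Cohomological affineness over the base changes to affine schemes gives it over the new base. -/
theorem isCohAffine_up (σ' : BG0 (Red.bc f G) ⥤ᵇ AlgSt.ofSch (Over.mk (𝟙 S')))
    (h : ∀ W : Over S', IsAffine W.left → StMod.IsCohAffine (FibCat.fpFst (AlgSt.ofSpMap (gMap f W)) σ)) :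
    StMod.IsCohAffine σ' := by
  intro F F' v hv E hE t
  let W : Over S' := E.obj.left
  let Z : Over S := (Over.map f).obj W
  let E0 : AlgSp.EtOver ((AlgSp.yon S).obj Z) := AlgSp.EtOver.mk _
    ((AlgSpLib.repWith_yon_iff (P := @Etale) (𝟙 Z)).2 (inferInstanceAs (Etale (𝟙 Z.left))))
  let π := FibCat.fpFst (AlgSt.ofSpMap (gMap f W)) σ
  let aW : ∀ x : (FP f σ W).obj, baseUp f x ⟶ W := fun x => Over.homMk x.obj.fst.sec.down.left rfl
  let αW : ∀ x : (FP f σ W).obj, σ'.obj (upFun f x) ⟶ StMod.etaOf E := fun x =>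
    toBase (eqToHom (σ'.w_obj (upFun f x)) ≫ aW x)
  let t' : StMod.Mod.RelSect π (upMod f σ W F').obj (StMod.etaOf E0) :=
    ⟨fun x _ => t.1 (upFun f x) (αW x), fun x' x φ β => by
      refine (t.2 (upFunMap f φ) (αW x)).trans (congrArg (t.1 (upFun f x')) (map_toBase_ext σ' _ ?_))
      rw [baseOver_toBase, baseOver_toBase]
      exact congrArg (fun q => q.left) (congrArg ULift.down φ.hom.fst.map_sec)⟩
  obtain ⟨s', hs'⟩ := h W hE (upModMap f σ W v) (fun x hx => hv (upFun f x) hx) E0 hE t'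
  have hk : (AlgSp.yon S).map (𝟙 Z) = E0.obj.hom := rfl
  let β : ∀ x : (FP f σ W).obj, π.obj x ⟶ StMod.etaOf E0 := fun x =>
    eMk hk x.obj.fst.sec.down (Category.comp_id _)
  let aξ : ∀ (ξ : (BG0 (Red.bc f G)).obj), (σ'.obj ξ ⟶ StMod.etaOf E) → (ξ.base ⟶ W) := fun ξ α =>
    StMod.baseOver σ' ξ α
  refine ⟨⟨fun ξ α => F.obj.mapTop (unitHom f ξ (aξ ξ α))
    (s'.1 (downFun f σ ξ (aξ ξ α)) (β _)), fun ξ' ξ φ α => ?_⟩, ?_⟩
  · have e : φ.base ≫ aξ ξ α = aξ ξ' (σ'.map φ ≫ α) := StMod.map_comp_baseOver σ' φ α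
    have hc : φ ≫ unitHom f ξ (aξ ξ α) =
        unitHom f ξ' (aξ ξ' (σ'.map φ ≫ α)) ≫ upFunMap (σ := σ) f (downFunMap f σ φ e) :=
      AlgSt.QuotObj.hom_ext (Over.OverMorphism.ext (Category.comp_id _ |>.trans (Category.id_comp _).symm))
        (Over.OverMorphism.ext (Category.comp_id _ |>.trans (Category.id_comp _).symm))
    refine (StMod.Mod.mapTop_comp F.obj φ _ _).symm.trans ?_
    rw [hc, StMod.Mod.mapTop_comp]
    refine congrArg (F.obj.mapTop _) ((s'.2 (downFunMap f σ φ e) (β _)).trans (congrArg (s'.1 _) ?_))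
    refine Stk.EltObj.hom_ext ?_
    show (Over.map f).map φ.base ≫ (Over.map f).map (aξ ξ α) = (Over.map f).map (aξ ξ' (σ'.map φ ≫ α))
    rw [← Functor.map_comp, e]
  · refine StMod.Mod.RelSect.ext _ _ _ fun ξ α => ?_
    refine (StMod.Mod.mapTop_app v.hom (unitHom f ξ (aξ ξ α)) _).symm.trans ?_
    have h1 := congrArg (fun k : StMod.Mod.RelSect π (upMod f σ W F').obj (StMod.etaOf E0) =>
      k.1 (downFun f σ ξ (aξ ξ α)) (β _)) hs'
    refine (congrArg (F'.obj.mapTop _) h1).trans ((t.2 (unitHom f ξ (aξ ξ α)) (αW _)).trans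
      (congrArg (t.1 ξ) (map_toBase_ext σ' _ ?_)))
    rw [baseOver_toBase]
    exact Category.id_comp _

/-- Cohomological affineness over the new base gives it for the base change. -/
theorem isCohAffine_down (σ' : BG0 (Red.bc f G) ⥤ᵇ AlgSt.ofSch (Over.mk (𝟙 S')))
    (h : StMod.IsCohAffine σ') :
    StMod.IsCohAffine (FibCat.fpFst (AlgSt.ofSpMap (gMap f (Over.mk (𝟙 S')))) σ) := by
  intro F F' v hv E0 hE t
  obtain ⟨k, hk⟩ := AlgSpLib.exists_map_eq E0.obj.hom
  haveI : Etale k.left := (AlgSpLib.repWith_yon_iff (P := @Etale) k).1 (by rw [hk]; exact E0.property)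
  let V : Over S' := Over.mk (show E0.obj.left.left ⟶ S' from k.left)
  let E : AlgSp.EtOver ((AlgSp.yon S').obj (Over.mk (𝟙 S'))) := AlgSp.EtOver.mk _
    ((AlgSpLib.repWith_yon_iff (P := @Etale) (tB V)).2 (show Etale k.left from inferInstance))
  let π := FibCat.fpFst (AlgSt.ofSpMap (gMap f (Over.mk (𝟙 S')))) σ
  have hV : E0.obj.left.hom = k.left ≫ f := by
    rw [← Over.w k]
    exact congrArg (k.left ≫ ·) (Category.id_comp f)
  let bD : ∀ (B : (BG0 (Red.bc f G)).obj), (B.base ⟶ V) → (π.obj (dF f σ B) ⟶ StMod.etaOf E0) := fun B b =>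
    eMk hk (Over.homMk b.left (by
      show b.left ≫ E0.obj.left.hom = B.base.hom ≫ f
      rw [hV, ← Category.assoc]
      exact congrArg (· ≫ f) (Over.w b))) (Over.OverMorphism.ext (Over.w b))
  let t' : StMod.Mod.RelSect σ' (downMod f σ F').obj (StMod.etaOf E) :=
    ⟨fun B α => t.1 (dF f σ B) (bD B (StMod.baseOver σ' B α)), fun B' B φ α => by
      refine (t.2 (dFMap f σ φ) _).trans (congrArg (t.1 _) ?_)
      refine Stk.EltObj.hom_ext (Over.OverMorphism.ext ?_)
      exact StMod.bmap_comp_baseOver_left σ' φ α⟩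
  obtain ⟨s', hs'⟩ := h (downModMap f σ v) (fun B hB => hv (dF f σ B) hB) E hE t'
  let bU : ∀ (x : (FP f σ (Over.mk (𝟙 S'))).obj), (π.obj x ⟶ StMod.etaOf E0) → (baseUp f x ⟶ V) := fun x β =>
    Over.homMk β.hom.left (by
      show β.hom.left ≫ k.left = x.obj.fst.sec.down.left ≫ 𝟙 S'
      rw [← Over.comp_left, eMk_w hk β]
      exact (Category.comp_id _).symm)
  let αU : ∀ (x : (FP f σ (Over.mk (𝟙 S'))).obj), (π.obj x ⟶ StMod.etaOf E0) →
      (σ'.obj (upFun f x) ⟶ StMod.etaOf E) := fun x β => toBase (eqToHom (σ'.w_obj (upFun f x)) ≫ bU x β)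
  let c : ∀ (x : (FP f σ (Over.mk (𝟙 S'))).obj), x ⟶ dF f σ (upFun f x) := fun x =>
    counitHom f x (tB _) (Category.comp_id _)
  refine ⟨⟨fun x β => F.obj.mapTop (c x) (s'.1 (upFun f x) (αU x β)), fun x' x φ β => ?_⟩, ?_⟩
  · have hc : φ ≫ c x = c x' ≫ dFMap f σ (upFunMap f φ) := by
      apply ObjectProperty.hom_ext
      apply CategoricalPullback.hom_ext
      · apply Stk.EltObj.hom_ext
        apply Over.OverMorphism.ext
        show φ.hom.fst.hom.left ≫ (eqToHom (baseUp_eq f x)).left = (eqToHom (baseUp_eq f x')).left ≫ _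
        rw [eqToHom_baseUp_left, eqToHom_baseUp_left, Category.comp_id]
        exact (Category.id_comp _).symm
      · refine AlgSt.QuotObj.hom_ext ?_ ?_
        · exact (snd_base_eq f φ)
        · show φ.hom.snd.top ≫ inv (upC f x.obj.snd _ (objUp_eq f x)) =
            inv (upC f x'.obj.snd _ (objUp_eq f x')) ≫ (Over.map f).map _
          rw [IsIso.comp_inv_eq, Category.assoc, IsIso.eq_inv_comp]
          exact Over.OverMorphism.ext ((Category.id_comp _).trans (Category.comp_id _).symm)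
    refine (StMod.Mod.mapTop_comp F.obj φ _ _).symm.trans ?_
    rw [hc, StMod.Mod.mapTop_comp]
    refine congrArg (F.obj.mapTop _) ((s'.2 (upFunMap f φ) (αU x β)).trans (congrArg (s'.1 _) ?_))
    apply map_toBase_ext
    rw [baseOver_toBase, baseOver_toBase]
    rfl
  · refine StMod.Mod.RelSect.ext _ _ _ fun x β => ?_
    refine (StMod.Mod.mapTop_app v.hom (c x) _).symm.trans ?_
    have h1 := congrArg (fun q : StMod.Mod.RelSect σ' (downMod f σ F').obj (StMod.etaOf E) =>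
      q.1 (upFun f x) (αU x β)) hs'
    refine (congrArg (F'.obj.mapTop _) h1).trans ((t.2 (c x) _).trans (congrArg (t.1 x) ?_))
    refine Stk.EltObj.hom_ext (Over.OverMorphism.ext ?_)
    show (eqToHom (baseUp_eq f x)).left ≫ (StMod.baseOver σ' (upFun f x) (αU x β)).left = β.hom.left
    rw [eqToHom_baseUp_left, baseOver_toBase]
    exact Category.id_comp _

end Groth.Agent.RelGen.BGBC
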