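import Mathlib
import Groth.Agent.RelGen.BGCoh
import Groth.Agent.RelGen.CohSp
import Groth.Agent.S13571
import Groth.Agent.AlgStLib.QC2
import Groth.Agent.AlgStLib.ResGerbeIso
import Groth.Agent.AlgStLib.OpenSub
import Groth.Agent.AlgStLib.QuotRepProps

/-!
# Linearly reductive groups and base change
-/

universe u

open CategoryTheory CategoryTheory.Limits MonoidalCategory CartesianMonoidalCategory MonObj GrpObj AlgebraicGeometry Opposite

set_option autoImplicit false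
set_option backward.isDefEq.respectTransparency false
set_option backward.isDefEq.respectTransparency.types false
set_option linter.style.haveILetI false

noncomputable section

namespace Groth.Agent.RelGen.BGBC

variable {S S' : Scheme.{u}} {f : S' ⟶ S} {G : Over S} [GrpObj G]

local notation "AS" => AlgSt.IsAlgStack Scheme.fppfPrecoverage

/-- Two functors to the category of the base scheme are isomorphic. -/
def toBaseIso {𝒳 : AlgSt.Cat S} (a b : 𝒳 ⥤ᵇ AlgSt.ofSch (Over.mk (𝟙 S))) : a ≅ b :=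
  eqToIso (by
    have h : a.toFunctor = b.toFunctor :=
      CategoryTheory.Functor.ext (fun x => eltBase_ext ((a.w_obj x).trans (b.w_obj x).symm)) fun x y m => by
        refine Stk.EltObj.hom_ext (Over.OverMorphism.ext ?_)
        have ha : (a.map m).hom.left ≫ eqToHom _ = eqToHom _ ≫ (𝒳.p.map m).left := StMod.bmap_map_comm a m rfl
        have hb : (b.map m).hom.left ≫ eqToHom _ = eqToHom _ ≫ (𝒳.p.map m).left := StMod.bmap_map_comm b m rfl
        rw [comp_eqToHom_iff] at ha hb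
        rw [ha]
        simp [hb, Over.eqToHom_left]
        erw [elt_eqToHom_hom, elt_eqToHom_hom]
        simp [Over.eqToHom_left]
    cases a; cases b; cases h; rfl)

variable [IsAffineHom G.hom] [Flat G.hom] [LocallyOfFinitePresentation G.hom]

theorem isAlgStack_BG : AS (BG0 G) := Groth.Agent.S13571.result G _ _

/-- The classifying stack is quasi-compact over the base. -/
theorem isQuasiCompactMor_BG (σ : BG0 G ⥤ᵇ AlgSt.ofSch (Over.mk (𝟙 S))) :
    AlgSt.IsQuasiCompactMor Scheme.fppfPrecoverage σ := by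
  have hT : AS (FibCat.overCat (𝟙_ (Over S))) := AlgStLib.isAlgStack_overCat _
  have hB : AS (AlgSt.ofSch (Over.mk (𝟙 S))) := AlgStLib.isAlgStack_ofSp ⟨_, AlgSp.IsAlgSpace.yon_obj _⟩
  let q : FibCat.overCat (𝟙_ (Over S)) ⥤ᵇ BG0 G := AlgStLib.Quot.qX (aX := AlgSt.trivAction G)
  refine AlgStLib.qcMor_of_surjective hT (isAlgStack_BG) hB (toBaseIso (BasedFunctor.comp q σ) (AlgSt.ofOverCat _))
    (AlgStLib.isSurjective_of_repWith hT.isStack.1 (isAlgStack_BG (G := G)).isStack.1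
      AlgStLib.Quot.repWith_qX_surjective) ?_
  refine AlgStLib.isQuasiCompactMor_of_repWith hT hB (AlgStLib.repWith_mono
    (AlgStLib.ResIso.repWith_iso_of_isEquivOver (AlgStLib.isEquivOver_ofOverCat _)) fun F U a _ ha => ?_)
  haveI : IsIso a := ha
  haveI := AlgStLib.respectsIso_quasiCompact (S := S)
  rw [← Category.comp_id a, MorphismProperty.cancel_left_of_respectsIso (AlgSp.IsQuasiCompactMor (S := S)),
    ← (AlgSp.yon S).map_id]
  exact (AlgSpLib.isQuasiCompactMor_iff_repWith (AlgSp.IsAlgSpace.yon_obj U) (AlgSp.IsAlgSpace.yon_obj U)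
    ((AlgSpLib.repWith_yon_iff (P := @QuasiCompact) (𝟙 U)).2 (inferInstanceAs (QuasiCompact (𝟙 U.left)))).1).2
    ((AlgSpLib.repWith_yon_iff (P := @QuasiCompact) (𝟙 U)).2 (inferInstanceAs (QuasiCompact (𝟙 U.left))))

theorem isCohAffine_bc [QuasiSeparatedSpace ↥S] (σ : BG0 G ⥤ᵇ AlgSt.ofSch (Over.mk (𝟙 S)))
    (hqc : AlgSt.IsQuasiCompactMor Scheme.fppfPrecoverage σ) (hqs : AlgSt.IsQuasiSeparatedMor σ)
    (h : StMod.IsCohAffine σ) (σ' : BG0 (Red.bc f G) ⥤ᵇ AlgSt.ofSch (Over.mk (𝟙 S'))) : StMod.IsCohAffine σ' := by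
  refine isCohAffine_up (f := f) (σ := σ) σ' fun W _ => ?_
  haveI : QuasiSeparatedSpace ↥(Over.mk (𝟙 S)).left := ‹QuasiSeparatedSpace ↥S›
  exact isCohAffine_fpFst (M' := ⟨_, AlgSp.IsAlgSpace.yon_obj _⟩) (M := ⟨_, AlgSp.IsAlgSpace.yon_obj _⟩)
    isAlgStack_BG (gMap f W) σ hqc hqs (fun E hE => goodChartObj_of_qsScheme E hE) h

theorem isCohAffine_desc [Flat f] [Surjective f] (σ' : BG0 (Red.bc f G) ⥤ᵇ AlgSt.ofSch (Over.mk (𝟙 S')))
    (h' : StMod.IsCohAffine σ') (σ : BG0 G ⥤ᵇ AlgSt.ofSch (Over.mk (𝟙 S)))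
    (hqc : AlgSt.IsQuasiCompactMor Scheme.fppfPrecoverage σ) (hqs : AlgSt.IsQuasiSeparatedMor σ) :
    StMod.IsCohAffine σ := by
  let k : (Over.map f).obj (Over.mk (𝟙 S')) ⟶ Over.mk (𝟙 S) :=
    Over.homMk ((Over.map f).obj (Over.mk (𝟙 S'))).hom (Category.comp_id _)
  haveI : Flat k.left := inferInstanceAs (Flat (𝟙 S' ≫ f))
  haveI : Surjective k.left := inferInstanceAs (Surjective (𝟙 S' ≫ f))
  have hk : AlgSp.RepWith @Flat ((AlgSp.yon S).map k) := (AlgSpLib.repWith_yon_iff (P := @Flat) k).2 inferInstance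
  refine isCohAffine_of_bc (M' := ⟨_, AlgSp.IsAlgSpace.yon_obj _⟩) (M := ⟨_, AlgSp.IsAlgSpace.yon_obj _⟩)
    isAlgStack_BG (gMap f (Over.mk (𝟙 S'))) ?_ ?_ σ hqc hqs (isCohAffine_down (f := f) (σ := σ) σ' h')
  · exact (AlgSpLib.locP_iff_repWith AlgSpLib.etST_flat (AlgSp.IsAlgSpace.yon_obj _) hk.1).2 hk
  · exact AlgSpLib.isSurjectiveMor_of_repWith ((AlgSpLib.repWith_yon_iff (P := @Surjective) k).2 inferInstance)

end Groth.Agent.RelGen.BGBC
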