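import Mathlib
import Groth.Agent.RelGen.IdealSect
import Groth.Agent.RelGen.UnitAff
import Groth.Agent.RelGen.UnitDesc

/-!
# Functions vanishing on finitely many affine objects, and the quotient modules they define
-/

universe u

open CategoryTheory CategoryTheory.Limits AlgebraicGeometry TopologicalSpace Opposite TensorProduct

set_option autoImplicit false
set_option backward.isDefEq.respectTransparency false
set_option backward.isDefEq.respectTransparency.types false
set_option linter.style.haveILetI false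

noncomputable section

namespace Groth.Agent.RelGen

open Groth.Agent.QC Groth.Agent.QDescent AffMod

variable {S : Scheme.{u}} {Q : AlgSt.Cat S}

/-- The pullback of a function along a morphism of objects. -/
abbrev pullFun {x' x : Q.obj} (c : x' ⟶ x) : Γ(StMod.sch Q x, ⊤) →+* Γ(StMod.sch Q x', ⊤) :=
  (StMod.bmap Q c).appTop.hom

theorem pullFun_comp {x'' x' x : Q.obj} (c' : x'' ⟶ x') (c : x' ⟶ x) (g : Γ(StMod.sch Q x, ⊤)) :
    pullFun (c' ≫ c) g = pullFun c' (pullFun c g) := by
  show (StMod.bmap Q (c' ≫ c)).appTop.hom g = _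
  rw [StMod.bmap_comp, Scheme.Hom.comp_appTop]
  rfl

variable {ι : Type u} (d : ι → Q.obj)

/-- The functions vanishing on everything above the given objects. -/
def vanIdeal (x : Q.obj) : Ideal Γ(StMod.sch Q x, ⊤) where
  carrier := {g | ∀ (w : Q.obj), IsAffine (StMod.sch Q w) → ∀ (c : w ⟶ x) (i : ι), (w ⟶ d i) → pullFun c g = 0}
  add_mem' ha hb w hw c i e := by rw [map_add, ha w hw c i e, hb w hw c i e, add_zero]
  zero_mem' w _ c i e := map_zero _
  smul_mem' r g hg w hw c i e := by rw [smul_eq_mul, map_mul, hg w hw c i e, mul_zero]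

theorem map_vanIdeal {x' x : Q.obj} (f : x' ⟶ x) {g : Γ(StMod.sch Q x, ⊤)} (hg : g ∈ vanIdeal d x) :
    pullFun f g ∈ vanIdeal d x' := fun w hw c i e =>
  (pullFun_comp c f g).symm.trans (hg w hw (c ≫ f) i e)

variable {d} in
/-- A function killed on a finite family of overlaps vanishes above the given objects. -/
theorem mem_vanIdeal_of_family (hQ : FibCat.IsFibGrpd Q.p) {x : Q.obj} {K : Type u} (z : K → Q.obj) (p : ∀ k, z k ⟶ x)
    (hcov : ∀ (w : Q.obj) (_ : w ⟶ x) (i : ι) (_ : w ⟶ d i) (c : w ⟶ x) (t : StMod.sch Q w),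
      ∃ (w' : Q.obj) (φ : w' ⟶ w) (k : K) (v : w' ⟶ z k), Hits φ t ∧ v ≫ p k = φ ≫ c)
    {g : Γ(StMod.sch Q x, ⊤)} (h : ∀ k, pullFun (p k) g = 0) : g ∈ vanIdeal d x := by
  intro w hw c i e
  haveI := hw
  refine eq_zero_of_flat_cover (X := StMod.sch Q w) _ fun t => ?_
  obtain ⟨w', φ, k, v, hφ, hv⟩ := hcov w c i e c t
  obtain ⟨w'', j, hw'', hit, -⟩ := exists_affine_hit hQ φ hφ (U := ⊤) trivial
  refine ⟨_, StMod.bmap Q (j ≫ φ), hw'', hit.flat, hit.mem, ?_⟩
  letI : Algebra Γ(StMod.sch Q w, ⊤) Γ(StMod.sch Q w'', ⊤) := (StMod.bmap Q (j ≫ φ)).appTop.hom.toAlgebra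
  refine (TensorProduct.rid _ _).injective ?_
  rw [TensorProduct.rid_tmul, map_zero]
  refine (mul_one _).trans ?_
  show pullFun (j ≫ φ) (pullFun c g) = 0
  rw [← pullFun_comp, Category.assoc, ← hv, pullFun_comp, pullFun_comp, h k, map_zero, map_zero]

/-- The functions vanishing above the given objects are compatible with flat base change. -/
theorem vanIdeal_le_map (hQ : FibCat.IsFibGrpd Q.p) (hqs : IsQS Q) [Finite ι] (hd : ∀ i, IsAffine (StMod.sch Q (d i)))
    {x' x : Q.obj} [IsAffine (StMod.sch Q x)] [IsAffine (StMod.sch Q x')] (f : x' ⟶ x)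
    (hf : Flat (StMod.bmap Q f)) : vanIdeal d x' ≤ (vanIdeal d x).map (pullFun f) := by
  choose K hK z p q hz hcov using fun i => hqs x (d i) ‹_› (hd i)
  haveI := hK
  let B := Γ(StMod.sch Q x, ⊤)
  let B' := Γ(StMod.sch Q x', ⊤)
  letI : Algebra B B' := (pullFun f).toAlgebra
  haveI : Module.Flat B B' := HasRingHomProperty.appTop (P := @Flat) _ hf
  let J := Σ i, K i
  let C : J → Type u := fun j => Γ(StMod.sch Q (z j.1 j.2), ⊤)
  letI : ∀ j, Algebra B (C j) := fun j => (pullFun (p j.1 j.2)).toAlgebra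
  let θ : B →ₗ[B] (∀ j, C j) := LinearMap.pi fun j => Algebra.linearMap B (C j)
  have hker : ∀ g, θ g = 0 → g ∈ vanIdeal d x := fun g hg =>
    mem_vanIdeal_of_family hQ (fun j : J => z j.1 j.2) (fun j => p j.1 j.2)
      (fun w _ i e c t => by
        obtain ⟨w', φ, k, v, hφ, hv, -⟩ := hcov i w c e t
        exact ⟨w', φ, ⟨i, k⟩, v, hφ, hv⟩)
      fun j => congrFun hg j
  intro g' hg'
  have hzero : ∀ j : J, g' ⊗ₜ[B] (1 : C j) = 0 := fun j => by
    haveI : IsAffine (StMod.sch Q (z j.1 j.2)) := hz j.1 j.2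
    let T := CommRingCat.of (B' ⊗[B] C j)
    obtain ⟨l, hl⟩ := exists_toAffine (X := StMod.sch Q x') (R := T)
      (CommRingCat.ofHom (Algebra.TensorProduct.includeLeftRingHom (R := B) (A := B') (B := C j)))
    obtain ⟨r, hr⟩ := exists_toAffine (X := StMod.sch Q (z j.1 j.2)) (R := T)
      (CommRingCat.ofHom (Algebra.TensorProduct.includeRight (R := B) (A := B') (B := C j)).toRingHom)
    have hsq : l ≫ StMod.bmap Q f = r ≫ StMod.bmap Q (p j.1 j.2) := ext_of_isAffine (by
      rw [Scheme.Hom.comp_appTop, Scheme.Hom.comp_appTop, hl, hr, ← Category.assoc, ← Category.assoc]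
      refine congrArg (· ≫ (Scheme.ΓSpecIso T).inv) (CommRingCat.hom_ext (RingHom.ext fun b => ?_))
      exact (Algebra.TensorProduct.tmul_one_eq_one_tmul b :
        (algebraMap B B' b) ⊗ₜ[B] (1 : C j) = (1 : B') ⊗ₜ[B] (algebraMap B (C j) b)))
    obtain ⟨w, e, v, hv⟩ := exists_lift_scheme hQ (x := z j.1 j.2) r
    haveI : IsAffine (StMod.sch Q w) := IsAffine.of_isIso (eqToHom e)
    obtain ⟨c, hc, -⟩ := exists_factor hQ f (v ≫ p j.1 j.2) (eqToHom e ≫ l) (by
      rw [Category.assoc, hsq, StMod.bmap_comp, hv, Category.assoc])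
    have h1 := hg' w inferInstance c j.1 (v ≫ q j.1 j.2)
    have h2 : (StMod.bmap Q c).appTop.hom g' = 0 := h1
    rw [hc, Scheme.Hom.comp_appTop, hl] at h2
    have h3 := (ConcreteCategory.bijective_of_isIso (eqToHom e).appTop).1 (h2.trans (map_zero _).symm)
    exact (ConcreteCategory.bijective_of_isIso (Scheme.ΓSpecIso T).inv).1 (h3.trans (map_zero _).symm)
  have hex : Function.Exact ((LinearMap.ker θ).subtype.lTensor B') (θ.lTensor B') :=
    Module.Flat.lTensor_exact B' (LinearMap.exact_subtype_ker_map θ)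
  have h0 : θ.lTensor B' (g' ⊗ₜ[B] (1 : B)) = 0 := by
    classical
    letI := Fintype.ofFinite J
    refine (TensorProduct.piRight B B B' C).injective ?_
    rw [map_zero, LinearMap.lTensor_tmul, TensorProduct.piRight_apply, TensorProduct.piRightHom_tmul]
    refine funext fun j => ?_
    show g' ⊗ₜ[B] (algebraMap B (C j) 1) = 0
    rw [map_one]
    exact hzero j
  obtain ⟨y, hy⟩ := (hex _).1 h0
  have key : ∀ y, TensorProduct.rid B B' ((LinearMap.ker θ).subtype.lTensor B' y) ∈ (vanIdeal d x).map (pullFun f) := by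
    intro y
    induction y using TensorProduct.induction_on with
    | zero => rw [map_zero, map_zero]; exact Submodule.zero_mem _
    | add a b ha hb => rw [map_add, map_add]; exact Submodule.add_mem _ ha hb
    | tmul b k =>
      rw [LinearMap.lTensor_tmul, TensorProduct.rid_tmul]
      exact Ideal.mul_mem_right _ _ (Ideal.mem_map_of_mem _ (hker k.1 k.2))
  have e1 : TensorProduct.rid B B' (g' ⊗ₜ[B] (1 : B)) = g' := by rw [TensorProduct.rid_tmul, one_smul]
  rw [← e1, ← hy]
  exact key y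

end Groth.Agent.RelGen
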