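import Mathlib
import Groth.Agent.RelGen.VanIdeal
import Groth.Agent.RelGen.Desc
import Groth.Agent.RelGen.UnitDesc

/-!
# Global functions congruent to combinations of given ones modulo a vanishing ideal
-/

universe u

open CategoryTheory CategoryTheory.Limits AlgebraicGeometry TopologicalSpace Opposite TensorProduct

set_option autoImplicit false
set_option backward.isDefEq.respectTransparency false
set_option backward.isDefEq.respectTransparency.types false
set_option linter.style.haveILetI false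

noncomputable section

namespace Groth.Agent.RelGen

open Groth.Agent.QC Groth.Agent.QDescent AffMod

variable {S : Scheme.{u}} {Q : AlgSt.Cat S} {ι : Type u} (d : ι → Q.obj)

local notation "AS" => AlgSt.IsAlgStack Scheme.fppfPrecoverage

theorem one_tmul_eq_zero {B B' : Type u} [CommRing B] [CommRing B'] [Algebra B B'] {I : Ideal B} {f : B}
    (h : algebraMap B B' f ∈ I.map (algebraMap B B')) : (1 : B') ⊗ₜ[B] (Submodule.Quotient.mk f : B ⧸ I) = 0 := by
  have key : ∀ b ∈ I.map (algebraMap B B'), b ⊗ₜ[B] (Submodule.Quotient.mk (1 : B) : B ⧸ I) = 0 := by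
    intro b hb
    induction hb using Submodule.span_induction with
    | mem y hy =>
      obtain ⟨k, hk, rfl⟩ := hy
      rw [Algebra.algebraMap_eq_smul_one, TensorProduct.smul_tmul, ← Submodule.Quotient.mk_smul, smul_eq_mul, mul_one,
        (Submodule.Quotient.mk_eq_zero I).2 hk, TensorProduct.tmul_zero]
    | zero => exact TensorProduct.zero_tmul _ _
    | add y z _ _ hy hz => rw [TensorProduct.add_tmul, hy, hz, add_zero]
    | smul a y _ hy => rw [← TensorProduct.smul_tmul', hy, smul_zero]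
  have h1 := key _ h
  rw [Algebra.algebraMap_eq_smul_one, TensorProduct.smul_tmul, ← Submodule.Quotient.mk_smul, smul_eq_mul, mul_one] at h1
  exact h1

/-- The functions modulo those vanishing above the given objects. -/
def quotVan : AffMod Q where
  ob A := ModuleCat.of _ (Γ(StMod.sch Q A.obj, ⊤) ⧸ vanIdeal d A.obj)
  r {A' A} g := (Ideal.quotientMap (vanIdeal d A'.obj) (pullFun g)
    (fun b hb => Ideal.mem_comap.2 (map_vanIdeal d g hb))).toAddMonoidHom
  r_smul {A' A} g b n := by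
    obtain ⟨a, rfl⟩ := Submodule.Quotient.mk_surjective _ n
    exact congrArg (Ideal.Quotient.mk _) (map_mul (pullFun g) b a)
  r_id A n := by
    obtain ⟨a, rfl⟩ := Submodule.Quotient.mk_surjective _ n
    exact congrArg (Ideal.Quotient.mk _) ((funMod Q).r_id A a)
  r_comp {A'' A' A} h g n := by
    obtain ⟨a, rfl⟩ := Submodule.Quotient.mk_surjective _ n
    exact congrArg (Ideal.Quotient.mk _) ((funMod Q).r_comp h g a)

theorem isBC_quotVan (hQ : FibCat.IsFibGrpd Q.p) (hqs : IsQS Q) [Finite ι]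
    (hd : ∀ i, IsAffine (StMod.sch Q (d i))) : (quotVan d).IsBC := by
  intro A' A g hg
  letI : Algebra Γ(StMod.sch Q A.obj, ⊤) Γ(StMod.sch Q A'.obj, ⊤) := (pullFun g).toAlgebra
  let B := Γ(StMod.sch Q A.obj, ⊤)
  let B' := Γ(StMod.sch Q A'.obj, ⊤)
  have hone : ∀ z : B' ⊗[B] (quotVan d).ob A, ∃ b : B', z = b ⊗ₜ (Submodule.Quotient.mk (1 : B) : B ⧸ vanIdeal d A.obj) := by
    intro z
    induction z using TensorProduct.induction_on with
    | zero => exact ⟨0, (TensorProduct.zero_tmul _ _).symm⟩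
    | add a b ha hb =>
      obtain ⟨a, rfl⟩ := ha
      obtain ⟨b, rfl⟩ := hb
      exact ⟨a + b, (TensorProduct.add_tmul _ _ _).symm⟩
    | tmul b n =>
      obtain ⟨a, rfl⟩ := Submodule.Quotient.mk_surjective _ n
      refine ⟨a • b, ?_⟩
      rw [TensorProduct.smul_tmul, ← Submodule.Quotient.mk_smul, smul_eq_mul, mul_one]
  have hval : ∀ b : B', (quotVan d).bcm g (b ⊗ₜ (Submodule.Quotient.mk (1 : B) : B ⧸ vanIdeal d A.obj)) =
      (Submodule.Quotient.mk b : B' ⧸ vanIdeal d A'.obj) := fun b =>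
    congrArg (Ideal.Quotient.mk (vanIdeal d A'.obj)) (by
      show b * pullFun g 1 = b
      rw [map_one, mul_one])
  refine ⟨(injective_iff_map_eq_zero _).2 fun z hz => ?_, fun n => ?_⟩
  · obtain ⟨b, rfl⟩ := hone z
    rw [hval] at hz
    have h1 : b ∈ (vanIdeal d A.obj).map (algebraMap B B') :=
      vanIdeal_le_map d hQ hqs hd g hg ((Submodule.Quotient.mk_eq_zero _).1 hz)
    have key : ∀ b ∈ (vanIdeal d A.obj).map (algebraMap B B'),
        b ⊗ₜ[B] (Submodule.Quotient.mk (1 : B) : B ⧸ vanIdeal d A.obj) = 0 := fun b hb => by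
      induction hb using Submodule.span_induction with
      | mem y hy =>
        obtain ⟨k, hk, rfl⟩ := hy
        rw [Algebra.algebraMap_eq_smul_one, TensorProduct.smul_tmul, ← Submodule.Quotient.mk_smul, smul_eq_mul, mul_one,
          (Submodule.Quotient.mk_eq_zero _).2 hk, TensorProduct.tmul_zero]
      | zero => exact TensorProduct.zero_tmul _ _
      | add y z _ _ hy hz =>
        rw [TensorProduct.add_tmul, hy, hz, add_zero]
      | smul a y _ hy =>
        rw [← TensorProduct.smul_tmul', hy, smul_zero]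
    exact key b h1
  · obtain ⟨b, rfl⟩ := Submodule.Quotient.mk_surjective _ n
    exact ⟨_, hval b⟩

/-- Linear combinations of given functions, modulo the vanishing ideal. -/
def combQuot {n : ℕ} (a : Fin n → (StMod.OQ Q ⟶ StMod.OQ Q)) : ModMap (freeMod Q n) (quotVan d) where
  app A := (Submodule.mkQ (vanIdeal d A.obj)).comp ((combMap a).app A)
  nat {A' A} g v := congrArg (Ideal.Quotient.mk (vanIdeal d A'.obj)) ((combMap a).nat g v)

/-- A global function locally congruent to combinations of given ones modulo the vanishing ideal is so globally. -/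
theorem exists_combQuot (hQ : AS Q) (hG : GExact Q) (hqs : IsQS Q) [Finite ι]
    (hd : ∀ i, IsAffine (StMod.sch Q (d i))) {n : ℕ} (a : Fin n → (StMod.OQ Q ⟶ StMod.OQ Q))
    (r : StMod.OQ Q ⟶ StMod.OQ Q)
    (h : ∀ x, IsAffine (StMod.sch Q x) → IsOk x →
      valSec r x ∈ vanIdeal d x ⊔ Ideal.span (Set.range fun i => valSec (a i) x)) :
    ∃ s : Fin n → (StMod.OQ Q ⟶ StMod.OQ Q), ∀ x, IsAffine (StMod.sch Q x) →
      valSec r x - ∑ i, valSec (s i) x * valSec (a i) x ∈ vanIdeal d x := by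
  let p := combQuot d a
  have hN : (quotVan d).IsBC := isBC_quotVan d hQ.isStack.1 hqs hd
  obtain ⟨R⟩ := exists_realization (freeMod Q n) hQ (isBC_freeMod n)
  obtain ⟨R'⟩ := exists_realization p.img hQ (p.isBC_img (isBC_freeMod n) hN)
  obtain ⟨u, hu, huv⟩ := p.exists_toImg hQ R R'
  have hmem : ∀ (A : AObj Q), IsOk A.obj →
      (show (quotVan d).ob A from Submodule.Quotient.mk (valSec r A.obj)) ∈ LinearMap.range (p.app A) := fun A hok => by
    obtain ⟨k, hk, m, hm, hkm⟩ := Submodule.mem_sup.1 (h A.obj A.aff hok)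
    obtain ⟨c, hc⟩ := Ideal.mem_span_range_iff_exists_fun.1 hm
    refine ⟨c, (Submodule.Quotient.eq _).2 ?_⟩
    show (∑ i, c i * valSec (a i) A.obj) - valSec r A.obj ∈ _
    rw [hc, ← hkm, sub_add_cancel_right]
    exact Submodule.neg_mem _ hk
  choose T hT using fun (A : AObj Q) (hok : IsOk A.obj) =>
    (R'.ρ_topOk_bijective A hok).2 (⟨_, hmem A hok⟩ : LinearMap.range (p.app A))
  obtain ⟨φ, hφ⟩ := exists_sect_of_ok (M := R'.G) hQ (fun x hx hok => T ⟨x, hx⟩ hok)
    (fun {x' x} c hx' hok' hx hok => by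
      refine (R'.ρ_topOk_bijective ⟨x', hx'⟩ hok').1 ?_
      refine (R'.ρ_nat (o' := topOk ⟨x', hx'⟩ hok') (o := topOk ⟨x, hx⟩ hok) (covHom c) hx' hx _).trans ?_
      rw [hT, hT]
      exact Subtype.ext (congrArg (Ideal.Quotient.mk _) (valSec_nat r c)))
  obtain ⟨φ', hφ'⟩ := hG u hu φ
  let co : ∀ x (hx : IsAffine (StMod.sch Q x)) (hok : IsOk x), Fin n → Γ(StMod.sch Q x, ⊤) := fun x hx hok =>
    R.ρ (topOk ⟨x, hx⟩ hok) hx ((φ'.hom.app x).app ⊤ (oneSec Q x))
  choose s hs using fun i : Fin n => exists_sect_of_ok (M := StMod.OQ Q) hQ (fun x hx hok => co x hx hok i)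
    (fun {x' x} c hx' hok' hx hok => by
      refine (trT_eq_map (StMod.OQ Q).obj c _).trans ?_
      have e := R.ρ_nat (o' := topOk ⟨x', hx'⟩ hok') (o := topOk ⟨x, hx⟩ hok) (covHom c) hx' hx
        ((φ'.hom.app x).app ⊤ (oneSec Q x))
      have e2 : R.ρ (topOk ⟨x', hx'⟩ hok') hx' (trT R.G.obj c ((φ'.hom.app x).app ⊤ (oneSec Q x))) =
          co x' hx' hok' := congrArg _ (trT_app_oneSec φ' c)
      exact (congrFun (e2.symm.trans e) i).symm)
  have hok : ∀ x, IsAffine (StMod.sch Q x) → IsOk x →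
      valSec r x - ∑ i, valSec (s i) x * valSec (a i) x ∈ vanIdeal d x := fun x hx hok => by
    have e1 : (u.hom.app x).app ⊤ ((φ'.hom.app x).app ⊤ (oneSec Q x)) = T ⟨x, hx⟩ hok :=
      (congrArg (fun k : StMod.OQ Q ⟶ R'.G => (k.hom.app x).app ⊤ (oneSec Q x)) hφ').trans (hφ x hx hok)
    have e2 := huv ⟨x, hx⟩ hok ((φ'.hom.app x).app ⊤ (oneSec Q x))
    rw [e1, hT] at e2
    have e3 : (∑ i, valSec (s i) x * valSec (a i) x : Γ(StMod.sch Q x, ⊤)) = ∑ i, co x hx hok i * valSec (a i) x :=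
      Finset.sum_congr rfl fun i _ => congrArg (· * valSec (a i) x) (hs i x hx hok)
    rw [e3]
    exact (Submodule.Quotient.eq _).1 e2
  refine ⟨s, fun x hx w hw c i e => ?_⟩
  haveI := hw
  refine eq_zero_of_flat_cover (X := StMod.sch Q w) _ fun t => ?_
  obtain ⟨w', φ₀, b, hφ₀, hb, hbok, ⟨χ⟩⟩ := exists_ok_hit hQ w t
  obtain ⟨w'', j, hw'', hit, -⟩ := exists_affine_hit hQ.isStack.1 φ₀ hφ₀ (U := ⊤) trivial
  refine ⟨_, StMod.bmap Q (j ≫ φ₀), hw'', hit.flat, hit.mem, ?_⟩
  letI : Algebra Γ(StMod.sch Q w, ⊤) Γ(StMod.sch Q w'', ⊤) := (StMod.bmap Q (j ≫ φ₀)).appTop.hom.toAlgebra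
  refine (TensorProduct.rid _ _).injective ?_
  rw [TensorProduct.rid_tmul, map_zero]
  refine (mul_one _).trans ?_
  show pullFun (j ≫ φ₀) (pullFun c _) = 0
  have hnat : ∀ {y' y : Q.obj} (k : y' ⟶ y), pullFun k (valSec r y - ∑ i, valSec (s i) y * valSec (a i) y) =
      valSec r y' - ∑ i, valSec (s i) y' * valSec (a i) y' := fun {y' y} k => by
    rw [map_sub, map_sum, valSec_nat r k]
    exact congrArg _ (Finset.sum_congr rfl fun i _ => by rw [map_mul, valSec_nat, valSec_nat])
  rw [← pullFun_comp, hnat, ← hnat (j ≫ χ)]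
  exact hok b hb hbok w'' hw'' (j ≫ χ) i ((j ≫ φ₀) ≫ e)

end Groth.Agent.RelGen
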