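import Mathlib
import Groth.Agent.RelGen.VanQuot
import Groth.Agent.RelGen.Atl
import Groth.Agent.RelGen.UnitAff
import Groth.Agent.AlgStLib.RedSub

/-!
# Closed images under morphisms with exact direct image and bijective unit, over affine objects
-/

universe u

open CategoryTheory CategoryTheory.Limits AlgebraicGeometry TopologicalSpace Opposite TensorProduct

set_option autoImplicit false
set_option backward.isDefEq.respectTransparency false
set_option backward.isDefEq.respectTransparency.types false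
set_option linter.style.haveILetI false

noncomputable section

namespace Groth.Agent.RelGen

open Groth.Agent.QC Groth.Agent.QDescent AffMod

variable {S : Scheme.{u}}

local notation "AS" => AlgSt.IsAlgStack Scheme.fppfPrecoverage

theorem mem_basicOpen_pullFun {Q : AlgSt.Cat S} {x' x : Q.obj} (c : x' ⟶ x) (g : Γ(StMod.sch Q x, ⊤))
    (t : StMod.sch Q x') : (StMod.bmap Q c).base t ∈ (StMod.sch Q x).basicOpen g ↔
      t ∈ (StMod.sch Q x').basicOpen (pullFun c g) :=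
  SetLike.ext_iff.1 (Scheme.preimage_basicOpen_top (StMod.bmap Q c) g) t

theorem basicOpen_mul_top {X : Scheme.{u}} (t : X) (a b : Γ(X, ⊤)) :
    t ∈ X.basicOpen (a * b) ↔ t ∈ X.basicOpen a ∧ t ∈ X.basicOpen b := by
  rw [Scheme.basicOpen_mul]
  exact Iff.rfl

theorem exists_affine_point {X : Scheme.{u}} [IsAffine X] (q : Ideal Γ(X, ⊤)) [q.IsPrime] :
    ∃ t : X, ∀ g : Γ(X, ⊤), t ∈ X.basicOpen g ↔ g ∉ q := by
  refine ⟨(isAffineOpen_top X).fromSpec.base ⟨q, inferInstance⟩, fun g => ?_⟩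
  rw [← PrimeSpectrum.mem_basicOpen g ⟨q, inferInstance⟩, ← (isAffineOpen_top X).fromSpec_preimage_basicOpen g]
  exact Iff.rfl

/-- Separating a point of the base from the part of a closed subset over it. -/
theorem exists_separating {X Y : Scheme.{u}} [IsAffine X] [IsAffine Y] (u : X ⟶ Y) (I : Ideal Γ(X, ⊤)) (v : Y)
    (h : ∀ t : X, (∀ g ∈ I, t ∉ X.basicOpen g) → u.base t ≠ v) :
    ∃ f : Γ(Y, ⊤), v ∈ Y.basicOpen f ∧ ∃ T : Finset Γ(Y, ⊤), (∀ r ∈ T, v ∉ Y.basicOpen r) ∧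
      u.appTop.hom f ∈ I ⊔ Ideal.span (u.appTop.hom '' (T : Set Γ(Y, ⊤))) := by
  classical
  by_contra hcon
  let M : Submonoid Γ(Y, ⊤) :=
    { carrier := {r | v ∈ Y.basicOpen r}
      one_mem' := by
        show v ∈ Y.basicOpen 1
        rw [Scheme.basicOpen_of_isUnit _ isUnit_one]
        trivial
      mul_mem' := fun {x y} hx hy => (basicOpen_mul_top v x y).2 ⟨hx, hy⟩ }
  let pset : Set Γ(Y, ⊤) := {r | v ∉ Y.basicOpen r}
  have hdis : Disjoint ((I ⊔ Ideal.span (u.appTop.hom '' pset) : Ideal Γ(X, ⊤)) : Set Γ(X, ⊤))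
      ((M.map u.appTop.hom.toMonoidHom : Submonoid _) : Set _) := by
    rw [Set.disjoint_left]
    rintro _ hI ⟨f, hf, rfl⟩
    obtain ⟨k, hk, m, hm, hkm⟩ := Submodule.mem_sup.1 hI
    obtain ⟨T', hT', hmT⟩ := Submodule.mem_span_finite_of_mem_span hm
    obtain ⟨T, hT, rfl⟩ := Finset.subset_set_image_iff.1 hT'
    refine hcon ⟨f, hf, T, fun r hr => hT hr, Submodule.mem_sup.2 ⟨k, hk, m, ?_, hkm⟩⟩
    rw [Finset.coe_image] at hmT
    exact hmT
  obtain ⟨q, hq, hIq, hqM⟩ := Ideal.exists_le_prime_disjoint _ _ hdis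
  haveI := hq
  obtain ⟨t, hmem⟩ := exists_affine_point q
  refine h t (fun g hg htg => (hmem g).1 htg (hIq (Submodule.mem_sup_left hg))) ?_
  refine ((TopologicalSpace.IsTopologicalBasis.inseparable_iff (isBasis_basicOpen Y)).2 ?_).eq
  rintro _ ⟨_, ⟨r, rfl⟩, rfl⟩
  refine (SetLike.ext_iff.1 (Scheme.preimage_basicOpen_top u r) t).trans ((hmem _).trans ?_)
  constructor
  · intro hr
    by_contra hvr
    exact hr (hIq (Submodule.mem_sup_right (Ideal.subset_span ⟨r, hvr, rfl⟩)))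
  · exact fun hvr hr => Set.disjoint_left.1 hqM hr ⟨r, hvr, rfl⟩

/-- Membership modulo a vanishing ideal passes from a finite covering to all affine objects. -/
theorem mem_sup_span_of_cover {𝒵 : AlgSt.Cat S} (gZ : FibCat.IsFibGrpd 𝒵.p) (hqs : IsQS 𝒵) {I : Type u} [Finite I]
    {a : I → 𝒵.obj} (hcov : ∀ (x : 𝒵.obj) (t : StMod.sch 𝒵 x),
      ∃ (x' : 𝒵.obj) (φ : x' ⟶ x), Hits φ t ∧ ∃ i, Nonempty (x' ⟶ a i))
    {ι : Type u} [Finite ι] (d : ι → 𝒵.obj) (hd : ∀ i, IsAffine (StMod.sch 𝒵 (d i)))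
    (F : ∀ x : 𝒵.obj, Γ(StMod.sch 𝒵 x, ⊤)) (hF : ∀ {x' x : 𝒵.obj} (c : x' ⟶ x), pullFun c (F x) = F x')
    {n : ℕ} (b : Fin n → ∀ x : 𝒵.obj, Γ(StMod.sch 𝒵 x, ⊤))
    (hbn : ∀ k {x' x : 𝒵.obj} (c : x' ⟶ x), pullFun c (b k x) = b k x')
    (h : ∀ i, F (a i) ∈ vanIdeal d (a i) ⊔ Ideal.span (Set.range fun k => b k (a i)))
    (x : 𝒵.obj) [IsAffine (StMod.sch 𝒵 x)] :
    F x ∈ vanIdeal d x ⊔ Ideal.span (Set.range fun k => b k x) := by
  rw [← Submodule.Quotient.mk_eq_zero]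
  refine eq_zero_of_flat_cover (X := StMod.sch 𝒵 x) _ fun t => ?_
  obtain ⟨x₁, φ₁, hφ₁, i, ⟨c₁⟩⟩ := hcov x t
  obtain ⟨x₂, ι₂, hx₂, hit, -⟩ := exists_affine_hit gZ φ₁ hφ₁ (U := ⊤) trivial
  haveI := hx₂
  refine ⟨_, StMod.bmap 𝒵 (ι₂ ≫ φ₁), hx₂, hit.flat, hit.mem, ?_⟩
  letI : Algebra Γ(StMod.sch 𝒵 x, ⊤) Γ(StMod.sch 𝒵 x₂, ⊤) := (pullFun (ι₂ ≫ φ₁)).toAlgebra
  refine one_tmul_eq_zero ?_
  show pullFun (ι₂ ≫ φ₁) (F x) ∈ Ideal.map (pullFun (ι₂ ≫ φ₁)) _
  rw [hF, ← hF (ι₂ ≫ c₁)]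
  have h3 := Ideal.mem_map_of_mem (pullFun (ι₂ ≫ c₁)) (h i)
  rw [Ideal.map_sup, Ideal.map_span] at h3
  rw [Ideal.map_sup, Ideal.map_span]
  obtain ⟨m₁, hm₁, m₂, hm₂, e⟩ := Submodule.mem_sup.1 h3
  refine Submodule.mem_sup.2 ⟨m₁, ?_, m₂, (Ideal.span_le.2 ?_) hm₂, e⟩
  · refine (le_trans (Ideal.map_le_iff_le_comap.2 fun k hk => Ideal.mem_comap.2 (map_vanIdeal d (ι₂ ≫ c₁) hk)) ?_ : Ideal.map (pullFun (ι₂ ≫ c₁)) (vanIdeal d (a i)) ≤ _) hm₁
    exact vanIdeal_le_map d gZ hqs hd (ι₂ ≫ φ₁) hit.flat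
  · rintro _ ⟨_, ⟨k, rfl⟩, rfl⟩
    exact Ideal.subset_span ⟨b k x, ⟨k, rfl⟩, (hbn k _).trans (hbn k _).symm⟩

variable {𝒳 Q : AlgSt.Cat S} {π : 𝒳 ⥤ᵇ Q} {η : Q.obj}

/-- The data attached to a compatible family of closed subsets. -/
theorem exists_closedData {𝒵 : AlgSt.Cat S} (gZ : FibCat.IsFibGrpd 𝒵.p) {I : Type u} [Finite I] (a : I → 𝒵.obj)
    (ha : ∀ i, IsAffine (StMod.sch 𝒵 (a i)))
    (hcov : ∀ (x : 𝒵.obj) (t : StMod.sch 𝒵 x), ∃ (x' : 𝒵.obj) (φ : x' ⟶ x), Hits φ t ∧ ∃ i, Nonempty (x' ⟶ a i))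
    (hqs : IsQS 𝒵) (C : ∀ x : 𝒵.obj, Set ↥(StMod.sch 𝒵 x)) (hC : ∀ x, IsClosed (C x))
    (hnat : ∀ {x' x : 𝒵.obj} (c : x' ⟶ x), C x' = (StMod.bmap 𝒵 c).base ⁻¹' C x) :
    ∃ d : I → 𝒵.obj, (∀ i, IsAffine (StMod.sch 𝒵 (d i))) ∧
      (∀ (x : 𝒵.obj) (g : Γ(StMod.sch 𝒵 x, ⊤)), g ∈ vanIdeal d x → ∀ t ∈ C x, t ∉ (StMod.sch 𝒵 x).basicOpen g) ∧
      (∀ i (t : StMod.sch 𝒵 (a i)), t ∉ C (a i) →
        ∃ g ∈ vanIdeal d (a i), t ∈ (StMod.sch 𝒵 (a i)).basicOpen g) := by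
  classical
  -- the reduced closed subschemes of the covering objects
  let J : ∀ i, (StMod.sch 𝒵 (a i)).IdealSheafData := fun i =>
    Scheme.IdealSheafData.vanishingIdeal ⟨C (a i), hC (a i)⟩
  have hrange : ∀ i, Set.range (J i).subschemeι.base = C (a i) := fun i => by
    refine ((J i).range_subschemeι).trans ?_
    rw [Scheme.IdealSheafData.coe_support_vanishingIdeal]
    rfl
  haveI : ∀ i, IsAffine (J i).subscheme := fun i => by
    haveI := ha i
    exact isAffine_of_isAffineHom (J i).subschemeι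
  choose d ed φd hφd using fun i => exists_lift_scheme gZ (x := a i) (J i).subschemeι
  have hd : ∀ i, IsAffine (StMod.sch 𝒵 (d i)) := fun i => IsAffine.of_isIso (eqToHom (ed i))
  have hdC : ∀ {w : 𝒵.obj} (i : I) (e : w ⟶ d i) (t : StMod.sch 𝒵 w), t ∈ C w := fun {w} i e t => by
    rw [hnat (e ≫ φd i), Set.mem_preimage, ← hrange, StMod.bmap_comp, hφd, Scheme.Hom.comp_apply, Scheme.Hom.comp_apply]
    exact ⟨_, rfl⟩
  -- vanishing on the closed set
  have hvan : ∀ (x : 𝒵.obj) (g : Γ(StMod.sch 𝒵 x, ⊤)), g ∈ vanIdeal d x → ∀ t ∈ C x,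
      t ∉ (StMod.sch 𝒵 x).basicOpen g := by
    intro x g hg t ht hmem
    obtain ⟨x₁, φ₁, hφ₁, i, ⟨c₁⟩⟩ := hcov x t
    obtain ⟨y, hy⟩ := hφ₁.mem
    have hy' : (StMod.bmap 𝒵 c₁).base y ∈ Set.range (J i).subschemeι.base := by
      rw [hrange, ← Set.mem_preimage, ← hnat, hnat φ₁, Set.mem_preimage, hy]
      exact ht
    let k := (StMod.sch 𝒵 x₁).fromSpecResidueField y
    obtain ⟨l, hl⟩ := Groth.Agent.AlgStLib.exists_factor_of_range (J i).subschemeι (k ≫ StMod.bmap 𝒵 c₁) (fun s => by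
      rw [Scheme.Hom.comp_apply]
      have : k.base s = y := by
        have h1 : k.base s ∈ Set.range k.base := ⟨s, rfl⟩
        rw [Scheme.range_fromSpecResidueField] at h1
        exact h1
      rw [this]
      exact hy')
    obtain ⟨w, ew, v, hv⟩ := exists_lift_scheme gZ (x := x₁) k
    haveI : IsAffine (StMod.sch 𝒵 w) := IsAffine.of_isIso (eqToHom ew)
    obtain ⟨e, -, -⟩ := exists_factor gZ (φd i) (v ≫ c₁) (eqToHom ew ≫ l ≫ eqToHom (ed i).symm) (by
      rw [hφd, StMod.bmap_comp, hv]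
      simp only [Category.assoc, eqToHom_trans_assoc, eqToHom_refl, Category.id_comp, hl])
    have h0 : pullFun (v ≫ φ₁) g = 0 := hg w inferInstance (v ≫ φ₁) i e
    obtain ⟨s⟩ : Nonempty ↥(StMod.sch 𝒵 w) := ⟨(eqToHom ew.symm).base (IsLocalRing.closedPoint _)⟩
    have h1 : (StMod.bmap 𝒵 (v ≫ φ₁)).base s = t := by
      rw [StMod.bmap_comp, Scheme.Hom.comp_apply, hv, Scheme.Hom.comp_apply, ← hy]
      refine congrArg _ ?_
      have h2 : k.base ((eqToHom ew).base s) ∈ Set.range k.base := ⟨_, rfl⟩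
      rw [Scheme.range_fromSpecResidueField] at h2
      exact h2
    rw [← h1, mem_basicOpen_pullFun, h0, Scheme.basicOpen_zero] at hmem
    exact hmem.elim
  -- separation from the closed set
  have hsep : ∀ i (t : StMod.sch 𝒵 (a i)), t ∉ C (a i) → ∃ g ∈ vanIdeal d (a i), t ∈ (StMod.sch 𝒵 (a i)).basicOpen g := by
    intro i t ht
    haveI := ha i
    obtain ⟨g, hgC, htg⟩ := (isAffineOpen_top (StMod.sch 𝒵 (a i))).exists_basicOpen_le
      (V := ⟨(C (a i))ᶜ, (hC (a i)).isOpen_compl⟩) (⟨t, ht⟩ : (⟨(C (a i))ᶜ, (hC (a i)).isOpen_compl⟩ : Opens _)) trivial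
    choose K hK z p q hz hqcov using fun j => hqs (a i) (d j) ‹_› (hd j)
    haveI := hK
    letI := Fintype.ofFinite (Σ j, K j)
    have hnil : ∀ k : Σ j, K j, IsNilpotent (pullFun (p k.1 k.2) g) := fun k => by
      haveI := hz k.1 k.2
      refine (Scheme.isNilpotent_iff_basicOpen_eq_bot_of_isCompact (X := StMod.sch 𝒵 (z k.1 k.2))
        (CompactSpace.isCompact_univ) _).2 (Opens.ext (Set.eq_empty_iff_forall_notMem.2 fun s hs => ?_))
      refine hgC ((mem_basicOpen_pullFun (p k.1 k.2) g s).2 hs) ?_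
      rw [← Set.mem_preimage, ← hnat]
      exact hdC k.1 (q k.1 k.2) s
    choose n hn using hnil
    refine ⟨g ^ (∑ k, n k + 1), mem_vanIdeal_of_family gZ (fun k : Σ j, K j => z k.1 k.2) (fun k => p k.1 k.2)
      (fun w _ j e c s => by
        obtain ⟨w', φ, k, v, hφ, hv, -⟩ := hqcov j w c e s
        exact ⟨w', φ, ⟨j, k⟩, v, hφ, hv⟩) (fun k => ?_), ?_⟩
    · rw [map_pow]
      exact pow_eq_zero_of_le (le_trans (Finset.single_le_sum (fun _ _ => Nat.zero_le _) (Finset.mem_univ k))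
        (Nat.le_succ _)) (hn k)
    · rw [Scheme.basicOpen_pow _ _ (Nat.succ_pos _)]
      exact htg
  exact ⟨d, hd, hvan, hsep⟩

/-- A compatible family of closed subsets has closed image in an affine object. -/
theorem isClosed_image (h𝒳 : AS 𝒳) (hQ : AS Q) [IsAffine (StMod.sch Q η)] (hG : GExact (StMod.fibCat π η))
    (hb : Function.Bijective (StMod.unitSect π η)) (hqc : IsQC (StMod.fibCat π η)) (hqs : IsQS (StMod.fibCat π η))
    (C : ∀ x : (StMod.fibCat π η).obj, Set ↥(StMod.sch (StMod.fibCat π η) x)) (hC : ∀ x, IsClosed (C x))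
    (hnat : ∀ {x' x : (StMod.fibCat π η).obj} (c : x' ⟶ x), C x' = (StMod.bmap _ c).base ⁻¹' C x) :
    IsClosed {v : ↥(StMod.sch Q η) | ∃ (x : (StMod.fibCat π η).obj), ∃ t ∈ C x, (uFib π η x).base t = v} := by
  classical
  have hZ := isAlgStack_fibCat h𝒳 hQ π η
  have gZ := hZ.isStack.1
  obtain ⟨I, _, a, ha, hcov⟩ := hqc
  obtain ⟨d, hd, hvan, hsep⟩ := exists_closedData gZ a ha hcov hqs C hC hnat
  -- the ideal cutting out the image
  let J₀ : Set Γ(StMod.sch Q η, ⊤) :=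
    {r | ∀ x : (StMod.fibCat π η).obj, IsAffine (StMod.sch (StMod.fibCat π η) x) → resFun r x ∈ vanIdeal d x}
  suffices himg : {v : ↥(StMod.sch Q η) | ∃ x, ∃ t ∈ C x, (uFib π η x).base t = v} =
      ⋂ r ∈ J₀, ((StMod.sch Q η).basicOpen r : Set _)ᶜ by
    rw [himg]
    exact isClosed_biInter fun r _ => ((StMod.sch Q η).basicOpen r).isOpen.isClosed_compl
  have hpre : ∀ (x : (StMod.fibCat π η).obj) (r : Γ(StMod.sch Q η, ⊤)) (t : StMod.sch (StMod.fibCat π η) x),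
      (uFib π η x).base t ∈ (StMod.sch Q η).basicOpen r ↔ t ∈ (StMod.sch (StMod.fibCat π η) x).basicOpen (resFun r x) := fun x r t =>
    SetLike.ext_iff.1 (Scheme.preimage_basicOpen_top (uFib π η x) r) t
  ext v
  simp only [Set.mem_iInter, Set.mem_compl_iff, Set.mem_ofPred_eq, SetLike.mem_coe]
  constructor
  · rintro ⟨x, t, ht, rfl⟩ r hr hmem
    obtain ⟨x', ι', hx', hit, -⟩ := exists_affine_hit gZ (𝟙 x) (hits_id x t) (U := ⊤) trivial
    obtain ⟨s, hs⟩ := hit.mem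
    have hmem' : (uFib π η x).base ((StMod.bmap (StMod.fibCat π η) (ι' ≫ 𝟙 x)).base s) ∈ (StMod.sch Q η).basicOpen r := by
      rw [hs]; exact hmem
    rw [hpre, mem_basicOpen_pullFun, show pullFun (ι' ≫ 𝟙 x) (resFun r x) = resFun r x' from resFun_nat r _] at hmem'
    refine hvan x' _ (hr x' hx') s ?_ hmem'
    rw [hnat (ι' ≫ 𝟙 x), Set.mem_preimage, hs]
    exact ht
  · intro hv
    by_contra hno
    have hloc : ∀ i, ∃ f : Γ(StMod.sch Q η, ⊤), v ∈ (StMod.sch Q η).basicOpen f ∧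
        ∃ T : Finset Γ(StMod.sch Q η, ⊤), (∀ r ∈ T, v ∉ (StMod.sch Q η).basicOpen r) ∧
          resFun f (a i) ∈ vanIdeal d (a i) ⊔ Ideal.span ((fun r => resFun r (a i)) '' (T : Set _)) := fun i => by
      haveI := ha i
      refine exists_separating (uFib π η (a i)) (vanIdeal d (a i)) v fun t ht hte => hno ⟨a i, t, ?_, hte⟩
      by_contra htC
      obtain ⟨g, hg, htg⟩ := hsep i t htC
      exact ht g hg htg
    choose f hfM T hTp hfT using hloc
    letI := Fintype.ofFinite I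
    let F := ∏ i, f i
    have hF : v ∈ (StMod.sch Q η).basicOpen F := by
      rw [(StMod.sch Q η).mem_basicOpen_top _ v, map_prod]
      exact IsUnit.prod_iff.2 fun i _ => ((StMod.sch Q η).mem_basicOpen_top _ v).1 (hfM i)
    let K := Σ i, T i
    let e := (Fintype.equivFin K).symm
    let b : Fin (Fintype.card K) → Γ(StMod.sch Q η, ⊤) := fun k => (e k).2.1
    obtain ⟨φF, hφF⟩ := exists_sect_of_fun (π := π) h𝒳.isStack.1 F
    choose φb hφb using fun k => exists_sect_of_fun (π := π) h𝒳.isStack.1 (b k)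
    have hloc' : ∀ x, IsAffine (StMod.sch (StMod.fibCat π η) x) → IsOk x →
        valSec φF x ∈ vanIdeal d x ⊔ Ideal.span (Set.range fun k => valSec (φb k) x) := by
      intro x hx _
      haveI := hx
      rw [hφF x hx, show (fun k => valSec (φb k) x) = fun k => resFun (b k) x from funext fun k => hφb k x hx]
      refine mem_sup_span_of_cover gZ hqs hcov d hd (fun x => resFun F x) (fun c => resFun_nat F c)
        (fun k x => resFun (b k) x) (fun k _ _ c => resFun_nat (b k) c) (fun i => ?_) x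
      have h1 : resFun F (a i) ∈ vanIdeal d (a i) ⊔ Ideal.span (Set.range fun k => resFun (b k) (a i)) := by
        have h2 : resFun F (a i) = resFun (f i) (a i) * resFun (∏ j ∈ Finset.univ.erase i, f j) (a i) := by
          show (uFib π η (a i)).appTop.hom F = _
          rw [show resFun (f i) (a i) * resFun (∏ j ∈ Finset.univ.erase i, f j) (a i) =
            (uFib π η (a i)).appTop.hom (f i * ∏ j ∈ Finset.univ.erase i, f j) from (map_mul _ _ _).symm,
            Finset.mul_prod_erase _ _ (Finset.mem_univ i)]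
        rw [h2]
        refine Ideal.mul_mem_right _ _ ?_
        obtain ⟨m₁, hm₁, m₂, hm₂, em⟩ := Submodule.mem_sup.1 (hfT i)
        refine Submodule.mem_sup.2 ⟨m₁, hm₁, m₂, Ideal.span_mono ?_ hm₂, em⟩
        rintro _ ⟨r, hr, rfl⟩
        exact ⟨e.symm ⟨i, ⟨r, hr⟩⟩, congrArg (fun k : K => resFun k.2.1 (a i)) (e.apply_symm_apply ⟨i, ⟨r, hr⟩⟩)⟩
      exact h1
    obtain ⟨s, hs⟩ := exists_combQuot d hZ hG hqs hd φb φF hloc'
    choose r hr using fun k => exists_fun_of_sect hb (s k)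
    have hJ : F - ∑ k, r k * b k ∈ J₀ := fun x hx => by
      have h1 := hs x hx
      rw [hφF x hx] at h1
      show (uFib π η x).appTop.hom (F - ∑ k, r k * b k) ∈ _
      rw [map_sub, map_sum]
      refine (congrArg (fun m => (uFib π η x).appTop.hom F - m ∈ vanIdeal d x) ?_).mpr h1
      exact Finset.sum_congr rfl fun k _ => by rw [map_mul, hr k, hφb k x hx]
    refine hv _ hJ ?_
    have hsum : v ∉ (StMod.sch Q η).basicOpen (∑ k, r k * b k) := by
      intro hmem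
      rw [(StMod.sch Q η).mem_basicOpen_top _ v, map_sum] at hmem
      refine (IsLocalRing.notMem_maximalIdeal.2 hmem) (Submodule.sum_mem _ fun k _ => ?_)
      rw [map_mul]
      refine Ideal.mul_mem_left _ _ ((IsLocalRing.mem_maximalIdeal _).2 fun hu => ?_)
      exact hTp (e k).1 (e k).2.1 (e k).2.2 ((StMod.sch Q η).mem_basicOpen_top _ v |>.2 hu)
    rw [(StMod.sch Q η).mem_basicOpen_top _ v] at hsum ⊢
    rw [map_sub]
    have hFu : IsUnit ((StMod.sch Q η).presheaf.germ ⊤ v trivial F) := ((StMod.sch Q η).mem_basicOpen_top F v).1 hF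
    by_contra hnu
    refine (IsLocalRing.notMem_maximalIdeal.2 hFu) ?_
    have := Ideal.add_mem _ ((IsLocalRing.mem_maximalIdeal _).2 hnu) ((IsLocalRing.mem_maximalIdeal _).2 hsum)
    rwa [sub_add_cancel] at this

end Groth.Agent.RelGen
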