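import Mathlib
import Groth.Agent.RelGen.SpanSect
import Groth.Agent.RelGen.UnitDesc

/-!
# Exactness for natural families in modules on affine objects
-/

universe u

open CategoryTheory CategoryTheory.Limits AlgebraicGeometry TopologicalSpace Opposite TensorProduct

set_option autoImplicit false
set_option backward.isDefEq.respectTransparency false
set_option backward.isDefEq.respectTransparency.types false
set_option linter.style.haveILetI false

noncomputable section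

namespace Groth.Agent.RelGen

open Groth.Agent.QC Groth.Agent.QDescent AffMod

variable {S : Scheme.{u}} {Q : AlgSt.Cat S}

local notation "AS" => AlgSt.IsAlgStack Scheme.fppfPrecoverage

/-- Linear combinations of natural families of elements. -/
def combFamMap (N : AffMod Q) {n : ℕ} (a : Fin n → ∀ A : AObj Q, N.ob A)
    (ha : ∀ k {A' A : AObj Q} (g : A'.obj ⟶ A.obj), N.r g (a k A) = a k A') : ModMap (freeMod Q n) N where
  app A :=
    { toFun := fun v => ∑ i, (show Fin n → Γ(StMod.sch Q A.obj, ⊤) from v) i • a i A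
      map_add' := fun v w => by
        show (∑ i, ((show Fin n → Γ(StMod.sch Q A.obj, ⊤) from v) i + (show Fin n → Γ(StMod.sch Q A.obj, ⊤) from w) i) •
          a i A) = _
        rw [← Finset.sum_add_distrib]
        exact Finset.sum_congr rfl fun i _ => add_smul _ _ _
      map_smul' := fun b v => by
        show (∑ i, (b * (show Fin n → Γ(StMod.sch Q A.obj, ⊤) from v) i) • a i A) =
          b • ∑ i, (show Fin n → Γ(StMod.sch Q A.obj, ⊤) from v) i • a i A
        rw [Finset.smul_sum]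
        exact Finset.sum_congr rfl fun i _ => mul_smul _ _ _ }
  nat {A' A} g v := by
    show N.r g (∑ i, (show Fin n → Γ(StMod.sch Q A.obj, ⊤) from v) i • a i A) =
      ∑ i, (StMod.bmap Q g).appTop.hom ((show Fin n → Γ(StMod.sch Q A.obj, ⊤) from v) i) • a i A'
    rw [map_sum]
    exact Finset.sum_congr rfl fun i _ => (N.r_smul g _ _).trans (congrArg _ (ha i g))

/-- A natural family locally in the span of given ones is globally a combination of them. -/
theorem exists_combAff (hQ : AS Q) (hG : GExact Q) (N : AffMod Q) (hN : N.IsBC) {n : ℕ}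
    (a : Fin n → ∀ A : AObj Q, N.ob A)
    (ha : ∀ k {A' A : AObj Q} (g : A'.obj ⟶ A.obj), N.r g (a k A) = a k A')
    (r : ∀ A : AObj Q, N.ob A) (hr : ∀ {A' A : AObj Q} (g : A'.obj ⟶ A.obj), N.r g (r A) = r A')
    (h : ∀ A : AObj Q, IsOk A.obj → r A ∈ Submodule.span Γ(StMod.sch Q A.obj, ⊤) (Set.range fun k => a k A)) :
    ∃ s : Fin n → (StMod.OQ Q ⟶ StMod.OQ Q),
      ∀ A : AObj Q, IsOk A.obj → r A = ∑ k, valSec (s k) A.obj • a k A := by
  let p := combFamMap N a ha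
  obtain ⟨R⟩ := exists_realization (freeMod Q n) hQ (isBC_freeMod n)
  obtain ⟨R'⟩ := exists_realization p.img hQ (p.isBC_img (isBC_freeMod n) hN)
  obtain ⟨u, hu, huv⟩ := p.exists_toImg hQ R R'
  have hmem : ∀ (A : AObj Q), IsOk A.obj → r A ∈ LinearMap.range (p.app A) := fun A hok => by
    obtain ⟨c, hc⟩ := (Submodule.mem_span_range_iff_exists_fun _).1 (h A hok)
    exact ⟨c, hc⟩
  choose T hT using fun (A : AObj Q) (hok : IsOk A.obj) =>
    (R'.ρ_topOk_bijective A hok).2 (⟨_, hmem A hok⟩ : LinearMap.range (p.app A))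
  obtain ⟨φ, hφ⟩ := exists_sect_of_ok (M := R'.G) hQ (fun x hx hok => T ⟨x, hx⟩ hok)
    (fun {x' x} c hx' hok' hx hok => by
      refine (R'.ρ_topOk_bijective ⟨x', hx'⟩ hok').1 ?_
      refine (R'.ρ_nat (o' := topOk ⟨x', hx'⟩ hok') (o := topOk ⟨x, hx⟩ hok) (covHom c) hx' hx _).trans ?_
      rw [hT, hT]
      exact Subtype.ext (hr (A' := ⟨x', hx'⟩) (A := ⟨x, hx⟩) c))
  obtain ⟨φ', hφ'⟩ := hG u hu φ
  let co : ∀ x (hx : IsAffine (StMod.sch Q x)) (hok : IsOk x), Fin n → Γ(StMod.sch Q x, ⊤) := fun x hx hok =>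
    R.ρ (topOk ⟨x, hx⟩ hok) hx ((φ'.hom.app x).app ⊤ (oneSec Q x))
  choose s hs using fun i : Fin n => exists_sect_of_ok (M := StMod.OQ Q) hQ (fun x hx hok => co x hx hok i)
    (fun {x' x} c hx' hok' hx hok => by
      refine (trT_eq_map (StMod.OQ Q).obj c _).trans ?_
      have e := R.ρ_nat (o' := topOk ⟨x', hx'⟩ hok') (o := topOk ⟨x, hx⟩ hok) (covHom c) hx' hx
        ((φ'.hom.app x).app ⊤ (oneSec Q x))
      have e2 : R.ρ (topOk ⟨x', hx'⟩ hok') hx' (trT R.G.obj c ((φ'.hom.app x).app ⊤ (oneSec Q x))) =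
          co x' hx' hok' := congrArg _ (trT_app_oneSec φ' c)
      exact (congrFun (e2.symm.trans e) i).symm)
  refine ⟨s, fun A hok => ?_⟩
  have e1 : (u.hom.app A.obj).app ⊤ ((φ'.hom.app A.obj).app ⊤ (oneSec Q A.obj)) = T A hok :=
    (congrArg (fun k : StMod.OQ Q ⟶ R'.G => (k.hom.app A.obj).app ⊤ (oneSec Q A.obj)) hφ').trans (hφ A.obj A.aff hok)
  have e2 := huv A hok ((φ'.hom.app A.obj).app ⊤ (oneSec Q A.obj))
  rw [e1, hT] at e2
  refine e2.trans ?_
  show (∑ i, co A.obj A.aff hok i • a i A) = _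
  exact Finset.sum_congr rfl fun i _ => congrArg (· • a i A) (hs i A.obj A.aff hok).symm

/-- Membership in the span of natural families passes from a covering to all affine objects. -/
theorem mem_span_of_cover_aff (hQ : FibCat.IsFibGrpd Q.p) (N : AffMod Q) (hN : N.IsBC) {I : Type u} {b : I → Q.obj}
    (hb : ∀ i, IsAffine (StMod.sch Q (b i)))
    (hcov : ∀ (x : Q.obj) (p : StMod.sch Q x), ∃ (x' : Q.obj) (φ : x' ⟶ x), Hits φ p ∧ ∃ i, Nonempty (x' ⟶ b i))
    {n : ℕ} (a : Fin n → ∀ A : AObj Q, N.ob A)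
    (ha : ∀ k {A' A : AObj Q} (g : A'.obj ⟶ A.obj), N.r g (a k A) = a k A')
    (r : ∀ A : AObj Q, N.ob A) (hr : ∀ {A' A : AObj Q} (g : A'.obj ⟶ A.obj), N.r g (r A) = r A')
    (h : ∀ i, r ⟨b i, hb i⟩ ∈ Submodule.span Γ(StMod.sch Q (b i), ⊤) (Set.range fun k => a k ⟨b i, hb i⟩))
    (A : AObj Q) : r A ∈ Submodule.span Γ(StMod.sch Q A.obj, ⊤) (Set.range fun k => a k A) := by
  rw [← Submodule.Quotient.mk_eq_zero]
  refine eq_zero_of_flat_cover (X := StMod.sch Q A.obj) _ fun t => ?_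
  obtain ⟨x₁, φ₁, hφ₁, i, ⟨c⟩⟩ := hcov A.obj t
  obtain ⟨x', ι, hx', hit, -⟩ := exists_affine_hit hQ φ₁ hφ₁ (U := ⊤) trivial
  refine ⟨_, StMod.bmap _ (ι ≫ φ₁), hx', hit.flat, hit.mem, ?_⟩
  let A' : AObj Q := ⟨x', hx'⟩
  letI : Algebra Γ(StMod.sch Q A.obj, ⊤) Γ(StMod.sch Q A'.obj, ⊤) :=
    (StMod.bmap Q (ι ≫ φ₁)).appTop.hom.toAlgebra
  set P := Submodule.span Γ(StMod.sch Q A.obj, ⊤) (Set.range fun k => a k A) with hP
  obtain ⟨co, hco⟩ := (Submodule.mem_span_range_iff_exists_fun _).1 (h i)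
  let co' : Fin n → Γ(StMod.sch Q A'.obj, ⊤) := fun k => (StMod.bmap Q (ι ≫ c)).appTop.hom (co k)
  have h' : r A' = ∑ k, co' k • a k A' := by
    rw [← hr (A' := A') (A := ⟨b i, hb i⟩) (ι ≫ c), ← hco, map_sum]
    exact Finset.sum_congr rfl fun k _ => by rw [N.r_smul, ha]
  have hv : ∀ (v : ∀ A : AObj Q, N.ob A), (∀ {A' A : AObj Q} (g : A'.obj ⟶ A.obj), N.r g (v A) = v A') →
      N.bcm (A' := A') (A := A) (ι ≫ φ₁) ((1 : Γ(StMod.sch Q A'.obj, ⊤)) ⊗ₜ v A) = v A' := fun v hv =>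
    (one_smul _ _).trans (hv _)
  have e : (1 : Γ(StMod.sch Q A'.obj, ⊤)) ⊗ₜ[Γ(StMod.sch Q A.obj, ⊤)] r A = ∑ k, co' k ⊗ₜ a k A := by
    refine (hN (A' := A') (A := A) (ι ≫ φ₁) hit.flat).1 ?_
    rw [hv r (fun g => hr g), h', map_sum]
    exact Finset.sum_congr rfl fun k _ => (congrArg (co' k • ·) (ha k (A' := A') (A := A) (ι ≫ φ₁))).symm
  have e2 := congrArg (LinearMap.lTensor Γ(StMod.sch Q A'.obj, ⊤) P.mkQ) e
  rw [LinearMap.lTensor_tmul, Submodule.mkQ_apply, map_sum] at e2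
  refine e2.trans (Finset.sum_eq_zero fun k _ => ?_)
  rw [LinearMap.lTensor_tmul,
    show P.mkQ (a k A) = 0 from (Submodule.Quotient.mk_eq_zero P).2 (Submodule.subset_span ⟨k, rfl⟩),
    TensorProduct.tmul_zero]

end Groth.Agent.RelGen
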