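import Mathlib
import Groth.Agent.RelGen.UnitAff

/-!
# The unit into the direct image of the structure sheaf: passing to a base change of the target
-/

universe u

open CategoryTheory CategoryTheory.Limits AlgebraicGeometry TopologicalSpace Opposite

set_option autoImplicit false
set_option backward.isDefEq.respectTransparency false
set_option backward.isDefEq.respectTransparency.types false
set_option linter.style.haveILetI false

noncomputable section

namespace Groth.Agent.RelGen

open Groth.Agent.QC Groth.Agent.QDescent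

variable {S : Scheme.{u}} {𝒳 Q Q' : AlgSt.Cat S} {G : Q' ⥤ᵇ Q} {π : 𝒳 ⥤ᵇ Q}

/-- Sections over an object of a base change are determined on the chosen objects. -/
theorem SqData.relSect_ext {o : Q'.obj} (d : SqData G π o) {F : StMod.Mod (FibCat.fp G π)}
    {s t : StMod.Mod.RelSect (FibCat.fpFst G π) F o} (h : ∀ x, s.1 (d.P x) (d.β x) = t.1 (d.P x) (d.β x)) : s = t :=
  StMod.Mod.RelSect.ext _ _ _ fun A γ => by
    let x : (StMod.fibCat π (G.obj o)).obj :=
      CostructuredArrow.mk (show π.obj A.obj.snd ⟶ G.obj o from A.obj.iso.inv ≫ G.map γ)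
    obtain ⟨m, -, hm⟩ := d.exists_lift (x := x) (𝟙 A.obj.snd) γ (by
      show A.obj.iso.hom ≫ π.map (𝟙 A.obj.snd) ≫ A.obj.iso.inv ≫ G.map γ = G.map γ
      rw [π.toFunctor.map_id, Category.id_comp, Iso.hom_inv_id_assoc])
    have e : (FibCat.fpFst G π).map m ≫ d.β x = γ := hm
    have h1 := s.2 m (d.β x)
    have h2 := t.2 m (d.β x)
    rw [e] at h1 h2
    rw [← h1, ← h2, h x]

/-- Bijectivity of the unit at the image of an object gives bijectivity at the object, for the base change. -/
theorem unitBij_fpFst (hQ : FibCat.IsFibGrpd Q.p) (hQ' : FibCat.IsFibGrpd Q'.p) {o : Q'.obj}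
    (h : Function.Bijective (StMod.unitSect π (G.obj o))) :
    Function.Bijective (StMod.unitSect (FibCat.fpFst G π) o) := by
  obtain ⟨d⟩ := exists_sqData (G := G) (π := π) hQ hQ' o
  let eo := (eqToHom (StMod.sch_obj_eq G o).symm).appTop
  let cP := fun x => (eqToHom (StMod.sch_obj_eq (FibCat.fpSnd G π) (d.P x)).symm).appTop
  have hb : ∀ {X Y : Scheme.{u}} (e : X = Y), Function.Bijective (eqToHom e).appTop.hom := fun e =>
    ConcreteCategory.bijective_of_isIso (eqToHom e).appTop
  have key : ∀ x r, (StMod.unitSect (FibCat.fpFst G π) o (eo.hom r)).1 (d.P x) (d.β x) =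
      (cP x).hom ((StMod.unitSect π (G.obj o) r).1 x.left x.hom) := fun x r => by
    show (StMod.baseOver (FibCat.fpFst G π) (d.P x) (d.β x)).left.appTop.hom (eo.hom r) =
      (cP x).hom ((StMod.baseOver π x.left x.hom).left.appTop.hom r)
    have h1 := congrArg (fun k => (Scheme.Hom.appTop k).hom r) (baseOver_fpFst (d.P x) (d.β x) x.hom (d.hjβ x))
    simp only [Scheme.Hom.comp_appTop, CommRingCat.hom_comp, RingHom.comp_apply] at h1
    exact h1
  refine ⟨fun r₁ r₂ he => ?_, fun t' => ?_⟩
  · obtain ⟨r, rfl⟩ := (hb (StMod.sch_obj_eq G o).symm).2 r₁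
    obtain ⟨r', rfl⟩ := (hb (StMod.sch_obj_eq G o).symm).2 r₂
    refine congrArg _ (h.1 (StMod.Mod.RelSect.ext _ _ _ fun ξ α => ?_))
    let x : (StMod.fibCat π (G.obj o)).obj := CostructuredArrow.mk α
    refine (hb (StMod.sch_obj_eq (FibCat.fpSnd G π) (d.P x)).symm).1 ?_
    exact (key x r).symm.trans ((congrArg (fun k : StMod.Mod.RelSect (FibCat.fpFst G π) (StMod.O _) o =>
      k.1 (d.P x) (d.β x)) he).trans (key x r'))
  · choose v hv using fun x => (hb (StMod.sch_obj_eq (FibCat.fpSnd G π) (d.P x)).symm).2 (t'.1 (d.P x) (d.β x))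
    let t : StMod.Mod.RelSect π (StMod.O 𝒳) (G.obj o) :=
      ⟨fun ξ α => v (CostructuredArrow.mk α), fun ξ' ξ φ α => by
        let x' : (StMod.fibCat π (G.obj o)).obj := CostructuredArrow.mk (π.map φ ≫ α)
        let x : (StMod.fibCat π (G.obj o)).obj := CostructuredArrow.mk α
        let c : x' ⟶ x := CostructuredArrow.homMk φ rfl
        obtain ⟨m, hm₁, hm₂⟩ := d.hom_self c
        refine (hb (StMod.sch_obj_eq (FibCat.fpSnd G π) (d.P x')).symm).1 ?_
        have e : (FibCat.fpFst G π).map m ≫ d.β x = d.β x' := hm₂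
        have ht := t'.2 m (d.β x)
        rw [e, StMod.O_mapTop] at ht
        rw [StMod.O_mapTop, hv x', ← ht, ← hv x]
        have hb' : StMod.bmap (FibCat.fp G π) m ≫ eqToHom (StMod.sch_obj_eq (FibCat.fpSnd G π) (d.P x)).symm =
            eqToHom (StMod.sch_obj_eq (FibCat.fpSnd G π) (d.P x')).symm ≫ StMod.bmap 𝒳 φ := by
          have h1 := bmap_map (FibCat.fpSnd G π) m
          rw [show (FibCat.fpSnd G π).map m = φ from hm₁] at h1
          rw [h1, eqToHom_trans_assoc, eqToHom_refl, Category.id_comp]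
        have h2 := congrArg (fun k => (Scheme.Hom.appTop k).hom (v x)) hb'
        simp only [Scheme.Hom.comp_appTop, CommRingCat.hom_comp, RingHom.comp_apply] at h2
        exact h2.symm⟩
    obtain ⟨r, hr⟩ := h.2 t
    refine ⟨eo.hom r, d.relSect_ext fun x => (key x r).trans ?_⟩
    rw [hr]
    exact hv x

end Groth.Agent.RelGen
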