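import Mathlib
import Groth.Agent.RelGen.Lift
import Groth.Agent.FinFibImage.Main

/-!
# Connectedness of the points over a field when the unit into the direct image is bijective
-/

universe u

open CategoryTheory CategoryTheory.Limits AlgebraicGeometry TopologicalSpace Opposite

set_option autoImplicit false
set_option backward.isDefEq.respectTransparency false
set_option backward.isDefEq.respectTransparency.types false
set_option linter.style.haveILetI false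

noncomputable section

namespace Groth.Agent.RelGen

open Groth.Agent.QDescent Groth.Agent.AlgStLib Groth.Agent.FibCatRep
open _root_.AlgSp _root_.AlgSt

variable {S : Scheme.{u}} {𝒵 Q : AlgSt.Cat S}

local notation "AS" => IsAlgStack Scheme.fppfPrecoverage

/-- Idempotents cutting out the same open are equal. -/
theorem idem_eq_of_basicOpen {X : Scheme.{u}} {e f : Γ(X, ⊤)} (he : IsIdempotentElem e) (hf : IsIdempotentElem f)
    (h : X.basicOpen e = X.basicOpen f) : e = f := by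
  refine TopCat.Presheaf.section_ext X.sheaf ⊤ e f fun x hx => ?_
  have key : ∀ g : Γ(X, ⊤), IsIdempotentElem g →
      (x ∈ X.basicOpen g ∧ X.presheaf.germ ⊤ x hx g = 1) ∨ (x ∉ X.basicOpen g ∧ X.presheaf.germ ⊤ x hx g = 0) := by
    intro g hg
    rcases IsLocalRing.isUnit_or_isUnit_one_sub_self (X.presheaf.germ ⊤ x hx g) with hu | hu
    · exact Or.inl ⟨(X.mem_basicOpen g x hx).2 hu,
        (IsIdempotentElem.iff_eq_one_of_isUnit hu).1 (hg.map (X.presheaf.germ ⊤ x hx).hom)⟩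
    · refine Or.inr ⟨fun hm => ?_, ?_⟩
      · have h1 : X.presheaf.germ ⊤ x hx g = 1 :=
          (IsIdempotentElem.iff_eq_one_of_isUnit ((X.mem_basicOpen g x hx).1 hm)).1
            (hg.map (X.presheaf.germ ⊤ x hx).hom)
        rw [h1, sub_self] at hu
        exact not_isUnit_zero hu
      · have h1 := (IsIdempotentElem.iff_eq_one_of_isUnit hu).1 ((hg.map (X.presheaf.germ ⊤ x hx).hom).one_sub)
        exact sub_eq_self.1 h1
  rcases key e he with ⟨hme, h1⟩ | ⟨hme, h1⟩ <;> rcases key f hf with ⟨hmf, h2⟩ | ⟨hmf, h2⟩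
  · exact h1.trans h2.symm
  · exact absurd (h ▸ hme) hmf
  · exact absurd (h.symm ▸ hmf) hme
  · exact h1.trans h2.symm

/-- The point of a field-valued point on a chart of its object. -/
theorem ofChart_fpt (p : FPt 𝒵) (z : FibCat.overCat (𝒵.p.obj p.obj) ⥤ᵇ 𝒵) (i : z.obj (topObj _) ≅ p.obj)
    (t : ↥(StMod.sch 𝒵 p.obj)) : AlgSt.Points.ofChart z t = AlgSt.Points.mk p :=
  AlgSt.Points.sound ⟨_, 𝟙 _, z.map (toTop _) ≫ i.hom, trivial⟩

/-- Chart points are compatible with morphisms. -/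
theorem ofChart_nat (h𝒵 : FibCat.IsFibGrpd 𝒵.p) {ξ' ξ : 𝒵.obj} (c : ξ' ⟶ ξ)
    (z' : FibCat.overCat (𝒵.p.obj ξ') ⥤ᵇ 𝒵) (i' : z'.obj (topObj _) ≅ ξ')
    (h' : StMod.sch 𝒵 (z'.obj (topObj _)) = StMod.sch 𝒵 ξ') (hi' : StMod.bmap 𝒵 i'.hom = eqToHom h')
    (z : FibCat.overCat (𝒵.p.obj ξ) ⥤ᵇ 𝒵) (i : z.obj (topObj _) ≅ ξ)
    (h : StMod.sch 𝒵 (z.obj (topObj _)) = StMod.sch 𝒵 ξ) (hi : StMod.bmap 𝒵 i.hom = eqToHom h)
    (t : ↥(StMod.sch 𝒵 ξ')) :
    AlgSt.Points.ofChart z' t = AlgSt.Points.ofChart z ((StMod.bmap 𝒵 c).base t) := by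
  let z'' := BasedFunctor.comp (AlgSt.overMap (𝒵.p.map c)) z
  let q' := (AlgSt.overMap (𝒵.p.map c)).obj (topObj (𝒵.p.obj ξ'))
  obtain ⟨χ, hχ, hχ'⟩ := exists_factor h𝒵 (z.map (toTop q') ≫ i.hom) (i'.hom ≫ c)
    (eqToHom ((congrArg Comma.left (z'.w_obj (topObj _))).trans (congrArg Comma.left (z''.w_obj (topObj _))).symm))
    (by
      rw [StMod.bmap_comp, StMod.bmap_comp, bmap_map, hi, hi']
      simp only [Category.assoc, eqToHom_trans_assoc, eqToHom_trans, eqToHom_refl, Category.comp_id]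
      exact congrArg (eqToHom _ ≫ ·) (Category.id_comp (𝒵.p.map c).left))
  obtain ⟨e⟩ := nonempty_iso_of_top h𝒵 z' z'' χ
    (Over.OverMorphism.ext (hχ.trans (Over.eqToHom_left _).symm))
  rw [ofChart_congr e, ofChart_overMap]
  rfl

variable (π : 𝒵 ⥤ᵇ Q) {o : Q.obj}

theorem nonempty_points_of_unit (h𝒵 : FibCat.IsFibGrpd 𝒵.p) [Nontrivial Γ(StMod.sch Q o, ⊤)]
    (hb : Function.Injective (StMod.unitSect π o)) : Nonempty (AlgSt.Points 𝒵) := by
  by_contra hne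
  refine one_ne_zero (α := Γ(StMod.sch Q o, ⊤)) (hb (StMod.Mod.RelSect.ext _ _ _ fun ξ α => ?_))
  haveI : IsEmpty ↥(StMod.sch 𝒵 ξ) := ⟨fun t => by
    obtain ⟨z, -⟩ := exists_chartAt h𝒵 ξ
    exact hne ⟨AlgSt.Points.ofChart z t⟩⟩
  exact Subsingleton.elim (α := Γ(StMod.sch 𝒵 ξ, ⊤)) _ _

theorem preconnected_points_of_unit (h𝒵 : AS 𝒵) (hK : IsField Γ(StMod.sch Q o, ⊤))
    (hb : Function.Bijective (StMod.unitSect π o)) (hmap : ∀ ξ : 𝒵.obj, Nonempty (π.obj ξ ⟶ o)) :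
    PreconnectedSpace (AlgSt.Points 𝒵) := by
  refine preconnectedSpace_iff_clopen.2 fun U hU => ?_
  have g := h𝒵.isStack.1
  choose z i h hi using fun ξ => exists_chartAt g ξ
  have hidem : ∀ ξ, ∃ e : Γ(StMod.sch 𝒵 ξ, ⊤), IsIdempotentElem e ∧
      ((StMod.sch 𝒵 ξ).basicOpen e : Set ↥(StMod.sch 𝒵 ξ)) = AlgSt.Points.ofChart (z ξ) ⁻¹' U :=
    fun ξ => FinFibImage.exists_idem_of_isClopen _ (hU.preimage (continuous_ofChart h𝒵 (z ξ)))
  choose e he he' using hidem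
  have hnat : ∀ {ξ' ξ : 𝒵.obj} (c : ξ' ⟶ ξ), (StMod.bmap 𝒵 c).appTop.hom (e ξ) = e ξ' := fun {ξ' ξ} c => by
    refine idem_eq_of_basicOpen ((he ξ).map (StMod.bmap 𝒵 c).appTop.hom) (he ξ') (SetLike.coe_injective ?_)
    rw [← Scheme.preimage_basicOpen_top]
    rw [TopologicalSpace.Opens.map_coe, he' ξ, he' ξ']
    ext t
    show AlgSt.Points.ofChart (z ξ) _ ∈ U ↔ AlgSt.Points.ofChart (z ξ') _ ∈ U
    exact iff_of_eq (congrArg (· ∈ U) (ofChart_nat g c (z ξ') (i ξ') (h ξ') (hi ξ') (z ξ) (i ξ) (h ξ) (hi ξ) t).symm)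
  let s : StMod.Mod.RelSect π (StMod.O 𝒵) o := ⟨fun ξ _ => e ξ, fun ξ' ξ c _ => by
    rw [StMod.O_mapTop]; exact hnat c⟩
  obtain ⟨r, hr⟩ := hb.2 s
  have hval : ∀ (p : FPt 𝒵) (t : ↥(StMod.sch 𝒵 p.obj)),
      (AlgSt.Points.mk p ∈ U ↔ t ∈ (StMod.sch 𝒵 p.obj).basicOpen (e p.obj)) := fun p t => by
    rw [← ofChart_fpt p (z p.obj) (i p.obj) t]
    exact (Set.ext_iff.1 (he' p.obj) t).symm
  have heq : ∀ ξ : 𝒵.obj, ∃ α : π.obj ξ ⟶ o, e ξ = (StMod.baseOver π ξ α).left.appTop.hom r := fun ξ =>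
    (hmap ξ).elim fun α => ⟨α, (congrArg (fun k : StMod.Mod.RelSect π (StMod.O 𝒵) o => k.1 ξ α) hr).symm⟩
  by_cases hr0 : r = 0
  · refine Or.inl (Set.eq_empty_iff_forall_notMem.2 fun x hx => ?_)
    obtain ⟨p, rfl⟩ := AlgSt.Points.mk_surjective x
    obtain ⟨t⟩ := nonempty_pt p
    obtain ⟨α, hα⟩ := heq p.obj
    have := (hval p t).1 hx
    rw [hα, hr0, map_zero, Scheme.basicOpen_zero] at this
    exact this.elim
  · refine Or.inr (Set.eq_univ_of_forall fun x => ?_)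
    obtain ⟨p, rfl⟩ := AlgSt.Points.mk_surjective x
    obtain ⟨t⟩ := nonempty_pt p
    obtain ⟨α, hα⟩ := heq p.obj
    have hu : IsUnit r := by
      letI := hK.toField
      exact IsUnit.mk0 r hr0
    refine (hval p t).2 ?_
    rw [hα]
    exact (SetLike.ext_iff.1 (Scheme.basicOpen_of_isUnit _ (hu.map _)) t).2 trivial

end Groth.Agent.RelGen
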