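import Mathlib
import Groth.Agent.RelGen.EtaleChart
import Groth.Agent.RelGen.UnitBC

/-!
# The unit into the direct image of the structure sheaf: from affine to all etale schemes
-/

universe u

open CategoryTheory CategoryTheory.Limits AlgebraicGeometry TopologicalSpace Opposite

set_option autoImplicit false
set_option backward.isDefEq.respectTransparency false
set_option backward.isDefEq.respectTransparency.types false
set_option linter.style.haveILetI false

noncomputable section

namespace Groth.Agent.RelGen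

open Groth.Agent.QC Groth.Agent.QDescent
open _root_.AlgSp _root_.AlgSt

variable {S : Scheme.{u}} {𝒳 : AlgSt.Cat S} {M : AlgSp.Sp S}

theorem presheaf_map_map_eq {T : Scheme.{u}} {A B B' C : T.Opensᵒᵖ} (f : A ⟶ B) (g : B ⟶ C) (f' : A ⟶ B')
    (g' : B' ⟶ C) (s : Γ(T, A.unop)) :
    (T.presheaf.map g).hom ((T.presheaf.map f).hom s) = (T.presheaf.map g').hom ((T.presheaf.map f').hom s) := by
  rw [← CommRingCat.comp_apply, ← CommRingCat.comp_apply, ← Functor.map_comp, ← Functor.map_comp,
    Subsingleton.elim (f ≫ g) (f' ≫ g')]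

/-- The base of an open subscheme. -/
abbrev openBase (T : Over S) (U : T.left.Opens) : Over S := Over.mk (U.ι ≫ T.hom)

/-- The inclusion of an open subscheme. -/
abbrev openIncl (T : Over S) (U : T.left.Opens) : openBase T U ⟶ T := Over.homMk U.ι

/-- An open subscheme of a scheme etale over a sheaf, as an object of the small etale site. -/
def openEt (E : AlgSp.EtOver M) (U : E.obj.left.left.Opens) : AlgSp.EtOver M :=
  AlgSp.EtOver.mk ((yon S).map (openIncl E.obj.left U) ≫ E.obj.hom) (AlgSpLib.repWith_comp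
    ((AlgSpLib.repWith_yon_iff (P := @Etale) _).2 (inferInstanceAs (Etale U.ι))) E.property)

/-- The inclusion of an open subscheme, in the category of the sheaf. -/
def openArr (E : AlgSp.EtOver M) (U : E.obj.left.left.Opens) : StMod.etaOf (openEt E U) ⟶ StMod.etaOf E :=
  eltHom (openIncl E.obj.left U) (by rw [toYon_etaOf, toYon_etaOf]; rfl)

/-- The inclusion of open subschemes, in the category of the sheaf. -/
def openLE (E : AlgSp.EtOver M) {W U : E.obj.left.left.Opens} (e : W ≤ U) :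
    StMod.etaOf (openEt E W) ⟶ StMod.etaOf (openEt E U) :=
  eltHom (Over.homMk (E.obj.left.left.homOfLE e) (by
      show E.obj.left.left.homOfLE e ≫ U.ι ≫ E.obj.left.hom = W.ι ≫ E.obj.left.hom
      rw [Scheme.homOfLE_ι_assoc])) (by
    rw [toYon_etaOf, toYon_etaOf]
    refine ((yon S).map_comp_assoc _ _ E.obj.hom).symm.trans (congrArg (fun k => (yon S).map k ≫ E.obj.hom) ?_)
    exact Over.OverMorphism.ext (Scheme.homOfLE_ι _ e))

theorem openLE_openArr (E : AlgSp.EtOver M) {W U : E.obj.left.left.Opens} (e : W ≤ U) :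
    openLE E e ≫ openArr E U = openArr E W :=
  elt_hom_ext (Over.OverMorphism.ext (Scheme.homOfLE_ι _ e))

/-- Restriction of a section over a scheme to a scheme below. -/
def pullSect {Q : AlgSt.Cat S} {π : 𝒳 ⥤ᵇ Q} {F : StMod.Mod 𝒳} {η' η : Q.obj} (g : η' ⟶ η)
    (t : StMod.Mod.RelSect π F η) : StMod.Mod.RelSect π F η' :=
  ⟨fun ξ α => t.1 ξ (α ≫ g), fun ξ' ξ φ α => by
    show F.mapTop φ (t.1 ξ (α ≫ g)) = t.1 ξ' ((π.map φ ≫ α) ≫ g)
    rw [Category.assoc]
    exact t.2 φ (α ≫ g)⟩

theorem pullSect_unitSect {Q : AlgSt.Cat S} {π : 𝒳 ⥤ᵇ Q} {η' η : Q.obj} (g : η' ⟶ η)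
    (r : Γ(StMod.sch Q η, ⊤)) :
    pullSect g (StMod.unitSect π η r) = StMod.unitSect π η' ((StMod.bmap Q g).appTop.hom r) :=
  StMod.Mod.RelSect.ext _ _ _ fun ξ α => relSect_restrict_unit g r ξ α

variable (π : 𝒳 ⥤ᵇ AlgSt.ofSp M)

theorem openArr_appTop (E : AlgSp.EtOver M) (U : E.obj.left.left.Opens) :
    (StMod.bmap (AlgSt.ofSp M) (openArr E U)).appTop = U.ι.appTop := rfl

theorem topIso_ι_appTop {T : Scheme.{u}} (U : T.Opens) (r : Γ(T, ⊤)) :
    U.topIso.hom.hom (U.ι.appTop.hom r) = (T.presheaf.map (homOfLE le_top).op).hom r := by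
  rw [← CommRingCat.comp_apply, Scheme.Opens.ι_appTop, Scheme.Opens.topIso_hom]
  exact congrArg (fun k => (CommRingCat.Hom.hom k) r) ((T.presheaf.map_comp _ _).symm.trans
    (congrArg _ (Subsingleton.elim _ _)))

theorem topIso_homOfLE_appTop {T : Scheme.{u}} {W U : T.Opens} (e : W ≤ U) (s : Γ(U.toScheme, ⊤)) :
    W.topIso.hom.hom ((T.homOfLE e).appTop.hom s) =
      (T.presheaf.map (homOfLE e).op).hom (U.topIso.hom.hom s) := by
  rw [Scheme.homOfLE_appTop, Scheme.Opens.topIso_hom, Scheme.Opens.topIso_hom]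
  exact presheaf_map_map_eq (T := T) _ _ _ _ s

/-- Injectivity on affine schemes etale over the target gives injectivity on all. -/
theorem unitSect_injective (h : ∀ E : AlgSp.EtOver M, IsAffine E.obj.left.left →
    Function.Bijective (StMod.unitSect π (StMod.etaOf E))) (E : AlgSp.EtOver M) :
    Function.Injective (StMod.unitSect π (StMod.etaOf E)) := by
  intro r r' he
  let T := E.obj.left.left
  refine T.sheaf.eq_of_locally_eq' (fun U : T.affineOpens => (U : T.Opens)) ⊤ (fun U => homOfLE le_top)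
    (iSup_affineOpens_eq_top T).ge r r' fun U => ?_
  have h1 := congrArg (pullSect (openArr E U.1)) he
  rw [pullSect_unitSect, pullSect_unitSect] at h1
  have h2 := congrArg U.1.topIso.hom.hom ((h (openEt E U.1) U.2).1 h1)
  exact (topIso_ι_appTop U.1 r).symm.trans (h2.trans (topIso_ι_appTop U.1 r'))

/-- The unit is an isomorphism as soon as it is bijective on affine schemes etale over the target. -/
theorem unitIsIso_of_affine (h𝒳 : FibCat.IsFibGrpd 𝒳.p) (h : ∀ E : AlgSp.EtOver M, IsAffine E.obj.left.left →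
    Function.Bijective (StMod.unitSect π (StMod.etaOf E))) : StMod.UnitIsIso π := by
  intro E
  refine ⟨unitSect_injective π h E, fun t => ?_⟩
  let T := E.obj.left.left
  choose r hr using fun U : T.affineOpens => (h (openEt E U.1) U.2).2 (pullSect (openArr E U.1) t)
  let sf : ∀ U : T.affineOpens, Γ(T, U.1) := fun U => U.1.topIso.hom.hom (r U)
  have key : ∀ (U : T.affineOpens) (W : T.Opens) (e : W ≤ U.1),
      StMod.unitSect π (StMod.etaOf (openEt E W)) ((T.homOfLE e).appTop.hom (r U)) = pullSect (openArr E W) t := by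
    intro U W e
    have h1 := congrArg (pullSect (openLE E e)) (hr U)
    rw [pullSect_unitSect] at h1
    refine h1.trans (StMod.Mod.RelSect.ext _ _ _ fun ξ α => ?_)
    show t.1 ξ ((α ≫ openLE E e) ≫ openArr E U.1) = t.1 ξ (α ≫ openArr E W)
    rw [Category.assoc, openLE_openArr]
  have compat : TopCat.Presheaf.IsCompatible T.presheaf (fun U : T.affineOpens => U.1) sf := by
    intro U V
    have h1 := unitSect_injective π h (openEt E (U.1 ⊓ V.1))
      ((key U _ inf_le_left).trans (key V _ inf_le_right).symm)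
    have h2 := congrArg (U.1 ⊓ V.1).topIso.hom.hom h1
    rw [topIso_homOfLE_appTop, topIso_homOfLE_appTop] at h2
    exact h2
  obtain ⟨r₀, hr₀, -⟩ := T.sheaf.existsUnique_gluing' (fun U : T.affineOpens => U.1) ⊤ (fun U => homOfLE le_top)
    (iSup_affineOpens_eq_top T).ge sf compat
  have hres : ∀ U : T.affineOpens, U.1.ι.appTop.hom r₀ = r U := fun U =>
    U.1.topIso.commRingCatIsoToRingEquiv.injective ((topIso_ι_appTop U.1 r₀).trans (hr₀ U))
  refine ⟨r₀, StMod.Mod.RelSect.ext _ _ _ fun ξ α => top_ext (StMod.OQ 𝒳) fun p => ?_⟩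
  let b : StMod.sch 𝒳 ξ ⟶ T := (StMod.baseOver π ξ α).left
  obtain ⟨U, hU⟩ := Opens.mem_iSup.1 ((iSup_affineOpens_eq_top T).ge (Set.mem_univ (b.base p)) :
    b.base p ∈ (⨆ U : T.affineOpens, (U : T.Opens)))
  obtain ⟨x', c, hc, hrange, hle, -⟩ := exists_open h𝒳 ξ (b ⁻¹ᵁ U.1)
  haveI := hc
  have hsub : Set.range (π.map c ≫ α).hom.left.base ⊆ Set.range U.1.ι.base := by
    rintro _ ⟨w, rfl⟩
    rw [Scheme.Opens.range_ι]
    have e0 : (StMod.baseOver π x' (π.map c ≫ α)).left =
        StMod.bmap 𝒳 c ≫ b := (StMod.bmap_comp_baseOver_left π c α).symm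
    have e1 : (π.map c ≫ α).hom.left = (eqToHom (π.w_obj x')).left ≫ (StMod.bmap 𝒳 c ≫ b) := by
      rw [← e0]
      show _ = (eqToHom (π.w_obj x')).left ≫ (eqToHom (π.w_obj x').symm ≫ (π.map c ≫ α).hom).left
      rw [← Over.comp_left, eqToHom_trans_assoc, eqToHom_refl, Category.id_comp]
    rw [e1]
    exact hle (Set.mem_univ _)
  let β₀ := IsOpenImmersion.lift U.1.ι (π.map c ≫ α).hom.left hsub
  have hβ : β₀ ≫ U.1.ι = (π.map c ≫ α).hom.left := IsOpenImmersion.lift_fac _ _ _
  let β : π.obj x' ⟶ StMod.etaOf (openEt E U.1) := eltHom (Over.homMk β₀ (by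
      show β₀ ≫ U.1.ι ≫ E.obj.left.hom = _
      rw [← Category.assoc, hβ]
      exact Over.w (π.map c ≫ α).hom)) (by
    rw [toYon_etaOf]
    refine Eq.trans ?_ (toYon_map (π.map c ≫ α))
    rw [toYon_etaOf]
    refine ((yon S).map_comp_assoc _ _ E.obj.hom).symm.trans (congrArg (fun k => (yon S).map k ≫ E.obj.hom) ?_)
    exact Over.OverMorphism.ext hβ)
  have hfac : β ≫ openArr E U.1 = π.map c ≫ α := elt_hom_ext (Over.OverMorphism.ext hβ)
  refine ⟨x', c, ⟨inferInstance, inferInstance, ?_⟩, ?_⟩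
  · rw [hrange]; exact hU
  rw [trT_eq_map, trT_eq_map]
  refine ((StMod.unitSect π (StMod.etaOf E) r₀).2 c α).trans ?_
  refine Eq.trans ?_ (t.2 c α).symm
  refine Eq.trans (congrArg ((StMod.unitSect π (StMod.etaOf E) r₀).1 x') hfac.symm) ?_
  refine (relSect_restrict_unit (openArr E U.1) r₀ x' β).trans ?_
  refine (congrArg (fun z => (StMod.unitSect π (StMod.etaOf (openEt E U.1)) z).1 x' β) (hres U)).trans ?_
  refine (congrArg (fun z : StMod.Mod.RelSect π (StMod.O 𝒳) _ => z.1 x' β) (hr U)).trans ?_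
  exact congrArg (t.1 x') hfac

end Groth.Agent.RelGen
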