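import Mathlib
import Groth.Agent.RelGen.UnitConn
import Groth.Agent.RelGen.UnitBCUp
import Groth.Agent.RelGen.UnitLocal
import Groth.Agent.RelGen.CohBase
import Groth.Agent.RelGen.UnitAff
import Groth.Agent.AlgSpLib.QCompact
import Groth.Agent.AlgSpLib.Criteria

/-!
# Fibres of good moduli morphisms over field-valued points
-/

universe u

open CategoryTheory CategoryTheory.Limits AlgebraicGeometry TopologicalSpace Opposite

set_option autoImplicit false
set_option backward.isDefEq.respectTransparency false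
set_option backward.isDefEq.respectTransparency.types false
set_option linter.style.haveILetI false

noncomputable section

namespace Groth.Agent.RelGen

open Groth.Agent.QDescent Groth.Agent.AlgStLib
open _root_.AlgSp _root_.AlgSt

variable {S : Scheme.{u}} [QuasiSeparatedSpace ↥S] {𝒳 : AlgSt.Cat S} {M : AlgSp.Space S}

local notation "AS" => IsAlgStack Scheme.fppfPrecoverage

variable (h𝒳 : AS 𝒳) (hM : AlgSp.IsQuasiSeparatedSp M.obj) (π : 𝒳 ⥤ᵇ AlgSt.ofSp M.obj)
  (hqc : AlgSt.IsQuasiCompactMor Scheme.fppfPrecoverage π) (hqs : AlgSt.IsQuasiSeparatedMor π)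
  (h : StMod.IsGoodModuli π)

include h𝒳 hM hqc hqs h

/-- The unit is bijective over every affine object of the good moduli space. -/
theorem unitBij_affObj (o : (AlgSt.ofSp M.obj).obj) (ho : IsAffine (StMod.sch (AlgSt.ofSp M.obj) o)) :
    Function.Bijective (StMod.unitSect π o) := by
  have hMs := isAlgStack_ofSp M
  haveI := ho
  refine unitBij_of_hits (fibData_of_qcqs h𝒳 hMs π hqc hqs) fun t => ?_
  let E' : AlgSp.EtOver ((yon S).obj o.base) := AlgSp.EtOver.mk (𝟙 _) (by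
    rw [← (yon S).map_id]
    exact (AlgSpLib.repWith_yon_iff (P := @Etale) (𝟙 o.base)).2 (inferInstanceAs (Etale (𝟙 o.base.left))))
  obtain ⟨E₀, O, f, k, hE₀, hO, hf, ht, hOf, hOk⟩ :=
    exists_chart_below (M' := spOf o.base) (show (spOf o.base).obj ⟶ M.obj from toYon o) E' t
  let o' : (AlgSt.ofSp M.obj).obj :=
    ⟨O.obj.left, (AlgSp.J S).uliftYonedaEquiv (O.obj.hom ≫ (show (spOf o.base).obj ⟶ M.obj from toYon o))⟩
  have hoY : toYon o' = O.obj.hom ≫ toYon o := Equiv.symm_apply_apply _ _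
  haveI : IsAffine (StMod.sch (AlgSt.ofSp M.obj) o') := hO
  haveI : IsAffine (StMod.sch (AlgSt.ofSp M.obj) (StMod.etaOf E₀)) := hE₀
  refine ⟨o', eltHom f ?_, hO, hf, ht, unitBij_affine h𝒳 hMs (fibData_of_qcqs h𝒳 hMs π hqc hqs) (eltHom k ?_)
    (gExact_fib_of_isCohAffine h𝒳 π h.1 E₀ hE₀ (goodChartObj_of_qsSp hM E₀ hE₀)) (h.2 E₀)⟩
  · rw [hoY, hOf]
    exact congrArg (fun q => q ≫ toYon o) (Category.comp_id _).symm
  · rw [hoY, toYon_etaOf]
    exact hOk.symm

variable {K : Type u} [Field K] (t : Spec (CommRingCat.of K) ⟶ S)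
  (y : (yon S).obj (Over.mk t) ⟶ M.obj)

/-- The points of a field-valued fibre form a connected space. -/
theorem connectedSpace_fibre : ConnectedSpace (AlgSt.Points (FibCat.fp (AlgSt.ofSpMap y) π)) := by
  have hMs := isAlgStack_ofSp M
  have hY := isAlgStack_spOf (S := S) (Over.mk t)
  have hfp : AS (FibCat.fp (AlgSt.ofSpMap y) π) := algFp hMs hY h𝒳 (AlgSt.ofSpMap y) π
  let o : (AlgSt.ofSp (spOf (Over.mk t)).obj).obj :=
    ⟨Over.mk t, (AlgSp.J S).uliftYonedaEquiv (𝟙 ((yon S).obj (Over.mk t)))⟩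
  have hb : Function.Bijective (StMod.unitSect (FibCat.fpFst (AlgSt.ofSpMap y) π) o) :=
    unitBij_fpFst hMs.isStack.1 hY.isStack.1 (unitBij_affObj h𝒳 hM π hqc hqs h _
      (inferInstanceAs (IsAffine (Spec (CommRingCat.of K)))))
  have hK : IsField Γ(StMod.sch (AlgSt.ofSp (spOf (Over.mk t)).obj) o, ⊤) :=
    MulEquiv.isField (Field.toIsField K) (Scheme.ΓSpecIso (CommRingCat.of K)).commRingCatIsoToRingEquiv.toMulEquiv
  haveI : Nontrivial Γ(StMod.sch (AlgSt.ofSp (spOf (Over.mk t)).obj) o, ⊤) := hK.nontrivial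
  haveI := nonempty_points_of_unit (FibCat.fpFst (AlgSt.ofSpMap y) π) hfp.isStack.1 hb.1
  haveI := preconnected_points_of_unit (FibCat.fpFst (AlgSt.ofSpMap y) π) hfp hK hb fun ξ => by
    obtain ⟨k, hk⟩ := AlgSpLib.exists_map_eq (toYon ((FibCat.fpFst (AlgSt.ofSpMap y) π).obj ξ))
    refine ⟨eltHom k ?_⟩
    rw [show toYon o = 𝟙 _ from Equiv.symm_apply_apply _ _, Category.comp_id]
    exact hk
  exact ⟨inferInstance⟩

omit t y

/-- Good moduli morphisms are surjective on points. -/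
theorem isSurjective_goodModuli : AlgSt.IsSurjective π := by
  intro x
  obtain ⟨p, rfl⟩ := AlgSt.Points.mk_surjective x
  let y : (yon S).obj (Over.mk p.str) ⟶ M.obj := (yon S).map (eqToHom p.lies.symm) ≫ toYon p.obj
  obtain ⟨q⟩ := (connectedSpace_fibre h𝒳 hM π hqc hqs h p.str y).toNonempty
  obtain ⟨w, rfl⟩ := AlgSt.Points.mk_surjective q
  refine ⟨AlgSt.Points.mk (w.map (FibCat.fpSnd (AlgSt.ofSpMap y) π)), AlgSt.Points.sound ?_⟩
  obtain ⟨k, hk⟩ := AlgSpLib.exists_map_eq (toYon w.obj.obj.fst)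
  let m : (AlgSt.ofSpMap y).obj w.obj.obj.fst ⟶ p.obj := eltHom (k ≫ eqToHom p.lies.symm) (by
    rw [toYon_ofSpMap, ← hk, (yon S).map_comp, Category.assoc])
  exact ⟨_, 𝟙 _, w.obj.obj.iso.inv ≫ m, trivial⟩

/-- The good moduli space of a quasi-compact stack is quasi-compact. -/
theorem isQuasiCompactSp_goodModuli (hq : AlgSt.IsQuasiCompact 𝒳) : AlgSp.IsQuasiCompactSp M.obj := by
  obtain ⟨U, x, hU, -, hxj⟩ := hq
  haveI : CompactSpace ↥U.left := inferInstance
  let x' : AlgSt.ofSp (spOf U).obj ⥤ᵇ 𝒳 := BasedFunctor.comp (AlgSt.toOverCat U) x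
  have hx' : AlgSt.IsSurjective x' :=
    isSurjective_of_repWith (isFibGrpd_ofSpace _) h𝒳.isStack.1 ((repWith_overCat_iff _ U x).1 hxj)
  let Φ := BasedFunctor.comp x' π
  let g : (yon S).obj U ⟶ M.obj := ObjectProperty.homMk (mapOf Φ)
  refine AlgSpLib.isQuasiCompactSp_of_isSurjectiveMor M.property g (fun z => ?_)
    (AlgSpLib.isQuasiCompactSp_yon U)
  obtain ⟨a, ha⟩ := isSurjective_goodModuli h𝒳 hM π hqc hqs h (stPts M.obj z)
  obtain ⟨b, rfl⟩ := hx' a
  obtain ⟨c, rfl⟩ := (bijective_stPts _).2 b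
  refine ⟨c, (bijective_stPts _).1 ?_⟩
  rw [← map_stPts, ← ha, ← map_comp_points]
  exact congrFun (congrArg _ rfl) _ |>.trans (map_congr_points (mapOfIso Φ) _)

end Groth.Agent.RelGen
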