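import Mathlib
import Groth.Agent.RelGen.ClosedImage
import Groth.Agent.RelGen.GMFibre
import Groth.Agent.RelGen.Fibres

/-!
# Good moduli morphisms are universally closed
-/

universe u

open CategoryTheory CategoryTheory.Limits AlgebraicGeometry TopologicalSpace Opposite

set_option autoImplicit false
set_option backward.isDefEq.respectTransparency false
set_option backward.isDefEq.respectTransparency.types false
set_option linter.style.haveILetI false

noncomputable section

namespace Groth.Agent.RelGen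

open Groth.Agent.QDescent Groth.Agent.AlgStLib Groth.Agent.FibCatRep
open _root_.AlgSp _root_.AlgSt

variable {S : Scheme.{u}}

local notation "AS" => IsAlgStack Scheme.fppfPrecoverage

theorem eqToHom_point {X Y : Scheme.{u}} (e : X = Y) (t : Y) :
    (eqToHom e).base ((eqToHom e.symm).base t) = t := by
  subst e
  rfl

theorem point_eqToHom {X Y : Scheme.{u}} (e : X = Y) (t : X) :
    (eqToHom e.symm).base ((eqToHom e).base t) = t := by
  subst e
  rfl

theorem over_eq_mk {A : Over S} {T : Scheme.{u}} (e : A.left = T) : A = Over.mk (eqToHom e.symm ≫ A.hom) := by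
  subst e
  rw [eqToHom_refl, Category.id_comp]
  rfl

theorem subsingleton_sch {𝒵 : AlgSt.Cat S} (p : FPt 𝒵) : Subsingleton ↥(StMod.sch 𝒵 p.obj) := subsingleton_pt p

/-- The point of a chart defined by a field-valued point over its object. -/
theorem mk_eq_ofChart {𝒵 : AlgSt.Cat S} (h𝒵 : FibCat.IsFibGrpd 𝒵.p) (p : FPt 𝒵) {y : 𝒵.obj} (c : p.obj ⟶ y)
    (z : FibCat.overCat (𝒵.p.obj y) ⥤ᵇ 𝒵) (i : z.obj (topObj _) ≅ y)
    (h : StMod.sch 𝒵 (z.obj (topObj _)) = StMod.sch 𝒵 y) (hi : StMod.bmap 𝒵 i.hom = eqToHom h)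
    (t : ↥(StMod.sch 𝒵 p.obj)) :
    AlgSt.Points.mk p = AlgSt.Points.ofChart z ((StMod.bmap 𝒵 c).base t) := by
  obtain ⟨z', i', h', hi'⟩ := exists_chartAt h𝒵 p.obj
  rw [← ofChart_fpt p z' i' t]
  exact ofChart_nat h𝒵 c z' i' h' hi' z i h hi t

/-- Each point of the scheme of an object is seen by a field-valued point over the object. -/
theorem exists_fpt_over {𝒵 : AlgSt.Cat S} (h𝒵 : FibCat.IsFibGrpd 𝒵.p) (y : 𝒵.obj) (s : ↥(StMod.sch 𝒵 y)) :
    ∃ (p : FPt 𝒵) (c : p.obj ⟶ y), s ∈ Set.range (StMod.bmap 𝒵 c).base := by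
  obtain ⟨z, i, h, hi⟩ := exists_chartAt h𝒵 y
  let A : (FibCat.overCat (𝒵.p.obj y)).obj :=
    (Over.mk (Over.homMk ((StMod.sch 𝒵 y).fromSpecResidueField s) rfl :
      Over.mk ((StMod.sch 𝒵 y).fromSpecResidueField s ≫ (𝒵.p.obj y).hom) ⟶ 𝒵.p.obj y) : Over (𝒵.p.obj y))
  refine ⟨{ K := ↥((StMod.sch 𝒵 y).residueField s)
            str := (StMod.sch 𝒵 y).fromSpecResidueField s ≫ (𝒵.p.obj y).hom
            obj := z.obj A
            lies := z.w_obj _ }, z.map (toTop A) ≫ i.hom, ?_⟩
  refine ⟨(eqToHom (StMod.sch_obj_eq z A).symm).base (IsLocalRing.closedPoint _), ?_⟩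
  rw [StMod.bmap_comp, bmap_map z (toTop A), hi]
  simp only [Category.assoc, eqToHom_trans]
  rw [Scheme.Hom.comp_apply, eqToHom_point, Scheme.Hom.comp_apply]
  refine Eq.trans ?_ ((StMod.sch 𝒵 y).fromSpecResidueField_apply s (IsLocalRing.closedPoint _))
  rw [eqToHom_refl]
  rfl

variable {𝒳 Q Q' : AlgSt.Cat S} {G : Q' ⥤ᵇ Q} {π : 𝒳 ⥤ᵇ Q}

/-- The point maps from the objects over an affine object to a base change, computing images. -/
theorem exists_pointFam (hQ : AS Q) (hQ' : AS Q') (hW : AS (FibCat.fp G π)) {o : Q'.obj}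
    (z : FibCat.overCat (Q'.p.obj o) ⥤ᵇ Q') (i : z.obj (topObj _) ≅ o)
    (h : StMod.sch Q' (z.obj (topObj _)) = StMod.sch Q' o) (hi : StMod.bmap Q' i.hom = eqToHom h) :
    ∃ pt : ∀ x : (StMod.fibCat π (G.obj o)).obj,
        ↥(StMod.sch (StMod.fibCat π (G.obj o)) x) → AlgSt.Points (FibCat.fp G π),
      (∀ x, Continuous (pt x)) ∧
      (∀ {x' x : (StMod.fibCat π (G.obj o)).obj} (c : x' ⟶ x) s,
        pt x' s = pt x ((StMod.bmap (StMod.fibCat π (G.obj o)) c).base s)) ∧
      ∀ C : Set (AlgSt.Points (FibCat.fp G π)),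
        AlgSt.Points.ofChart z ⁻¹' (AlgSt.Points.map (FibCat.fpFst G π) '' C) =
          (eqToHom (StMod.sch_obj_eq G o).symm).base ⁻¹'
            {v | ∃ x, ∃ t ∈ pt x ⁻¹' C, (uFib π (G.obj o) x).base t = v} := by
  have gW := hW.isStack.1
  obtain ⟨d⟩ := exists_sqData (G := G) (π := π) hQ.isStack.1 hQ'.isStack.1 o
  choose zW iW hsW hiW using fun x : (StMod.fibCat π (G.obj o)).obj => exists_chartAt gW (d.P x)
  let eP := fun x : (StMod.fibCat π (G.obj o)).obj => StMod.sch_obj_eq (FibCat.fpSnd G π) (d.P x)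
  let pt : ∀ x : (StMod.fibCat π (G.obj o)).obj,
      ↥(StMod.sch (StMod.fibCat π (G.obj o)) x) → AlgSt.Points (FibCat.fp G π) := fun x s =>
    AlgSt.Points.ofChart (zW x) ((eqToHom (eP x)).base s)
  refine ⟨pt, fun x => (continuous_ofChart hW (zW x)).comp (eqToHom (eP x)).base.hom.continuous, ?_, fun C => ?_⟩
  · intro x' x c s
    obtain ⟨m, hm, -⟩ := d.hom_self c
    refine (ofChart_nat gW m (zW x') (iW x') (hsW x') (hiW x') (zW x) (iW x) (hsW x)
      (hiW x) _).trans (congrArg _ ?_)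
    have h1 : StMod.bmap 𝒳 c.left ≫ eqToHom (eP x) = eqToHom (eP x') ≫ StMod.bmap (FibCat.fp G π) m := by
      rw [← hm, show StMod.bmap 𝒳 m.hom.snd = eqToHom (eP x') ≫ StMod.bmap (FibCat.fp G π) m ≫ eqToHom (eP x).symm
        from bmap_map (FibCat.fpSnd G π) m]
      simp only [Category.assoc, eqToHom_trans, eqToHom_refl, Category.comp_id]
    exact (congrArg (fun k : StMod.sch 𝒳 x'.left ⟶ _ => k.base s) h1).symm
  · have hfst : ∀ {q : (FibCat.fp G π).obj} {x : (StMod.fibCat π (G.obj o)).obj} (c : q ⟶ d.P x)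
        (u : ↥(StMod.sch Q' q.obj.fst)),
        (StMod.bmap Q' ((FibCat.fpFst G π).map c ≫ d.β x)).base u =
          (eqToHom (StMod.sch_obj_eq G o)).base ((uFib π (G.obj o) x).base ((eqToHom (eP x).symm).base
            ((StMod.bmap (FibCat.fp G π) c).base ((eqToHom (StMod.sch_obj_eq (FibCat.fpFst G π) q)).base u)))) :=
        fun {q x} c u => by
      have hb1 := baseOver_fpFst (d.P x) (d.β x) x.hom (d.hjβ x)
      rw [baseOver_left] at hb1
      have hb2 : StMod.bmap Q' (d.β x) = eqToHom ((StMod.sch_obj_eq (FibCat.fpFst G π) (d.P x)).trans (eP x).symm) ≫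
          uFib π (G.obj o) x ≫ eqToHom (StMod.sch_obj_eq G o) := by
        have h2 := congrArg (fun k => eqToHom (StMod.sch_obj_eq (FibCat.fpFst G π) (d.P x)) ≫ k ≫
          eqToHom (StMod.sch_obj_eq G o)) hb1
        simp only [Category.assoc, eqToHom_trans, eqToHom_refl, Category.id_comp,
          Category.comp_id] at h2
        refine Eq.trans ?_ h2
        rfl
      rw [StMod.bmap_comp, bmap_map, hb2]
      simp only [Category.assoc, eqToHom_trans_assoc, Scheme.Hom.comp_apply]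
      rfl
    have himg : AlgSt.Points.ofChart z ⁻¹' (AlgSt.Points.map (FibCat.fpFst G π) '' C) =
        (eqToHom (StMod.sch_obj_eq G o).symm).base ⁻¹'
          {v | ∃ x, ∃ t ∈ pt x ⁻¹' C, (uFib π (G.obj o) x).base t = v} := by
      ext t
      constructor
      · rintro ⟨w, hw, hwt⟩
        obtain ⟨q, rfl⟩ := AlgSt.Points.mk_surjective w
        obtain ⟨p', c', s', hs'⟩ := exists_fpt_over hQ'.isStack.1 o t
        rw [← hs', ← mk_eq_ofChart hQ'.isStack.1 p' c' z i h hi s'] at hwt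
        obtain ⟨r, a, b, -⟩ := (mk_eq_iff hQ'.isStack.1).1 hwt
        obtain ⟨q₂, e₂, m, hm⟩ := exists_lift_scheme gW (x := q.obj)
          (StMod.bmap Q' a ≫ eqToHom (StMod.sch_obj_eq (FibCat.fpFst G π) q.obj))
        obtain ⟨χ, -, -⟩ := exists_factor hQ'.isStack.1 a ((FibCat.fpFst G π).map m)
          (eqToHom ((StMod.sch_obj_eq (FibCat.fpFst G π) q₂).trans e₂)) (by
            rw [bmap_map, hm]
            simp only [Category.assoc, eqToHom_trans, eqToHom_trans_assoc, eqToHom_refl, Category.comp_id, Category.id_comp])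
        let γ : q₂.obj.fst ⟶ o := χ ≫ b ≫ c'
        let x : (StMod.fibCat π (G.obj o)).obj :=
          CostructuredArrow.mk (show π.obj q₂.obj.snd ⟶ G.obj o from q₂.obj.iso.inv ≫ G.map γ)
        obtain ⟨m', -, hm'⟩ := d.exists_lift (x := x) (𝟙 q₂.obj.snd) γ (by
          show q₂.obj.iso.hom ≫ π.map (𝟙 q₂.obj.snd) ≫ q₂.obj.iso.inv ≫ G.map γ = G.map γ
          rw [π.toFunctor.map_id, Category.id_comp, Iso.hom_inv_id_assoc])
        obtain ⟨v₀⟩ := nonempty_pt r
        let v : ↥(StMod.sch (FibCat.fp G π) q₂) := (eqToHom e₂.symm).base v₀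
        refine ⟨x, (eqToHom (eP x).symm).base ((StMod.bmap _ m').base v), ?_, ?_⟩
        · show AlgSt.Points.ofChart (zW x) _ ∈ C
          rw [eqToHom_point]
          let e₃ : StMod.sch (FibCat.fp G π) q₂ = Spec (CommRingCat.of r.K) := e₂.trans (congrArg Comma.left r.lies)
          let q' : FPt (FibCat.fp G π) :=
            { K := r.K, str := eqToHom e₃.symm ≫ ((FibCat.fp G π).p.obj q₂).hom, obj := q₂, lies := over_eq_mk e₃ }
          rw [← mk_eq_ofChart gW q' m' (zW x) (iW x) (hsW x) (hiW x) v]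
          rwa [show AlgSt.Points.mk q' = AlgSt.Points.mk q from AlgSt.Points.sound ⟨q', 𝟙 _, m, trivial⟩]
        · have e1 := hfst m' ((eqToHom (StMod.sch_obj_eq (FibCat.fpFst G π) q₂).symm).base v)
          rw [show (FibCat.fpFst G π).map m' ≫ d.β x = γ from hm', eqToHom_point] at e1
          refine ((eqToHom (StMod.sch_obj_eq G o)).isClosedEmbedding.injective ?_)
          rw [← e1, eqToHom_point, ← hs', StMod.bmap_comp, StMod.bmap_comp, Scheme.Hom.comp_apply, Scheme.Hom.comp_apply]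
          refine congrArg _ ?_
          exact @Subsingleton.elim _ (subsingleton_sch p') _ _
      · rintro ⟨x, s, hs, hsv⟩
        obtain ⟨p, c, v, hv⟩ := exists_fpt_over gW (d.P x) ((eqToHom (eP x)).base s)
        refine ⟨AlgSt.Points.mk p, ?_, ?_⟩
        · rw [mk_eq_ofChart gW p c (zW x) (iW x) (hsW x) (hiW x) v, hv]
          exact hs
        · let u : ↥(StMod.sch Q' p.obj.obj.fst) := (eqToHom (StMod.sch_obj_eq (FibCat.fpFst G π) p.obj).symm).base v
          refine (mk_eq_ofChart hQ'.isStack.1 (p.map (FibCat.fpFst G π)) ((FibCat.fpFst G π).map c ≫ d.β x) z i h hi u).trans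
            (congrArg _ ?_)
          refine (hfst c u).trans ?_
          rw [eqToHom_point, hv, point_eqToHom, hsv, eqToHom_point]
    exact himg

/-- The preimage, in an affine object, of the image of a closed set of points of a base change is closed. -/
theorem isClosed_preimage_image (h𝒳 : AS 𝒳) (hQ : AS Q) (hQ' : AS Q') (hW : AS (FibCat.fp G π)) {o : Q'.obj}
    [IsAffine (StMod.sch Q (G.obj o))] (hG : GExact (StMod.fibCat π (G.obj o)))
    (hb : Function.Bijective (StMod.unitSect π (G.obj o))) (hqc : IsQC (StMod.fibCat π (G.obj o)))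
    (hqs : IsQS (StMod.fibCat π (G.obj o))) {C : Set (AlgSt.Points (FibCat.fp G π))} (hC : IsClosed C)
    (z : FibCat.overCat (Q'.p.obj o) ⥤ᵇ Q') (i : z.obj (topObj _) ≅ o)
    (h : StMod.sch Q' (z.obj (topObj _)) = StMod.sch Q' o) (hi : StMod.bmap Q' i.hom = eqToHom h) :
    IsClosed (AlgSt.Points.ofChart z ⁻¹' (AlgSt.Points.map (FibCat.fpFst G π) '' C)) := by
  obtain ⟨pt, hcont, hnat, himg⟩ := exists_pointFam (π := π) hQ hQ' hW z i h hi
  rw [himg C]
  exact (isClosed_image h𝒳 hQ hG hb hqc hqs (fun x => pt x ⁻¹' C) (fun x => hC.preimage (hcont x))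
    (fun {x' x} c => Set.ext fun s => iff_of_eq (congrArg (· ∈ C) (hnat c s)))).preimage
    (eqToHom (StMod.sch_obj_eq G o).symm).base.hom.continuous

end Groth.Agent.RelGen
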