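import Mathlib
import Groth.Agent.RelGen.UnivClosed

/-!
# Disjoint closed sets have disjoint images under morphisms with exact direct image and bijective unit
-/

universe u

open CategoryTheory CategoryTheory.Limits AlgebraicGeometry TopologicalSpace Opposite TensorProduct

set_option autoImplicit false
set_option backward.isDefEq.respectTransparency false
set_option backward.isDefEq.respectTransparency.types false
set_option linter.style.haveILetI false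

noncomputable section

namespace Groth.Agent.RelGen

open Groth.Agent.QC Groth.Agent.QDescent AffMod

variable {S : Scheme.{u}}

local notation "AS" => AlgSt.IsAlgStack Scheme.fppfPrecoverage

section Lift

variable {Q : AlgSt.Cat S} {ι : Type u} (d : ι → Q.obj)

/-- Compatible local functions modulo a vanishing ideal lift to a global function. -/
theorem exists_funLift (hQ : AS Q) (hG : GExact Q) (hqs : IsQS Q) [Finite ι]
    (hd : ∀ i, IsAffine (StMod.sch Q (d i))) (one : StMod.OQ Q ⟶ StMod.OQ Q)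
    (hone : ∀ x, IsAffine (StMod.sch Q x) → valSec one x = 1)
    (fam : ∀ x : Q.obj, IsAffine (StMod.sch Q x) → Γ(StMod.sch Q x, ⊤))
    (hfam : ∀ {x' x : Q.obj} (c : x' ⟶ x) hx' hx, pullFun c (fam x hx) - fam x' hx' ∈ vanIdeal d x') :
    ∃ s : StMod.OQ Q ⟶ StMod.OQ Q, ∀ x hx, IsOk x → valSec s x - fam x hx ∈ vanIdeal d x := by
  let p := combQuot d (fun _ : Fin 1 => one)
  obtain ⟨R⟩ := exists_realization (freeMod Q 1) hQ (isBC_freeMod 1)
  obtain ⟨R'⟩ := exists_realization p.img hQ (p.isBC_img (isBC_freeMod 1) (isBC_quotVan d hQ.isStack.1 hqs hd))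
  obtain ⟨u, hu, huv⟩ := p.exists_toImg hQ R R'
  have hmem : ∀ (A : AObj Q), (show (quotVan d).ob A from Submodule.Quotient.mk (fam A.obj A.aff)) ∈
      LinearMap.range (p.app A) := fun A => by
    refine ⟨fun _ => fam A.obj A.aff, congrArg (Ideal.Quotient.mk _) ?_⟩
    show (∑ _i : Fin 1, fam A.obj A.aff * valSec one A.obj) = fam A.obj A.aff
    rw [Fin.sum_univ_one, hone _ A.aff, mul_one]
  choose T hT using fun (A : AObj Q) (hok : IsOk A.obj) =>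
    (R'.ρ_topOk_bijective A hok).2 (⟨_, hmem A⟩ : LinearMap.range (p.app A))
  obtain ⟨φ, hφ⟩ := exists_sect_of_ok (M := R'.G) hQ (fun x hx hok => T ⟨x, hx⟩ hok)
    (fun {x' x} c hx' hok' hx hok => by
      refine (R'.ρ_topOk_bijective ⟨x', hx'⟩ hok').1 ?_
      refine (R'.ρ_nat (o' := topOk ⟨x', hx'⟩ hok') (o := topOk ⟨x, hx⟩ hok) (covHom c) hx' hx _).trans ?_
      rw [hT, hT]
      exact Subtype.ext ((Submodule.Quotient.eq _).2 (hfam c hx' hx)))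
  obtain ⟨φ', hφ'⟩ := hG u hu φ
  obtain ⟨s, hs⟩ := exists_sect_of_ok (M := StMod.OQ Q) hQ
    (fun x hx hok => (show Fin 1 → Γ(StMod.sch Q x, ⊤) from
      R.ρ (topOk ⟨x, hx⟩ hok) hx ((φ'.hom.app x).app ⊤ (oneSec Q x))) 0)
    (fun {x' x} c hx' hok' hx hok => by
      refine (trT_eq_map (StMod.OQ Q).obj c _).trans ?_
      have e := R.ρ_nat (o' := topOk ⟨x', hx'⟩ hok') (o := topOk ⟨x, hx⟩ hok) (covHom c) hx' hx
        ((φ'.hom.app x).app ⊤ (oneSec Q x))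
      have e2 := congrArg (R.ρ (topOk ⟨x', hx'⟩ hok') hx') (trT_app_oneSec φ' c)
      exact (congrFun (e2.symm.trans e) 0).symm)
  refine ⟨s, fun x hx hok => ?_⟩
  have e1 : (u.hom.app x).app ⊤ ((φ'.hom.app x).app ⊤ (oneSec Q x)) = T ⟨x, hx⟩ hok :=
    (congrArg (fun k : StMod.OQ Q ⟶ R'.G => (k.hom.app x).app ⊤ (oneSec Q x)) hφ').trans (hφ x hx hok)
  have e2 := huv ⟨x, hx⟩ hok ((φ'.hom.app x).app ⊤ (oneSec Q x))
  rw [e1, hT] at e2
  have e3 := (Submodule.Quotient.eq _).1 e2.symm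
  refine (congrArg (fun m => m - fam x hx ∈ vanIdeal d x) ?_).mpr e3
  refine (hs x hx hok).trans ?_
  show _ = ∑ _i : Fin 1, _ * valSec one x
  rw [Fin.sum_univ_one, hone x hx, mul_one]

/-- Away from the closed set some vanishing function is invertible. -/
theorem exists_mem_vanIdeal_basicOpen (hQ : FibCat.IsFibGrpd Q.p) (hqs : IsQS Q) [Finite ι]
    (hd : ∀ i, IsAffine (StMod.sch Q (d i))) {I : Type u} (a : I → Q.obj)
    (hcov : ∀ (x : Q.obj) (t : StMod.sch Q x), ∃ (x' : Q.obj) (φ : x' ⟶ x), Hits φ t ∧ ∃ i, Nonempty (x' ⟶ a i))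
    (C : ∀ x : Q.obj, Set ↥(StMod.sch Q x))
    (hnat : ∀ {x' x : Q.obj} (c : x' ⟶ x), C x' = (StMod.bmap Q c).base ⁻¹' C x)
    (hsep : ∀ i (t : StMod.sch Q (a i)), t ∉ C (a i) → ∃ g ∈ vanIdeal d (a i), t ∈ (StMod.sch Q (a i)).basicOpen g)
    (x : Q.obj) [IsAffine (StMod.sch Q x)] (t : StMod.sch Q x) (ht : t ∉ C x) :
    ∃ g ∈ vanIdeal d x, t ∈ (StMod.sch Q x).basicOpen g := by
  obtain ⟨x₁, φ₁, hφ₁, i, ⟨c₁⟩⟩ := hcov x t
  obtain ⟨x₂, ι₂, hx₂, hit, -⟩ := exists_affine_hit hQ φ₁ hφ₁ (U := ⊤) trivial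
  haveI := hx₂
  obtain ⟨t₂, ht₂⟩ := hit.mem
  have hC2 : t₂ ∉ C x₂ := by
    rw [hnat (ι₂ ≫ φ₁), Set.mem_preimage, ht₂]
    exact ht
  rw [hnat (ι₂ ≫ c₁), Set.mem_preimage] at hC2
  obtain ⟨g, hg, htg⟩ := hsep i _ hC2
  rw [mem_basicOpen_pullFun] at htg
  have h1 := vanIdeal_le_map d hQ hqs hd (ι₂ ≫ φ₁) hit.flat (map_vanIdeal d (ι₂ ≫ c₁) hg)
  by_contra hno
  push Not at hno
  have hle : Ideal.map (pullFun (ι₂ ≫ φ₁)) (vanIdeal d x) ≤
      Ideal.comap ((StMod.sch Q x₂).presheaf.germ ⊤ t₂ trivial).hom (IsLocalRing.maximalIdeal _) := by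
    refine Ideal.map_le_iff_le_comap.2 fun k hk => ?_
    refine Ideal.mem_comap.2 (Ideal.mem_comap.2 ((IsLocalRing.mem_maximalIdeal _).2 fun hu => ?_))
    refine hno k hk ?_
    rw [← ht₂]
    exact (mem_basicOpen_pullFun (ι₂ ≫ φ₁) k t₂).2 (((StMod.sch Q x₂).mem_basicOpen_top _ t₂).2 hu)
  exact (IsLocalRing.mem_maximalIdeal _).1 (Ideal.mem_comap.1 (hle h1))
    (((StMod.sch Q x₂).mem_basicOpen_top _ t₂).1 htg)

end Lift

variable {𝒳 Q : AlgSt.Cat S} {π : 𝒳 ⥤ᵇ Q} {η : Q.obj}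

/-- Disjoint compatible families of closed subsets have disjoint images in an affine object. -/
theorem disjoint_image (h𝒳 : AS 𝒳) (hQ : AS Q) [IsAffine (StMod.sch Q η)] (hG : GExact (StMod.fibCat π η))
    (hb : Function.Bijective (StMod.unitSect π η)) (hqc : IsQC (StMod.fibCat π η)) (hqs : IsQS (StMod.fibCat π η))
    (C₁ C₂ : ∀ x : (StMod.fibCat π η).obj, Set ↥(StMod.sch (StMod.fibCat π η) x))
    (hC₁ : ∀ x, IsClosed (C₁ x)) (hC₂ : ∀ x, IsClosed (C₂ x))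
    (hnat₁ : ∀ {x' x : (StMod.fibCat π η).obj} (c : x' ⟶ x), C₁ x' = (StMod.bmap _ c).base ⁻¹' C₁ x)
    (hnat₂ : ∀ {x' x : (StMod.fibCat π η).obj} (c : x' ⟶ x), C₂ x' = (StMod.bmap _ c).base ⁻¹' C₂ x)
    (hdis : ∀ x t, t ∈ C₁ x → t ∉ C₂ x) {x₁ x₂ : (StMod.fibCat π η).obj}
    {t₁ : StMod.sch (StMod.fibCat π η) x₁} {t₂ : StMod.sch (StMod.fibCat π η) x₂}
    (h₁ : t₁ ∈ C₁ x₁) (h₂ : t₂ ∈ C₂ x₂) : (uFib π η x₁).base t₁ ≠ (uFib π η x₂).base t₂ := by
  classical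
  have hZ := isAlgStack_fibCat h𝒳 hQ π η
  have gZ := hZ.isStack.1
  obtain ⟨I, _, a, ha, hcov⟩ := hqc
  obtain ⟨d₁, hd₁, hvan₁, hsep₁⟩ := exists_closedData gZ a ha hcov hqs C₁ hC₁ hnat₁
  obtain ⟨d₂, hd₂, hvan₂, hsep₂⟩ := exists_closedData gZ a ha hcov hqs C₂ hC₂ hnat₂
  let d := Sum.elim d₁ d₂
  have hd : ∀ i, IsAffine (StMod.sch (StMod.fibCat π η) (d i)) := by rintro (i | i); exacts [hd₁ i, hd₂ i]
  have hmem : ∀ x (g : Γ(StMod.sch (StMod.fibCat π η) x, ⊤)), g ∈ vanIdeal d₁ x → g ∈ vanIdeal d₂ x →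
      g ∈ vanIdeal d x := by
    intro x g hg₁ hg₂ w hw c i e
    rcases i with i | i
    exacts [hg₁ w hw c i e, hg₂ w hw c i e]
  have hproj₁ : ∀ x, vanIdeal d x ≤ vanIdeal d₁ x := fun x g hg w hw c i e => hg w hw c (Sum.inl i) e
  have hproj₂ : ∀ x, vanIdeal d x ≤ vanIdeal d₂ x := fun x g hg w hw c i e => hg w hw c (Sum.inr i) e
  have hunit : ∀ x, IsAffine (StMod.sch (StMod.fibCat π η) x) →
      ∃ f ∈ vanIdeal d₂ x, f - 1 ∈ vanIdeal d₁ x := fun x hx => by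
    haveI := hx
    have htop : vanIdeal d₁ x ⊔ vanIdeal d₂ x = ⊤ := by
      rw [← Ideal.span_eq (vanIdeal d₁ x ⊔ vanIdeal d₂ x),
        ← (isAffineOpen_top (StMod.sch (StMod.fibCat π η) x)).self_le_iSup_basicOpen_iff]
      intro t _
      by_cases ht : t ∈ C₁ x
      · obtain ⟨g, hg, htg⟩ := exists_mem_vanIdeal_basicOpen d₂ gZ hqs hd₂ a hcov C₂ hnat₂ hsep₂ x t (hdis x t ht)
        exact Opens.mem_iSup.2 ⟨⟨g, Submodule.mem_sup_right hg⟩, htg⟩
      · obtain ⟨g, hg, htg⟩ := exists_mem_vanIdeal_basicOpen d₁ gZ hqs hd₁ a hcov C₁ hnat₁ hsep₁ x t ht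
        exact Opens.mem_iSup.2 ⟨⟨g, Submodule.mem_sup_left hg⟩, htg⟩
    obtain ⟨k₁, hk₁, k₂, hk₂, e⟩ := Submodule.mem_sup.1 ((Ideal.eq_top_iff_one _).1 htop)
    refine ⟨k₂, hk₂, ?_⟩
    rw [← e, show k₂ - (k₁ + k₂) = -k₁ by ring]
    exact Submodule.neg_mem _ hk₁
  choose fam hfam₂ hfam₁ using hunit
  obtain ⟨one, hone⟩ := exists_sect_of_fun (π := π) h𝒳.isStack.1 (1 : Γ(StMod.sch Q η, ⊤))
  obtain ⟨s, hs⟩ := exists_funLift d hZ hG hqs hd one (fun x hx => (hone x hx).trans (map_one _)) fam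
    (fun {x' x} c hx' hx => hmem _ _
      (by
        have h1 := map_vanIdeal d₁ c (hfam₁ x hx)
        rw [map_sub, map_one] at h1
        simpa using Submodule.sub_mem _ h1 (hfam₁ x' hx'))
      (Submodule.sub_mem _ (map_vanIdeal d₂ c (hfam₂ x hx)) (hfam₂ x' hx')))
  obtain ⟨r, hr⟩ := exists_fun_of_sect hb s
  have hval : ∀ x t, (t ∈ C₁ x → (uFib π η x).base t ∈ (StMod.sch Q η).basicOpen r) ∧
      (t ∈ C₂ x → (uFib π η x).base t ∉ (StMod.sch Q η).basicOpen r) := fun x t => by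
    obtain ⟨x', φ₀, b, hφ₀, hb', hok, ⟨χ⟩⟩ := exists_ok_hit hZ x t
    obtain ⟨w, j, hw, hit, -⟩ := exists_affine_hit gZ φ₀ hφ₀ (U := ⊤) trivial
    obtain ⟨t', ht'⟩ := hit.mem
    have hu : ∀ {y : (StMod.fibCat π η).obj} (c : w ⟶ y), (uFib π η y).base ((StMod.bmap (StMod.fibCat π η) c).base t') =
        (uFib π η w).base t' := fun {y} c =>
      congrArg (fun k : StMod.sch 𝒳 w.left ⟶ _ => k.base t') (uFib_nat π c)
    have himg : (uFib π η x).base t = (uFib π η b).base ((StMod.bmap (StMod.fibCat π η) (j ≫ χ)).base t') := by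
      rw [← ht', hu, hu]
    rw [himg]
    set tb := (StMod.bmap (StMod.fibCat π η) (j ≫ χ)).base t'
    have hC : ∀ (C : ∀ x : (StMod.fibCat π η).obj, Set ↥(StMod.sch (StMod.fibCat π η) x)),
        (∀ {x' x : (StMod.fibCat π η).obj} (c : x' ⟶ x), C x' = (StMod.bmap _ c).base ⁻¹' C x) →
        t ∈ C x → tb ∈ C b := fun C hn h => by
      have h1 : t' ∈ C w := by rw [hn (j ≫ φ₀), Set.mem_preimage, ht']; exact h
      rw [hn (j ≫ χ), Set.mem_preimage] at h1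
      exact h1
    have hpre : (uFib π η b).base tb ∈ (StMod.sch Q η).basicOpen r ↔
        tb ∈ (StMod.sch (StMod.fibCat π η) b).basicOpen (valSec s b) := by
      rw [hr b]
      exact SetLike.ext_iff.1 (Scheme.preimage_basicOpen_top (uFib π η b) r) tb
    have hs₁ : valSec s b - 1 ∈ vanIdeal d₁ b := by
      simpa using Submodule.add_mem _ (hproj₁ b (hs b hb' hok)) (hfam₁ b hb')
    have hs₂ : valSec s b ∈ vanIdeal d₂ b := by
      simpa using Submodule.add_mem _ (hproj₂ b (hs b hb' hok)) (hfam₂ b hb')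
    refine ⟨fun h => hpre.2 ?_, fun h hm => hvan₂ b _ hs₂ tb (hC C₂ hnat₂ h) (hpre.1 hm)⟩
    by_contra hnm
    refine hvan₁ b _ hs₁ tb (hC C₁ hnat₁ h) ?_
    rw [Scheme.mem_basicOpen_top] at hnm ⊢
    rw [map_sub, map_one]
    by_contra hnu
    have h2 := Ideal.sub_mem _ ((IsLocalRing.mem_maximalIdeal _).2 hnm) ((IsLocalRing.mem_maximalIdeal _).2 hnu)
    rw [sub_sub_cancel] at h2
    exact (IsLocalRing.mem_maximalIdeal _).1 h2 isUnit_one
  intro heq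
  exact (hval x₂ t₂).2 h₂ (heq ▸ (hval x₁ t₁).1 h₁)

variable {Q' : AlgSt.Cat S} {G : Q' ⥤ᵇ Q}

/-- Disjoint closed sets of points of a base change have disjoint images over an affine object. -/
theorem disjoint_preimage_image (h𝒳 : AS 𝒳) (hQ : AS Q) (hQ' : AS Q') (hW : AS (FibCat.fp G π)) {o : Q'.obj}
    [IsAffine (StMod.sch Q (G.obj o))] (hG : GExact (StMod.fibCat π (G.obj o)))
    (hb : Function.Bijective (StMod.unitSect π (G.obj o))) (hqc : IsQC (StMod.fibCat π (G.obj o)))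
    (hqs : IsQS (StMod.fibCat π (G.obj o))) {C₁ C₂ : Set (AlgSt.Points (FibCat.fp G π))} (hC₁ : IsClosed C₁)
    (hC₂ : IsClosed C₂) (hdis : Disjoint C₁ C₂)
    (z : FibCat.overCat (Q'.p.obj o) ⥤ᵇ Q') (i : z.obj (topObj _) ≅ o)
    (h : StMod.sch Q' (z.obj (topObj _)) = StMod.sch Q' o) (hi : StMod.bmap Q' i.hom = eqToHom h) :
    Disjoint (AlgSt.Points.ofChart z ⁻¹' (AlgSt.Points.map (FibCat.fpFst G π) '' C₁))
      (AlgSt.Points.ofChart z ⁻¹' (AlgSt.Points.map (FibCat.fpFst G π) '' C₂)) := by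
  obtain ⟨pt, hcont, hnat, himg⟩ := exists_pointFam (π := π) hQ hQ' hW z i h hi
  rw [himg C₁, himg C₂, Set.disjoint_left]
  rintro v ⟨x₁, t₁, h₁, e₁⟩ ⟨x₂, t₂, h₂, e₂⟩
  exact disjoint_image h𝒳 hQ hG hb hqc hqs (fun x => pt x ⁻¹' C₁) (fun x => pt x ⁻¹' C₂)
    (fun x => hC₁.preimage (hcont x)) (fun x => hC₂.preimage (hcont x))
    (fun {x' x} c => Set.ext fun s => iff_of_eq (congrArg (· ∈ C₁) (hnat c s)))
    (fun {x' x} c => Set.ext fun s => iff_of_eq (congrArg (· ∈ C₂) (hnat c s)))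
    (fun x t a b => Set.disjoint_left.1 hdis a b) h₁ h₂ (e₁.trans e₂.symm)

end Groth.Agent.RelGen
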