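import Mathlib
import Groth.Agent.RelGen.DisjointImage
import Groth.Agent.RelGen.GMFibre

/-!
# Fibres of good moduli morphisms: nonemptiness and meeting of closed subsets
-/

universe u

open CategoryTheory CategoryTheory.Limits AlgebraicGeometry TopologicalSpace Opposite

set_option autoImplicit false
set_option backward.isDefEq.respectTransparency false
set_option backward.isDefEq.respectTransparency.types false
set_option linter.style.haveILetI false

noncomputable section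

namespace Groth.Agent.RelGen

open Groth.Agent.QC Groth.Agent.QDescent
open _root_.AlgSp _root_.AlgSt

variable {S : Scheme.{u}} {𝒳 : AlgSt.Cat S}

local notation "AS" => IsAlgStack Scheme.fppfPrecoverage

/-- An open subscheme of a scheme etale over a sheaf has the image it should. -/
theorem uFib_push_mem {M : AlgSp.Sp S} {π : 𝒳 ⥤ᵇ AlgSt.ofSp M} (E : AlgSp.EtOver M) (U : E.obj.left.left.Opens)
    (w : (StMod.fibCat π (StMod.etaOf (openEt E U))).obj) (s : StMod.sch (StMod.fibCat π _) w) :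
    (uFib π (StMod.etaOf E) (push π (openArr E U) w)).base s ∈ U := by
  rw [uFib_push]
  show U.ι.base ((uFib π (StMod.etaOf (openEt E U)) w).base s) ∈ U
  exact ((uFib π (StMod.etaOf (openEt E U)) w).base s).2

/-- Points over an open subscheme come from objects over it. -/
theorem exists_over_open {M : AlgSp.Sp S} {π : 𝒳 ⥤ᵇ AlgSt.ofSp M} (h𝒳 : FibCat.IsFibGrpd 𝒳.p) (E : AlgSp.EtOver M)
    (U : E.obj.left.left.Opens) (x : (StMod.fibCat π (StMod.etaOf E)).obj)
    (t : StMod.sch (StMod.fibCat π (StMod.etaOf E)) x) (ht : (uFib π (StMod.etaOf E) x).base t ∈ U) :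
    ∃ (w : (StMod.fibCat π (StMod.etaOf (openEt E U))).obj) (c : push π (openArr E U) w ⟶ x)
      (s : StMod.sch (StMod.fibCat π (StMod.etaOf E)) (push π (openArr E U) w)),
      IsOpenImmersion (StMod.bmap (StMod.fibCat π (StMod.etaOf E)) c) ∧
      (StMod.bmap (StMod.fibCat π (StMod.etaOf E)) c).base s = t := by
  let b : StMod.sch 𝒳 x.left ⟶ E.obj.left.left := uFib π (StMod.etaOf E) x
  obtain ⟨x', c, hc, hrange, hle, -⟩ := exists_open h𝒳 x.left (b ⁻¹ᵁ U)
  have hsub : Set.range (π.map c ≫ x.hom).hom.left.base ⊆ Set.range U.ι.base := by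
    rintro _ ⟨w, rfl⟩
    rw [Scheme.Opens.range_ι]
    have e0 : (StMod.baseOver π x' (π.map c ≫ x.hom)).left = StMod.bmap 𝒳 c ≫ b :=
      (StMod.bmap_comp_baseOver_left π c x.hom).symm
    have e1 : (π.map c ≫ x.hom).hom.left = (eqToHom (π.w_obj x')).left ≫ (StMod.bmap 𝒳 c ≫ b) := by
      rw [← e0]
      show _ = (eqToHom (π.w_obj x')).left ≫ (eqToHom (π.w_obj x').symm ≫ (π.map c ≫ x.hom).hom).left
      rw [← Over.comp_left, eqToHom_trans_assoc, eqToHom_refl, Category.id_comp]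
    rw [e1]
    exact hle (Set.mem_univ _)
  let β₀ := IsOpenImmersion.lift U.ι (π.map c ≫ x.hom).hom.left hsub
  have hβ : β₀ ≫ U.ι = (π.map c ≫ x.hom).hom.left := IsOpenImmersion.lift_fac _ _ _
  let β : π.obj x' ⟶ StMod.etaOf (openEt E U) := eltHom (Over.homMk β₀ (by
      show β₀ ≫ U.ι ≫ E.obj.left.hom = _
      rw [← Category.assoc, hβ]
      exact Over.w (π.map c ≫ x.hom).hom)) (by
    rw [toYon_etaOf]
    refine Eq.trans ?_ (toYon_map (π.map c ≫ x.hom))
    rw [toYon_etaOf]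
    refine ((yon S).map_comp_assoc _ _ E.obj.hom).symm.trans (congrArg (fun k => (yon S).map k ≫ E.obj.hom) ?_)
    exact Over.OverMorphism.ext hβ)
  have hfac : β ≫ openArr E U = π.map c ≫ x.hom := elt_hom_ext (Over.OverMorphism.ext hβ)
  obtain ⟨s, hs⟩ : t ∈ Set.range (StMod.bmap 𝒳 c).base := by rw [hrange]; exact ht
  exact ⟨CostructuredArrow.mk β, CostructuredArrow.homMk c hfac.symm, s, hc, hs⟩

variable [QuasiSeparatedSpace ↥S] {M : AlgSp.Space S} (h𝒳 : AS 𝒳) (hM : AlgSp.IsQuasiSeparatedSp M.obj)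
  (π : 𝒳 ⥤ᵇ AlgSt.ofSp M.obj) (hqc : AlgSt.IsQuasiCompactMor Scheme.fppfPrecoverage π)
  (hqs : AlgSt.IsQuasiSeparatedMor π) (h : StMod.IsGoodModuli π) (E : AlgSp.EtOver M.obj)

include h𝒳 hM hqc hqs h

/-- Images of closed families in affine schemes etale over the good moduli space are closed. -/
theorem isClosed_image_goodModuli [IsAffine E.obj.left.left]
    (C : ∀ x : (StMod.fibCat π (StMod.etaOf E)).obj, Set ↥(StMod.sch (StMod.fibCat π (StMod.etaOf E)) x))
    (hC : ∀ x, IsClosed (C x))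
    (hnat : ∀ {x' x : (StMod.fibCat π (StMod.etaOf E)).obj} (c : x' ⟶ x), C x' = (StMod.bmap _ c).base ⁻¹' C x) :
    IsClosed {v : ↥E.obj.left.left | ∃ x, ∃ t ∈ C x, (uFib π (StMod.etaOf E) x).base t = v} := by
  haveI : IsAffine (StMod.sch (AlgSt.ofSp M.obj) (StMod.etaOf E)) := ‹IsAffine E.obj.left.left›
  have hd := fibData_of_qcqs h𝒳 (AlgStLib.isAlgStack_ofSp M) π hqc hqs
  exact isClosed_image h𝒳 (AlgStLib.isAlgStack_ofSp M)
    (gExact_fib_of_isCohAffine h𝒳 π h.1 E ‹_› (goodChartObj_of_qsSp hM E ‹_›)) (h.2 E) (hd.qc _ ‹_›) (hd.qs _ ‹_›)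
    C hC hnat

/-- Every point of a scheme etale over the good moduli space lies under the stack. -/
theorem exists_mem_fibre (e : E.obj.left.left) :
    ∃ (x : (StMod.fibCat π (StMod.etaOf E)).obj) (t : StMod.sch (StMod.fibCat π (StMod.etaOf E)) x),
      (uFib π (StMod.etaOf E) x).base t = e := by
  obtain ⟨V, hV, heV, -⟩ := exists_isAffineOpen_mem_and_subset (X := E.obj.left.left) (x := e) (U := ⊤) trivial
  suffices key : ∀ E' : AlgSp.EtOver M.obj, IsAffine E'.obj.left.left → ∀ e : E'.obj.left.left,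
      ∃ (x : (StMod.fibCat π (StMod.etaOf E')).obj) (t : StMod.sch (StMod.fibCat π (StMod.etaOf E')) x),
        (uFib π (StMod.etaOf E') x).base t = e by
    obtain ⟨w, t, ht⟩ := key (openEt E V) hV ⟨e, heV⟩
    refine ⟨push π (openArr E V) w, t, ?_⟩
    rw [uFib_push]
    exact congrArg V.ι.base ht
  intro E' hE' e
  haveI := hE'
  by_contra hno
  push Not at hno
  obtain ⟨g, hg, heg⟩ := (isAffineOpen_top E'.obj.left.left).exists_basicOpen_le
    (V := ⟨_, (isClosed_image_goodModuli h𝒳 hM π hqc hqs h E' (fun _ => Set.univ) (fun _ => isClosed_univ)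
      (fun _ => rfl)).isOpen_compl⟩) (⟨e, fun ⟨x, t, _, ht⟩ => hno x t ht⟩) trivial
  let E'' := openEt E' (E'.obj.left.left.basicOpen g)
  have hempty : ∀ w : (StMod.fibCat π (StMod.etaOf E'')).obj, IsEmpty ↥(StMod.sch (StMod.fibCat π _) w) := fun w =>
    ⟨fun s => hg (uFib_push_mem E' _ w s) ⟨_, _, Set.mem_univ _, rfl⟩⟩
  haveI : Subsingleton (StMod.Mod.RelSect π (StMod.O 𝒳) (StMod.etaOf E'')) := ⟨fun a b =>
    StMod.Mod.RelSect.ext _ _ _ fun ξ α => by
      haveI : IsEmpty ↥(StMod.sch 𝒳 ξ) := hempty (CostructuredArrow.mk α)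
      exact Subsingleton.elim (α := Γ(StMod.sch 𝒳 ξ, ⊤)) _ _⟩
  haveI : Subsingleton Γ(E''.obj.left.left, ⊤) := (h.2 E'').1.subsingleton
  have h1 : (1 : Γ(E''.obj.left.left, ⊤)) = 0 := Subsingleton.elim _ _
  have h2 : (⟨e, heg⟩ : E''.obj.left.left) ∈ E''.obj.left.left.basicOpen (1 : Γ(E''.obj.left.left, ⊤)) := by
    rw [Scheme.basicOpen_of_isUnit _ isUnit_one]; trivial
  rw [h1, Scheme.basicOpen_zero] at h2
  exact h2

/-- Closed families whose images contain a point have intersection with image containing the point. -/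
theorem exists_mem_inter [IsAffine E.obj.left.left]
    (C₁ C₂ : ∀ x : (StMod.fibCat π (StMod.etaOf E)).obj, Set ↥(StMod.sch (StMod.fibCat π (StMod.etaOf E)) x))
    (hC₁ : ∀ x, IsClosed (C₁ x)) (hC₂ : ∀ x, IsClosed (C₂ x))
    (hnat₁ : ∀ {x' x : (StMod.fibCat π (StMod.etaOf E)).obj} (c : x' ⟶ x), C₁ x' = (StMod.bmap _ c).base ⁻¹' C₁ x)
    (hnat₂ : ∀ {x' x : (StMod.fibCat π (StMod.etaOf E)).obj} (c : x' ⟶ x), C₂ x' = (StMod.bmap _ c).base ⁻¹' C₂ x)
    (e : E.obj.left.left) (h₁ : ∃ x, ∃ t ∈ C₁ x, (uFib π (StMod.etaOf E) x).base t = e)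
    (h₂ : ∃ x, ∃ t ∈ C₂ x, (uFib π (StMod.etaOf E) x).base t = e) :
    ∃ x, ∃ t ∈ C₁ x ∩ C₂ x, (uFib π (StMod.etaOf E) x).base t = e := by
  by_contra hno
  obtain ⟨g, hg, heg⟩ := (isAffineOpen_top E.obj.left.left).exists_basicOpen_le
    (V := ⟨_, (isClosed_image_goodModuli h𝒳 hM π hqc hqs h E (fun x => C₁ x ∩ C₂ x) (fun x => (hC₁ x).inter (hC₂ x))
      (fun c => by rw [hnat₁ c, hnat₂ c, Set.preimage_inter])).isOpen_compl⟩) (⟨e, hno⟩) trivial
  let U := E.obj.left.left.basicOpen g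
  haveI : IsAffine (StMod.sch (AlgSt.ofSp M.obj) (StMod.etaOf (openEt E U))) :=
    (isAffineOpen_top E.obj.left.left).basicOpen g
  have hd := fibData_of_qcqs h𝒳 (AlgStLib.isAlgStack_ofSp M) π hqc hqs
  let F := fibMap π (openArr E U)
  have hlift : ∀ (C : ∀ x : (StMod.fibCat π (StMod.etaOf E)).obj, Set ↥(StMod.sch (StMod.fibCat π (StMod.etaOf E)) x)),
      (∀ {x' x : (StMod.fibCat π (StMod.etaOf E)).obj} (c : x' ⟶ x), C x' = (StMod.bmap _ c).base ⁻¹' C x) →
      (∃ x, ∃ t ∈ C x, (uFib π (StMod.etaOf E) x).base t = e) →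
      ∃ (w : (StMod.fibCat π (StMod.etaOf (openEt E U))).obj) (s : StMod.sch (StMod.fibCat π _) w),
        s ∈ C (push π (openArr E U) w) ∧ U.ι.base ((uFib π (StMod.etaOf (openEt E U)) w).base s) = e := by
    rintro C hC ⟨x, t, htC, hte⟩
    obtain ⟨w, c, s, -, hs⟩ := exists_over_open h𝒳.isStack.1 E U x t (hte.symm ▸ heg)
    refine ⟨w, s, by rw [hC c, Set.mem_preimage, hs]; exact htC, ?_⟩
    refine Eq.trans ?_ (((congrArg (fun k : StMod.sch 𝒳 w.left ⟶ E.obj.left.left => k.base s)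
      (uFib_nat π c)).symm.trans (congrArg (uFib π (StMod.etaOf E) x).base hs)).trans hte)
    rw [uFib_push]
    rfl
  obtain ⟨w₁, s₁, hs₁, he₁⟩ := hlift C₁ hnat₁ h₁
  obtain ⟨w₂, s₂, hs₂, he₂⟩ := hlift C₂ hnat₂ h₂
  refine disjoint_image h𝒳 (AlgStLib.isAlgStack_ofSp M)
    (gExact_fib_of_isCohAffine h𝒳 π h.1 _ ‹_› (goodChartObj_of_qsSp hM _ ‹_›)) (h.2 _) (hd.qc _ ‹_›) (hd.qs _ ‹_›)
    (fun w => C₁ (push π (openArr E U) w)) (fun w => C₂ (push π (openArr E U) w))
    (fun w => hC₁ _) (fun w => hC₂ _) (fun c => hnat₁ (F.map c)) (fun c => hnat₂ (F.map c))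
    (fun w s ha hb => hg (uFib_push_mem E U w s) ⟨push π (openArr E U) w, s, ⟨ha, hb⟩, rfl⟩) hs₁ hs₂ ?_
  exact U.ι.isOpenEmbedding.injective (he₁.trans he₂.symm)

end Groth.Agent.RelGen
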