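import Mathlib
import Groth.Agent.RelGen.FibMeet

/-!
# Maps from good moduli spaces to schemes, on schemes etale over them
-/

universe u

open CategoryTheory CategoryTheory.Limits AlgebraicGeometry TopologicalSpace Opposite

set_option autoImplicit false
set_option backward.isDefEq.respectTransparency false
set_option backward.isDefEq.respectTransparency.types false
set_option linter.style.haveILetI false

noncomputable section

namespace Groth.Agent.RelGen

open Groth.Agent.QC Groth.Agent.QDescent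
open _root_.AlgSp _root_.AlgSt

variable {S : Scheme.{u}} {𝒳 : AlgSt.Cat S}

local notation "AS" => IsAlgStack Scheme.fppfPrecoverage

/-- Functions are determined by their pullbacks when the unit is injective. -/
theorem fun_eq_of_resFun {Q : AlgSt.Cat S} {π : 𝒳 ⥤ᵇ Q} {η : Q.obj} (h : Function.Injective (StMod.unitSect π η))
    {r r' : Γ(StMod.sch Q η, ⊤)} (e : ∀ x, resFun (π := π) r x = resFun r' x) : r = r' :=
  h (StMod.Mod.RelSect.ext _ _ _ fun _ α => e (CostructuredArrow.mk α))

/-- Compatible maps to an affine scheme factor uniquely through an affine object with bijective unit. -/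
theorem existsUnique_factor_affine {Q : AlgSt.Cat S} {π : 𝒳 ⥤ᵇ Q} {η : Q.obj} [IsAffine (StMod.sch Q η)]
    (hb : Function.Bijective (StMod.unitSect π η)) {T : Scheme.{u}} [IsAffine T]
    (f : ∀ x : (StMod.fibCat π η).obj, StMod.sch (StMod.fibCat π η) x ⟶ T)
    (hf : ∀ {x' x : (StMod.fibCat π η).obj} (c : x' ⟶ x), StMod.bmap (StMod.fibCat π η) c ≫ f x = f x') :
    ∃! g : StMod.sch Q η ⟶ T, ∀ x, uFib π η x ≫ g = f x := by
  let t : Γ(T, ⊤) → StMod.Mod.RelSect π (StMod.O 𝒳) η := fun z =>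
    ⟨fun ξ α => (f (CostructuredArrow.mk α)).appTop.hom z, fun ξ' ξ c α => by
      rw [StMod.O_mapTop]
      show ((f (CostructuredArrow.mk α)).appTop ≫ (StMod.bmap 𝒳 c).appTop).hom z = _
      rw [← Scheme.Hom.comp_appTop]
      exact congrArg (fun k => (Scheme.Hom.appTop k).hom z)
        (hf (x' := CostructuredArrow.mk (π.map c ≫ α)) (x := CostructuredArrow.mk α) (CostructuredArrow.homMk c rfl))⟩
  choose r hr using fun z => hb.2 (t z)
  have hrx : ∀ z x, resFun (π := π) (r z) x = (f x).appTop.hom z := fun z x =>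
    congrArg (fun k : StMod.Mod.RelSect π (StMod.O 𝒳) η => k.1 x.left x.hom) (hr z)
  let ρ : Γ(T, ⊤) →+* Γ(StMod.sch Q η, ⊤) :=
    { toFun := r
      map_one' := fun_eq_of_resFun hb.1 fun x => (hrx 1 x).trans
        ((map_one (f x).appTop.hom).trans (map_one (uFib π η x).appTop.hom).symm)
      map_mul' := fun a b => fun_eq_of_resFun hb.1 fun x => (hrx _ x).trans
        ((map_mul (f x).appTop.hom a b).trans ((congrArg₂ (· * ·) (hrx a x).symm (hrx b x).symm).trans
          (map_mul (uFib π η x).appTop.hom _ _).symm))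
      map_zero' := fun_eq_of_resFun hb.1 fun x => (hrx 0 x).trans
        ((map_zero (f x).appTop.hom).trans (map_zero (uFib π η x).appTop.hom).symm)
      map_add' := fun a b => fun_eq_of_resFun hb.1 fun x => (hrx _ x).trans
        ((map_add (f x).appTop.hom a b).trans ((congrArg₂ (· + ·) (hrx a x).symm (hrx b x).symm).trans
          (map_add (uFib π η x).appTop.hom _ _).symm)) }
  obtain ⟨k, hk⟩ := exists_toAffine (X := T) (CommRingCat.ofHom ρ)
  have hkT : ((StMod.sch Q η).isoSpec.hom ≫ k).appTop = CommRingCat.ofHom ρ := by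
    have h1 : (StMod.sch Q η).isoSpec.hom.appTop = (Scheme.ΓSpecIso Γ(StMod.sch Q η, ⊤)).hom :=
      Scheme.toSpecΓ_appTop (StMod.sch Q η)
    rw [Scheme.Hom.comp_appTop, hk, h1, Category.assoc]
    exact (congrArg (CommRingCat.ofHom ρ ≫ ·) (Scheme.ΓSpecIso Γ(StMod.sch Q η, ⊤)).inv_hom_id).trans (Category.comp_id _)
  refine ⟨(StMod.sch Q η).isoSpec.hom ≫ k, fun x => ext_of_isAffine ?_, fun g hg => ext_of_isAffine ?_⟩
  · rw [Scheme.Hom.comp_appTop, hkT]
    exact CommRingCat.hom_ext (RingHom.ext fun z => hrx z x)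
  · rw [hkT]
    refine CommRingCat.hom_ext (RingHom.ext fun z => fun_eq_of_resFun hb.1 fun x => ?_)
    refine Eq.trans ?_ (hrx z x).symm
    rw [← hg x, Scheme.Hom.comp_appTop]
    rfl

variable [QuasiSeparatedSpace ↥S] {M : AlgSp.Space S} (h𝒳 : AS 𝒳) (hM : AlgSp.IsQuasiSeparatedSp M.obj)
  (π : 𝒳 ⥤ᵇ AlgSt.ofSp M.obj) (hqc : AlgSt.IsQuasiCompactMor Scheme.fppfPrecoverage π)
  (hqs : AlgSt.IsQuasiSeparatedMor π) (h : StMod.IsGoodModuli π) (E : AlgSp.EtOver M.obj)

include h𝒳 hM hqc hqs h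

/-- Maps out of schemes etale over the good moduli space agreeing on the stack are equal. -/
theorem hom_ext_fib {T : Scheme.{u}} (g g' : E.obj.left.left ⟶ T)
    (e : ∀ x, uFib π (StMod.etaOf E) x ≫ g = uFib π (StMod.etaOf E) x ≫ g') : g = g' := by
  have hpt : ∀ p, g.base p = g'.base p := fun p => by
    obtain ⟨x, t, ht⟩ := exists_mem_fibre h𝒳 hM π hqc hqs h E p
    rw [← ht]
    exact congrArg (fun k : StMod.sch (StMod.fibCat π (StMod.etaOf E)) x ⟶ T => k.base t) (e x)
  have key : ∀ p, ∃ D : E.obj.left.left.Opens, p ∈ D ∧ D.ι ≫ g = D.ι ≫ g' := fun p => by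
    obtain ⟨W, hW, hpW, -⟩ := exists_isAffineOpen_mem_and_subset (X := T) (x := g.base p) (U := ⊤) trivial
    obtain ⟨D, hD, hpD, hDW⟩ := exists_isAffineOpen_mem_and_subset (X := E.obj.left.left) (x := p)
      (U := g ⁻¹ᵁ W ⊓ g' ⁻¹ᵁ W) ⟨hpW, show g'.base p ∈ W from (hpt p).symm ▸ hpW⟩
    refine ⟨D, hpD, ?_⟩
    haveI : IsAffine W.toScheme := hW
    haveI : IsAffine (StMod.sch (AlgSt.ofSp M.obj) (StMod.etaOf (openEt E D))) := hD
    have hr : Set.range (D.ι ≫ g).base ⊆ Set.range W.ι.base := by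
      rintro _ ⟨s, rfl⟩
      rw [Scheme.Opens.range_ι]
      exact (hDW s.2).1
    have hr' : Set.range (D.ι ≫ g').base ⊆ Set.range W.ι.base := by
      rintro _ ⟨s, rfl⟩
      rw [Scheme.Opens.range_ι]
      exact (hDW s.2).2
    let k := IsOpenImmersion.lift W.ι (D.ι ≫ g) hr
    let k' := IsOpenImmersion.lift W.ι (D.ι ≫ g') hr'
    suffices hk : k = k' by
      rw [← IsOpenImmersion.lift_fac W.ι (D.ι ≫ g) hr, ← IsOpenImmersion.lift_fac W.ι (D.ι ≫ g') hr']
      exact congrArg (· ≫ W.ι) hk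
    let η' := StMod.etaOf (openEt E D)
    refine (existsUnique_factor_affine (π := π) (η := η') (h.2 _) (T := W.toScheme) (fun w => uFib π η' w ≫ k)
      (fun c => (Category.assoc _ _ _).symm.trans (congrArg (· ≫ k) (uFib_nat π c)))).unique (fun _ => rfl)
      fun w => ?_
    refine (cancel_mono W.ι).1 ?_
    rw [Category.assoc, Category.assoc, IsOpenImmersion.lift_fac, IsOpenImmersion.lift_fac]
    have e' := e (push π (openArr E D) w)
    rw [uFib_push] at e'
    exact (((Category.assoc _ _ _).symm.trans e').trans (Category.assoc _ _ _)).symm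
  choose D hpD hD using key
  exact (E.obj.left.left.openCoverOfIsOpenCover D (TopologicalSpace.IsOpenCover.mk
    (eq_top_iff.2 fun p _ => Opens.mem_iSup.2 ⟨p, hpD p⟩))).hom_ext _ _ hD

variable {T : Scheme.{u}} (f : ∀ ξ : 𝒳.obj, StMod.sch 𝒳 ξ ⟶ T)
  (hf : ∀ {ξ' ξ : 𝒳.obj} (c : ξ' ⟶ ξ), StMod.bmap 𝒳 c ≫ f ξ = f ξ')

include hf

/-- Every point of an affine scheme etale over the good moduli space has a neighbourhood over which the stack maps
into an affine open. -/
theorem exists_affine_nhd [IsAffine E.obj.left.left] (e : E.obj.left.left) :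
    ∃ (W : T.Opens) (D : E.obj.left.left.Opens), IsAffineOpen W ∧ IsAffineOpen D ∧ e ∈ D ∧
      ∀ (x : (StMod.fibCat π (StMod.etaOf E)).obj) (t : StMod.sch (StMod.fibCat π (StMod.etaOf E)) x),
        (uFib π (StMod.etaOf E) x).base t ∈ D → (f x.left).base t ∈ W := by
  classical
  haveI : IsAffine (StMod.sch (AlgSt.ofSp M.obj) (StMod.etaOf E)) := ‹IsAffine E.obj.left.left›
  let η := StMod.etaOf E
  obtain ⟨I, hI, a, ha, hcov⟩ := (fibData_of_qcqs h𝒳 (AlgStLib.isAlgStack_ofSp M) π hqc hqs).qc η ‹_›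
  have hK : IsCompact (⋃ i, Set.range (f (a i).left).base) := isCompact_iUnion fun i => by
    haveI : IsAffine (StMod.sch 𝒳 (a i).left) := ha i
    exact isCompact_range (f (a i).left).continuous
  obtain ⟨s, hs⟩ := hK.elim_finite_subcover (fun W : T.affineOpens => (W.1 : Set T)) (fun W => W.1.isOpen)
    fun y _ => by
      obtain ⟨W, hW, hyW, -⟩ := exists_isAffineOpen_mem_and_subset (X := T) (x := y) (U := ⊤) trivial
      exact Set.mem_iUnion.2 ⟨⟨W, hW⟩, hyW⟩
  have hall : ∀ (x : (StMod.fibCat π η).obj) (t : StMod.sch (StMod.fibCat π η) x),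
      ∃ W ∈ s, (f x.left).base t ∈ W.1 := fun x t => by
    obtain ⟨x', φ, hφ, i, ⟨c⟩⟩ := hcov x t
    obtain ⟨t', rfl⟩ := hφ.mem
    have e1 : (f x.left).base ((StMod.bmap (StMod.fibCat π η) φ).base t') =
        (f (a i).left).base ((StMod.bmap (StMod.fibCat π η) c).base t') :=
      congrArg (fun k : StMod.sch 𝒳 x'.left ⟶ T => k.base t') ((hf φ.left).trans (hf c.left).symm)
    obtain ⟨W, hW, hmem⟩ := Set.mem_iUnion₂.1 (hs (Set.mem_iUnion.2 ⟨i, _, rfl⟩))
    exact ⟨W, hW, e1 ▸ hmem⟩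
  let C : Finset T.affineOpens → ∀ x : (StMod.fibCat π η).obj, Set ↥(StMod.sch (StMod.fibCat π η) x) := fun s x =>
    {t | ∀ W ∈ s, (f x.left).base t ∉ W.1}
  have hCc : ∀ s x, IsClosed (C s x) := fun s x => by
    have : C s x = ⋂ W ∈ s, ((f x.left).base ⁻¹' (W.1 : Set T))ᶜ := by ext t; simp [C]
    rw [this]
    exact isClosed_biInter fun W _ => ((W.1.isOpen.preimage (f x.left).continuous)).isClosed_compl
  have hCn : ∀ s {x' x : (StMod.fibCat π η).obj} (c : x' ⟶ x),
      C s x' = (StMod.bmap (StMod.fibCat π η) c).base ⁻¹' C s x := fun s {x' x} c => by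
    ext t
    refine forall₂_congr fun W _ => not_congr (iff_of_eq (congrArg (· ∈ W.1) ?_))
    exact (congrArg (fun k : StMod.sch 𝒳 x'.left ⟶ T => k.base t) (hf c.left)).symm
  by_cases hgood : ∃ W ∈ s, e ∉ {v | ∃ x, ∃ t ∈ C {W} x, (uFib π η x).base t = v}
  · obtain ⟨W, -, he⟩ := hgood
    obtain ⟨g, hg, heg⟩ := (isAffineOpen_top E.obj.left.left).exists_basicOpen_le
      (V := ⟨_, (isClosed_image_goodModuli h𝒳 hM π hqc hqs h E (C {W}) (hCc _) (hCn _)).isOpen_compl⟩)
      (⟨e, he⟩) trivial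
    refine ⟨W.1, _, W.2, (isAffineOpen_top E.obj.left.left).basicOpen g, heg, fun x t ht => ?_⟩
    by_contra htW
    refine hg ht ⟨x, t, ?_, rfl⟩
    intro W' hW'
    rw [Finset.mem_singleton.1 hW']
    exact htW
  · push Not at hgood
    have hind : ∀ s' ⊆ s, ∃ x, ∃ t ∈ C s' x, (uFib π η x).base t = e := by
      intro s'
      induction s' using Finset.induction with
      | empty =>
        intro _
        obtain ⟨x, t, ht⟩ := exists_mem_fibre h𝒳 hM π hqc hqs h E e
        exact ⟨x, t, fun W hW => (Finset.notMem_empty W hW).elim, ht⟩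
      | insert W s' _ IH =>
        intro hsub
        obtain ⟨x, t, ⟨h₁, h₂⟩, ht⟩ := exists_mem_inter h𝒳 hM π hqc hqs h E (C {W}) (C s') (hCc _) (hCc _) (hCn _)
          (hCn _) e (hgood W (hsub (Finset.mem_insert_self _ _)))
          (IH fun V hV => hsub (Finset.mem_insert_of_mem hV))
        refine ⟨x, t, fun V hV => ?_, ht⟩
        rcases Finset.mem_insert.1 hV with rfl | hV
        exacts [h₁ V (Finset.mem_singleton_self V), h₂ V hV]
    obtain ⟨x, t, ht, -⟩ := hind s subset_rfl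
    obtain ⟨W, hW, hmem⟩ := hall x t
    exact absurd hmem (ht W hW)

/-- Compatible maps from the stack to a scheme factor through the schemes etale over the good moduli space. -/
theorem exists_factor_scheme : ∃ g : E.obj.left.left ⟶ T,
    ∀ x, uFib π (StMod.etaOf E) x ≫ g = f x.left := by
  have key : ∀ e : E.obj.left.left, ∃ (D : E.obj.left.left.Opens) (g : D.toScheme ⟶ T), e ∈ D ∧
      ∀ w : (StMod.fibCat π (StMod.etaOf (openEt E D))).obj, uFib π (StMod.etaOf (openEt E D)) w ≫ g = f w.left := by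
    intro e
    obtain ⟨V, hV, heV, -⟩ := exists_isAffineOpen_mem_and_subset (X := E.obj.left.left) (x := e) (U := ⊤) trivial
    haveI : IsAffine (openEt E V).obj.left.left := hV
    obtain ⟨W, D₀, hW, hD₀, heD, hmap⟩ := exists_affine_nhd h𝒳 hM π hqc hqs h (openEt E V) f hf ⟨e, heV⟩
    haveI : IsAffine W.toScheme := hW
    let E' := openEt (openEt E V) D₀
    haveI : IsAffine (StMod.sch (AlgSt.ofSp M.obj) (StMod.etaOf E')) := hD₀
    have hr : ∀ w : (StMod.fibCat π (StMod.etaOf E')).obj,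
        Set.range (f w.left).base ⊆ Set.range W.ι.base := fun w => by
      rintro _ ⟨t, rfl⟩
      rw [Scheme.Opens.range_ι]
      exact hmap (push π (openArr (openEt E V) D₀) w) t (uFib_push_mem _ _ w t)
    obtain ⟨g, hg, -⟩ := existsUnique_factor_affine (π := π) (η := StMod.etaOf E') (h.2 _) (T := W.toScheme)
      (fun w => IsOpenImmersion.lift W.ι (f w.left) (hr w))
      (fun {x' x} c => (cancel_mono W.ι).1 (by
        rw [Category.assoc, IsOpenImmersion.lift_fac, IsOpenImmersion.lift_fac]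
        exact hf c.left))
    let D : E.obj.left.left.Opens := V.ι ''ᵁ D₀
    have hle : D ≤ V := V.ι_image_le D₀
    let a : D.toScheme ⟶ D₀.toScheme := IsOpenImmersion.lift D₀.ι (E.obj.left.left.homOfLE hle) (by
      rintro _ ⟨s, rfl⟩
      rw [Scheme.Opens.range_ι]
      obtain ⟨s₀, hs₀, hss⟩ := s.2
      have : (E.obj.left.left.homOfLE hle).base s = s₀ := V.ι.isOpenEmbedding.injective
        ((congrArg (fun k : D.toScheme ⟶ E.obj.left.left => k.base s) (Scheme.homOfLE_ι _ hle)).trans hss.symm)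
      exact (congrArg (· ∈ D₀) this).mpr hs₀)
    refine ⟨D, a ≫ g ≫ W.ι, ⟨⟨e, heV⟩, heD, rfl⟩, fun w => ?_⟩
    let aO : openBase E.obj.left D ⟶ E'.obj.left := Over.homMk a (by
      show a ≫ D₀.ι ≫ V.ι ≫ E.obj.left.hom = D.ι ≫ E.obj.left.hom
      rw [IsOpenImmersion.lift_fac_assoc, Scheme.homOfLE_ι_assoc])
    let aA : StMod.etaOf (openEt E D) ⟶ StMod.etaOf E' := eltHom aO (by
      rw [toYon_etaOf, toYon_etaOf]
      symm
      show (yon S).map (openIncl E.obj.left D) ≫ E.obj.hom =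
        (yon S).map aO ≫ (yon S).map (openIncl (openEt E V).obj.left D₀) ≫ (yon S).map (openIncl E.obj.left V) ≫ E.obj.hom
      rw [← Category.assoc ((yon S).map aO), ← (yon S).map_comp, ← Category.assoc ((yon S).map (aO ≫ _)),
        ← (yon S).map_comp]
      refine congrArg (fun k => (yon S).map k ≫ E.obj.hom) (Over.OverMorphism.ext ?_)
      show D.ι = (a ≫ D₀.ι) ≫ V.ι
      rw [IsOpenImmersion.lift_fac, Scheme.homOfLE_ι])
    have h1 := congrArg (· ≫ W.ι) (hg (push π aA w))
    rw [Category.assoc, IsOpenImmersion.lift_fac, uFib_push] at h1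
    refine Eq.trans ?_ h1
    exact (Category.assoc _ _ _).symm
  choose D g hD hg using key
  have hcov : TopologicalSpace.IsOpenCover D :=
    TopologicalSpace.IsOpenCover.mk (eq_top_iff.2 fun p _ => Opens.mem_iSup.2 ⟨p, hD p⟩)
  let 𝒰 := E.obj.left.left.openCoverOfIsOpenCover D hcov
  have hcompat : ∀ i j, pullback.fst (D i).ι (D j).ι ≫ g i = pullback.snd (D i).ι (D j).ι ≫ g j := by
    intro i j
    let I := D i ⊓ D j
    have heq : E.obj.left.left.homOfLE (inf_le_left : I ≤ D i) ≫ g i =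
        E.obj.left.left.homOfLE (inf_le_right : I ≤ D j) ≫ g j := hom_ext_fib h𝒳 hM π hqc hqs h (openEt E I) _ _
      fun w => by
        have h1 := hg i (push π (openLE E (inf_le_left : I ≤ D i)) w)
        have h2 := hg j (push π (openLE E (inf_le_right : I ≤ D j)) w)
        rw [uFib_push] at h1 h2
        exact (((Category.assoc _ _ _).symm.trans h1).trans h2.symm).trans (Category.assoc _ _ _)
    have hr : Set.range (pullback.fst (D i).ι (D j).ι ≫ (D i).ι).base ⊆ Set.range I.ι.base := by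
      rintro _ ⟨p, rfl⟩
      rw [Scheme.Opens.range_ι]
      refine ⟨((pullback.fst (D i).ι (D j).ι).base p).2, ?_⟩
      rw [pullback.condition]
      exact ((pullback.snd (D i).ι (D j).ι).base p).2
    let m := IsOpenImmersion.lift I.ι _ hr
    have h1 : pullback.fst (D i).ι (D j).ι = m ≫ E.obj.left.left.homOfLE (inf_le_left : I ≤ D i) := by
      rw [← cancel_mono (D i).ι, Category.assoc, Scheme.homOfLE_ι, IsOpenImmersion.lift_fac]
    have h2 : pullback.snd (D i).ι (D j).ι = m ≫ E.obj.left.left.homOfLE (inf_le_right : I ≤ D j) := by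
      rw [← cancel_mono (D j).ι, Category.assoc, Scheme.homOfLE_ι, IsOpenImmersion.lift_fac, pullback.condition]
    rw [h1, h2, Category.assoc, Category.assoc, heq]
  refine ⟨𝒰.glueMorphisms g hcompat, fun x => ?_⟩
  choose w c s' hc hs' using fun p : StMod.sch (StMod.fibCat π (StMod.etaOf E)) x =>
    exists_over_open h𝒳.isStack.1 E (D ((uFib π (StMod.etaOf E) x).base p)) x p (hD _)
  refine Scheme.Cover.hom_ext (Scheme.Cover.mkOfCovers (P := @IsOpenImmersion) _ _
    (fun p => StMod.bmap (StMod.fibCat π (StMod.etaOf E)) (c p)) (fun p => ⟨p, s' p, hs' p⟩) hc) _ _ fun p => ?_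
  show StMod.bmap (StMod.fibCat π (StMod.etaOf E)) (c p) ≫ _ ≫ _ = StMod.bmap (StMod.fibCat π (StMod.etaOf E)) (c p) ≫ _
  refine ((Category.assoc _ _ _).symm.trans (congrArg (· ≫ _) (uFib_nat π (c p)))).trans ?_
  rw [uFib_push]
  refine Eq.trans ?_ ((hg _ (w p)).trans (hf (c p).left).symm)
  refine (Category.assoc _ _ _).trans (congrArg (uFib π (StMod.etaOf (openEt E _)) (w p) ≫ ·) ?_)
  exact Scheme.Cover.ι_glueMorphisms 𝒰 g hcompat _

end Groth.Agent.RelGen
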