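import Mathlib
import Groth.Agent.RelGen.UnivClosed

/-!
# Good moduli morphisms are universally closed
-/

universe u

open CategoryTheory CategoryTheory.Limits AlgebraicGeometry TopologicalSpace Opposite

set_option autoImplicit false
set_option backward.isDefEq.respectTransparency false
set_option backward.isDefEq.respectTransparency.types false
set_option linter.style.haveILetI false

noncomputable section

namespace Groth.Agent.RelGen

open Groth.Agent.QDescent Groth.Agent.AlgStLib Groth.Agent.FibCatRep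
open _root_.AlgSp _root_.AlgSt

variable {S : Scheme.{u}}

local notation "AS" => IsAlgStack Scheme.fppfPrecoverage

/-- Points of a chart at the image of an object, through a chart at that image. -/
theorem ofChart_eq_of_obj {𝒵 : AlgSt.Cat S} (h𝒵 : FibCat.IsFibGrpd 𝒵.p) {V : Over S}
    (x : FibCat.overCat V ⥤ᵇ 𝒵) (A : (FibCat.overCat V).obj)
    (z : FibCat.overCat (𝒵.p.obj (x.obj A)) ⥤ᵇ 𝒵) (i : z.obj (topObj _) ≅ x.obj A)
    (h : StMod.sch 𝒵 (z.obj (topObj _)) = StMod.sch 𝒵 (x.obj A)) (hi : StMod.bmap 𝒵 i.hom = eqToHom h)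
    (s : StMod.sch 𝒵 (x.obj A)) :
    AlgSt.Points.ofChart x ((show Over V from A).hom.left.base ((eqToHom (StMod.sch_obj_eq x A)).base s)) =
      AlgSt.Points.ofChart z s := by
  obtain ⟨z₀, i₀, h₀, hi₀⟩ := exists_chartAt h𝒵 (x.obj (topObj V))
  have key : ∀ (B : (FibCat.overCat V).obj) (w : StMod.sch (FibCat.overCat V) B),
      (StMod.bmap 𝒵 (x.map (toTop B))).base ((eqToHom (StMod.sch_obj_eq x B).symm).base w) =
        (eqToHom (StMod.sch_obj_eq x (topObj V)).symm).base ((show Over V from B).hom.left.base w) := fun B w => by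
    rw [bmap_map x (toTop B), Scheme.Hom.comp_apply, eqToHom_point, Scheme.Hom.comp_apply]
    rfl
  rw [ofChart_nat h𝒵 (x.map (toTop A)) z i h hi z₀ i₀ h₀ hi₀ s]
  have e1 := key A ((eqToHom (StMod.sch_obj_eq x A)).base s)
  rw [point_eqToHom] at e1
  rw [e1]
  generalize (show Over V from A).hom.left.base ((eqToHom (StMod.sch_obj_eq x A)).base s) = t
  let B : (FibCat.overCat V).obj :=
    (Over.mk (Over.homMk (V.left.fromSpecResidueField t) rfl :
      Over.mk (V.left.fromSpecResidueField t ≫ V.hom) ⟶ V) : Over V)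
  let p : FPt 𝒵 :=
    { K := ↥(V.left.residueField t), str := V.left.fromSpecResidueField t ≫ V.hom, obj := x.obj B, lies := x.w_obj _ }
  let w : StMod.sch (FibCat.overCat V) B := IsLocalRing.closedPoint (V.left.residueField t)
  refine (mk_eq_ofChart h𝒵 p (x.map (toTop B)) z₀ i₀ h₀ hi₀
    ((eqToHom (StMod.sch_obj_eq x B).symm).base w)).trans (congrArg _ ?_)
  rw [key B w]
  exact congrArg _ (V.left.fromSpecResidueField_apply t _)

variable [QuasiSeparatedSpace ↥S] {𝒳 : AlgSt.Cat S} {M : AlgSp.Space S}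

/-- Good moduli morphisms are universally closed. -/
theorem isUnivClosed_goodModuli (h𝒳 : AS 𝒳) (hM : AlgSp.IsQuasiSeparatedSp M.obj) (π : 𝒳 ⥤ᵇ AlgSt.ofSp M.obj)
    (hqc : AlgSt.IsQuasiCompactMor Scheme.fppfPrecoverage π) (hqs : AlgSt.IsQuasiSeparatedMor π)
    (h : StMod.IsGoodModuli π) : AlgSt.IsUnivClosed Scheme.fppfPrecoverage π := by
  intro 𝒵 h𝒵 g C hC
  have hMs := isAlgStack_ofSp M
  have hW := algFp hMs h𝒵 h𝒳 g π
  refine ⟨fun V x hx => ?_⟩
  set P := AlgSt.Points.ofChart x ⁻¹' (AlgSt.Points.map (FibCat.fpFst g π) '' C) with hP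
  suffices hPc : IsClosed P by exact hPc.isOpen_compl
  refine ⟨isOpen_iff_mem_nhds.2 fun v hv => ?_⟩
  let η₀ := g.obj (x.obj (topObj V))
  have hbase : η₀.base = V := (g.w_obj _).trans (x.w_obj _)
  let g' : (spOf V).obj ⟶ M.obj := (yon S).map (eqToHom hbase.symm) ≫ toYon η₀
  let E' : AlgSp.EtOver ((yon S).obj V) := AlgSp.EtOver.mk (𝟙 _) (by
    rw [← (yon S).map_id]
    exact (AlgSpLib.repWith_yon_iff (P := @Etale) (𝟙 V)).2 (inferInstanceAs (Etale (𝟙 V.left))))
  obtain ⟨E₀, O, f, k, hE₀, hO, -, ⟨s, hs⟩, hOf, hOk⟩ := exists_chart_below (M' := spOf V) g' E' v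
  haveI : Etale f.left := by
    refine (AlgSpLib.repWith_yon_iff (P := @Etale) f).1 ?_
    have := O.property
    rwa [show O.obj.hom = (yon S).map f from hOf.trans (Category.comp_id _)] at this
  let A : (FibCat.overCat V).obj := (Over.mk f : Over V)
  let o := x.obj A
  have ho : (g.obj o).base = O.obj.left := (g.w_obj _).trans (x.w_obj _)
  have hT : toYon (g.obj o) = (yon S).map (eqToHom ho) ≫ (yon S).map f ≫ g' := by
    show _ = (yon S).map (eqToHom ho) ≫ (yon S).map f ≫ (yon S).map (eqToHom hbase.symm) ≫ toYon η₀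
    rw [← toYon_map (g.map (x.map (toTop A))), ← Category.assoc, ← Category.assoc, ← (yon S).map_comp,
      ← (yon S).map_comp]
    refine congrArg (fun q => (yon S).map q ≫ toYon η₀) ?_
    refine Over.OverMorphism.ext ?_
    have e1 := bmap_map g (x.map (toTop A))
    rw [bmap_map x (toTop A)] at e1
    refine e1.trans ?_
    simp only [Over.comp_left, Over.eqToHom_left, Category.assoc, eqToHom_trans, eqToHom_trans_assoc]
    rfl
  let ψ : g.obj o ⟶ StMod.etaOf E₀ := eltHom (eqToHom ho ≫ k) (by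
    rw [hT, toYon_etaOf, (yon S).map_comp, Category.assoc, ← hOk]
    refine congrArg ((yon S).map (eqToHom ho) ≫ ·) ?_
    rw [show O.obj.hom = (yon S).map f from hOf.trans (Category.comp_id _)])
  haveI : IsAffine (StMod.sch (AlgSt.ofSp M.obj) (StMod.etaOf E₀)) := hE₀
  haveI hoa : IsAffine (StMod.sch (AlgSt.ofSp M.obj) (g.obj o)) :=
    IsAffine.of_isIso (eqToHom (congrArg Comma.left ho))
  obtain ⟨z, i, hz, hi⟩ := exists_chartAt h𝒵.isStack.1 o
  have hGo : GExact (StMod.fibCat π (g.obj o)) :=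
    (gExact_fib_of_isCohAffine h𝒳 π h.1 E₀ hE₀ (goodChartObj_of_qsSp hM E₀ hE₀)).baseChange ψ h𝒳.isStack.1
      hMs.isStack.1
  have hcl := isClosed_preimage_image h𝒳 hMs h𝒵 hW hGo (unitBij_affObj h𝒳 hM π hqc hqs h _ hoa)
    (isQC_fibCat_of_qc h𝒳 hMs π hqc _ hoa) (isQS_fibCat_of_diag h𝒳.isStack.1 hMs.isStack.1 π hqs _ hoa)
    hC z i hz hi
  let e := eqToHom (StMod.sch_obj_eq x A).symm
  have hpre : ∀ t : ↥O.obj.left.left, f.left.base t ∈ P ↔
      e.base t ∈ AlgSt.Points.ofChart z ⁻¹' (AlgSt.Points.map (FibCat.fpFst g π) '' C) := fun t => by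
    show AlgSt.Points.ofChart x _ ∈ AlgSt.Points.map (FibCat.fpFst g π) '' C ↔
      AlgSt.Points.ofChart z _ ∈ AlgSt.Points.map (FibCat.fpFst g π) '' C
    rw [← ofChart_eq_of_obj h𝒵.isStack.1 x A z i hz hi (e.base t), eqToHom_point]
    rfl
  refine mem_nhds_iff.2 ⟨f.left.base '' (e.base ⁻¹' _)ᶜ, ?_,
    f.left.isOpenMap _ (hcl.preimage e.base.hom.continuous).isOpen_compl, ⟨s, fun hm => hv ?_, hs⟩⟩
  · rintro _ ⟨t, ht, rfl⟩ hm
    exact ht ((hpre t).1 hm)
  · exact hs ▸ (hpre s).2 hm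

end Groth.Agent.RelGen
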