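import Mathlib
import Groth.Agent.RelGen.DisjointImage
import Groth.Agent.RelGen.GMFibre
import Groth.Agent.RelGen.Fibres
import Groth.Agent.RelGen.NoethCover

/-!
# Disjoint closed sets have disjoint images under good moduli morphisms
-/

universe u

open CategoryTheory CategoryTheory.Limits AlgebraicGeometry TopologicalSpace Opposite

set_option autoImplicit false
set_option backward.isDefEq.respectTransparency false
set_option backward.isDefEq.respectTransparency.types false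
set_option linter.style.haveILetI false

noncomputable section

namespace Groth.Agent.RelGen

open Groth.Agent.QDescent Groth.Agent.AlgStLib Groth.Agent.FibCatRep
open _root_.AlgSp _root_.AlgSt

variable {S : Scheme.{u}} {M : AlgSp.Space S}

local notation "AS" => IsAlgStack Scheme.fppfPrecoverage

theorem bmap_eqToHom {𝒵 : AlgSt.Cat S} {x y : 𝒵.obj} (h : x = y) :
    StMod.bmap 𝒵 (eqToHom h) = eqToHom (congrArg (StMod.sch 𝒵) h) := by
  subst h
  exact StMod.bmap_id x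

/-- Every point of an algebraic space lies on an affine etale chart. -/
theorem exists_point_chart (q : AlgSt.Points (AlgSt.ofSp M.obj)) :
    ∃ (E : AlgSp.EtOver M.obj) (z : FibCat.overCat (StMod.etaOf E).base ⥤ᵇ AlgSt.ofSp M.obj)
      (a : AlgSt.Points (FibCat.overCat (StMod.etaOf E).base)),
      IsAffine E.obj.left.left ∧ z.obj (topObj _) = StMod.etaOf E ∧ AlgSt.Points.map z a = q := by
  obtain ⟨p, rfl⟩ := AlgSt.Points.mk_surjective q
  let y : (yon S).obj (Over.mk p.str) ⟶ M.obj := (yon S).map (eqToHom p.lies.symm) ≫ toYon p.obj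
  obtain ⟨U, π₀, hπ₁, hπ₂⟩ := M.property.atlas
  obtain ⟨P, fst, pr, sq, -⟩ := AlgSpLib.exists_repWith hπ₁ y
  obtain ⟨a₁, rfl⟩ := AlgSpLib.exists_map_eq fst
  haveI : Surjective pr.left := hπ₂.2 _ _ pr sq
  obtain ⟨j, -⟩ := pr.left.surjective (IsLocalRing.closedPoint p.K)
  obtain ⟨O, hO, hjO, -⟩ := exists_isAffineOpen_mem_and_subset (X := U.left) (x := a₁.left.base j) (U := ⊤) trivial
  let V : Over S := Over.mk (O.ι ≫ U.hom)
  let jV : V ⟶ U := Over.homMk O.ι rfl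
  let E : AlgSp.EtOver M.obj := AlgSp.EtOver.mk ((yon S).map jV ≫ π₀)
    (AlgSpLib.repWith_comp ((AlgSpLib.repWith_yon_iff (P := @Etale) _).2 (inferInstanceAs (Etale O.ι))) hπ₁)
  obtain ⟨z, hz, -⟩ := exists_etaleChart (StMod.etaOf E) ((toYon_etaOf E).symm ▸ E.property)
  let k := P.left.fromSpecResidueField j
  have hr : Set.range (k ≫ a₁.left).base ⊆ Set.range O.ι.base := by
    rintro _ ⟨s, rfl⟩
    rw [Scheme.Opens.range_ι, Scheme.Hom.comp_apply, P.left.fromSpecResidueField_apply]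
    exact hjO
  let K' : Over S := Over.mk (k ≫ P.hom)
  let l : K' ⟶ V := Over.homMk (IsOpenImmersion.lift O.ι (k ≫ a₁.left) hr) (by
    show _ ≫ O.ι ≫ U.hom = k ≫ P.hom
    rw [IsOpenImmersion.lift_fac_assoc, Category.assoc, Over.w a₁])
  let kK : K' ⟶ P := Over.homMk k rfl
  have hl : l ≫ jV = kK ≫ a₁ := Over.OverMorphism.ext (IsOpenImmersion.lift_fac _ _ hr)
  let r : FPt (FibCat.overCat (StMod.etaOf E).base) :=
    { K := ↥(P.left.residueField j), str := k ≫ P.hom, obj := (Over.mk l : Over V), lies := rfl }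
  refine ⟨E, z, AlgSt.Points.mk r, hO, hz, AlgSt.Points.sound ?_⟩
  let B := z.obj r.obj
  have hB : B.base = K' := z.w_obj _
  have hT : toYon B = (yon S).map (eqToHom hB) ≫ (yon S).map l ≫ (yon S).map jV ≫ π₀ := by
    let c : B ⟶ StMod.etaOf E := z.map (toTop r.obj) ≫ eqToHom hz
    rw [← toYon_map c, toYon_etaOf]
    refine Eq.trans ?_ (((yon S).map_comp_assoc _ _ _).trans rfl)
    refine congrArg (fun q => (yon S).map q ≫ E.obj.hom) ?_
    refine Over.OverMorphism.ext ?_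
    show StMod.bmap (AlgSt.ofSp M.obj) c = _
    rw [StMod.bmap_comp, bmap_map z (toTop r.obj), bmap_eqToHom]
    simp only [Over.comp_left, Over.eqToHom_left, Category.assoc, eqToHom_trans]
    rfl
  let m : B ⟶ p.obj := eltHom (eqToHom hB ≫ kK ≫ pr ≫ eqToHom p.lies.symm) (by
    rw [hT]
    simp only [(yon S).map_comp, Category.assoc]
    refine congrArg ((yon S).map (eqToHom hB) ≫ ·) ?_
    rw [← reassoc_of% ((yon S).map_comp l jV), hl, (yon S).map_comp, Category.assoc, sq.w])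
  exact ⟨_, 𝟙 _, m, trivial⟩

variable [QuasiSeparatedSpace ↥S] {𝒳 : AlgSt.Cat S}

/-- Disjoint closed sets have disjoint images in the good moduli space. -/
theorem disjoint_map_goodModuli (h𝒳 : AS 𝒳) (hM : AlgSp.IsQuasiSeparatedSp M.obj) (π : 𝒳 ⥤ᵇ AlgSt.ofSp M.obj)
    (hqc : AlgSt.IsQuasiCompactMor Scheme.fppfPrecoverage π) (hqs : AlgSt.IsQuasiSeparatedMor π)
    (h : StMod.IsGoodModuli π) {C₁ C₂ : Set (AlgSt.Points 𝒳)} (hC₁ : IsClosed C₁) (hC₂ : IsClosed C₂)
    (hdis : Disjoint C₁ C₂) : Disjoint (AlgSt.Points.map π '' C₁) (AlgSt.Points.map π '' C₂) := by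
  rw [Set.disjoint_left]
  rintro q ⟨x₁, hx₁, rfl⟩ ⟨x₂, hx₂, he⟩
  have hMs := isAlgStack_ofSp M
  obtain ⟨E, z, a, hE, hz, ha⟩ := exists_point_chart (AlgSt.Points.map π x₁)
  have hV := isAlgStack_overCat (StMod.etaOf E).base
  have hW := algFp hMs hV h𝒳 z π
  let o : (FibCat.overCat (StMod.etaOf E).base).obj := topObj _
  haveI hoa : IsAffine (StMod.sch (AlgSt.ofSp M.obj) (z.obj o)) := by rw [hz]; exact hE
  have hGo : GExact (StMod.fibCat π (z.obj o)) := by
    rw [hz]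
    exact gExact_fib_of_isCohAffine h𝒳 π h.1 E hE (goodChartObj_of_qsSp hM E hE)
  obtain ⟨z₀, i₀, h₀, hi₀⟩ := exists_chartAt hV.isStack.1 o
  obtain ⟨p, rfl⟩ := AlgSt.Points.mk_surjective a
  obtain ⟨s⟩ := nonempty_pt p
  have hp := mk_eq_ofChart hV.isStack.1 p (toTop p.obj) z₀ i₀ h₀ hi₀ s
  obtain ⟨w₁, hw₁, hw₁'⟩ := exists_points_fp h𝒳.isStack.1 hMs.isStack.1 hV.isStack.1 π z _ x₁ ha
  obtain ⟨w₂, hw₂, hw₂'⟩ := exists_points_fp h𝒳.isStack.1 hMs.isStack.1 hV.isStack.1 π z _ x₂ (ha.trans he.symm)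
  have hd := disjoint_preimage_image h𝒳 hMs hV hW hGo (unitBij_affObj h𝒳 hM π hqc hqs h _ hoa)
    (isQC_fibCat_of_qc h𝒳 hMs π hqc _ hoa) (isQS_fibCat_of_diag h𝒳.isStack.1 hMs.isStack.1 π hqs _ hoa)
    (hC₁.preimage (continuous_map h𝒳 (FibCat.fpSnd z π))) (hC₂.preimage (continuous_map h𝒳 (FibCat.fpSnd z π)))
    (hdis.preimage _) z₀ i₀ h₀ hi₀
  refine Set.disjoint_iff.1 hd (show (StMod.bmap _ (toTop p.obj)).base s ∈ _ ∩ _ from
    ⟨⟨w₁, ?_, hw₁.trans hp⟩, ⟨w₂, ?_, hw₂.trans hp⟩⟩)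
  · show AlgSt.Points.map (FibCat.fpSnd z π) w₁ ∈ C₁
    rw [hw₁']
    exact hx₁
  · show AlgSt.Points.map (FibCat.fpSnd z π) w₂ ∈ C₂
    rw [hw₂']
    exact hx₂

end Groth.Agent.RelGen
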