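import Mathlib
import Groth.Agent.RelGen.GMClosedPts
import Groth.Agent.GpdField.Section
import Groth.Agent.UnivInjMor.Basic
import Groth.Agent.SpQS.FiniteFibreNhd

/-!
# Rational points of algebraic spaces over fields, and their preimages in good moduli morphisms
-/

universe u

open CategoryTheory CategoryTheory.Limits AlgebraicGeometry TopologicalSpace Opposite

set_option autoImplicit false
set_option backward.isDefEq.respectTransparency false
set_option backward.isDefEq.respectTransparency.types false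
set_option linter.style.haveILetI false

noncomputable section

namespace Groth.Agent.RelGen

open Groth.Agent.AlgStLib Groth.Agent.QDescent
open _root_.AlgSp _root_.AlgSt

/-- Functors into the category of a sheaf with the same sections are equal. -/
theorem functor_eq_of_secOf {C : Type*} [Category C] {R : Cᵒᵖ ⥤ Type*} {𝒳 : BasedCategory C}
    {Φ Ψ : 𝒳 ⥤ᵇ Stk.ofPsh R} (h : ∀ a, secOf Φ a = secOf Ψ a) : Φ = Ψ := by
  have key : ∀ (A B : Stk.EltObj R) (e : A.base = B.base), R.map (eqToHom e).op B.sec = A.sec → A = B := by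
    rintro ⟨X, s⟩ ⟨Y, r⟩ e hsec
    dsimp only at e
    subst e
    simp at hsec
    rw [hsec]
  have hobj : ∀ a, Φ.obj a = Ψ.obj a := fun a => key _ _ ((base_eq Φ a).trans (base_eq Ψ a).symm) (by
    rw [sec_eq Φ a, sec_eq Ψ a, h a, ← Functor.map_comp_apply, ← op_comp, eqToHom_trans])
  have hmap : ∀ (A B : Stk.EltObj R) (e : A = B), (eqToHom e).hom = eqToHom (congrArg Stk.EltObj.base e) := by
    intro A B e
    subst e
    rfl
  obtain ⟨F, hF⟩ := Φ
  obtain ⟨G, hG⟩ := Ψ
  obtain rfl : F = G := CategoryTheory.Functor.ext hobj fun a b m => Stk.EltObj.hom_ext (by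
    rw [Stk.EltObj.comp_hom, Stk.EltObj.comp_hom, hmap, hmap]
    refine (hom_map ⟨F, hF⟩ m).trans ?_
    rw [show (G.map m).hom = _ from hom_map ⟨G, hG⟩ m]
    simp)
  rfl

variable {k : Type u} [Field k] {M : AlgSp.Space (Spec (CommRingCat.of k))}

local notation "B₀" => Over.mk (𝟙 (Spec (CommRingCat.of k)))

/-- Sections over the base into a decent space give closed points. -/
theorem isClosed_ofPt_section (hM : AlgSp.IsQuasiSeparatedSp M.obj) (m : (yon _).obj B₀ ⟶ M.obj)
    (t : ↥(B₀).left) : IsClosed ({AlgSp.Points.ofPt m t} : Set (AlgSp.Points M.obj)) := by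
  let q : M.obj ⟶ (yon _).obj B₀ := ObjectProperty.homMk
    { app := fun T => TypeCat.ofHom fun _ => ⟨Over.homMk T.unop.hom (Category.comp_id _)⟩
      naturality := fun {T T'} g => by
        ext x
        exact ULift.ext _ _ (Over.OverMorphism.ext (Over.w g.unop).symm) }
  have hq : m ≫ q = 𝟙 _ := by
    obtain ⟨c, hc⟩ := (yon _).map_surjective (m ≫ q)
    rw [← hc, show c = 𝟙 _ from Over.OverMorphism.ext ((Category.comp_id c.left).symm.trans (Over.w c)),
      (yon _).map_id]
  have hci := Groth.Agent.GpdField.repWith_closedImmersion_of_section M.property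
    (Groth.Agent.SpQS.isDecent_of_quasiSeparatedSp M.property hM) m q hq
  refine ⟨AlgSp.Points.isOpen_iff.2 fun T g => ?_⟩
  rw [Set.preimage_compl]
  refine IsClosed.isOpen_compl (self := ?_)
  obtain ⟨P, fst, pr, sq, hpr⟩ := AlgSpLib.exists_repWith hci g
  obtain ⟨f₁, rfl⟩ := AlgSpLib.exists_map_eq fst
  haveI : IsClosedImmersion pr.left := hpr
  have e : AlgSp.Points.ofPt g ⁻¹' {AlgSp.Points.ofPt m t} = Set.range pr.left.base := by
    ext s
    constructor
    · intro hs
      obtain ⟨w, -, hw⟩ := (AlgSpLib.ofPt_eq_iff sq t s).1 (Set.mem_singleton_iff.1 hs).symm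
      exact ⟨w, hw⟩
    · rintro ⟨w, rfl⟩
      refine Set.mem_singleton_iff.2 ((AlgSpLib.ofPt_eq_iff sq t _).2 ⟨w, ?_, rfl⟩).symm
      exact @Subsingleton.elim _ (inferInstanceAs (Subsingleton ↥(Spec (CommRingCat.of k)))) _ _
  rw [e]
  exact pr.left.isClosedEmbedding.isClosed_range

/-- Sections over the base with the same point are equal. -/
theorem section_eq_of_ofPt (m₁ m₂ : (yon _).obj B₀ ⟶ M.obj) (t : ↥(B₀).left)
    (e : AlgSp.Points.ofPt m₁ t = AlgSp.Points.ofPt m₂ t) : m₁ = m₂ := by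
  obtain ⟨K, α, β, l, h, -, -⟩ := AlgSpLib.exists_of_ofPt_eq e
  have hab : α = β := Over.OverMorphism.ext (((Category.comp_id α.left).symm.trans (Over.w α)).trans
    ((Category.comp_id β.left).symm.trans (Over.w β)).symm)
  rw [← hab] at h
  exact Groth.Agent.UnivInjMor.hom_ext_of_point M.property m₁ m₂ α l h

theorem toYon_obj (X : FibCat.overCat B₀ ⥤ᵇ AlgSt.ofSp M.obj) (A : (FibCat.overCat B₀).obj) :
    toYon (X.obj A) = (yon _).map (eqToHom (X.w_obj A) ≫ (show Over B₀ from A).hom ≫
      eqToHom (X.w_obj (topObj B₀)).symm) ≫ toYon (X.obj (topObj B₀)) := by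
  rw [← toYon_map (X.map (toTop A))]
  refine congrArg (fun q => (yon _).map q ≫ toYon (X.obj (topObj B₀))) ?_
  refine Over.OverMorphism.ext ?_
  refine (bmap_map X (toTop A)).trans ?_
  simp only [Over.comp_left, Over.eqToHom_left]
  rfl

/-- The point of a section at the top. -/
theorem ofChart_eq_stPts (X : FibCat.overCat B₀ ⥤ᵇ AlgSt.ofSp M.obj) (t : ↥(B₀).left) :
    AlgSt.Points.ofChart X t = stPts M.obj
      (AlgSp.Points.ofPt ((yon _).map (eqToHom (X.w_obj (topObj B₀)).symm) ≫ toYon (X.obj (topObj B₀))) t) := by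
  let str := (B₀).left.fromSpecResidueField t ≫ (B₀).hom
  let A : (FibCat.overCat B₀).obj :=
    (Over.mk (Over.homMk ((B₀).left.fromSpecResidueField t) rfl : Over.mk str ⟶ B₀) : Over B₀)
  refine AlgSt.Points.sound ⟨_, 𝟙 _, (?_ : X.obj A ⟶ (toFPt (AlgSp.FieldPt.ofPt _ t)).obj), trivial⟩
  refine eltHom (eqToHom (X.w_obj A)) ?_
  rw [toYon_obj X A]
  refine Eq.trans ?_ (((yon _).map_comp_assoc (eqToHom (X.w_obj A))
    ((show Over B₀ from A).hom ≫ eqToHom (X.w_obj (topObj B₀)).symm) _).symm)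
  refine congrArg ((yon _).map (eqToHom (X.w_obj A)) ≫ ·) ?_
  rw [(yon _).map_comp, Category.assoc]
  refine (AlgSp.J _).uliftYonedaEquiv.injective ?_
  refine (Equiv.apply_symm_apply _ _).trans ?_
  refine Eq.trans ?_ ((AlgSp.J _).uliftYonedaEquiv_naturality _ _)
  exact ((AlgSp.J _).map_uliftYonedaEquiv _ _).symm

/-- Functors out of the base with the same point are equal. -/
theorem functor_eq_of_point (X₁ X₂ : FibCat.overCat B₀ ⥤ᵇ AlgSt.ofSp M.obj) (t : ↥(B₀).left)
    (e : AlgSt.Points.ofChart X₁ t = AlgSt.Points.ofChart X₂ t) : X₁ = X₂ := by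
  rw [ofChart_eq_stPts, ofChart_eq_stPts] at e
  have hm := section_eq_of_ofPt _ _ t ((bijective_stPts _).1 e)
  refine functor_eq_of_secOf fun A => ?_
  have hy : ∀ X : FibCat.overCat B₀ ⥤ᵇ AlgSt.ofSp M.obj, (AlgSp.J _).uliftYonedaEquiv.symm (secOf X A) =
      (yon _).map (show Over B₀ from A).hom ≫
        ((yon _).map (eqToHom (X.w_obj (topObj B₀)).symm) ≫ toYon (X.obj (topObj B₀))) := fun X => by
    refine Eq.trans (?_ : _ = (yon _).map (eqToHom (base_eq X A).symm) ≫ toYon (X.obj A)) ?_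
    · refine (AlgSp.J _).uliftYonedaEquiv.injective ?_
      rw [Equiv.apply_symm_apply, ← GrothendieckTopology.uliftYonedaEquiv_naturality, toYon, Equiv.apply_symm_apply]
      rfl
    · rw [toYon_obj X A, ← Category.assoc, ← (yon _).map_comp, eqToHom_trans_assoc, eqToHom_refl, Category.id_comp,
        (yon _).map_comp, Category.assoc]
  exact (AlgSp.J _).uliftYonedaEquiv.symm.injective ((hy X₁).trans ((congrArg _ hm).trans (hy X₂).symm))

/-- Functors out of the base with the same image in the space. -/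
theorem isClosed_ofChart (hM : AlgSp.IsQuasiSeparatedSp M.obj) (X : FibCat.overCat B₀ ⥤ᵇ AlgSt.ofSp M.obj)
    (t : ↥(B₀).left) : IsClosed ({AlgSt.Points.ofChart X t} : Set (AlgSt.Points (AlgSt.ofSp M.obj))) := by
  rw [ofChart_eq_stPts, ← Set.image_singleton]
  exact (isHomeomorph_stPts M).isClosedMap _ (isClosed_ofPt_section hM _ t)

end Groth.Agent.RelGen
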