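import Mathlib
import Groth.Agent.RelGen.GMClosedPts
import Groth.Agent.RelGen.AffExact
import Groth.Agent.RelGen.KPoints

/-!
# Closures of points with the same image in a good moduli space
-/

universe u

open CategoryTheory CategoryTheory.Limits AlgebraicGeometry TopologicalSpace Opposite

set_option autoImplicit false
set_option backward.isDefEq.respectTransparency false
set_option backward.isDefEq.respectTransparency.types false
set_option linter.style.haveILetI false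

noncomputable section

namespace Groth.Agent.RelGen

open Groth.Agent.AlgStLib Groth.Agent.QDescent
open _root_.AlgSp _root_.AlgSt

variable {S : Scheme.{u}} {M : AlgSp.Space S} {k : Type u} [Field k] [IsAlgClosed k]

/-- Schemes etale and surjective over an algebraically closed field have a rational point. -/
theorem exists_section_of_etale {P : Scheme.{u}} (f : P ⟶ Spec (CommRingCat.of k)) [Etale f] [Surjective f] :
    ∃ σ : Spec (CommRingCat.of k) ⟶ P, σ ≫ f = 𝟙 _ := by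
  haveI : JacobsonSpace ↥P := LocallyOfFiniteType.jacobsonSpace f
  obtain ⟨j, -⟩ := f.surjective (IsLocalRing.closedPoint k)
  have hne : (closedPoints ↥P).Nonempty := by
    rw [← closure_nonempty_iff, closure_closedPoints]
    exact ⟨j, trivial⟩
  obtain ⟨c, hc⟩ := hne
  exact ⟨_, ((pointEquivClosedPoint f).symm ⟨c, hc⟩).2⟩

/-- Geometric points of algebraic spaces lift to affine etale charts. -/
theorem exists_lift_point_chart (t : Spec (CommRingCat.of k) ⟶ S) (y : (yon S).obj (Over.mk t) ⟶ M.obj) :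
    ∃ (E : AlgSp.EtOver M.obj) (l : Over.mk t ⟶ E.obj.left),
      IsAffine E.obj.left.left ∧ (yon S).map l ≫ E.obj.hom = y := by
  obtain ⟨U, π₀, hπ₁, hπ₂⟩ := M.property.atlas
  obtain ⟨P, fst, pr, sq, hpr⟩ := AlgSpLib.exists_repWith hπ₁ y
  obtain ⟨a₁, rfl⟩ := AlgSpLib.exists_map_eq fst
  haveI : Etale pr.left := hpr
  haveI : Surjective pr.left := hπ₂.2 _ _ pr sq
  obtain ⟨σ, hσ⟩ := exists_section_of_etale (show P.left ⟶ Spec (CommRingCat.of k) from pr.left)
  let σ' : Over.mk t ⟶ P := Over.homMk σ (by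
    rw [← Over.w pr]
    exact (Category.assoc _ _ _).symm.trans ((congrArg (· ≫ t) hσ).trans (Category.id_comp t)))
  have hσ' : σ' ≫ pr = 𝟙 _ := Over.OverMorphism.ext hσ
  let c := (σ' ≫ a₁).left
  obtain ⟨O, hO, hcO, -⟩ := exists_isAffineOpen_mem_and_subset (X := U.left)
    (x := c.base (IsLocalRing.closedPoint k)) (U := ⊤) trivial
  have hr : Set.range c.base ⊆ Set.range O.ι.base := by
    rintro _ ⟨s, rfl⟩
    rw [Scheme.Opens.range_ι]
    exact (@Subsingleton.elim _ (inferInstanceAs (Subsingleton ↥(Spec (CommRingCat.of k)))) s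
      (IsLocalRing.closedPoint k)) ▸ hcO
  let V : Over S := Over.mk (O.ι ≫ U.hom)
  let jV : V ⟶ U := Over.homMk O.ι rfl
  let E : AlgSp.EtOver M.obj := AlgSp.EtOver.mk ((yon S).map jV ≫ π₀)
    (AlgSpLib.repWith_comp ((AlgSpLib.repWith_yon_iff (P := @Etale) _).2 (inferInstanceAs (Etale O.ι))) hπ₁)
  let l : Over.mk t ⟶ V := Over.homMk (IsOpenImmersion.lift O.ι c hr) (by
    show _ ≫ O.ι ≫ U.hom = t
    rw [IsOpenImmersion.lift_fac_assoc]
    exact Over.w (σ' ≫ a₁))
  have hl : l ≫ jV = σ' ≫ a₁ := Over.OverMorphism.ext (IsOpenImmersion.lift_fac _ _ hr)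
  refine ⟨E, l, hO, ?_⟩
  show (yon S).map l ≫ (yon S).map jV ≫ π₀ = y
  rw [← reassoc_of% ((yon S).map_comp l jV), hl, (yon S).map_comp, Category.assoc, sq.w,
    ← reassoc_of% ((yon S).map_comp σ' pr), hσ', (yon S).map_id, Category.id_comp]

variable [QuasiSeparatedSpace ↥S] {𝒳 : AlgSt.Cat S}

local notation "AS" => IsAlgStack Scheme.fppfPrecoverage

/-- Global sections are exact over geometric points of good moduli spaces. -/
theorem gExact_point (h𝒳 : AS 𝒳) (hM : AlgSp.IsQuasiSeparatedSp M.obj) (π : 𝒳 ⥤ᵇ AlgSt.ofSp M.obj)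
    (h : StMod.IsCohAffine π) {t : Spec (CommRingCat.of k) ⟶ S}
    (X : FibCat.overCat (Over.mk t) ⥤ᵇ AlgSt.ofSp M.obj) :
    GExact (StMod.fibCat π (X.obj (topObj _))) := by
  let η := X.obj (topObj (Over.mk t))
  have hb : η.base = Over.mk t := X.w_obj _
  obtain ⟨E, l, hE, hl⟩ := exists_lift_point_chart t ((yon S).map (eqToHom hb.symm) ≫ toYon η)
  let ψ : η ⟶ StMod.etaOf E := eltHom (eqToHom hb ≫ l) (by
    rw [toYon_etaOf, (yon S).map_comp, Category.assoc, hl, ← reassoc_of% ((yon S).map_comp _ _),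
      eqToHom_trans, eqToHom_refl, (yon S).map_id, Category.id_comp])
  haveI : IsAffine (StMod.sch (AlgSt.ofSp M.obj) η) := by
    show IsAffine η.base.left
    rw [hb]
    exact inferInstanceAs (IsAffine (Spec (CommRingCat.of k)))
  haveI : IsAffine (StMod.sch (AlgSt.ofSp M.obj) (StMod.etaOf E)) := hE
  haveI : IsAffineHom (StMod.bmap (AlgSt.ofSp M.obj) ψ) := isAffineHom_of_isAffine _
  exact GExact.baseChange ψ h𝒳.isStack.1 (isAlgStack_ofSp M).isStack.1
    (gExact_fib_of_isCohAffine h𝒳 π h E hE (goodChartObj_of_qsSp hM E hE))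

theorem hom_eq_of_isHomLift {C : Type*} [Category C] {R : Cᵒᵖ ⥤ Type*} {A B : Stk.EltObj R} {T : C} {a : A ⟶ B}
    (h : (Stk.ofPsh R).p.IsHomLift (𝟙 T) a) : a.hom = eqToHom ((IsHomLift.domain_eq (Stk.ofPsh R).p (𝟙 T) a).trans
      (IsHomLift.codomain_eq (Stk.ofPsh R).p (𝟙 T) a).symm) := by
  refine (IsHomLift.fac' (Stk.ofPsh R).p (𝟙 T) a).trans ?_
  simp

/-- Geometric points with the same image have meeting closures in the fibre product over the base. -/
theorem closures_meet (h𝒳 : AS 𝒳) (hM : AlgSp.IsQuasiSeparatedSp M.obj) (π : 𝒳 ⥤ᵇ AlgSt.ofSp M.obj)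
    (hqc : AlgSt.IsQuasiCompactMor Scheme.fppfPrecoverage π) (hqs : AlgSt.IsQuasiSeparatedMor π)
    (h : StMod.IsGoodModuli π) (τ : 𝒳 ⥤ᵇ AlgSt.ofSch (Over.mk (𝟙 S))) {t : Spec (CommRingCat.of k) ⟶ S}
    (g : (yon S).obj (Over.mk t) ⟶ (yon S).obj (Over.mk (𝟙 S)))
    (x₁ x₂ : FibCat.overCat (Over.mk t) ⥤ᵇ 𝒳)
    (e₁ : BasedFunctor.comp x₁ τ ≅ BasedFunctor.comp (AlgSt.ofOverCat (Over.mk t)) (AlgSt.ofSpMap g))
    (e₂ : BasedFunctor.comp x₂ τ ≅ BasedFunctor.comp (AlgSt.ofOverCat (Over.mk t)) (AlgSt.ofSpMap g))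
    (t₀ : ↥(Spec (CommRingCat.of k))) (hX : BasedFunctor.comp x₁ π = BasedFunctor.comp x₂ π) :
    (closure {AlgSt.Points.ofChart (FibCat.fpLift x₁ (AlgSt.ofOverCat (Over.mk t)) e₁) t₀} ∩
      closure {AlgSt.Points.ofChart (FibCat.fpLift x₂ (AlgSt.ofOverCat (Over.mk t)) e₂) t₀}).Nonempty := by
  by_contra hne
  rw [Set.not_nonempty_iff_eq_empty, ← Set.disjoint_iff_inter_eq_empty] at hne
  let X := BasedFunctor.comp x₁ π
  have hMs := isAlgStack_ofSp M
  have hT := isAlgStack_overCat (S := S) (Over.mk t)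
  have hY := isAlgStack_spOf (S := S) (Over.mk t)
  have hB : AS (AlgSt.ofSch (Over.mk (𝟙 S))) := isAlgStack_spOf (S := S) (Over.mk (𝟙 S))
  have hW : AS (FibCat.fp X π) := algFp hMs hT h𝒳 X π
  let Θ : FibCat.fp X π ⥤ᵇ FibCat.fp τ (AlgSt.ofSpMap g) :=
    FibCat.fpLift (FibCat.fpSnd X π) (BasedFunctor.comp (FibCat.fpFst X π) (AlgSt.ofOverCat (Over.mk t)))
      (eqToIso (toBase_eq _ _))
  have key : ∀ (x : FibCat.overCat (Over.mk t) ⥤ᵇ 𝒳)
      (e : BasedFunctor.comp x τ ≅ BasedFunctor.comp (AlgSt.ofOverCat (Over.mk t)) (AlgSt.ofSpMap g))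
      (hx : X = BasedFunctor.comp x π),
      ∃ w : AlgSt.Points (FibCat.fp X π),
        AlgSt.Points.map Θ w = AlgSt.Points.ofChart (FibCat.fpLift x (AlgSt.ofOverCat (Over.mk t)) e) t₀ ∧
        AlgSt.Points.map (FibCat.fpFst X π) w = AlgSt.Points.ofChart (BasedFunctor.id _) t₀ := fun x e hx => by
    let lx : FibCat.overCat (Over.mk t) ⥤ᵇ FibCat.fp X π :=
      FibCat.fpLift (BasedFunctor.id _) x (eqToIso hx)
    refine ⟨AlgSt.Points.ofChart lx t₀, ?_, ?_⟩
    · rw [map_ofChart]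
      refine ofChart_congr (U := Over.mk t) (Φ := BasedFunctor.comp lx Θ) (Ψ := FibCat.fpLift x (AlgSt.ofOverCat (Over.mk t)) e) (BasedNatIso.mkNatIso (NatIso.ofComponents (fun w => ObjectProperty.isoMk _
        (CategoricalPullback.mkIso (Iso.refl _) (Iso.refl _) ?_)) (fun {w w'} c => ?_)) fun w => ?_) t₀
      · have h1 := ((BasedFunctor.comp lx Θ).obj w).property
        have h2 := ((FibCat.fpLift x (AlgSt.ofOverCat (Over.mk t)) e).obj w).property
        simp only [Iso.refl_hom, CategoryTheory.Functor.map_id, Category.id_comp, Category.comp_id]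
        exact Stk.EltObj.hom_ext ((hom_eq_of_isHomLift h2).trans (hom_eq_of_isHomLift h1).symm)
      · ext
        · exact (Category.comp_id _).trans (Category.id_comp _).symm
        · exact (Category.comp_id _).trans (Category.id_comp _).symm
      · refine IsHomLift.of_fac' _ _ _ (x.w_obj w) (x.w_obj w) ?_
        refine (𝒳.p.map_id (x.obj w)).trans ?_
        simp
        rfl
    · rw [map_ofChart]
      rfl
  let o : (FibCat.overCat (Over.mk t)).obj := topObj _
  haveI hoa : IsAffine (StMod.sch (AlgSt.ofSp M.obj) (X.obj o)) := by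
    show IsAffine (X.obj o).base.left
    rw [show (X.obj o).base = Over.mk t from X.w_obj _]
    exact inferInstanceAs (IsAffine (Spec (CommRingCat.of k)))
  obtain ⟨z₀, i₀, h₀, hi₀⟩ := exists_chartAt hT.isStack.1 o
  have hd := disjoint_preimage_image h𝒳 hMs hT hW (gExact_point h𝒳 hM π h.1 X)
    (unitBij_affObj h𝒳 hM π hqc hqs h _ hoa)
    (isQC_fibCat_of_qc h𝒳 hMs π hqc _ hoa) (isQS_fibCat_of_diag h𝒳.isStack.1 hMs.isStack.1 π hqs _ hoa)
    ((isClosed_closure (s := {AlgSt.Points.ofChart (FibCat.fpLift x₁ (AlgSt.ofOverCat (Over.mk t)) e₁) t₀})).preimage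
      (continuous_map (algFp hB h𝒳 hY τ (AlgSt.ofSpMap g)) Θ))
    ((isClosed_closure (s := {AlgSt.Points.ofChart (FibCat.fpLift x₂ (AlgSt.ofOverCat (Over.mk t)) e₂) t₀})).preimage
      (continuous_map (algFp hB h𝒳 hY τ (AlgSt.ofSpMap g)) Θ))
    (hne.preimage _) z₀ i₀ h₀ hi₀
  obtain ⟨p, hp⟩ := AlgSt.Points.mk_surjective (AlgSt.Points.ofChart (BasedFunctor.id (FibCat.overCat (Over.mk t))) t₀)
  obtain ⟨s⟩ := nonempty_pt p
  have hp' := hp.symm.trans (mk_eq_ofChart hT.isStack.1 p (toTop p.obj) z₀ i₀ h₀ hi₀ s)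
  obtain ⟨w₁, hw₁, hw₁'⟩ := key x₁ e₁ rfl
  obtain ⟨w₂, hw₂, hw₂'⟩ := key x₂ e₂ hX
  refine Set.disjoint_iff.1 hd (show (StMod.bmap _ (toTop p.obj)).base s ∈ _ ∩ _ from
    ⟨⟨w₁, ?_, hw₁'.trans hp'⟩, ⟨w₂, ?_, hw₂'.trans hp'⟩⟩)
  · show AlgSt.Points.map Θ w₁ ∈ closure _
    rw [hw₁]
    exact subset_closure rfl
  · show AlgSt.Points.map Θ w₂ ∈ closure _
    rw [hw₂]
    exact subset_closure rfl

omit [QuasiSeparatedSpace ↥S] [IsAlgClosed k]

/-- A functor into the category of a presheaf from a natural family of sections. -/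
def funOfSec {C : Type*} [Category C] {R : Cᵒᵖ ⥤ Type*} {𝒵 : BasedCategory C} (σ : ∀ a, R.obj (op (𝒵.p.obj a)))
    (hσ : ∀ {a b : 𝒵.obj} (m : a ⟶ b), R.map (𝒵.p.map m).op (σ b) = σ a) : 𝒵 ⥤ᵇ Stk.ofPsh R where
  toFunctor :=
    { obj := fun a => ⟨𝒵.p.obj a, σ a⟩
      map := fun m => ⟨𝒵.p.map m, hσ m⟩
      map_id := fun a => Stk.EltObj.hom_ext (𝒵.p.map_id a)
      map_comp := fun m m' => Stk.EltObj.hom_ext (𝒵.p.map_comp m m') }
  w := rfl

variable {N : AlgSp.Space S} {B : Over S}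

/-- The section at the top of a functor out of an object of the base. -/
def topSec (X : FibCat.overCat B ⥤ᵇ AlgSt.ofSp N.obj) : (yon S).obj B ⟶ N.obj :=
  (yon S).map (eqToHom (X.w_obj (topObj B)).symm) ≫ toYon (X.obj (topObj B))

theorem toYon_obj_topSec (X : FibCat.overCat B ⥤ᵇ AlgSt.ofSp N.obj) (A : (FibCat.overCat B).obj) :
    toYon (X.obj A) = (yon S).map (eqToHom (X.w_obj A) ≫ (show Over B from A).hom) ≫ topSec X := by
  rw [topSec, ← Category.assoc, ← (yon S).map_comp, ← toYon_map (X.map (toTop A))]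
  refine congrArg (fun q => (yon S).map q ≫ toYon (X.obj (topObj B))) ?_
  refine Over.OverMorphism.ext ?_
  refine (bmap_map X (toTop A)).trans ?_
  simp only [Over.comp_left, Over.eqToHom_left, Category.assoc]
  rfl

/-- The point of a functor out of an object of the base. -/
theorem ofChart_eq_stPts_topSec (X : FibCat.overCat B ⥤ᵇ AlgSt.ofSp N.obj) (t : ↥B.left) :
    AlgSt.Points.ofChart X t = stPts N.obj (AlgSp.Points.ofPt (topSec X) t) := by
  let str := B.left.fromSpecResidueField t ≫ B.hom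
  let A : (FibCat.overCat B).obj :=
    (Over.mk (Over.homMk (B.left.fromSpecResidueField t) rfl : Over.mk str ⟶ B) : Over B)
  refine AlgSt.Points.sound ⟨_, 𝟙 _, (?_ : X.obj A ⟶ (toFPt (AlgSp.FieldPt.ofPt _ t)).obj), trivial⟩
  refine eltHom (eqToHom (X.w_obj A)) ?_
  rw [toYon_obj_topSec X A, (yon S).map_comp, Category.assoc]
  refine congrArg ((yon S).map (eqToHom (X.w_obj A)) ≫ ·) ?_
  refine (AlgSp.J S).uliftYonedaEquiv.injective ?_
  refine (Equiv.apply_symm_apply _ _).trans ?_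
  refine Eq.trans ?_ ((AlgSp.J S).uliftYonedaEquiv_naturality _ _)
  exact ((AlgSp.J S).map_uliftYonedaEquiv _ _).symm

theorem symm_secOf {𝒵 : AlgSt.Cat S} (X : 𝒵 ⥤ᵇ AlgSt.ofSp N.obj) (a : 𝒵.obj) :
    (AlgSp.J S).uliftYonedaEquiv.symm (secOf X a) =
      (yon S).map (eqToHom (base_eq X a).symm) ≫ toYon (X.obj a) := by
  refine (AlgSp.J S).uliftYonedaEquiv.injective ?_
  rw [Equiv.apply_symm_apply, ← GrothendieckTopology.uliftYonedaEquiv_naturality, toYon, Equiv.apply_symm_apply]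
  rfl

/-- Functors out of an object of the base are determined by the section at the top. -/
theorem functor_eq_of_topSec (X₁ X₂ : FibCat.overCat B ⥤ᵇ AlgSt.ofSp N.obj) (h : topSec X₁ = topSec X₂) :
    X₁ = X₂ := by
  refine functor_eq_of_secOf fun A => ?_
  have hy : ∀ X : FibCat.overCat B ⥤ᵇ AlgSt.ofSp N.obj, (AlgSp.J S).uliftYonedaEquiv.symm (secOf X A) =
      (yon S).map (show Over B from A).hom ≫ topSec X := fun X => by
    rw [symm_secOf, toYon_obj_topSec, ← Category.assoc, ← (yon S).map_comp, eqToHom_trans_assoc, eqToHom_refl,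
      Category.id_comp]
  exact (AlgSp.J S).uliftYonedaEquiv.symm.injective ((hy X₁).trans ((congrArg _ h).trans (hy X₂).symm))

/-- Geometric points with meeting closures have the same image. -/
theorem comp_eq_of_closures_meet (hM : AlgSp.IsQuasiSeparatedSp M.obj) (π : 𝒳 ⥤ᵇ AlgSt.ofSp M.obj)
    (τ : 𝒳 ⥤ᵇ AlgSt.ofSch (Over.mk (𝟙 S))) {t : Spec (CommRingCat.of k) ⟶ S}
    (g : (yon S).obj (Over.mk t) ⟶ (yon S).obj (Over.mk (𝟙 S)))
    (x₁ x₂ : FibCat.overCat (Over.mk t) ⥤ᵇ 𝒳)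
    (e₁ : BasedFunctor.comp x₁ τ ≅ BasedFunctor.comp (AlgSt.ofOverCat (Over.mk t)) (AlgSt.ofSpMap g))
    (e₂ : BasedFunctor.comp x₂ τ ≅ BasedFunctor.comp (AlgSt.ofOverCat (Over.mk t)) (AlgSt.ofSpMap g))
    (t₀ : ↥(Spec (CommRingCat.of k)))
    (hz : (closure {AlgSt.Points.ofChart (FibCat.fpLift x₁ (AlgSt.ofOverCat (Over.mk t)) e₁) t₀} ∩
      closure {AlgSt.Points.ofChart (FibCat.fpLift x₂ (AlgSt.ofOverCat (Over.mk t)) e₂) t₀}).Nonempty) :
    BasedFunctor.comp x₁ π = BasedFunctor.comp x₂ π := by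
  let q := Groth.Agent.SpQS.baseStr M.obj
  let W := pullback q g
  let pr : W ⟶ (yon S).obj (Over.mk t) := pullback.snd q g
  have sqW : IsPullback (pullback.fst q g) pr q g := IsPullback.of_hasPullback q g
  have hW : IsAlgSpace W := AlgSpLib.isAlgSpace_of_isPullback_space (IsAlgSpace.yon_obj _) M.property
    (IsAlgSpace.yon_obj _) sqW
  have hdW : IsDecent W := Groth.Agent.SpQS.isDecent_of_isDecentMor pr
    (Groth.Agent.SpQS.isDecentMor_of_qs hW (IsAlgSpace.yon_obj _) pr (AlgSpLib.isQuasiSeparatedMor_baseChange sqW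
      ((Groth.Agent.SpQS.isQuasiSeparatedSp_iff_mor q).1 hM))) (Groth.Agent.SpQS.isDecent_yon _)
  let Ws : AlgSp.Space S := ⟨W, hW⟩
  let P₁ := BasedFunctor.comp (FibCat.fpFst τ (AlgSt.ofSpMap g)) π
  let P₂ := FibCat.fpSnd τ (AlgSt.ofSpMap g)
  let σ : ∀ a : (FibCat.fp τ (AlgSt.ofSpMap g)).obj,
      (yon S).obj ((FibCat.fp τ (AlgSt.ofSpMap g)).p.obj a) ⟶ W := fun a =>
    pullback.lift ((AlgSp.J S).uliftYonedaEquiv.symm (secOf P₁ a)) ((AlgSp.J S).uliftYonedaEquiv.symm (secOf P₂ a))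
      (Groth.Agent.SpQS.isTerminalBase.hom_ext _ _)
  let Φ : FibCat.fp τ (AlgSt.ofSpMap g) ⥤ᵇ AlgSt.ofSp Ws.obj :=
    funOfSec (fun a => (AlgSp.J S).uliftYonedaEquiv (σ a)) fun {a b} m => by
      refine ((AlgSp.J S).uliftYonedaEquiv_naturality (σ b) _).trans (congrArg _ ?_)
      apply pullback.hom_ext <;> simp only [σ, Category.assoc, pullback.lift_fst, pullback.lift_snd] <;>
        rw [← secOf_map _ m] <;> exact ((AlgSp.J S).uliftYonedaEquiv_symm_map _ _).symm
  have hsec : ∀ (x : FibCat.overCat (Over.mk t) ⥤ᵇ 𝒳)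
      (e : BasedFunctor.comp x τ ≅ BasedFunctor.comp (AlgSt.ofOverCat (Over.mk t)) (AlgSt.ofSpMap g)),
      let L := BasedFunctor.comp (FibCat.fpLift x (AlgSt.ofOverCat (Over.mk t)) e) Φ
      topSec L ≫ pr = 𝟙 _ ∧ topSec L ≫ pullback.fst q g = topSec (BasedFunctor.comp x π) := fun x e => by
    intro L
    have hT : topSec L = (yon S).map (eqToHom (L.w_obj (topObj (Over.mk t))).symm) ≫
        σ ((FibCat.fpLift x (AlgSt.ofOverCat (Over.mk t)) e).obj (topObj _)) :=
      congrArg ((yon S).map (eqToHom (L.w_obj (topObj (Over.mk t))).symm) ≫ ·) ((Equiv.symm_apply_apply _ _))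
    refine ⟨?_, ?_⟩
    · rw [hT, Category.assoc, pullback.lift_snd, symm_secOf (N := ⟨_, IsAlgSpace.yon_obj (Over.mk t)⟩) P₂]
      rw [← Category.assoc, ← (yon S).map_comp, eqToHom_trans]
      have h1 : toYon ((AlgSt.ofOverCat (Over.mk t)).obj (topObj (Over.mk t))) = (yon S).map (𝟙 (Over.mk t)) := by
        refine (AlgSp.J S).uliftYonedaEquiv.injective ?_
        refine (Equiv.apply_symm_apply _ _).trans ?_
        rfl
      refine (congrArg (_ ≫ ·) h1).trans ?_
      refine ((yon S).map_comp _ _).symm.trans ?_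
      exact (congrArg (yon S).map (Category.comp_id _)).trans ((yon S).map_id _)
    · rw [hT, Category.assoc, pullback.lift_fst, symm_secOf P₁, ← Category.assoc, ← (yon S).map_comp, eqToHom_trans]
      rfl
  have hcl : ∀ (m : (yon S).obj (Over.mk t) ⟶ W), m ≫ pr = 𝟙 _ →
      IsClosed ({AlgSp.Points.ofPt m t₀} : Set (AlgSp.Points W)) := fun m hm => by
    have hci := Groth.Agent.GpdField.repWith_closedImmersion_of_section hW hdW m pr hm
    refine ⟨AlgSp.Points.isOpen_iff.2 fun T g' => ?_⟩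
    rw [Set.preimage_compl]
    refine IsClosed.isOpen_compl (self := ?_)
    obtain ⟨P, fst, pr', sq, hpr⟩ := AlgSpLib.exists_repWith hci g'
    obtain ⟨f₁, rfl⟩ := AlgSpLib.exists_map_eq fst
    haveI : IsClosedImmersion pr'.left := hpr
    have e : AlgSp.Points.ofPt g' ⁻¹' {AlgSp.Points.ofPt m t₀} = Set.range pr'.left.base := by
      ext s
      constructor
      · intro hs
        obtain ⟨w, -, hw⟩ := (AlgSpLib.ofPt_eq_iff sq t₀ s).1 (Set.mem_singleton_iff.1 hs).symm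
        exact ⟨w, hw⟩
      · rintro ⟨w, rfl⟩
        refine Set.mem_singleton_iff.2 ((AlgSpLib.ofPt_eq_iff sq t₀ _).2 ⟨w, ?_, rfl⟩).symm
        exact @Subsingleton.elim _ (inferInstanceAs (Subsingleton ↥(Spec (CommRingCat.of k)))) _ _
    rw [e]
    exact pr'.left.isClosedEmbedding.isClosed_range
  let L₁ := BasedFunctor.comp (FibCat.fpLift x₁ (AlgSt.ofOverCat (Over.mk t)) e₁) Φ
  let L₂ := BasedFunctor.comp (FibCat.fpLift x₂ (AlgSt.ofOverCat (Over.mk t)) e₂) Φ
  obtain ⟨z, hz₁, hz₂⟩ := hz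
  have hWs := isAlgStack_ofSp Ws
  have himg : ∀ (x : FibCat.overCat (Over.mk t) ⥤ᵇ 𝒳)
      (e : BasedFunctor.comp x τ ≅ BasedFunctor.comp (AlgSt.ofOverCat (Over.mk t)) (AlgSt.ofSpMap g)),
      z ∈ closure {AlgSt.Points.ofChart (FibCat.fpLift x (AlgSt.ofOverCat (Over.mk t)) e) t₀} →
      AlgSt.Points.map Φ z = stPts W (AlgSp.Points.ofPt
        (topSec (BasedFunctor.comp (FibCat.fpLift x (AlgSt.ofOverCat (Over.mk t)) e) Φ)) t₀) := fun x e hx => by
    have h1 : IsClosed ({stPts W (AlgSp.Points.ofPt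
        (topSec (BasedFunctor.comp (FibCat.fpLift x (AlgSt.ofOverCat (Over.mk t)) e) Φ)) t₀)} :
        Set (AlgSt.Points (AlgSt.ofSp Ws.obj))) := by
      rw [← Set.image_singleton]
      exact (isHomeomorph_stPts Ws).isClosedMap _ (hcl _ (hsec x e).1)
    refine Set.mem_singleton_iff.1 ((closure_minimal ?_ (h1.preimage (continuous_map hWs Φ))) hx)
    rintro _ rfl
    refine Set.mem_singleton_iff.2 ?_
    rw [map_ofChart]
    exact ofChart_eq_stPts_topSec (N := Ws) _ _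
  have hpt := (bijective_stPts _).1 ((himg x₁ e₁ hz₁).symm.trans (himg x₂ e₂ hz₂))
  obtain ⟨K, α, β, l, h, -, -⟩ := AlgSpLib.exists_of_ofPt_eq hpt
  have hab : α = β := (yon S).map_injective (by
    have h' := congrArg (fun z => z ≫ pr) h
    simpa only [Category.assoc, (hsec x₁ e₁).1, (hsec x₂ e₂).1, Category.comp_id] using h')
  rw [← hab] at h
  have hm := Groth.Agent.UnivInjMor.hom_ext_of_point hW _ _ α l h
  refine functor_eq_of_topSec _ _ ?_
  rw [← (hsec x₁ e₁).2, hm, (hsec x₂ e₂).2]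

end Groth.Agent.RelGen
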