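import Mathlib
import Groth.Agent.RelGen.SEquiv
import Groth.Agent.RelGen.GMUnivClosed
import Groth.Agent.RelGen.AffExact
import Groth.Agent.RelGen.AffComp
import Groth.Agent.AlgStLib.RedSub
import Groth.Agent.AlgStLib.Noeth
import Groth.Agent.AlgStLib.ResGerbe
import Groth.Agent.SpQS.RedInduced
import Groth.Agent.SpQS.DecentPoint
import Groth.Agent.AlgSpLib.PointMisc
import Groth.Agent.EtInvariance.ThickProps

/-!
# Morphisms into spaces with image a closed point, and exactness of global sections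
-/

universe u

open CategoryTheory CategoryTheory.Limits AlgebraicGeometry TopologicalSpace Opposite

set_option autoImplicit false
set_option backward.isDefEq.respectTransparency false
set_option backward.isDefEq.respectTransparency.types false
set_option linter.style.haveILetI false

noncomputable section

namespace Groth.Agent.RelGen

open Groth.Agent.AlgStLib Groth.Agent.QDescent
open _root_.AlgSp _root_.AlgSt

variable {S : Scheme.{u}} {𝒳 : AlgSt.Cat S} {M : AlgSp.Space S}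

local notation "AS" => IsAlgStack Scheme.fppfPrecoverage

theorem topSec_congr {B : Over S} {X Y : FibCat.overCat B ⥤ᵇ AlgSt.ofSp M.obj} (i : X ≅ Y) : topSec X = topSec Y := by
  unfold topSec
  rw [← symm_secOf X (topObj B), ← symm_secOf Y (topObj B), secOf_congr i]

theorem topSec_comp {W U : Over S} (x' : FibCat.overCat W ⥤ᵇ FibCat.overCat U)
    (X : FibCat.overCat U ⥤ᵇ AlgSt.ofSp M.obj) :
    topSec (BasedFunctor.comp x' X) =
      (yon S).map (eqToHom (x'.w_obj (topObj W)).symm ≫ (show Over U from x'.obj (topObj W)).hom) ≫ topSec X := by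
  show (yon S).map (eqToHom ((BasedFunctor.comp x' X).w_obj (topObj W)).symm) ≫ toYon (X.obj (x'.obj (topObj W))) = _
  rw [toYon_obj_topSec, ← Category.assoc, ← (yon S).map_comp, eqToHom_trans_assoc]

/-- Surjective universally closed morphisms are closed on points. -/
theorem isClosedMap_points {𝒴 : AlgSt.Cat S} (h𝒳 : AS 𝒳) (h𝒴 : AS 𝒴) (f : 𝒳 ⥤ᵇ 𝒴)
    (hf : AlgSt.IsUnivClosed Scheme.fppfPrecoverage f) : IsClosedMap (AlgSt.Points.map f) := fun C hC => by
  let P := FibCat.fp (BasedFunctor.id 𝒴) f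
  have hP : AS P := algFp h𝒴 h𝒴 h𝒳 _ f
  have e : AlgSt.Points.map f '' C = AlgSt.Points.map (FibCat.fpFst (BasedFunctor.id 𝒴) f) ''
      (AlgSt.Points.map (FibCat.fpSnd (BasedFunctor.id 𝒴) f) ⁻¹' C) := by
    refine Set.Subset.antisymm ?_ ?_
    · rintro _ ⟨p, hp, rfl⟩
      refine ⟨AlgSt.Points.map (FibCat.fpLift f (BasedFunctor.id 𝒳) (Iso.refl _) : 𝒳 ⥤ᵇ P) p, ?_, ?_⟩
      · rw [Set.mem_preimage, ← map_comp_points]
        exact (map_id_points p).symm ▸ hp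
      · rw [← map_comp_points]
        rfl
    · rintro _ ⟨w, hw, rfl⟩
      refine ⟨_, hw, ?_⟩
      rw [← map_comp_points, ← map_congr_points (FibCat.fpIso (BasedFunctor.id 𝒴) f), map_comp_points, map_id_points]
  rw [e]
  exact hf 𝒴 h𝒴 _ _ (hC.preimage (continuous_map h𝒳 _))

/-- A functor whose image lies in a closed subscheme and whose source is reduced factors through it. -/
theorem exists_factor_closed (h𝒳 : AS 𝒳) (hred : AlgSt.SmoothLocally (fun T => IsReduced T) 𝒳)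
    (j : 𝒳 ⥤ᵇ AlgSt.ofSp M.obj) {B : Over S} (z₀ : (yon S).obj B ⟶ M.obj) (hz : RepWith @IsClosedImmersion z₀)
    (hr : ∀ p, AlgSt.Points.map j p ∈ stPts M.obj '' Set.range (AlgSp.Points.map z₀)) (g : 𝒳.obj) :
    ∃ l : (j.obj g).base ⟶ B, (yon S).map l ≫ z₀ = toYon (j.obj g) := by
  obtain ⟨U, x, hxs, hxj⟩ := h𝒳.atlas
  haveI : IsReduced U.left := hred U x hxs
  have hfac : ∀ {T : Over S} (X : FibCat.overCat T ⥤ᵇ 𝒳),
      IsReduced T.left → ∃ l : T ⟶ B, (yon S).map l ≫ z₀ = topSec (BasedFunctor.comp X j) := fun {T} X hT => by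
    obtain ⟨P, fst, pr, sq, hpr⟩ := AlgSpLib.exists_repWith hz (topSec (BasedFunctor.comp X j))
    obtain ⟨a, rfl⟩ := AlgSpLib.exists_map_eq fst
    haveI : IsClosedImmersion pr.left := hpr
    haveI := hT
    haveI : Surjective pr.left := ⟨fun s => by
      obtain ⟨q, ⟨b, rfl⟩, hq⟩ := hr (AlgSt.Points.ofChart X s)
      rw [map_ofChart, ofChart_eq_stPts_topSec] at hq
      obtain ⟨⟨b, rfl⟩⟩ : Nonempty {b' : ↥B.left // AlgSp.Points.ofScheme B b' = b} := by
        obtain ⟨b', hb'⟩ := (AlgSp.Points.schemeEquiv B).surjective b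
        exact ⟨⟨b', hb'⟩⟩
      have hq' : AlgSp.Points.ofPt z₀ b = AlgSp.Points.ofPt (topSec (BasedFunctor.comp X j)) s := by
        refine Eq.trans ?_ ((bijective_stPts _).1 hq)
        show _ = AlgSp.Points.map z₀ (AlgSp.Points.ofPt (𝟙 _) b)
        rw [AlgSp.Points.map_ofPt, Category.id_comp]
      obtain ⟨w, -, hw⟩ := (AlgSpLib.ofPt_eq_iff sq b s).1 hq'
      exact ⟨w, hw⟩⟩
    haveI : IsIso pr.left := isIso_of_isClosedImmersion_of_surjective _
    haveI : IsIso pr := by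
      haveI : IsIso ((Over.forget S).map pr) := inferInstanceAs (IsIso pr.left)
      exact isIso_of_reflects_iso pr (Over.forget S)
    exact ⟨inv pr ≫ a, by rw [(yon S).map_comp, Category.assoc, sq.w, Functor.map_inv, IsIso.inv_hom_id_assoc]⟩
  obtain ⟨lU, hlU⟩ := hfac x inferInstance
  obtain ⟨z, i, h, hi⟩ := exists_chartAt h𝒳.isStack.1 g
  let X := BasedFunctor.comp z j
  obtain ⟨P, fst, pr, sq, hpr⟩ := AlgSpLib.exists_repWith hz (topSec X)
  obtain ⟨a, rfl⟩ := AlgSpLib.exists_map_eq fst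
  haveI : IsClosedImmersion pr.left := hpr
  have hO := isAlgStack_overCat U
  obtain ⟨m, hm⟩ := exists_factor_of_flat_family pr.left (𝟙 _) fun t => by
    obtain ⟨W, γ, hγ, -, ⟨s, hs⟩, x', ⟨i'⟩⟩ := exists_lift_at h𝒳 hO x
      (locQ_of_repWith st_flat cls_flat.bc cls_flat.loc hO h𝒳 (repWith_flat_of_smooth hxs))
      (locQ_of_repWith st_lfp cls_lfp.bc cls_lfp.loc hO h𝒳 (repWith_lfp_of_smooth hxs)) z t
      (isSurjective_of_repWith hO.isStack.1 h𝒳.isStack.1 hxj _)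
    let c : W ⟶ B := (eqToHom (x'.w_obj (topObj W)).symm ≫ (show Over U from x'.obj (topObj W)).hom) ≫ lU
    have hc : (yon S).map c ≫ z₀ = (yon S).map γ ≫ topSec X := by
      rw [(yon S).map_comp, Category.assoc, hlU, ← topSec_comp]
      have e := topSec_congr (M := M) ((Groth.Agent.StkBasic.post _ j).mapIso i')
      refine e.trans ((topSec_comp (AlgSt.overMap γ) X).trans ?_)
      refine congrArg (fun q => (yon S).map q ≫ topSec X) (Over.OverMorphism.ext ?_)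
      simp [AlgSt.overMap, topObj]
    obtain ⟨m, hm⟩ := AlgSpLib.exists_map_eq (sq.lift ((yon S).map c) ((yon S).map γ) hc)
    refine ⟨W.left, γ.left, s, m.left, hγ, hs, ?_⟩
    have e2 : m ≫ pr = γ := (yon S).map_injective (by rw [(yon S).map_comp, hm, sq.lift_snd])
    rw [Category.comp_id]
    exact congrArg (fun q => q.left) e2
  let m' : 𝒳.p.obj g ⟶ P := Over.homMk m (by rw [← Over.w pr, ← Category.assoc, hm, Category.id_comp])
  have hm' : m' ≫ pr = 𝟙 _ := Over.OverMorphism.ext hm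
  refine ⟨eqToHom (j.w_obj g) ≫ m' ≫ a, ?_⟩
  rw [(yon S).map_comp, (yon S).map_comp, Category.assoc, Category.assoc, sq.w,
    ← reassoc_of% ((yon S).map_comp m' pr), hm', (yon S).map_id, Category.id_comp]
  rw [show topSec X = (yon S).map (eqToHom (X.w_obj (topObj _)).symm) ≫ toYon (j.obj (z.obj (topObj _))) from rfl,
    ← toYon_map (j.map i.inv), ← Category.assoc, ← (yon S).map_comp, eqToHom_trans]
  refine congrArg (fun q => (yon S).map q ≫ toYon (j.obj (z.obj (topObj _)))) ?_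
  refine Over.OverMorphism.ext ?_
  show _ = StMod.bmap (AlgSt.ofSp M.obj) (j.map i.inv)
  rw [bmap_map]
  rw [show StMod.bmap 𝒳 i.inv = eqToHom h.symm from by
    rw [← cancel_mono (StMod.bmap 𝒳 i.hom), ← StMod.bmap_comp, Iso.inv_hom_id, StMod.bmap_id, hi, eqToHom_trans, eqToHom_refl]]
  simp only [Over.comp_left, Over.eqToHom_left, eqToHom_trans, eqToHom_trans_assoc, Category.assoc]

/-- Sections of the relative direct image over a terminal object are global sections. -/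
theorem surjAt_of_gExact_terminal {Q : AlgSt.Cat S} (h𝒳 : FibCat.IsFibGrpd 𝒳.p) (π : 𝒳 ⥤ᵇ Q) (η : Q.obj)
    (α : ∀ g : 𝒳.obj, π.obj g ⟶ η) (hα : ∀ {g} (β : π.obj g ⟶ η), β = α g) (hG : GExact 𝒳)
    {F G : StMod.QCoh 𝒳} (u : F ⟶ G) (hu : StMod.Mod.IsSurj u.hom) : SurjAt π η u := by
  intro t
  obtain ⟨φ, hφ⟩ := exists_sect (M := G) h𝒳 (fun x _ => t.1 x (α x)) fun {x' x} c _ _ =>
    (trT_eq_map G.obj c _).trans ((t.2 c (α x)).trans (congrArg (t.1 x') (hα _)))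
  obtain ⟨φ', hφ'⟩ := hG u hu φ
  refine ⟨⟨fun ξ _ => (φ'.hom.app ξ).app ⊤ (oneSec 𝒳 ξ), fun ξ' ξ c _ =>
    (trT_eq_map F.obj c _).symm.trans (trT_app_oneSec φ' c)⟩, relSect_ext_aff G h𝒳 fun x hx => ?_⟩
  have h1 := congrArg (fun k : StMod.OQ 𝒳 ⟶ G => (k.hom.app x.left).app ⊤ (oneSec 𝒳 x.left)) hφ'
  exact h1.trans ((hφ x.left hx).trans (congrArg (t.1 x.left) (hα x.hom).symm))

/-- Exactness of global sections from surjectivity over a terminal object. -/
theorem gExact_of_surjAt_terminal {Q : AlgSt.Cat S} (h𝒳 : FibCat.IsFibGrpd 𝒳.p) (π : 𝒳 ⥤ᵇ Q) (η : Q.obj)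
    (α : ∀ g : 𝒳.obj, π.obj g ⟶ η) (hα : ∀ {g} (β : π.obj g ⟶ η), β = α g)
    (hs : ∀ ⦃F G : StMod.QCoh 𝒳⦄ (u : F ⟶ G), StMod.Mod.IsSurj u.hom → SurjAt π η u) : GExact 𝒳 := by
  intro F G u hu φ
  obtain ⟨s, hs'⟩ := hs u hu ⟨fun ξ _ => (φ.hom.app ξ).app ⊤ (oneSec 𝒳 ξ), fun ξ' ξ c _ =>
    (trT_eq_map G.obj c _).symm.trans (trT_app_oneSec φ c)⟩
  obtain ⟨φ', hφ'⟩ := exists_sect (M := F) h𝒳 (fun x _ => s.1 x (α x)) fun {x' x} c _ _ =>
    (trT_eq_map F.obj c _).trans ((s.2 c (α x)).trans (congrArg (s.1 x') (hα _)))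
  refine ⟨φ', sect_ext h𝒳 fun x hx => ?_⟩
  show (u.hom.app x).app ⊤ ((φ'.hom.app x).app ⊤ (oneSec 𝒳 x)) = _
  rw [hφ' x hx]
  exact congrArg (fun k : StMod.Mod.RelSect π G.obj η => k.1 x (α x)) hs'

variable [QuasiSeparatedSpace ↥S]

/-- Exactness of global sections for a cohomologically affine morphism with image a closed point. -/
theorem gExact_of_point_image (h𝒳 : AS 𝒳) (hred : AlgSt.SmoothLocally (fun T => IsReduced T) 𝒳)
    (hM : AlgSp.IsQuasiSeparatedSp M.obj) (j : 𝒳 ⥤ᵇ AlgSt.ofSp M.obj)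
    (hqc : AlgSt.IsQuasiCompactMor Scheme.fppfPrecoverage j) (hqs : AlgSt.IsQuasiSeparatedMor j)
    (hj : StMod.IsCohAffine j) (m : AlgSp.Points M.obj) (hm : IsClosed ({m} : Set (AlgSp.Points M.obj)))
    (hjm : ∀ p, AlgSt.Points.map j p = stPts M.obj m) : GExact 𝒳 := by
  have hMs := isAlgStack_ofSp M
  obtain ⟨Z, iZ, hZ, hiZ, hrange, hZred⟩ := Groth.Agent.SpQS.exists_redInduced M.property hm
  have himm : AlgSp.RepWith @IsImmersion iZ := AlgSpLib.repWith_mono (fun _ _ r (hr : IsClosedImmersion r) => by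
    haveI := hr
    infer_instance) hiZ
  haveI : Mono iZ := AlgSpLib.mono_of_repWith_immersion himm
  haveI : Subsingleton (AlgSp.Points Z) := ⟨fun a b => (AlgSpLib.immersion_topology M.property himm).1.injective
    ((Set.mem_singleton_iff.1 (hrange.le ⟨a, rfl⟩)).trans (Set.mem_singleton_iff.1 (hrange.le ⟨b, rfl⟩)).symm)⟩
  haveI : Nonempty (AlgSp.Points Z) := by
    obtain ⟨a, -⟩ := hrange.ge (Set.mem_singleton m)
    exact ⟨a⟩
  have hZd : IsDecent Z := Groth.Agent.SpQS.isDecent_of_isDecentMor iZ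
    (Groth.Agent.SpQS.isDecentMor_of_qs hZ M.property iZ
      ((AlgSpLib.isQuasiSeparatedMor_iff_repWith hZ M.property hiZ.1).2 (AlgSpLib.repWith_mono (fun _ _ r
        (hr : IsClosedImmersion r) => by haveI := hr; infer_instance) hiZ)))
    (Groth.Agent.SpQS.isDecent_of_quasiSeparatedSp M.property hM)
  obtain ⟨U, pU, hU₁, hU₂, hU₃⟩ := hZred
  haveI : IsReduced U.left := hU₃
  obtain ⟨κ, _, str, e, -, -, -⟩ := Groth.Agent.SpQS.exists_field_iso hZ hZd hU₁ hU₂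
  let z₀ : (yon S).obj (Over.mk str) ⟶ M.obj := e.hom ≫ iZ
  have hz : AlgSp.RepWith @IsClosedImmersion z₀ := (AlgSpLib.repWith_iso_comp_iff e.hom iZ).2 hiZ
  haveI : Mono z₀ := mono_comp _ _
  let η : (AlgSt.ofSp M.obj).obj := ⟨Over.mk str, (AlgSp.J S).uliftYonedaEquiv z₀⟩
  have hη : toYon η = z₀ := Equiv.symm_apply_apply _ _
  have hfac := exists_factor_closed h𝒳 hred j z₀ hz fun p => by
    rw [hjm]
    refine ⟨m, ?_, rfl⟩
    obtain ⟨a, ha⟩ := hrange.ge (Set.mem_singleton m)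
    refine ⟨AlgSp.Points.map e.inv a, ?_⟩
    rw [← AlgSp.Points.map_comp]
    simpa [z₀] using ha
  choose l hl using hfac
  let α : ∀ g, j.obj g ⟶ η := fun g => eltHom (l g) (by rw [hη]; exact hl g)
  refine gExact_of_surjAt_terminal h𝒳.isStack.1 j η α (fun {g} β => elt_hom_ext ((yon S).map_injective
    ((cancel_mono z₀).1 (by rw [← hη, toYon_map, toYon_map])))) fun F G u hu => ?_
  haveI : IsAffine (StMod.sch (AlgSt.ofSp M.obj) η) := inferInstanceAs (IsAffine (Spec (CommRingCat.of κ)))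
  have hfib := fibData_of_qcqs h𝒳 hMs j hqc hqs
  refine surjAt_of_hits hfib u fun t => ?_
  obtain ⟨W₀, π₀, hπ₁, hπ₂⟩ := M.property.atlas
  obtain ⟨P, fst, pr, sq, hpr⟩ := AlgSpLib.exists_repWith hπ₁ z₀
  obtain ⟨a₁, rfl⟩ := AlgSpLib.exists_map_eq fst
  haveI : Etale pr.left := hpr
  haveI : Surjective pr.left := hπ₂.2 _ _ pr sq
  obtain ⟨q, hq⟩ := pr.left.surjective t
  obtain ⟨O, hO, hqO, -⟩ := exists_isAffineOpen_mem_and_subset (X := W₀.left) (x := a₁.left.base q) (U := ⊤) trivial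
  obtain ⟨V, hV, hqV, hVle⟩ := exists_isAffineOpen_mem_and_subset (X := P.left) (x := q) (U := a₁.left ⁻¹ᵁ O) hqO
  let E₀ : Over S := Over.mk (O.ι ≫ W₀.hom)
  let jE : E₀ ⟶ W₀ := Over.homMk O.ι rfl
  let E : AlgSp.EtOver M.obj := AlgSp.EtOver.mk ((yon S).map jE ≫ π₀)
    (AlgSpLib.repWith_comp ((AlgSpLib.repWith_yon_iff (P := @Etale) _).2 (inferInstanceAs (Etale O.ι))) hπ₁)
  let V' : Over S := Over.mk (V.ι ≫ P.hom)
  let vP : V' ⟶ P := Over.homMk V.ι rfl
  let vE : V' ⟶ E₀ := Over.homMk (IsOpenImmersion.lift O.ι (V.ι ≫ a₁.left) (by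
      rintro _ ⟨v, rfl⟩
      exact ⟨⟨_, hVle v.2⟩, rfl⟩)) (by
    show _ ≫ O.ι ≫ W₀.hom = V.ι ≫ P.hom
    rw [IsOpenImmersion.lift_fac_assoc, Category.assoc, Over.w a₁])
  have hvE : vE ≫ jE = vP ≫ a₁ := Over.OverMorphism.ext (IsOpenImmersion.lift_fac _ _ _)
  let η' : (AlgSt.ofSp M.obj).obj := ⟨V', (AlgSp.J S).uliftYonedaEquiv ((yon S).map (vP ≫ pr) ≫ z₀)⟩
  have hη' : toYon η' = (yon S).map (vP ≫ pr) ≫ z₀ := Equiv.symm_apply_apply _ _
  haveI : IsAffine (StMod.sch (AlgSt.ofSp M.obj) η') := hV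
  let gh : η' ⟶ η := eltHom (vP ≫ pr) (by rw [hη, hη'])
  let ψ : η' ⟶ StMod.etaOf E := eltHom vE (by
    rw [toYon_etaOf, hη']
    show (yon S).map vE ≫ (yon S).map jE ≫ π₀ = _
    rw [← reassoc_of% ((yon S).map_comp vE jE), hvE, (yon S).map_comp, (yon S).map_comp, Category.assoc,
      Category.assoc, sq.w])
  haveI : IsAffine (StMod.sch (AlgSt.ofSp M.obj) (StMod.etaOf E)) := hO
  haveI : IsAffineHom (StMod.bmap (AlgSt.ofSp M.obj) ψ) := isAffineHom_of_isAffine _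
  refine ⟨η', gh, inferInstance, inferInstanceAs (Flat (V.ι ≫ pr.left)), ⟨⟨q, hqV⟩, hq⟩, ?_⟩
  exact surjAt_of_gExact hfib (GExact.baseChange ψ h𝒳.isStack.1 hMs.isStack.1
    (gExact_fib_of_isCohAffine h𝒳 j hj E hO (goodChartObj_of_qsSp hM E hO))) u hu

omit [QuasiSeparatedSpace ↥S] in
/-- Residual gerbes at closed points of locally Noetherian stacks are closed substacks. -/
theorem isClosedImm_subIncl_of_isClosed (h𝒳 : AS 𝒳) (hN : AlgSt.SmoothLocally (fun T => IsLocallyNoetherian T) 𝒳)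
    (ξ : AlgSt.Points 𝒳) (hξ : IsClosed ({ξ} : Set (AlgSt.Points 𝒳))) (Q : 𝒳.obj → Prop)
    (hQ : Gerb.IsResGerbe Scheme.fppfPrecoverage 𝒳 ξ Q) : AlgSt.IsClosedImm (AlgSt.subIncl 𝒳 Q) := by
  obtain ⟨R, hR, hrange, hRred⟩ := exists_reduced_closedSubstack h𝒳 {ξ} hξ
  haveI : (AlgSt.subIncl 𝒳 R).toFunctor.Full := inferInstanceAs (ObjectProperty.ι R).Full
  haveI : (AlgSt.subIncl 𝒳 R).toFunctor.Faithful := inferInstanceAs (ObjectProperty.ι R).Faithful
  have hinj := injective_map_of_fullyFaithful hR.2.1.isStack.1 h𝒳.isStack.1 (AlgSt.subIncl 𝒳 R)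
  have hz : ∀ z, AlgSt.Points.map (AlgSt.subIncl 𝒳 R) z = ξ := fun z => hrange.le ⟨z, rfl⟩
  have himm : AlgSt.IsImm (AlgSt.subIncl 𝒳 R) := AlgStLib.repWith_mono hR.2.2 fun _ _ _ _ ha =>
    AlgSpLib.repWith_mono (fun _ _ r (hr : IsClosedImmersion r) => by haveI := hr; infer_instance) ha
  have hres : Gerb.IsResGerbe Scheme.fppfPrecoverage 𝒳 ξ R :=
    ⟨hR.1, hR.2.1, hRred, smoothLocally_noetherian_of_lft hR.2.1 h𝒳 _ (locQ_lft_of_isImm hR.2.1 h𝒳 himm) hN, by
      obtain ⟨z, -⟩ := hrange.ge (Set.mem_singleton ξ)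
      exact ⟨z⟩, ⟨fun a b => hinj ((hz a).trans (hz b).symm)⟩, hz⟩
  have huniq : ∀ {P P' : 𝒳.obj → Prop}, Gerb.IsResGerbe Scheme.fppfPrecoverage 𝒳 ξ P →
      Gerb.IsResGerbe Scheme.fppfPrecoverage 𝒳 ξ P' → ∀ x, P x → P' x := fun {P P'} hP hP' x hx => by
    haveI := hP'.1
    obtain ⟨g, ⟨i⟩⟩ := exists_map_resGerbe h𝒳 h𝒳 (BasedFunctor.id 𝒳) hP (Q' := P') (by rwa [map_id_points])
    exact ObjectProperty.prop_of_iso P' (((BasedNatTrans.forgetful _ _).mapIso i).app ⟨x, hx⟩) (g.obj ⟨x, hx⟩).property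
  rw [show Q = R from funext fun x => propext ⟨huniq hQ hres x, huniq hres hQ x⟩]
  exact hR.2.2

/-- Closed points of stacks with good moduli spaces over affine bases have linearly reductive stabilizers. -/
theorem isCohAffine_resGerbe_of_goodModuli [IsAffine S] (h𝒳 : AS 𝒳) (hM : AlgSp.IsQuasiSeparatedSp M.obj)
    (π : 𝒳 ⥤ᵇ AlgSt.ofSp M.obj) (hqc : AlgSt.IsQuasiCompactMor Scheme.fppfPrecoverage π)
    (hqs : AlgSt.IsQuasiSeparatedMor π) (h : StMod.IsGoodModuli π)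
    (hN : AlgSt.SmoothLocally (fun T => IsLocallyNoetherian T) 𝒳) (ξ : AlgSt.Points 𝒳)
    (hξ : IsClosed ({ξ} : Set (AlgSt.Points 𝒳))) (Q : 𝒳.obj → Prop)
    (hQ : Gerb.IsResGerbe Scheme.fppfPrecoverage 𝒳 ξ Q)
    (σ : AlgSt.fullSub 𝒳 Q ⥤ᵇ AlgSt.ofSch (Over.mk (𝟙 S))) :
    StMod.IsCohAffine σ ∧ AlgSt.IsQuasiCompactMor Scheme.fppfPrecoverage σ := by
  have hMs := isAlgStack_ofSp M
  have hci := isClosedImm_subIncl_of_isClosed h𝒳 hN ξ hξ Q hQ
  obtain ⟨-, hG, hred, -, hne, hsub, hmap⟩ := hQ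
  let i := AlgSt.subIncl 𝒳 Q
  have hia : AlgSt.RepByAlgSpWith AlgSp.IsAffineMor i := AlgStLib.repWith_mono hci fun _ _ a _ ha =>
    (AlgSpLib.isAffineMor_iff_repWith a).2 (AlgSpLib.repWith_mono (fun _ _ r (hr : IsClosedImmersion r) => by
      haveI := hr
      infer_instance) ha)
  have hiqs := isQuasiSeparatedMor_of_isAffineMor i hia
  let j := BasedFunctor.comp i π
  have hjqc := qcMor_comp hG h𝒳 hMs (isQuasiCompactMor_of_isClosedImm hG h𝒳 hci) hqc
  have hjqs : AlgSt.IsQuasiSeparatedMor j := repWith_diag_comp hG.isStack.1 h𝒳.isStack.1 cls_qcqs i π hiqs hqs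
  have hjca : StMod.IsCohAffine j := isCohAffine_of_gExact hG.isStack.1 j fun E hE =>
    gExact_fib_comp_affine hG h𝒳 hMs i hia hiqs π _
      (gExact_fib_of_isCohAffine h𝒳 π h.1 E hE (goodChartObj_of_qsSp hM E hE))
  obtain ⟨m, hm⟩ := (bijective_stPts _).2 (AlgSt.Points.map π ξ)
  have hmc : IsClosed ({m} : Set (AlgSp.Points M.obj)) := by
    have h1 := isClosedMap_points h𝒳 hMs π (isUnivClosed_goodModuli h𝒳 hM π hqc hqs h) _ hξ
    rw [Set.image_singleton, ← hm] at h1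
    have h2 := h1.preimage (isHomeomorph_stPts M).continuous
    rwa [← Set.image_singleton, Set.preimage_image_eq _ (bijective_stPts _).1] at h2
  have hGE : GExact (AlgSt.fullSub 𝒳 Q) := gExact_of_point_image hG hred hM j hjqc hjqs hjca m hmc fun p => by
    rw [map_comp_points, hmap, hm]
  -- the structure functor
  let B : Over S := Over.mk (𝟙 S)
  have hBs : AS (AlgSt.ofSch B) := isAlgStack_spOf (S := S) B
  haveI : CompactSpace (AlgSt.Points (AlgSt.fullSub 𝒳 Q)) := by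
    haveI := hsub
    exact Finite.compactSpace
  have hGq : AlgSt.IsQuasiCompact (AlgSt.fullSub 𝒳 Q) := (isQuasiCompact_iff_compactSpace hG).2 inferInstance
  have hσqc : AlgSt.IsQuasiCompactMor Scheme.fppfPrecoverage σ := fun 𝒲 h𝒲 hW q => by
    let b := FibCat.toSelf (AlgSt.ofSch B)
    obtain ⟨hbe, -⟩ := FibCatRep.isEquivOver_data (isEquivOver_toSelf_base : FibCat.IsEquivOver b)
    haveI : b.toFunctor.Full := hbe.full
    haveI : b.toFunctor.Faithful := hbe.faithful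
    have he := FibCat2Misc.isEquivOver_fpMap (F := FibCat.toSelf 𝒲) (G := FibCat.toSelf (AlgSt.fullSub 𝒳 Q)) q σ
      (BasedFunctor.id _) (BasedFunctor.id _) b (eqToIso ((comp_toSelf q).trans (comp_toSelf _).symm))
      (eqToIso ((comp_toSelf σ).trans (comp_toSelf _).symm)) FibCat2Misc.isEquivOver_id FibCat2Misc.isEquivOver_id
    exact (isQuasiCompact_iff_of_equiv he (algFp hBs h𝒲 hG q σ)).2
      (isQuasiCompactMor_toSelf hG hGq 𝒲 h𝒲 hW (FibCat.toSelf 𝒲))
  let bM := Groth.Agent.SpQS.baseStr M.obj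
  haveI := respectsIso_quasiSeparated (S := S)
  have hbM : AlgSt.IsQuasiSeparatedMor (AlgSt.ofSpMap bM) := isQuasiSeparatedMor_of_quasiSeparated
    (repWith_ofSpMap cls_quasiSeparated.bc (W := spOf B) (ObjectProperty.homMk bM)
      ((Groth.Agent.SpQS.isQuasiSeparatedSp_iff_mor bM).1 hM))
  have hσqs : AlgSt.IsQuasiSeparatedMor σ := by
    rw [toBase_eq σ (BasedFunctor.comp j (AlgSt.ofSpMap bM))]
    exact repWith_diag_comp hG.isStack.1 hMs.isStack.1 cls_qcqs j _ hjqs hbM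
  refine ⟨?_, hσqc⟩
  intro F G u hu E hE
  let η : (AlgSt.ofSch B).obj := ⟨B, ⟨𝟙 B⟩⟩
  have hhom : ∀ (o : (AlgSt.ofSch B).obj) (β β' : o ⟶ η), β = β' := fun o β β' =>
    Stk.EltObj.hom_ext (Over.OverMorphism.ext ((Category.comp_id β.hom.left).symm.trans
      ((Over.w β.hom).trans ((Over.w β'.hom).symm.trans (Category.comp_id β'.hom.left)))))
  have hto : ∀ o : (AlgSt.ofSch B).obj, Nonempty (o ⟶ η) := fun o => ⟨⟨o.sec.down, by
    refine ULift.ext _ _ ?_
    show o.sec.down ≫ 𝟙 B = o.sec.down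
    exact Category.comp_id _⟩⟩
  have hfib := fibData_of_qcqs hG hBs σ hσqc hσqs
  have htop : SurjAt σ η u := surjAt_of_gExact_terminal hG.isStack.1 σ η (fun g => (hto _).some)
    (fun {g} β => hhom _ β _) hGE u hu
  let gE : StMod.etaOf E ⟶ η := (hto _).some
  haveI : IsAffine (StMod.sch (AlgSt.ofSch B) η) := inferInstanceAs (IsAffine S)
  haveI : IsAffine (StMod.sch (AlgSt.ofSch B) (StMod.etaOf E)) := hE
  haveI : Flat (StMod.bmap (AlgSt.ofSch B) gE) := by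
    obtain ⟨a, ha⟩ := AlgSpLib.exists_map_eq E.obj.hom
    haveI : Etale a.left := (AlgSpLib.repWith_yon_iff (P := @Etale) a).1 (ha ▸ E.property)
    have e : StMod.bmap (AlgSt.ofSch B) gE = a.left :=
      (Category.comp_id _).symm.trans ((Over.w gE.hom).trans ((Over.w a).symm.trans (Category.comp_id a.left)))
    rw [e]
    infer_instance
  exact SurjAt.baseChange hfib gE htop

end Groth.Agent.RelGen
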