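import Mathlib
import Groth.Agent.RelGen.GerbePoint
import Groth.Agent.RelGen.DisjointImage
import Groth.Agent.RelGen.GMFibre
import Groth.Agent.AlgStLib.OpenSub
import Groth.Agent.AlgStLib.IsoClassSp
import Groth.Agent.AlgStLib.GerbeProps
import Groth.Agent.AlgStLib.FieldPt
import Groth.Agent.SpQS.DecentPoint
import Groth.Agent.SpQS.GoodPt
import Groth.Agent.AlgStLib.StackSpectral
import Groth.Prelude.Def_StCoarse

/-!
# Points of good moduli spaces lift after finite extensions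
-/

universe u

open CategoryTheory CategoryTheory.Limits AlgebraicGeometry TopologicalSpace Opposite

set_option autoImplicit false
set_option backward.isDefEq.respectTransparency false
set_option backward.isDefEq.respectTransparency.types false
set_option linter.style.haveILetI false

noncomputable section

namespace Groth.Agent.RelGen

open Groth.Agent.AlgStLib Groth.Agent.QDescent Groth.Agent.FibCatRep
open _root_.AlgSp _root_.AlgSt

variable {S : Scheme.{u}}

local notation "AS" => IsAlgStack Scheme.fppfPrecoverage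

/-- Morphisms of finite type between spectra of fields are finite. -/
theorem finite_of_lft_specMap {K L : Type u} [Field K] [Field L] (i : K →+* L)
    [h : LocallyOfFiniteType (Spec.map (CommRingCat.ofHom i))] : i.Finite := by
  have h1 : i.FiniteType := (HasRingHomProperty.Spec_iff (P := @LocallyOfFiniteType)).1 h
  algebraize [i]
  haveI : Algebra.FiniteType K L := h1
  exact RingHom.finite_algebraMap.2 (finite_of_finite_type_of_isJacobsonRing K L)

section Extend

variable {Q : AlgSt.Cat S}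

/-- Compatible functions on a closed substack extend to affine objects. -/
theorem exists_ext_fun (hQ : AS Q) {R : Q.obj → Prop}
    (hR : AlgSt.IsClosedSubstack Q R Scheme.fppfPrecoverage) (F : ∀ g, R g → Γ(StMod.sch Q g, ⊤))
    (hF : ∀ {g' g : Q.obj} (c : g' ⟶ g) (h' : R g') (h : R g), pullFun c (F g h) = F g' h')
    (hdown : ∀ {g' g : Q.obj}, (g' ⟶ g) → R g → R g')
    (x : Q.obj) (hx : IsAffine (StMod.sch Q x)) :
    ∃ f : Γ(StMod.sch Q x, ⊤), ∀ (w : Q.obj) (c : w ⟶ x) (h : R w), pullFun c f = F w h := by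
  obtain ⟨y, i, hsch, hi⟩ := exists_chartAt hQ.isStack.1 x
  obtain ⟨V, ι, hι, hch, -⟩ := exists_chart_sub hQ.isStack.1 hR.1 hR.2.1.isStack.1 hR.2.2 (Q.p.obj x) y
  haveI : IsClosedImmersion ι.left := hι
  haveI : IsAffine (Q.p.obj x).left := hx
  let o : (FibCat.overCat (Q.p.obj x)).obj := (Over.mk ι : Over (Q.p.obj x))
  have ho : R (y.obj o) := (hch (Over.mk ι)).2 ⟨𝟙 V, Category.id_comp ι⟩
  let c₀ : y.obj o ⟶ x := y.map (toTop o) ≫ i.hom
  have hc₀ : StMod.bmap Q c₀ = eqToHom (StMod.sch_obj_eq y o) ≫ ι.left := by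
    show StMod.bmap Q (y.map (toTop o) ≫ i.hom) = _
    rw [StMod.bmap_comp, bmap_map, hi]
    simp only [Category.assoc, eqToHom_trans]
    rw [eqToHom_refl, Category.comp_id]
    rfl
  obtain ⟨f₁, hf₁⟩ := (ConcreteCategory.bijective_of_isIso (eqToHom (StMod.sch_obj_eq y o)).appTop).2 (F _ ho)
  obtain ⟨f, hf⟩ := Scheme.Hom.app_surjective ι.left ⊤ (isAffineOpen_top _) f₁
  refine ⟨f, fun w c hw => ?_⟩
  have hfo : pullFun c₀ f = F _ ho := by
    show (StMod.bmap Q c₀).appTop.hom f = _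
    rw [hc₀, Scheme.Hom.comp_appTop]
    exact (congrArg (eqToHom (StMod.sch_obj_eq y o)).appTop.hom hf).trans hf₁
  let o' : (FibCat.overCat (Q.p.obj x)).obj := (Over.mk (Q.p.map c) : Over (Q.p.obj x))
  obtain ⟨χ, hχ, -⟩ := existsUnique_cart hQ.isStack.1 c (y.map (toTop o') ≫ i.hom) (eqToHom (y.w_obj o'))
    (Over.OverMorphism.ext (by
      show _ = StMod.bmap Q (y.map (toTop o') ≫ i.hom)
      rw [StMod.bmap_comp, bmap_map, hi]
      simp only [Category.assoc, eqToHom_trans]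
      rw [eqToHom_refl, Category.comp_id, Over.comp_left, Over.eqToHom_left]
      rfl))
  obtain ⟨g, hg⟩ := (hch (Over.mk (Q.p.map c))).1 (hdown χ hw)
  let m : o' ⟶ o := (Over.homMk g hg : Over.mk (Q.p.map c) ⟶ Over.mk ι)
  have e : χ ≫ c = y.map m ≫ c₀ := by
    rw [hχ.2]
    show _ = y.map m ≫ y.map (toTop o) ≫ i.hom
    rw [← Category.assoc, ← y.toFunctor.map_comp, toTop_unique (m ≫ toTop o) (toTop o')]
  have h2 : pullFun χ (pullFun c f) = pullFun χ (F w hw) := by
    rw [← pullFun_comp, e, pullFun_comp, hfo, hF (y.map m) (hdown χ hw) ho, hF χ (hdown χ hw) hw]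
  haveI : IsIso (StMod.bmap Q χ) := by
    rw [show StMod.bmap Q χ = (Q.p.map χ).left from rfl, hχ.1, Over.eqToHom_left]
    infer_instance
  exact (ConcreteCategory.bijective_of_isIso (StMod.bmap Q χ).appTop).1 h2

/-- Compatible functions on a closed substack come from global functions at field valued objects. -/
theorem exists_sect_at (hQ : AS Q) (hG : GExact Q) (hqs : IsQS Q) {R : Q.obj → Prop}
    (hR : AlgSt.IsClosedSubstack Q R Scheme.fppfPrecoverage)
    (hdown : ∀ {g' g : Q.obj}, (g' ⟶ g) → R g → R g')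
    (F : ∀ g, R g → Γ(StMod.sch Q g, ⊤))
    (hF : ∀ {g' g : Q.obj} (c : g' ⟶ g) (h' : R g') (h : R g), pullFun c (F g h) = F g' h')
    (d : Q.obj) (hd : IsAffine (StMod.sch Q d)) (hdR : R d) (t : ↥(StMod.sch Q d))
    (hfield : IsField Γ(StMod.sch Q d, ⊤)) :
    ∃ s : StMod.OQ Q ⟶ StMod.OQ Q, valSec s d = F d hdR := by
  have gQ := hQ.isStack.1
  choose fam hfam using fun (x : Q.obj) (hx : IsAffine (StMod.sch Q x)) => exists_ext_fun hQ hR F hF hdown x hx
  obtain ⟨one, hone⟩ := exists_sect (M := StMod.OQ Q) gQ (fun x _ => oneSec Q x)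
    (fun {x' x} c _ _ => trT_oneSec c)
  obtain ⟨s, hs⟩ := exists_funLift (fun _ : PUnit.{u + 1} => d) hQ hG hqs (fun _ => hd) one hone fam
    (fun {x' x} c hx' hx w hw c' _ e => by
      rw [map_sub, ← pullFun_comp, hfam x hx w (c' ≫ c) (hdown e hdR), hfam x' hx' w c' (hdown e hdR), sub_self])
  refine ⟨s, ?_⟩
  obtain ⟨w₁, φ, a, hφ, ha, hok, ⟨χ⟩⟩ := exists_ok_hit hQ d t
  obtain ⟨w, j, hw, hit, -⟩ := exists_affine_hit gQ φ hφ (U := ⊤) trivial
  obtain ⟨t', -⟩ := hit.mem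
  haveI : Nontrivial Γ(StMod.sch Q w, ⊤) := by
    haveI : Nonempty ↥(⊤ : (StMod.sch Q w).Opens) := ⟨⟨t', trivial⟩⟩
    infer_instance
  letI := hfield.toField
  refine (pullFun (j ≫ φ)).injective ?_
  have h1 := hs a ha hok w hw (j ≫ χ) PUnit.unit (j ≫ φ)
  rw [map_sub, sub_eq_zero, hfam a ha w (j ≫ χ) (hdown (j ≫ φ) hdR)] at h1
  rw [hF (j ≫ φ) (hdown (j ≫ φ) hdR) hdR]
  exact (valSec_nat s (j ≫ φ)).trans ((valSec_nat s (j ≫ χ)).symm.trans h1)

end Extend

section Gerbe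

theorem toYon_ofOverCat {U : Over S} (g : (FibCat.overCat U).obj) :
    toYon ((AlgSt.ofOverCat U).obj g) = (yon S).map (show Over U from g).hom := by
  refine (AlgSp.J S).uliftYonedaEquiv.injective ?_
  rw [toYon, Equiv.apply_symm_apply]
  rfl

theorem topSec_comp_ofSpMap {B : Over S} {N : AlgSp.Space S} (p : (yon S).obj B ⟶ N.obj) :
    topSec (BasedFunctor.comp (AlgSt.ofOverCat B) (AlgSt.ofSpMap p)) = p := by
  show (yon S).map (eqToHom ((BasedFunctor.comp (AlgSt.ofOverCat B) (AlgSt.ofSpMap p)).w_obj (topObj B)).symm) ≫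
    toYon ((AlgSt.ofSpMap p).obj ((AlgSt.ofOverCat B).obj (topObj B))) = p
  rw [toYon_ofSpMap, toYon_ofOverCat, ← Category.assoc, ← (yon S).map_comp]
  have e : eqToHom ((BasedFunctor.comp (AlgSt.ofOverCat B) (AlgSt.ofSpMap p)).w_obj (topObj B)).symm ≫
      (show Over B from topObj B).hom = 𝟙 B := Category.comp_id _
  rw [e]
  erw [(yon S).map_id]
  exact Category.id_comp _

variable {𝒢 : AlgSt.Cat S}

/-- A reduced locally Noetherian quasi-separated stack with one point carries functions from a field over which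
some field valued point is finite. -/
theorem exists_field_funs [QuasiSeparatedSpace ↥S] (h𝒢 : AS 𝒢)
    (hred : AlgSt.SmoothLocally (fun T => IsReduced T) 𝒢)
    (hnoeth : AlgSt.SmoothLocally (fun T => IsLocallyNoetherian T) 𝒢)
    (hne : Nonempty (AlgSt.Points 𝒢)) (hsub : Subsingleton (AlgSt.Points 𝒢))
    (hqs : AlgSt.IsQuasiSeparatedOver 𝒢) :
    ∃ (k : Type u) (_ : Field k) (a : Spec (CommRingCat.of k) ⟶ S) (z : FibCat.overCat (Over.mk a) ⥤ᵇ 𝒢)
      (k₀ : Type u) (_ : Field k₀) (j : k₀ →+* k) (φ : ∀ g, k₀ →+* Γ(StMod.sch 𝒢 g, ⊤)),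
      j.Finite ∧ (∀ {g' g : 𝒢.obj} (c : g' ⟶ g) r, pullFun c (φ g r) = φ g' r) ∧
      ∀ r, φ (z.obj (topObj _)) r = (eqToHom (StMod.sch_obj_eq z (topObj _))).appTop.hom
        ((Scheme.ΓSpecIso (CommRingCat.of k)).inv.hom (j r)) := by
  obtain ⟨k, _, a, z, z₁, z₂, z₃⟩ := exists_lfp_fieldPt h𝒢 hred hnoeth hne hsub
  obtain ⟨Z, π, hπ, ⟨U, pU, hU₁, hU₂, hU₃⟩, -, hZne, hZsub⟩ := IsoSh.exists_gerbe_singleton h𝒢 hred hnoeth hne hsub
  haveI := hU₃
  haveI := hZne
  haveI := hZsub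
  have hZ := isAlgStack_ofSp Z
  have hU := isAlgStack_overCat (S := S) (Over.mk a)
  obtain ⟨g₁, g₂, g₃⟩ := GerbeMor.locQ_gerbe h𝒢 hZ π hπ
  let c := BasedFunctor.comp z π
  let p := topSec c
  have hc : c = BasedFunctor.comp (AlgSt.ofOverCat _) (AlgSt.ofSpMap p) :=
    functor_eq_of_topSec _ _ (topSec_comp_ofSpMap p).symm
  have hπqc : AlgSt.IsQuasiCompactMor Scheme.fppfPrecoverage π := fun 𝒵 h𝒵 hq g => by
    have hB : AS (FibCat.fp g π) := algFp hZ h𝒵 h𝒢 g π
    haveI := (isQuasiCompact_iff_compactSpace h𝒵).1 hq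
    have hh := GerbeMor.isUnivHomeo h𝒢 hZ π hπ 𝒵 h𝒵 g
    exact (isQuasiCompact_iff_compactSpace hB).2 hh.homeomorph.symm.compactSpace
  haveI : CompactSpace ↥(Over.mk a).left := inferInstanceAs (CompactSpace ↥(Spec (CommRingCat.of k)))
  have hzqc : AlgSt.IsQuasiCompactMor Scheme.fppfPrecoverage z :=
    isQuasiCompactMor_of_comp hU h𝒢 isAlgStack_self
      (by rw [comp_toSelf]; exact isQuasiCompactMor_toSelf_overCat _)
      (AlgStLib.repWith_mono hqs fun _ _ _ _ ha => ha.1)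
  have hcqc : AlgSt.IsQuasiCompactMor Scheme.fppfPrecoverage c := qcMor_comp hU h𝒢 hZ hzqc hπqc
  have c₃ : LocQ (LocP @LocallyOfFinitePresentation) c := locQ_comp st_lfp cls_lfp.comp hU h𝒢 hZ
    (locQ_of_repWith st_lfp cls_lfp.bc cls_lfp.loc hU h𝒢 z₁) g₃
  haveI := respectsIso_quasiCompact (S := S)
  have hpq : RepByAlgSpWith AlgSp.IsQuasiCompactMor (AlgSt.ofSpMap p) := by
    refine (repWith_ofOverCat_iff _ _).1 ?_
    rw [← hc]
    exact repWith_qc_of_isQuasiCompactMor (repByAlgSp1_of_repByAlgSp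
      ((repByAlgSp_iff_of_equiv (isEquivOver_ofOverCat (Over.mk a))).2 (repByAlgSp_ofSp (spOf (Over.mk a))))
      (repByAlgSp_ofSp Z) c) hcqc
  have hrep : AlgSp.Representable p := fun {T} ξ => by
    obtain ⟨V, v₁, v₂, sqV⟩ := AlgSpLib.exists_pullback Z.property.diag p ξ
    exact ⟨V, v₂, (yon S).map v₁, sqV⟩
  have hpm : AlgSp.IsQuasiCompactMor p :=
    of_repBySpWith cls_qc.loc (IsAlgSpace.yon_obj _) Z.property p
      ((repWith_ofPshMap_iff _ _).1 hpq)
  have hpw : AlgSp.RepWith @QuasiCompact p :=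
    (AlgSpLib.isQuasiCompactMor_iff_repWith (IsAlgSpace.yon_obj _) Z.property hrep).1 hpm
  have hd : IsDecent Z.obj := Groth.Agent.SpQS.isDecent_of_good Z.property fun x => by
    let P := AlgSp.FieldPt.ofPt p (IsLocalRing.closedPoint k)
    rw [Subsingleton.elim x (AlgSp.Points.ofPt p (IsLocalRing.closedPoint k))]
    refine Groth.Agent.SpQS.goodAt_of_qc Z.property P ?_
    rw [AlgSp.FieldPt.toHom_ofPt]
    haveI : Subsingleton ↥(Spec ((Spec (CommRingCat.of k)).residueField (IsLocalRing.closedPoint k))) :=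
      inferInstanceAs (Subsingleton (PrimeSpectrum _))
    exact AlgSpLib.repWith_comp ((AlgSpLib.repWith_yon_iff _).2
      (⟨fun V hV hVc => (Set.subsingleton_of_subsingleton (s := _)).isCompact⟩ :
        QuasiCompact ((Spec (CommRingCat.of k)).fromSpecResidueField (IsLocalRing.closedPoint k)))) hpw
  obtain ⟨k₀, _, str, e, -, -, -⟩ := Groth.Agent.SpQS.exists_field_iso Z.property hd hU₁ hU₂
  obtain ⟨jh, hjh⟩ := AlgSpLib.exists_map_eq (p ≫ e.inv)
  obtain ⟨jr, hjr⟩ : ∃ jr : CommRingCat.of k₀ ⟶ CommRingCat.of k, Spec.map jr = jh.left :=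
    ⟨Spec.preimage jh.left, Spec.map_preimage _⟩
  have hl : ∀ g, ∃ l : (π.obj g).base ⟶ Over.mk str, (yon S).map l = toYon (π.obj g) ≫ e.inv := fun g =>
    AlgSpLib.exists_map_eq _
  choose l hl using hl
  let u : ∀ g, StMod.sch 𝒢 g ⟶ Spec (CommRingCat.of k₀) := fun g => eqToHom (StMod.sch_obj_eq π g).symm ≫ (l g).left
  have hu : ∀ {g' g : 𝒢.obj} (m : g' ⟶ g), StMod.bmap 𝒢 m ≫ u g = u g' := fun {g' g} m => by
    have h1 : (π.map m).hom ≫ l g = l g' := (yon S).map_injective (by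
      rw [(yon S).map_comp, hl, hl, ← Category.assoc, toYon_map])
    show StMod.bmap 𝒢 m ≫ eqToHom _ ≫ (l g).left = eqToHom _ ≫ (l g').left
    rw [← h1, Over.comp_left, show (π.map m).hom.left = StMod.bmap (AlgSt.ofSp Z.obj) (π.map m) from rfl, bmap_map]
    simp
  let φ : ∀ g, k₀ →+* Γ(StMod.sch 𝒢 g, ⊤) := fun g =>
    (u g).appTop.hom.comp (Scheme.ΓSpecIso (CommRingCat.of k₀)).inv.hom
  refine ⟨k, ‹_›, a, z, k₀, ‹_›, jr.hom, φ, ?_, fun {g' g} m r => ?_, fun r => ?_⟩
  · have hp₃ : AlgSp.LocP @LocallyOfFinitePresentation p :=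
      (locQ_ofSpMap_iff st_lfp (F := spOf (Over.mk a)) (G := Z) (ObjectProperty.homMk p)).1
        (locQ_of_equiv_source (isEquivOver_ofOverCat _) (hc ▸ c₃))
    have he : AlgSp.RepWith @Etale e.hom := by
      rw [← Category.id_comp e.hom]
      exact (AlgSpLib.repWith_comp_iso_iff _ _).2 (AlgSp.repWith_id @Etale _)
    haveI hjh3 : LocallyOfFinitePresentation jh.left := hp₃ (𝟙 _) e.hom jh (AlgSp.repWith_id @Etale _) he (by
      rw [Category.id_comp, hjh, Category.assoc, e.inv_hom_id, Category.comp_id])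
    haveI : LocallyOfFiniteType (Spec.map (CommRingCat.ofHom jr.hom)) := by
      rw [show CommRingCat.ofHom jr.hom = jr from rfl, hjr]
      infer_instance
    exact finite_of_lft_specMap jr.hom
  · show ((u g).appTop ≫ (StMod.bmap 𝒢 m).appTop).hom _ = _
    rw [← Scheme.Hom.comp_appTop, hu m]
    rfl
  · have h1 : l (z.obj (topObj _)) = eqToHom ((π.w_obj _).trans (z.w_obj (topObj _))) ≫ jh := (yon S).map_injective (by
      rw [hl, (yon S).map_comp, hjh]
      show toYon (c.obj (topObj _)) ≫ e.inv = _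
      rw [toYon_obj_topSec, Category.assoc]
      refine congrArg (fun q => (yon S).map q ≫ p ≫ e.inv) (Category.comp_id _))
    have h2 : u (z.obj (topObj _)) = eqToHom (StMod.sch_obj_eq z (topObj _)) ≫ Spec.map jr := by
      show eqToHom _ ≫ (l _).left = _
      rw [h1, hjr, Over.comp_left, Over.eqToHom_left, eqToHom_trans_assoc]
    show ((Scheme.ΓSpecIso (CommRingCat.of k₀)).inv ≫ (u _).appTop).hom r = _
    rw [h2, Scheme.Hom.comp_appTop, ← Scheme.ΓSpecIso_inv_naturality_assoc]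
    rfl

end Gerbe

section Point

/-- A subfield over which a finite extension is defined gives a finite extension. -/
theorem finite_of_range_le {A B C : Type u} [CommRing A] [CommRing B] [CommRing C] (j : A →+* B) (i : C →+* B)
    (hj : j.Finite) (h : ∀ r, ∃ c, i c = j r) : i.Finite := by
  algebraize [j]
  obtain ⟨s, hs⟩ := (‹j.Finite› : Module.Finite A B).fg_top
  letI : Algebra C B := i.toAlgebra
  refine ⟨⟨s, ?_⟩⟩
  rw [eq_top_iff]
  intro x _
  have hx : x ∈ Submodule.span A (s : Set B) := by rw [hs]; trivial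
  induction hx using Submodule.span_induction with
  | mem y hy => exact Submodule.subset_span hy
  | zero => exact Submodule.zero_mem _
  | add y z _ _ hy hz => exact Submodule.add_mem _ (hy trivial) (hz trivial)
  | smul r y _ hy =>
    obtain ⟨c, hc⟩ := h r
    rw [Algebra.smul_def, RingHom.algebraMap_toAlgebra, ← hc, ← RingHom.algebraMap_toAlgebra i, ← Algebra.smul_def]
    exact Submodule.smul_mem _ c (hy trivial)

variable {M : AlgSp.Space S} {K : Type u} [Field K]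

/-- Field valued points of algebraic spaces lift to affine etale charts after finite extensions. -/
theorem exists_finite_lift_chart (t : Spec (CommRingCat.of K) ⟶ S) (y : (yon S).obj (Over.mk t) ⟶ M.obj) :
    ∃ (L : Type u) (_ : Field L) (i : K →+* L) (E : AlgSp.EtOver M.obj)
      (l : Over.mk (Spec.map (CommRingCat.ofHom i) ≫ t) ⟶ E.obj.left),
      i.Finite ∧ IsAffine E.obj.left.left ∧ (yon S).map l ≫ E.obj.hom =
        (yon S).map (Over.homMk (Spec.map (CommRingCat.ofHom i)) rfl :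
          Over.mk (Spec.map (CommRingCat.ofHom i) ≫ t) ⟶ Over.mk t) ≫ y := by
  obtain ⟨U, π₀, hπ₁, hπ₂⟩ := M.property.atlas
  obtain ⟨P, fst, pr, sq, hpr⟩ := AlgSpLib.exists_repWith hπ₁ y
  obtain ⟨a₁, rfl⟩ := AlgSpLib.exists_map_eq fst
  let f : P.left ⟶ Spec (CommRingCat.of K) := pr.left
  haveI : Etale f := hpr
  haveI : Surjective f := hπ₂.2 _ _ pr sq
  haveI : JacobsonSpace ↥P.left := LocallyOfFiniteType.jacobsonSpace f
  obtain ⟨q, -⟩ := f.surjective (IsLocalRing.closedPoint K)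
  have hne : (closedPoints ↥P.left).Nonempty := by
    rw [← closure_nonempty_iff, closure_closedPoints]
    exact ⟨q, trivial⟩
  obtain ⟨c, hc⟩ := hne
  let m₀ := P.left.fromSpecResidueField c
  haveI : IsClosedImmersion m₀ := by
    refine IsClosedImmersion.of_isPreimmersion m₀ ?_
    rw [Scheme.range_fromSpecResidueField]
    exact hc
  obtain ⟨ir, hir⟩ : ∃ ir : CommRingCat.of K ⟶ P.left.residueField c, Spec.map ir = m₀ ≫ f :=
    ⟨Spec.preimage (m₀ ≫ f), Spec.map_preimage _⟩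
  let L : Type u := P.left.residueField c
  let i : K →+* L := ir.hom
  have hi : Spec.map (CommRingCat.ofHom i) = m₀ ≫ f := hir
  haveI : LocallyOfFiniteType (Spec.map (CommRingCat.ofHom i)) := by rw [hi]; infer_instance
  obtain ⟨O, hO, hcO, -⟩ := exists_isAffineOpen_mem_and_subset (X := U.left) (x := a₁.left.base c) (U := ⊤) trivial
  have hr : Set.range (m₀ ≫ a₁.left).base ⊆ Set.range O.ι.base := by
    rintro _ ⟨s, rfl⟩
    rw [Scheme.Opens.range_ι, Scheme.Hom.comp_apply]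
    have : m₀.base s = c := (Scheme.range_fromSpecResidueField c).le ⟨s, rfl⟩
    show a₁.left.base (m₀.base s) ∈ O
    rw [this]
    exact hcO
  let V : Over S := Over.mk (O.ι ≫ U.hom)
  let jV : V ⟶ U := Over.homMk O.ι rfl
  let E : AlgSp.EtOver M.obj := AlgSp.EtOver.mk ((yon S).map jV ≫ π₀)
    (AlgSpLib.repWith_comp ((AlgSpLib.repWith_yon_iff (P := @Etale) _).2 (inferInstanceAs (Etale O.ι))) hπ₁)
  let T₁ : Over S := Over.mk (Spec.map (CommRingCat.ofHom i) ≫ t)
  let σ : T₁ ⟶ P := Over.homMk m₀ (by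
    show m₀ ≫ P.hom = Spec.map (CommRingCat.ofHom i) ≫ t
    rw [hi, Category.assoc, ← Over.w pr]
    rfl)
  let l : T₁ ⟶ V := Over.homMk (IsOpenImmersion.lift O.ι (m₀ ≫ a₁.left) hr) (by
    show _ ≫ O.ι ≫ U.hom = _
    rw [IsOpenImmersion.lift_fac_assoc]
    exact Over.w (σ ≫ a₁))
  have hl : l ≫ jV = σ ≫ a₁ := Over.OverMorphism.ext (IsOpenImmersion.lift_fac _ _ _)
  refine ⟨L, inferInstance, i, E, l, finite_of_lft_specMap i, hO, ?_⟩
  show (yon S).map l ≫ (yon S).map jV ≫ π₀ = _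
  rw [← reassoc_of% ((yon S).map_comp l jV), hl, (yon S).map_comp, Category.assoc, sq.w,
    ← reassoc_of% ((yon S).map_comp σ pr)]
  exact congrArg (fun k => (yon S).map k ≫ y) (Over.OverMorphism.ext hi.symm)

variable [QuasiSeparatedSpace ↥S] {𝒳 : AlgSt.Cat S}

omit [QuasiSeparatedSpace ↥S] in
theorem fibSec_eq (π : 𝒳 ⥤ᵇ AlgSt.ofSp M.obj) {T : Over S} (x : 𝒳.p.Fiber T) :
    AlgSt.fibSec π x = (AlgSp.J S).uliftYonedaEquiv
      ((yon S).map (eqToHom ((π.w_obj x.1).trans x.2).symm) ≫ toYon (π.obj x.1)) := by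
  refine Eq.trans ?_ ((AlgSp.J S).uliftYonedaEquiv_naturality _ _)
  refine congrArg (fun z => (ConcreteCategory.hom (M.obj.obj.map (eqToHom ((π.w_obj x.1).trans x.2).symm).op)) z) ?_
  exact (Equiv.apply_symm_apply _ _).symm

omit [QuasiSeparatedSpace ↥S] in
/-- The section at an object of a fibre product with a point. -/
theorem fibSec_fpSnd {T₁ : Over S} (π : 𝒳 ⥤ᵇ AlgSt.ofSp M.obj) (X : FibCat.overCat T₁ ⥤ᵇ AlgSt.ofSp M.obj)
    (d : (FibCat.fp X π).obj) {T : Over S} (hd : 𝒳.p.obj d.obj.snd = T) (q : T ⟶ T₁)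
    (hq : eqToHom (((FibCat.fpSnd X π).w_obj d).symm.trans hd) ≫ q =
      StMod.baseOver (FibCat.fpFst X π) d (toTop d.obj.fst)) :
    AlgSt.fibSec π ⟨d.obj.snd, hd⟩ = (AlgSp.J S).uliftYonedaEquiv ((yon S).map q ≫ topSec X) := by
  rw [fibSec_eq]
  refine congrArg _ ?_
  rw [← toYon_map d.obj.iso.inv, toYon_obj_topSec]
  simp only [← (yon S).map_comp_assoc]
  refine congrArg (fun r => (yon S).map r ≫ topSec X) ?_
  obtain ⟨e, he⟩ := bmap_of_isHomLift_id _ d.property
  refine Over.OverMorphism.ext ?_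
  have h6 : d.obj.iso.inv.hom.left = eqToHom e.symm := by
    show StMod.bmap _ d.obj.iso.inv = _
    rw [← cancel_mono (StMod.bmap _ d.obj.iso.hom), ← StMod.bmap_comp, d.obj.iso.inv_hom_id, StMod.bmap_id, he,
      eqToHom_trans, eqToHom_refl]
  have h7 := congrArg (fun r => r.left) hq
  simp only [Over.comp_left, Over.eqToHom_left, baseOver_left] at h7
  simp only [Over.comp_left, Over.eqToHom_left, h6, eqToHom_trans_assoc]
  rw [← cancel_epi (eqToHom (congrArg Comma.left (((FibCat.fpSnd X π).w_obj d).symm.trans hd))), h7]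
  simp only [eqToHom_trans_assoc]
  rfl

omit [QuasiSeparatedSpace ↥S] in
/-- A field valued object of the fibre over a finite extension gives a point after a finite extension. -/
theorem exists_point_of_fp (π : 𝒳 ⥤ᵇ AlgSt.ofSp M.obj) (t : Spec (CommRingCat.of K) ⟶ S)
    (y : (yon S).obj (Over.mk t) ⟶ M.obj) {L : Type u} [Field L] (i₀ : K →+* L) (hi₀ : i₀.Finite)
    (X : FibCat.overCat (Over.mk (Spec.map (CommRingCat.ofHom i₀) ≫ t)) ⥤ᵇ AlgSt.ofSp M.obj)
    (hX : topSec X = (yon S).map (Over.homMk (Spec.map (CommRingCat.ofHom i₀)) rfl :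
      Over.mk (Spec.map (CommRingCat.ofHom i₀) ≫ t) ⟶ Over.mk t) ≫ y)
    (d : (FibCat.fp X π).obj) {k : Type u} [Field k] (a : Spec (CommRingCat.of k) ⟶ S)
    (hbase : (FibCat.fp X π).p.obj d = Over.mk a) (i₁ : CommRingCat.of L ⟶ CommRingCat.of k)
    (hi₁ : Spec.map i₁ = eqToHom (congrArg Comma.left hbase).symm ≫
      (StMod.baseOver (FibCat.fpFst X π) d (toTop d.obj.fst)).left)
    (hf : i₁.hom.Finite) :
    ∃ (K' : Type u) (_ : Field K') (i : K →+* K'), i.Finite ∧
      ∃ x : 𝒳.p.Fiber (Over.mk (Spec.map (CommRingCat.ofHom i) ≫ t)),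
        AlgSt.fibSec π x = (AlgSp.J S).uliftYonedaEquiv ((AlgSp.yon S).map
          (Over.homMk (Spec.map (CommRingCat.ofHom i)) rfl :
            Over.mk (Spec.map (CommRingCat.ofHom i) ≫ t) ⟶ Over.mk t) ≫ y) := by
  let i := i₁.hom.comp i₀
  have hk : Spec.map (CommRingCat.ofHom i) = Spec.map i₁ ≫ Spec.map (CommRingCat.ofHom i₀) := by
    rw [show CommRingCat.ofHom i = CommRingCat.ofHom i₀ ≫ i₁ from rfl, Spec.map_comp]
  let q : Over.mk a ⟶ Over.mk (Spec.map (CommRingCat.ofHom i₀) ≫ t) :=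
    eqToHom hbase.symm ≫ StMod.baseOver (FibCat.fpFst X π) d (toTop d.obj.fst)
  have hq : q.left = Spec.map i₁ := by
    rw [hi₁]
    show (eqToHom hbase.symm ≫ _).left = _
    rw [Over.comp_left, Over.eqToHom_left]
  have ha : a = Spec.map (CommRingCat.ofHom i) ≫ t := by
    rw [hk, Category.assoc, ← hq]
    exact (Over.w q).symm
  subst ha
  refine ⟨k, ‹_›, i, hf.comp hi₀, ⟨d.obj.snd, ((FibCat.fpSnd X π).w_obj d).trans hbase⟩, ?_⟩
  rw [fibSec_fpSnd π X d (((FibCat.fpSnd X π).w_obj d).trans hbase) q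
    ((eqToHom_trans_assoc _ _ _).trans (Category.id_comp _)), hX, ← Category.assoc, ← (yon S).map_comp]
  refine congrArg _ (congrArg (fun r => (yon S).map r ≫ y) (Over.OverMorphism.ext ?_))
  show q.left ≫ Spec.map (CommRingCat.ofHom i₀) = Spec.map (CommRingCat.ofHom i)
  exact (congrArg (· ≫ Spec.map (CommRingCat.ofHom i₀)) hq).trans hk.symm

/-- Points locally of finite type of a good moduli space lift to the stack after finite extensions. -/
theorem exists_finite_point (h𝒳 : AS 𝒳) (hM : AlgSp.IsQuasiSeparatedSp M.obj) (π : 𝒳 ⥤ᵇ AlgSt.ofSp M.obj)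
    (hqc : AlgSt.IsQuasiCompactMor Scheme.fppfPrecoverage π) (hqs : AlgSt.IsQuasiSeparatedMor π)
    (h : StMod.IsGoodModuli π) (hN : AlgSt.SmoothLocally (fun T => IsLocallyNoetherian T) 𝒳)
    (t : Spec (CommRingCat.of K) ⟶ S) (y : (yon S).obj (Over.mk t) ⟶ M.obj) (hy : AlgSp.LocP @LocallyOfFiniteType y) :
    ∃ (K' : Type u) (_ : Field K') (i : K →+* K'), i.Finite ∧
      ∃ x : 𝒳.p.Fiber (Over.mk (Spec.map (CommRingCat.ofHom i) ≫ t)),
        AlgSt.fibSec π x = (AlgSp.J S).uliftYonedaEquiv ((AlgSp.yon S).map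
          (Over.homMk (Spec.map (CommRingCat.ofHom i)) rfl :
            Over.mk (Spec.map (CommRingCat.ofHom i) ≫ t) ⟶ Over.mk t) ≫ y) := by
  have hMs := isAlgStack_ofSp M
  obtain ⟨L, _, i₀, E, l, hi₀, hE, hl⟩ := exists_finite_lift_chart t y
  let T₁ : Over S := Over.mk (Spec.map (CommRingCat.ofHom i₀) ≫ t)
  let kT : T₁ ⟶ Over.mk t := Over.homMk (Spec.map (CommRingCat.ofHom i₀)) rfl
  let y₁ : (yon S).obj T₁ ⟶ M.obj := (yon S).map kT ≫ y
  let X : FibCat.overCat T₁ ⥤ᵇ AlgSt.ofSp M.obj := BasedFunctor.comp (AlgSt.ofOverCat T₁) (AlgSt.ofSpMap y₁)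
  have hT := isAlgStack_overCat (S := S) T₁
  haveI : IsAffine T₁.left := inferInstanceAs (IsAffine (Spec (CommRingCat.of L)))
  let o : (FibCat.overCat T₁).obj := topObj T₁
  let η := X.obj o
  have hη : toYon η = (yon S).map (show Over T₁ from o).hom ≫ y₁ :=
    (toYon_ofSpMap y₁ _).trans (congrArg (· ≫ y₁) (toYon_ofOverCat o))
  haveI : IsAffine (StMod.sch (AlgSt.ofSp M.obj) η) := inferInstanceAs (IsAffine T₁.left)
  haveI : IsAffine (StMod.sch (AlgSt.ofSp M.obj) (StMod.etaOf E)) := hE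
  let ψ : η ⟶ StMod.etaOf E := eltHom ((show Over T₁ from o).hom ≫ l) (by
    rw [toYon_etaOf, hη, (yon S).map_comp, Category.assoc, hl])
  haveI : IsAffineHom (StMod.bmap (AlgSt.ofSp M.obj) ψ) := isAffineHom_of_isAffine _
  have hGη : GExact (StMod.fibCat π η) := GExact.baseChange ψ h𝒳.isStack.1 hMs.isStack.1
    (gExact_fib_of_isCohAffine h𝒳 π h.1 E hE (goodChartObj_of_qsSp hM E hE))
  let P := FibCat.fpFst X π
  have hW : AS (FibCat.fp X π) := algFp hMs hT h𝒳 X π
  have gW := hW.isStack.1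
  have hα : ∀ {g : (FibCat.fp X π).obj} (β : P.obj g ⟶ o), β = toTop (P.obj g) := fun β => toTop_unique _ _
  have hG : GExact (FibCat.fp X π) := gExact_of_surjAt_terminal gW P o (fun g => toTop (P.obj g)) hα
    fun F G u hu => surjAt_fpFst_of_gExact hMs.isStack.1 hT.isStack.1 h𝒳.isStack.1 hGη u hu
  have hb : Function.Bijective (StMod.unitSect P o) :=
    unitBij_fpFst hMs.isStack.1 hT.isStack.1 (unitBij_affObj h𝒳 hM π hqc hqs h η ‹_›)
  have hPd : RepByAlgSpWith (AlgSp.IsQuasiCompactMor ⊓ AlgSp.IsQuasiSeparatedMor) (FibCat.diag P) :=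
    repWith_diag_fpFst π X hqs
  have hQS : IsQS (FibCat.fp X π) := IsQS.comp gW hT.isStack.1 (isQS_overCat_affine T₁)
    fun ζ hζ => isQS_fibCat_of_diag gW hT.isStack.1 P hPd ζ hζ
  haveI := respectsIso_quasiSeparated (S := S)
  have hTqs : AlgSt.IsQuasiSeparatedMor (FibCat.toSelf (FibCat.overCat T₁)) := by
    let b : T₁ ⟶ Over.mk (𝟙 S) := Over.homMk T₁.hom (Category.comp_id _)
    haveI : QuasiSeparatedSpace ↥T₁.left := inferInstanceAs (QuasiSeparatedSpace ↥(Spec (CommRingCat.of L)))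
    haveI : QuasiSeparated b.left := inferInstanceAs (QuasiSeparated T₁.hom)
    have h₂ : RepByAlgSpWith AlgSp.IsQuasiSeparatedMor (Stk.ofPshMap ((yon S).map b).hom) :=
      repWith_ofSpMap cls_quasiSeparated.bc (V := spOf T₁) (W := spOf (Over.mk (𝟙 S)))
        (ObjectProperty.homMk ((yon S).map b)) ((AlgSp.isQuasiSeparatedMor_yon_map_iff b).2 ‹_›)
    have h₃ : RepByAlgSpWith AlgSp.IsQuasiSeparatedMor (FibCat.toSelf (Stk.ofPsh ((pyon S).obj T₁))) :=
      (repWith_iff_of_equiv _ (FibCat.toSelf (Stk.ofPsh ((pyon S).obj T₁))) (Stk.ofPshMap ((yon S).map b).hom)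
        (BasedFunctor.id _) (FibCat.toSelf (Stk.ofPsh ((pyon S).obj (Over.mk (𝟙 S))))) FibCat2Misc.isEquivOver_id
        isEquivOver_toSelf_base (eqToIso (comp_toSelf _))).2 h₂
    refine isQuasiSeparatedMor_of_quasiSeparated ((repWith_overCat_iff _ T₁ _).2 ?_)
    rw [comp_toSelf]
    exact h₃
  have hWqs : AlgSt.IsQuasiSeparatedOver (FibCat.fp X π) := by
    unfold AlgSt.IsQuasiSeparatedOver AlgSt.IsQuasiSeparatedMor
    rw [← comp_toSelf P]
    exact repWith_diag_comp gW hT.isStack.1 cls_qcqs _ _ hPd hTqs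
  have hWN : AlgSt.SmoothLocally (fun T => IsLocallyNoetherian T) (FibCat.fp X π) := by
    have hk : AlgSp.LocP @LocallyOfFiniteType ((yon S).map kT) := by
      haveI : LocallyOfFiniteType kT.left := by
        show LocallyOfFiniteType (Spec.map (CommRingCat.ofHom i₀))
        exact (HasRingHomProperty.Spec_iff (P := @LocallyOfFiniteType)).2 hi₀.finiteType
      exact (locP_yon_iff AlgSpLib.etST_lft kT).2 ‹_›
    have hXr : RepByAlgSpWith (LocP @LocallyOfFiniteType) X := (repWith_ofOverCat_iff _ _).2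
      (repWith_ofSpMap cls_lft.bc (V := spOf T₁) (W := M) (ObjectProperty.homMk y₁)
        (cls_lft.comp (IsAlgSpace.yon_obj _) (IsAlgSpace.yon_obj _) M.property _ _ hk hy))
    exact smoothLocally_noetherian_of_lft hW h𝒳 (FibCat.fpSnd X π)
      (locQ_of_repWith st_lft cls_lft.bc cls_lft.loc hW h𝒳 (repWith_fpSnd _ X π hXr)) hN
  haveI : CompactSpace ↥T₁.left := inferInstanceAs (CompactSpace ↥(Spec (CommRingCat.of L)))
  have hWqc : AlgSt.IsQuasiCompact (FibCat.fp X π) := hqc _ hT (isQuasiCompact_overCat T₁) X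
  haveI := spectralSpace_of_qc hW hWqc (AlgStLib.repWith_mono hWqs fun _ _ _ _ ha => ha.1)
  haveI := (isQuasiCompact_iff_compactSpace hW).1 hWqc
  have hL : IsField Γ(StMod.sch (FibCat.overCat T₁) o, ⊤) :=
    MulEquiv.isField (Field.toIsField L) (Scheme.ΓSpecIso (CommRingCat.of L)).commRingCatIsoToRingEquiv.toMulEquiv
  haveI : Nontrivial Γ(StMod.sch (FibCat.overCat T₁) o, ⊤) := hL.nontrivial
  haveI := nonempty_points_of_unit P gW hb.1
  obtain ⟨w₀, -, hw₀⟩ := (isClosed_univ (X := AlgSt.Points (FibCat.fp X π))).exists_closed_singleton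
    Set.univ_nonempty
  obtain ⟨R, hR, hrange, hRred⟩ := exists_reduced_closedSubstack hW {w₀} hw₀
  have hdown : ∀ {g' g : (FibCat.fp X π).obj}, (g' ⟶ g) → R g → R g' := fun m hg =>
    substack_of_hom gW hR.1 hR.2.1.isStack.1 m hg
  have himm : AlgSt.IsImm (AlgSt.subIncl (FibCat.fp X π) R) := AlgStLib.repWith_mono hR.2.2 fun _ _ _ _ ha =>
    AlgSpLib.repWith_mono (fun _ _ r (hr : IsClosedImmersion r) => by haveI := hr; infer_instance) ha
  have hne : Nonempty (AlgSt.Points (AlgSt.fullSub (FibCat.fp X π) R)) := by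
    obtain ⟨z, -⟩ := hrange.ge (Set.mem_singleton w₀)
    exact ⟨z⟩
  have hsub : Subsingleton (AlgSt.Points (AlgSt.fullSub (FibCat.fp X π) R)) :=
    ⟨fun a b => injective_map_subIncl gW hdown ((Set.mem_singleton_iff.1 (hrange.le ⟨a, rfl⟩)).trans
      (Set.mem_singleton_iff.1 (hrange.le ⟨b, rfl⟩)).symm)⟩
  obtain ⟨k, _, a, z, k₀, _, j, φ, hj, hφ, hφz⟩ := exists_field_funs hR.2.1 hRred
    (smoothLocally_noetherian_of_lft hR.2.1 hW _ (locQ_lft_of_isImm hR.2.1 hW himm) hWN) hne hsub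
    (isQuasiSeparatedOver_of_qs hR.2.1 hW (repWith_qs_of_isImm himm) hWqs)
  let d₀ := z.obj (topObj (Over.mk a))
  let d : (FibCat.fp X π).obj := d₀.obj
  have hbase : (FibCat.fp X π).p.obj d = Over.mk a := z.w_obj (topObj (Over.mk a))
  have hsch : StMod.sch (FibCat.fp X π) d = Spec (CommRingCat.of k) := congrArg Comma.left hbase
  haveI : IsAffine (StMod.sch (FibCat.fp X π) d) := IsAffine.of_isIso (eqToHom hsch)
  let t₀ : ↥(StMod.sch (FibCat.fp X π) d) := (eqToHom hsch.symm).base (IsLocalRing.closedPoint k)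
  have hfd : IsField Γ(StMod.sch (FibCat.fp X π) d, ⊤) := MulEquiv.isField (Field.toIsField k)
    ((asIso (eqToHom hsch).appTop).symm ≪≫ Scheme.ΓSpecIso (CommRingCat.of k)).commRingCatIsoToRingEquiv.toMulEquiv
  let v : StMod.sch (FibCat.fp X π) d ⟶ T₁.left := (StMod.baseOver P d (toTop (P.obj d))).left
  obtain ⟨i₁, hi₁⟩ : ∃ i₁ : CommRingCat.of L ⟶ CommRingCat.of k, Spec.map i₁ = eqToHom hsch.symm ≫ v :=
    ⟨Spec.preimage (eqToHom hsch.symm ≫ v), Spec.map_preimage _⟩
  have hv : v = eqToHom hsch ≫ Spec.map i₁ := by rw [hi₁, eqToHom_trans_assoc, eqToHom_refl, Category.id_comp]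
  have hrange' : ∀ r, ∃ c, i₁.hom c = j r := fun r => by
    obtain ⟨s, hs⟩ := exists_sect_at hW hG hQS hR hdown (fun g hg => φ ⟨g, hg⟩ r)
      (fun {g' g} c hg' hg => hφ (g' := ⟨g', hg'⟩) (g := ⟨g, hg⟩) (ObjectProperty.homMk c) r) d ‹_› d₀.property t₀ hfd
    let τ : StMod.Mod.RelSect P (StMod.O (FibCat.fp X π)) o :=
      ⟨fun ξ _ => valSec s ξ, fun ξ' ξ c _ => valSec_nat s c⟩
    obtain ⟨r₁, hr₁⟩ := hb.2 τ
    have h1 : v.appTop.hom r₁ = φ d₀ r :=
      (congrArg (fun q : StMod.Mod.RelSect P (StMod.O (FibCat.fp X π)) o => q.1 d (toTop (P.obj d))) hr₁).trans hs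
    refine ⟨(Scheme.ΓSpecIso (CommRingCat.of L)).hom.hom r₁, ?_⟩
    rw [hφz r, hv, Scheme.Hom.comp_appTop] at h1
    have h2 := (ConcreteCategory.bijective_of_isIso (eqToHom hsch).appTop).1 h1
    have h3 := congrArg (Scheme.ΓSpecIso (CommRingCat.of k)).hom.hom h2
    have h4 : (Spec.map i₁).appTop ≫ (Scheme.ΓSpecIso (CommRingCat.of k)).hom =
        (Scheme.ΓSpecIso (CommRingCat.of L)).hom ≫ i₁ := Scheme.ΓSpecIso_naturality i₁
    refine (congrArg (fun q => q.hom r₁) h4).symm.trans (h3.trans ?_)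
    exact congrArg (fun q => q.hom (j r)) (Scheme.ΓSpecIso (CommRingCat.of k)).inv_hom_id
  exact exists_point_of_fp π t y i₀ hi₀ X (topSec_comp_ofSpMap y₁) d a hbase i₁ hi₁
    (finite_of_range_le j i₁.hom hj hrange')

end Point

end Groth.Agent.RelGen
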