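import Mathlib
import Groth.Agent.RelGen.NoethCover
import Groth.Agent.RatChart.SmoothStack
import Groth.Agent.Grpd.FlatComp

/-!
# Finite affine coverings by objects flat over the base
-/

universe u

open CategoryTheory CategoryTheory.Limits AlgebraicGeometry TopologicalSpace Opposite

set_option autoImplicit false
set_option backward.isDefEq.respectTransparency false
set_option backward.isDefEq.respectTransparency.types false
set_option linter.style.haveILetI false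

noncomputable section

namespace Groth.Agent.RelGen

open Groth.Agent.QDescent Groth.Agent.AlgStLib Groth.Agent.FibCatRep
open _root_.AlgSp _root_.AlgSt

variable {S : Scheme.{u}}

local notation "AS" => IsAlgStack Scheme.fppfPrecoverage

/-- Finitely many affine objects whose bases have a property, covering everything fppf locally. -/
def IsQCO (P : Over S → Prop) (𝒵 : AlgSt.Cat S) : Prop :=
  ∃ (I : Type u) (_ : Finite I) (a : I → 𝒵.obj), (∀ i, IsAffine (StMod.sch 𝒵 (a i)) ∧ P (𝒵.p.obj (a i))) ∧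
    ∀ (x : 𝒵.obj) (t : StMod.sch 𝒵 x), ∃ (x' : 𝒵.obj) (φ : x' ⟶ x), Hits φ t ∧ ∃ i, Nonempty (x' ⟶ a i)

variable {P : Over S → Prop}

theorem IsEqv.isQCO_tgt {𝒜 ℬ : AlgSt.Cat S} {F : 𝒜 ⥤ᵇ ℬ} (h : IsEqv F) (hq : IsQCO P 𝒜) : IsQCO P ℬ := by
  obtain ⟨I, _, a, ha, hcov⟩ := hq
  refine ⟨I, inferInstance, fun i => F.obj (a i), fun i => ?_, fun y t => ?_⟩
  · rw [show StMod.sch ℬ (F.obj (a i)) = StMod.sch 𝒜 (a i) from StMod.sch_obj_eq F (a i),
      show ℬ.p.obj (F.obj (a i)) = 𝒜.p.obj (a i) from F.w_obj (a i)]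
    exact ha i
  · obtain ⟨ξ, e, hs, he⟩ := h.exists_obj y
    obtain ⟨x', φ, hφ, i, ⟨c⟩⟩ := hcov ξ ((eqToHom (StMod.sch_obj_eq F ξ)).base ((eqToHom hs.symm).base t))
    refine ⟨F.obj x', F.map φ ≫ e.hom, hits_comp (hits_map φ hφ) ?_ ?_, i, ⟨F.map c⟩⟩
    · refine hits_of_bmap e.hom (𝟙 _) (eqToHom hs) (by rw [he, Category.comp_id]) ⟨t, rfl⟩
    · rw [he, eqToHom_apply_cancel, eqToHom_apply_cancel]

theorem isQCO_of_chart {𝒲 : AlgSt.Cat S} (h𝒲 : AS 𝒲) (U : Over S) (x : FibCat.overCat U ⥤ᵇ 𝒲)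
    (hU : IsAffine U.left) (hxs : RepByAlgSpWith (LocP @Smooth) x)
    (hxj : RepByAlgSpWith AlgSp.IsSurjectiveMor x) (hP : P U) : IsQCO P 𝒲 := by
  have hO := isAlgStack_overCat U
  refine ⟨PUnit.{u + 1}, inferInstance, fun _ => x.obj (topObj U), fun _ => ?_, fun w t => ?_⟩
  · rw [show StMod.sch 𝒲 (x.obj (topObj U)) = U.left from StMod.sch_obj_eq x (topObj U),
      show 𝒲.p.obj (x.obj (topObj U)) = U from x.w_obj (topObj U)]
    exact ⟨hU, hP⟩
  · obtain ⟨z, i, h, hi⟩ := exists_chartAt h𝒲.isStack.1 w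
    obtain ⟨W, γ, hγ, hγ', ⟨s, hs⟩, x', ⟨j⟩⟩ := exists_lift_at h𝒲 hO x
      (locQ_of_repWith st_flat cls_flat.bc cls_flat.loc hO h𝒲 (repWith_flat_of_smooth hxs))
      (locQ_of_repWith st_lfp cls_lfp.bc cls_lfp.loc hO h𝒲 (repWith_lfp_of_smooth hxs)) z t
      (isSurjective_of_repWith hO.isStack.1 h𝒲.isStack.1 hxj _)
    obtain ⟨ζ', ψ, β, e, hψ, -⟩ := exists_obj_of_lift z i h hi γ x' j (topObj W)
    refine ⟨ζ', ψ, ?_, ⟨⟩, ⟨β ≫ x.map (toTop _)⟩⟩
    have h3 : StMod.bmap 𝒲 ψ = eqToHom e ≫ γ.left := by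
      rw [hψ]
      exact congrArg (eqToHom e ≫ ·) (Category.id_comp γ.left)
    exact hits_of_bmap ψ γ.left _ h3 ⟨s, hs⟩

/-- Bases of smooth charts of a flat stack are flat over the base. -/
theorem flat_hom_of_chart {𝒳 : AlgSt.Cat S} (h𝒳 : AS 𝒳) (hfl : LocQ (LocP @Flat) (FibCat.toSelf 𝒳)) {U' : Over S}
    (x' : FibCat.overCat U' ⥤ᵇ 𝒳) (hx' : RepByAlgSpWith (LocP @Smooth) x') : Flat U'.hom := by
  obtain ⟨U, V, x, y, h, -, hx, hxs, hy, hh⟩ := hfl
  haveI : Smooth V.hom := RatChart.smooth_hom_of_toSelf y hy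
  haveI : Flat h.left := (locP_yon_iff AlgSpLib.etST_flat h).1 hh
  haveI : Flat U.hom := by
    rw [← Over.w h]
    infer_instance
  obtain ⟨W, a, b, ha, has, hb⟩ := exists_common_chart h𝒳.isStack.1 ((repWith_overCat_iff _ U x).1 hx)
    ((repWith_overCat_iff _ U x).1 hxs) ((repWith_overCat_iff _ U' x').1 hx')
  haveI := ha
  haveI := has
  haveI := hb
  haveI : Flat (a.left ≫ U'.hom) := by
    rw [Over.w a, ← Over.w b]
    infer_instance
  exact GrpdLib.flat_of_flat_comp a.left U'.hom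

variable {𝒳 : AlgSt.Cat S} {M : AlgSp.Space S}

/-- A quasi-compact functor from a flat stack has finite affine coverings by objects flat over the base over affine
etale objects. -/
theorem exists_flatCover (h𝒳 : AS 𝒳) (π : 𝒳 ⥤ᵇ AlgSt.ofSp M.obj)
    (hqc : AlgSt.IsQuasiCompactMor Scheme.fppfPrecoverage π) (hfl : LocQ (LocP @Flat) (FibCat.toSelf 𝒳))
    (η : (AlgSt.ofSp M.obj).obj)
    (het : RepWith @Etale (toYon η)) (hη : IsAffine (StMod.sch (AlgSt.ofSp M.obj) η)) :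
    IsQCO (fun T => Flat T.hom) (StMod.fibCat π η) := by
  have hM := AlgStLib.isAlgStack_ofSp M
  have g𝒳 := h𝒳.isStack.1
  have g𝒴 := hM.isStack.1
  obtain ⟨z, ez, hz⟩ := exists_etaleChart η het
  have hT := isAlgStack_overCat η.base
  haveI := hη
  haveI : CompactSpace ↥η.base.left := (inferInstance : CompactSpace ↥(StMod.sch (AlgSt.ofSp M.obj) η))
  have hW := algFp hM h𝒳 hT π z
  obtain ⟨U, x, hU, hxs, hxj⟩ := isQuasiCompact_swap hM hT h𝒳 (isQuasiCompact_fp_overCat hqc _ z)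
  have hUF : Flat U.hom := flat_hom_of_chart h𝒳 hfl _ (AlgStLib.repWith_comp (isFibGrpd_overCat (C := Over S) U)
    hW.isStack.1 cls_smooth.bc cls_smooth.comp cls_smooth.loc hxs (repWith_fpFst _ z π hz))
  have h1 := (isEqv_topFib (FibCat.fpSnd π z) hW.isStack.1).isQCO_tgt
    (isQCO_of_chart (P := fun T => Flat T.hom) hW U x hU hxs hxj hUF)
  have h2 := (isEqv_fibOfSnd π z g𝒳 g𝒴 hT.isStack.1 (topObj _)).isQCO_tgt h1
  exact ez ▸ h2

end Groth.Agent.RelGen
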