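import Mathlib
import Groth.Agent.RelGen.CombAff
import Groth.Agent.RelGen.NoethSect
import Groth.Agent.RelGen.UnitAff

/-!
# Flatness of the functions on an affine object with exact direct image and bijective unit
-/

universe u

open CategoryTheory CategoryTheory.Limits AlgebraicGeometry TopologicalSpace Opposite TensorProduct

set_option autoImplicit false
set_option backward.isDefEq.respectTransparency false
set_option backward.isDefEq.respectTransparency.types false
set_option linter.style.haveILetI false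

noncomputable section

namespace Groth.Agent.RelGen

open Groth.Agent.QC Groth.Agent.QDescent AffMod

variable {S : Scheme.{u}} {𝒳 Q : AlgSt.Cat S} {π : 𝒳 ⥤ᵇ Q} {η : Q.obj}

local notation "AS" => AlgSt.IsAlgStack Scheme.fppfPrecoverage

/-- Functions flat over a ring on a finite covering give functions on the base flat over that ring. -/
theorem flat_fun_of_cover (h𝒳 : AS 𝒳) (hQ : AS Q) [IsAffine (StMod.sch Q η)] (hG : GExact (StMod.fibCat π η))
    (hb : Function.Bijective (StMod.unitSect π η)) {R : Type u} [CommRing R] (ρ : R →+* Γ(StMod.sch Q η, ⊤))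
    {I : Type u} [Finite I] (b : I → (StMod.fibCat π η).obj)
    (hbaff : ∀ i, IsAffine (StMod.sch (StMod.fibCat π η) (b i)))
    (hcov : ∀ (x : (StMod.fibCat π η).obj) (p : StMod.sch (StMod.fibCat π η) x),
      ∃ (x' : (StMod.fibCat π η).obj) (φ : x' ⟶ x), Hits φ p ∧ ∃ i, Nonempty (x' ⟶ b i))
    (hflat : ∀ i, ((uFib π η (b i)).appTop.hom.comp ρ).Flat) : ρ.Flat := by
  classical
  letI := Fintype.ofFinite I
  have hZ := isAlgStack_fibCat h𝒳 hQ π η
  letI : Algebra R Γ(StMod.sch Q η, ⊤) := ρ.toAlgebra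
  refine Module.Flat.of_forall_isTrivialRelation fun {l f x} hfx => ?_
  have hloc : ∀ i, ∃ (k : ℕ) (c : Fin l → Fin k → R) (y : Fin k → Γ(StMod.sch (StMod.fibCat π η) (b i), ⊤)),
      (∀ t, resFun (x t) (b i) = ∑ j, resFun (ρ (c t j)) (b i) * y j) ∧ ∀ j, ∑ t, f t * c t j = 0 := fun i => by
    letI : Algebra R Γ(StMod.sch (StMod.fibCat π η) (b i), ⊤) := ((uFib π η (b i)).appTop.hom.comp ρ).toAlgebra
    haveI : Module.Flat R Γ(StMod.sch (StMod.fibCat π η) (b i), ⊤) := hflat i
    exact Module.Flat.isTrivialRelation_of_sum_smul_eq_zero (f := f) (x := fun t => resFun (x t) (b i)) (by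
      refine Eq.trans ?_ ((congrArg (fun r => resFun r (b i)) hfx).trans (map_zero _))
      show (∑ t, resFun (ρ (f t)) (b i) * resFun (x t) (b i)) = resFun (∑ t, ρ (f t) * x t) (b i)
      exact ((map_sum (uFib π η (b i)).appTop.hom _ _).trans
        (Finset.sum_congr rfl fun t _ => map_mul (uFib π η (b i)).appTop.hom _ _)).symm)
  choose k c y hc hfc using hloc
  let J := Σ i, Fin (k i)
  let e : J ≃ Fin (Fintype.card J) := Fintype.equivFin J
  let col : Fin (Fintype.card J) → Fin l → R := fun q t => c (e.symm q).1 t (e.symm q).2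
  let a : Fin (Fintype.card J) → ∀ A : AObj (StMod.fibCat π η), (freeMod _ l).ob A :=
    fun q A t => resFun (ρ (col q t)) A.obj
  let r : ∀ A : AObj (StMod.fibCat π η), (freeMod _ l).ob A := fun A t => resFun (x t) A.obj
  have ha : ∀ q {A' A : AObj (StMod.fibCat π η)} (g : A'.obj ⟶ A.obj), (freeMod _ l).r g (a q A) = a q A' :=
    fun q {A' A} g => funext fun t => resFun_nat _ g
  have hr : ∀ {A' A : AObj (StMod.fibCat π η)} (g : A'.obj ⟶ A.obj), (freeMod _ l).r g (r A) = r A' :=
    fun {A' A} g => funext fun t => resFun_nat _ g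
  have hmem : ∀ i, r ⟨b i, hbaff i⟩ ∈ Submodule.span Γ(StMod.sch (StMod.fibCat π η) (b i), ⊤)
      (Set.range fun q => a q ⟨b i, hbaff i⟩) := fun i => by
    rw [show r ⟨b i, hbaff i⟩ = ∑ j, y i j • a (e ⟨i, j⟩) ⟨b i, hbaff i⟩ from funext fun t => by
      refine (hc i t).trans ?_
      rw [Finset.sum_apply]
      refine Finset.sum_congr rfl fun j _ => ?_
      show _ = y i j * resFun (ρ (c (e.symm (e ⟨i, j⟩)).1 t (e.symm (e ⟨i, j⟩)).2)) (b i)
      rw [e.symm_apply_apply]
      exact mul_comm _ _]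
    exact Submodule.sum_mem _ fun j _ => Submodule.smul_mem _ _ (Submodule.subset_span ⟨_, rfl⟩)
  obtain ⟨s, hs⟩ := exists_combAff hZ hG (freeMod _ l) (isBC_freeMod l) a ha r hr fun A _ =>
    mem_span_of_cover_aff hZ.isStack.1 (freeMod _ l) (isBC_freeMod l) hbaff hcov a ha r hr hmem A
  choose v hv using fun q => exists_fun_of_sect hb (s q)
  refine ⟨Fintype.card J, fun t q => col q t, v, fun t => hb.1 ?_, fun q => hfc (e.symm q).1 (e.symm q).2⟩
  obtain ⟨φ, hφ⟩ := exists_sect_of_fun (π := π) h𝒳.isStack.1 (x t)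
  obtain ⟨φ', hφ'⟩ := exists_sect_of_fun (π := π) h𝒳.isStack.1 (∑ q, ρ (col q t) * v q)
  have heq : φ = φ' := sect_ext_of_ok hZ fun w hw hok => by
    refine (hφ w hw).trans (Eq.trans ?_ (hφ' w hw).symm)
    refine (congrFun (hs ⟨w, hw⟩ hok) t).trans ?_
    rw [Finset.sum_apply]
    show (∑ q, valSec (s q) w * resFun (ρ (col q t)) w) = resFun (∑ q, ρ (col q t) * v q) w
    refine Eq.trans ?_ (map_sum (uFib π η w).appTop.hom _ _).symm
    refine Finset.sum_congr rfl fun q _ => ?_
    refine ((congrArg (· * resFun (ρ (col q t)) w) (hv q w)).trans ?_).trans (map_mul (uFib π η w).appTop.hom _ _).symm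
    exact mul_comm _ _
  refine relSect_ext_aff (StMod.OQ 𝒳) h𝒳.isStack.1 fun w hw => ?_
  refine (hφ w hw).symm.trans ?_
  rw [heq]
  exact hφ' w hw

end Groth.Agent.RelGen
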