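import Mathlib
import Groth.Agent.RelGen.FibFactor
import Groth.Agent.RelGen.KPoints
import Groth.Agent.AlgSpLib.CoverDesc
import Groth.Agent.AlgSpLib.SheafLemmas
import Groth.Agent.AlgSpLib.Singleton

/-!
# Good moduli spaces are universal for maps to schemes
-/

universe u

open CategoryTheory CategoryTheory.Limits AlgebraicGeometry TopologicalSpace Opposite

set_option autoImplicit false
set_option backward.isDefEq.respectTransparency false
set_option backward.isDefEq.respectTransparency.types false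
set_option linter.style.haveILetI false

noncomputable section

namespace Groth.Agent.RelGen

open Groth.Agent.QDescent Groth.Agent.AlgStLib
open _root_.AlgSp _root_.AlgSt

variable {S : Scheme.{u}} {𝒳 : AlgSt.Cat S} {M : AlgSp.Sp S} {Z : Over S}

/-- The map of schemes of an object under a functor to a scheme. -/
def schMap (ψ : 𝒳 ⥤ᵇ AlgSt.ofSch Z) (ξ : 𝒳.obj) : StMod.sch 𝒳 ξ ⟶ Z.left := (secOf ψ ξ).down.left

theorem schMap_nat (ψ : 𝒳 ⥤ᵇ AlgSt.ofSch Z) {ξ' ξ : 𝒳.obj} (c : ξ' ⟶ ξ) :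
    StMod.bmap 𝒳 c ≫ schMap ψ ξ = schMap ψ ξ' :=
  congrArg (fun s : ULift.{u + 1} (𝒳.p.obj ξ' ⟶ Z) => s.down.left) (secOf_map ψ c)

theorem schMap_comp (π : 𝒳 ⥤ᵇ AlgSt.ofSp M) (g : M ⟶ (yon S).obj Z) (ξ : 𝒳.obj) (k : (π.obj ξ).base ⟶ Z)
    (hk : toYon (π.obj ξ) ≫ g = (yon S).map k) :
    schMap (BasedFunctor.comp π (AlgSt.ofSpMap g)) ξ =
      (eqToHom (base_eq π ξ).symm).left ≫ k.left := by
  have h1 : ((AlgSt.ofSpMap g).obj (π.obj ξ)).sec = (⟨k⟩ : ULift.{u + 1} ((π.obj ξ).base ⟶ Z)) := by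
    refine Eq.trans (b := (AlgSp.J S).uliftYonedaEquiv (toYon ((AlgSt.ofSpMap g).obj (π.obj ξ))))
      (Equiv.apply_symm_apply _ _).symm ?_
    refine (congrArg _ ((toYon_ofSpMap g (π.obj ξ)).trans hk)).trans ?_
    refine (congrArg (AlgSp.J S).uliftYonedaEquiv (Category.comp_id _).symm).trans ?_
    refine ((AlgSp.J S).uliftYonedaEquiv_naturality (𝟙 _) k).symm.trans ?_
    exact ULift.ext _ _ (Category.comp_id k)
  show (secOf (BasedFunctor.comp π (AlgSt.ofSpMap g)) ξ).down.left = _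
  rw [secOf]
  show (eqToHom (base_eq π ξ).symm ≫ ((AlgSt.ofSpMap g).obj (π.obj ξ)).sec.down).left = _
  rw [h1]
  rw [Over.comp_left]

variable [QuasiSeparatedSpace ↥S] {M : AlgSp.Space S}

local notation "AS" => IsAlgStack Scheme.fppfPrecoverage

variable (h𝒳 : AS 𝒳) (hM : AlgSp.IsQuasiSeparatedSp M.obj) (π : 𝒳 ⥤ᵇ AlgSt.ofSp M.obj)
  (hqc : AlgSt.IsQuasiCompactMor Scheme.fppfPrecoverage π) (hqs : AlgSt.IsQuasiSeparatedMor π)
  (h : StMod.IsGoodModuli π)

include h𝒳 hM hqc hqs h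

/-- Two maps from a scheme etale over the good moduli space agreeing on the stack are equal. -/
theorem hom_ext_etale {U : Over S} (a : (yon S).obj U ⟶ M.obj) (ha : RepWith @Etale a) (k k' : U ⟶ Z)
    (e : ∀ x, uFib π (StMod.etaOf (AlgSp.EtOver.mk a ha)) x ≫ k.left =
      uFib π (StMod.etaOf (AlgSp.EtOver.mk a ha)) x ≫ k'.left) : k = k' :=
  Over.OverMorphism.ext (hom_ext_fib h𝒳 hM π hqc hqs h (AlgSp.EtOver.mk a ha) k.left k'.left e)

/-- Good moduli spaces are universal for maps to schemes. -/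
theorem existsUnique_factor_goodModuli (ψ : 𝒳 ⥤ᵇ AlgSt.ofSch Z) :
    ∃! g : M.obj ⟶ (yon S).obj Z, BasedFunctor.comp π (AlgSt.ofSpMap g) = ψ := by
  obtain ⟨U, p, hp, hs⟩ := M.property.atlas
  have hcov : IsFppfCover (fun _ : PUnit.{u + 1} => (yon S).obj U) (fun _ => p) := by
    refine ⟨fun _ => ⟨AlgSpLib.locP_of_etale AlgSpLib.etST_flat M.property hp,
      AlgSpLib.locP_of_etale AlgSpLib.etST_lfp M.property hp⟩, fun y => ?_⟩
    obtain ⟨z, rfl⟩ := AlgSpLib.isSurjectiveMor_of_repWith hs y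
    exact ⟨PUnit.unit, z, rfl⟩
  let E := AlgSp.EtOver.mk p hp
  obtain ⟨g₀, hg₀⟩ := exists_factor_scheme h𝒳 hM π hqc hqs h E (schMap ψ) (fun c => schMap_nat ψ c)
  have hgS : g₀ ≫ Z.hom = U.hom := hom_ext_fib h𝒳 hM π hqc hqs h E _ _ fun x => by
    rw [← Category.assoc, hg₀ x]
    show (secOf ψ x.left).down.left ≫ Z.hom = _
    rw [Over.w (secOf ψ x.left).down]
    exact (Over.w (StMod.baseOver π x.left x.hom)).symm
  let k₀ : U ⟶ Z := Over.homMk g₀ hgS
  obtain ⟨R, r₁, r₂, sq⟩ := AlgSpLib.exists_pullback M.property.diag p p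
  have hR : RepWith @Etale ((yon S).map r₂ ≫ p) := by
    haveI : Etale r₂.left := hp.2 _ _ _ sq
    exact AlgSpLib.repWith_comp ((AlgSpLib.repWith_yon_iff _).2 ‹Etale r₂.left›) hp
  have hr : r₁ ≫ k₀ = r₂ ≫ k₀ := hom_ext_etale h𝒳 hM π hqc hqs h _ hR _ _ fun x => by
    let a₁ : StMod.etaOf (AlgSp.EtOver.mk _ hR) ⟶ StMod.etaOf E :=
      eltHom r₁ (by rw [toYon_etaOf, toYon_etaOf]; exact sq.w)
    let a₂ : StMod.etaOf (AlgSp.EtOver.mk _ hR) ⟶ StMod.etaOf E :=
      eltHom r₂ (by rw [toYon_etaOf, toYon_etaOf]; rfl)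
    have h1 := hg₀ (push π a₁ x)
    have h2 := hg₀ (push π a₂ x)
    rw [uFib_push] at h1 h2
    exact ((Category.assoc _ _ _).symm.trans h1).trans (h2.symm.trans (Category.assoc _ _ _))
  obtain ⟨g, hg⟩ := AlgSpLib.exists_desc_of_fppfCover M.property (fun _ => IsAlgSpace.yon_obj U) hcov
    (fun _ : PUnit.{u + 1} => (yon S).map k₀) fun _ _ => by
      rw [← cancel_epi sq.isoPullback.hom, sq.isoPullback_hom_fst_assoc, sq.isoPullback_hom_snd_assoc,
        ← Functor.map_comp, ← Functor.map_comp, hr]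
  have hgp : p ≫ g = (yon S).map k₀ := hg PUnit.unit
  refine ⟨g, functor_eq_of_secOf fun ξ => ?_, fun g' hg' => AlgSpLib.hom_ext_of_fppfCover M.property
    (fun _ => IsAlgSpace.yon_obj U) hcov fun _ => ?_⟩
  · -- the composite with the stack
    refine ULift.ext _ _ (Over.OverMorphism.ext ?_)
    obtain ⟨k, hk⟩ := AlgSpLib.exists_map_eq (toYon (π.obj ξ) ≫ g)
    refine (schMap_comp π g ξ k hk.symm).trans ?_
    obtain ⟨P, a, b, sqP⟩ := AlgSpLib.exists_pullback M.property.diag p (toYon (π.obj ξ))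
    haveI : Etale b.left := hp.2 _ _ _ sqP
    haveI : Surjective b.left := hs.2 _ _ _ sqP
    haveI : Epi ((yon S).map b) := AlgSpLib.epi_yon_map b
    have hbk : a ≫ k₀ = b ≫ k := (yon S).map_injective (by
      rw [Functor.map_comp, Functor.map_comp, hk, ← hgp, ← Category.assoc, sqP.w, Category.assoc])
    obtain ⟨e, he⟩ : ∃ e : (π.obj ξ).base ⟶ Z, e.left = (eqToHom (base_eq π ξ)).left ≫ schMap ψ ξ :=
      ⟨eqToHom (base_eq π ξ) ≫ (secOf ψ ξ).down, by rw [Over.comp_left]; rfl⟩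
    suffices hke : k = e by
      rw [hke, he, ← Category.assoc, ← Over.comp_left, eqToHom_trans, eqToHom_refl]
      exact Category.id_comp _
    refine (yon S).map_injective ((cancel_epi ((yon S).map b)).1 ?_)
    rw [← Functor.map_comp, ← Functor.map_comp, ← hbk]
    refine congrArg _ (Over.OverMorphism.ext ?_)
    obtain ⟨w, ew, φ, hφ⟩ := exists_lift_scheme h𝒳.isStack.1 (x := ξ)
      (b.left ≫ (eqToHom (base_eq π ξ)).left)
    obtain ⟨f, hf⟩ : ∃ f : (π.obj w).base ⟶ P, f.left = (eqToHom (base_eq π w)).left ≫ eqToHom ew :=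
      ⟨Over.homMk ((eqToHom (base_eq π w)).left ≫ eqToHom ew) (by
        have h1 : StMod.bmap 𝒳 φ ≫ (𝒳.p.obj ξ).hom = (𝒳.p.obj w).hom := Over.w (𝒳.p.map φ)
        rw [hφ] at h1
        rw [← Over.w (eqToHom (base_eq π w)), ← h1, ← Over.w b, ← Over.w (eqToHom (base_eq π ξ))]
        simp only [Category.assoc]), rfl⟩
    have hfb : (π.map φ).hom = f ≫ b := Over.OverMorphism.ext (by
      rw [hom_map π φ, Over.comp_left, Over.comp_left, Over.comp_left, hf]
      show _ ≫ StMod.bmap 𝒳 φ ≫ _ = _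
      rw [hφ]
      simp only [Category.assoc]
      rw [← Over.comp_left, eqToHom_trans, eqToHom_refl]
      exact congrArg (fun k => (eqToHom (base_eq π w)).left ≫ eqToHom ew ≫ k) (Category.comp_id b.left))
    let α : π.obj w ⟶ StMod.etaOf E := eltHom (f ≫ a) (by
      rw [toYon_etaOf, ← toYon_map (π.map φ), hfb, Functor.map_comp, Functor.map_comp, Category.assoc, Category.assoc]
      exact congrArg ((yon S).map f ≫ ·) sqP.w)
    have hu : uFib π (StMod.etaOf E) (CostructuredArrow.mk α) = eqToHom ew ≫ a.left := by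
      show (eqToHom (π.w_obj w).symm ≫ α.hom).left = _
      show (eqToHom (base_eq π w).symm ≫ (f ≫ a)).left = _
      rw [Over.comp_left, Over.comp_left, hf, ← Category.assoc, ← Category.assoc, ← Over.comp_left, eqToHom_trans,
        eqToHom_refl]
      exact congrArg (· ≫ a.left) (Category.id_comp _)
    refine (cancel_epi (eqToHom ew)).1 ?_
    rw [Over.comp_left, Over.comp_left, he]
    refine (((Category.assoc _ _ _).symm.trans (congrArg (· ≫ k₀.left) hu.symm)).trans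
      (hg₀ (CostructuredArrow.mk α))).trans ?_
    refine (schMap_nat ψ φ).symm.trans ?_
    rw [hφ]
    simp only [Category.assoc]
  · obtain ⟨k', hk'⟩ := AlgSpLib.exists_map_eq (p ≫ g')
    rw [← hk', hgp]
    refine congrArg _ (hom_ext_etale h𝒳 hM π hqc hqs h p hp _ _ fun x => ?_)
    refine Eq.trans ?_ (hg₀ x).symm
    have e1 : schMap (BasedFunctor.comp π (AlgSt.ofSpMap g')) x.left = schMap ψ x.left :=
      congrArg (fun Φ => schMap Φ x.left) hg'
    refine Eq.trans ?_ e1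
    rw [schMap_comp π g' x.left (x.hom.hom ≫ k') (by
      rw [Functor.map_comp, hk', ← Category.assoc]
      exact congrArg (· ≫ g') ((toYon_map x.hom).symm.trans (by rw [toYon_etaOf]; rfl)))]
    show (eqToHom _ ≫ x.hom.hom).left ≫ k'.left = _
    rw [Over.comp_left, Over.comp_left, Category.assoc]

end Groth.Agent.RelGen
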