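import Mathlib
import Groth.Agent.RelGen.NoethCover
import Groth.Agent.RelGen.UnitLocal
import Groth.Agent.RelGen.CohBase
import Groth.Agent.QC.FiniteType

/-!
# Good moduli spaces of locally Noetherian stacks are locally Noetherian
-/

universe u

open CategoryTheory CategoryTheory.Limits AlgebraicGeometry TopologicalSpace Opposite

set_option autoImplicit false
set_option backward.isDefEq.respectTransparency false
set_option backward.isDefEq.respectTransparency.types false
set_option linter.style.haveILetI false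

noncomputable section

namespace Groth.Agent.RelGen

open Groth.Agent.QC Groth.Agent.QDescent
open _root_.AlgSp _root_.AlgSt

variable {S : Scheme.{u}} {𝒳 : AlgSt.Cat S} {M : AlgSp.Space S}

local notation "AS" => IsAlgStack Scheme.fppfPrecoverage

theorem isNoetherian_O (x : 𝒳.obj) [IsAffine (StMod.sch 𝒳 x)] [IsLocallyNoetherian (StMod.sch 𝒳 x)] :
    IsNoetherian Γ(StMod.sch 𝒳 x, ⊤) Γ((StMod.O 𝒳).obj x, ⊤) := by
  haveI : IsNoetherianRing Γ(StMod.sch 𝒳 x, ⊤) :=
    IsLocallyNoetherian.component_noetherian ⟨⊤, isAffineOpen_top _⟩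
  exact (inferInstance : IsNoetherian Γ(StMod.sch 𝒳 x, ⊤) Γ(StMod.sch 𝒳 x, ⊤))

variable [QuasiSeparatedSpace ↥S] (h𝒳 : AS 𝒳) (hM : AlgSp.IsQuasiSeparatedSp M.obj) (π : 𝒳 ⥤ᵇ AlgSt.ofSp M.obj)
  (hqc : AlgSt.IsQuasiCompactMor Scheme.fppfPrecoverage π) (h : StMod.IsGoodModuli π)
  (hN : AlgSt.SmoothLocally (fun T => IsLocallyNoetherian T) 𝒳) (E : AlgSp.EtOver M.obj) (hE : IsAffine E.obj.left.left)

include h𝒳 hM hqc h hN hE

theorem noethCover_etaOf : IsQCP (fun T => IsLocallyNoetherian T) (StMod.fibCat π (StMod.etaOf E)) :=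
  exists_noethCover h𝒳 π hqc hN _ ((toYon_etaOf E).symm ▸ E.property) hE

/-- Affine schemes etale over the good moduli space of a locally Noetherian stack are Noetherian. -/
theorem isNoetherianRing_of_goodModuli : IsNoetherianRing Γ(E.obj.left.left, ⊤) := by
  obtain ⟨I, _, a, ha, hcov⟩ := noethCover_etaOf h𝒳 hM π hqc h hN E hE
  haveI : IsNoetherian Γ(StMod.sch (AlgSt.ofSp M.obj) (StMod.etaOf E), ⊤)
      (StMod.Mod.RelSect π (StMod.O 𝒳) (StMod.etaOf E)) := isNoetherian_relSect (StMod.OQ 𝒳) h𝒳 (AlgStLib.isAlgStack_ofSp M)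
    (gExact_fib_of_isCohAffine h𝒳 π h.1 E hE (goodChartObj_of_qsSp hM E hE)) (h.2 E) a hcov fun i => by
      haveI : IsAffine (StMod.sch 𝒳 (a i).left) := (ha i).1
      haveI : IsLocallyNoetherian (StMod.sch 𝒳 (a i).left) := (ha i).2
      exact isNoetherian_O (a i).left
  show IsNoetherianRing Γ(StMod.sch (AlgSt.ofSp M.obj) (StMod.etaOf E), ⊤)
  exact isNoetherianRing_iff.2 (isNoetherian_of_injective (StMod.unitSect π (StMod.etaOf E)) (h.2 E).1)

/-- Direct images of coherent modules along good moduli spaces of locally Noetherian stacks are coherent. -/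
theorem finite_relSect_of_goodModuli (F : StMod.QCoh 𝒳) (hF : F.obj.IsFinType) :
    Module.Finite Γ(StMod.sch (AlgSt.ofSp M.obj) (StMod.etaOf E), ⊤)
      (StMod.Mod.RelSect π F.obj (StMod.etaOf E)) := by
  obtain ⟨I, _, a, ha, hcov⟩ := noethCover_etaOf h𝒳 hM π hqc h hN E hE
  haveI : IsNoetherian Γ(StMod.sch (AlgSt.ofSp M.obj) (StMod.etaOf E), ⊤)
      (StMod.Mod.RelSect π F.obj (StMod.etaOf E)) := isNoetherian_relSect F h𝒳 (AlgStLib.isAlgStack_ofSp M)
    (gExact_fib_of_isCohAffine h𝒳 π h.1 E hE (goodChartObj_of_qsSp hM E hE)) (h.2 E) a hcov fun i => by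
      haveI : IsAffine (StMod.sch 𝒳 (a i).left) := (ha i).1
      haveI : IsLocallyNoetherian (StMod.sch 𝒳 (a i).left) := (ha i).2
      haveI : (F.obj.obj (a i).left).IsQuasicoherent := F.property.2 (a i).left
      haveI : IsNoetherianRing Γ(StMod.sch 𝒳 (a i).left, ⊤) :=
        IsLocallyNoetherian.component_noetherian ⟨⊤, isAffineOpen_top _⟩
      haveI := QC.finite_sections (isAffineOpen_top (StMod.sch 𝒳 (a i).left)) (hF (a i).left)
      exact (inferInstance : IsNoetherian Γ(StMod.sch 𝒳 (a i).left, ⊤) Γ(F.obj.obj (a i).left, ⊤))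
  infer_instance

omit E hE

theorem isLocNoethSp_of_goodModuli : AlgSp.IsLocNoethSp M.obj := by
  obtain ⟨U, p, hp, hs⟩ := M.property.atlas
  refine ⟨U, p, hp, hs, ⟨fun V => ?_⟩⟩
  haveI : IsAffine (openEt (AlgSp.EtOver.mk p hp) V.1).obj.left.left := V.2
  haveI : IsNoetherianRing Γ(V.1.toScheme, ⊤) := isNoetherianRing_of_goodModuli h𝒳 hM π hqc h hN (openEt (AlgSp.EtOver.mk p hp) V.1) ‹_›
  exact isNoetherianRing_of_ringEquiv Γ(V.1.toScheme, ⊤) V.1.topIso.commRingCatIsoToRingEquiv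

end Groth.Agent.RelGen
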