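import Mathlib
import Groth.Agent.RelGen.FlatStr
import Groth.Agent.RelGen.FlatCover
import Groth.Agent.RelGen.GMNoeth
import Groth.Agent.AlgSpLib.LocP

/-!
# Good moduli spaces of flat stacks are flat
-/

universe u

open CategoryTheory CategoryTheory.Limits AlgebraicGeometry TopologicalSpace Opposite

set_option autoImplicit false
set_option backward.isDefEq.respectTransparency false
set_option backward.isDefEq.respectTransparency.types false
set_option linter.style.haveILetI false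

noncomputable section

namespace Groth.Agent.RelGen

open Groth.Agent.QC Groth.Agent.QDescent Groth.Agent.AlgStLib
open _root_.AlgSp _root_.AlgSt

variable {S : Scheme.{u}} [QuasiSeparatedSpace ↥S] {𝒳 : AlgSt.Cat S} {M : AlgSp.Space S}

local notation "AS" => IsAlgStack Scheme.fppfPrecoverage

variable (h𝒳 : AS 𝒳) (hM : AlgSp.IsQuasiSeparatedSp M.obj) (π : 𝒳 ⥤ᵇ AlgSt.ofSp M.obj)
  (hqc : AlgSt.IsQuasiCompactMor Scheme.fppfPrecoverage π) (h : StMod.IsGoodModuli π)
  (hfl : LocQ (LocP @Flat) (FibCat.toSelf 𝒳))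

include h𝒳 hM hqc h hfl

/-- Functions on affine schemes etale over the good moduli space of a flat stack are flat over the base. -/
theorem flat_appLE_goodModuli (E : AlgSp.EtOver M.obj) [IsAffine E.obj.left.left] (W : S.affineOpens)
    (e : (⊤ : E.obj.left.left.Opens) ≤ E.obj.left.hom ⁻¹ᵁ W.1) : (E.obj.left.hom.appLE W.1 ⊤ e).hom.Flat := by
  haveI : IsAffine (StMod.sch (AlgSt.ofSp M.obj) (StMod.etaOf E)) := ‹IsAffine E.obj.left.left›
  obtain ⟨I, _, a, ha, hcov⟩ := exists_flatCover h𝒳 π hqc hfl (StMod.etaOf E) ((toYon_etaOf E).symm ▸ E.property)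
    ‹_›
  refine flat_fun_of_cover h𝒳 (AlgStLib.isAlgStack_ofSp M)
    (gExact_fib_of_isCohAffine h𝒳 π h.1 E ‹_› (goodChartObj_of_qsSp hM E ‹_›)) (h.2 E)
    (E.obj.left.hom.appLE W.1 ⊤ e).hom a (fun i => (ha i).1) hcov fun i => ?_
  haveI : Flat ((StMod.fibCat π (StMod.etaOf E)).p.obj (a i)).hom := (ha i).2
  haveI : IsAffine (StMod.sch (StMod.fibCat π (StMod.etaOf E)) (a i)) := (ha i).1
  let g := uFib π (StMod.etaOf E) (a i)
  have hw : g ≫ E.obj.left.hom = ((StMod.fibCat π (StMod.etaOf E)).p.obj (a i)).hom :=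
    Over.w (StMod.baseOver π (a i).left (a i).hom)
  have h1 : ((g ≫ E.obj.left.hom).appLE W.1 ⊤ fun x _ => e (show g.base x ∈ (⊤ : E.obj.left.left.Opens) from trivial)).hom.Flat :=
    HasRingHomProperty.appLE @Flat (g ≫ E.obj.left.hom) (hw ▸ ‹Flat _›) W ⟨⊤, isAffineOpen_top _⟩ _
  rw [← Scheme.Hom.appLE_comp_appLE g E.obj.left.hom W.1 ⊤ ⊤ e (top_le_iff.2 rfl)] at h1
  rw [show g.appTop = g.appLE ⊤ ⊤ (top_le_iff.2 rfl) from by rw [Scheme.Hom.appTop, Scheme.Hom.app_eq_appLE]; rfl]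
  exact h1

/-- The good moduli space of a flat stack is flat. -/
theorem locP_flat_goodModuli (q : M.obj ⟶ (AlgSp.yon S).obj (Over.mk (𝟙 S))) : AlgSp.LocP @Flat q := by
  obtain ⟨U, p, hp, hs⟩ := M.property.atlas
  obtain ⟨t, ht⟩ := AlgSpLib.exists_map_eq (p ≫ q)
  have hUS : t.left = U.hom := (Category.comp_id _).symm.trans (Over.w t)
  refine AlgSpLib.locP_of_chart AlgSpLib.etST_flat M.property (IsAlgSpace.yon_obj _) (b := 𝟙 _) (h := t) hp hs
    (AlgSp.repWith_id _ _) (by rw [Category.comp_id, ht]) ?_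
  rw [hUS]
  refine (HasRingHomProperty.iff_appLE (P := @Flat)).2 fun W V e => ?_
  let E := openEt (AlgSp.EtOver.mk p hp) V.1
  haveI : IsAffine E.obj.left.left := V.2
  have e' : (⊤ : E.obj.left.left.Opens) ≤ E.obj.left.hom ⁻¹ᵁ W.1 := fun x _ => e x.2
  have h1 := (flat_appLE_goodModuli h𝒳 hM π hqc h hfl E W e').comp
    (RingHom.Flat.of_bijective (ConcreteCategory.bijective_of_isIso V.1.topIso.hom))
  rw [← CommRingCat.hom_comp] at h1
  refine (congrArg (fun k => RingHom.Flat (CommRingCat.Hom.hom k)) ?_).mp h1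
  show (V.1.ι ≫ U.hom).appLE W.1 ⊤ e' ≫ V.1.topIso.hom = U.hom.appLE W.1 V.1 e
  rw [← Scheme.Hom.appLE_comp_appLE V.1.ι U.hom W.1 V.1 ⊤ e (fun x _ => x.2), Category.assoc]
  simp

end Groth.Agent.RelGen
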