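import Mathlib
import Groth.Agent.AlgStLib.SmLocally
import Groth.Agent.AlgStLib.QC2

/-!
# Stacks locally of finite type over a Noetherian base are locally Noetherian
-/

universe u

open CategoryTheory CategoryTheory.Limits AlgebraicGeometry Opposite

set_option autoImplicit false
set_option backward.isDefEq.respectTransparency false
set_option backward.isDefEq.respectTransparency.types false
set_option linter.style.haveILetI false

noncomputable section

namespace Groth.Agent.RelGen

open Groth.Agent.AlgStLib Groth.Agent.FibCatRep Groth.Agent.AlgSpLib Groth.Agent.FibCat2Misc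
open _root_.AlgSp _root_.AlgSt

variable {S : Scheme.{u}}

theorem smoothLocally_LN_self [IsLocallyNoetherian S] :
    AlgSt.SmoothLocally (fun T => IsLocallyNoetherian T) (FibCat.selfOver (Over S)) := by
  let x := FibCat.toSelf (Stk.ofPsh ((pyon S).obj (base S)))
  have key : ∀ {Q : MorphismProperty (Sp S)}, BCStable Q → Q (𝟙 ((yon S).obj (base S))) → RepByAlgSpWith Q x :=
    fun {Q} hb hQ => by
      haveI := respectsIso_onSp hb
      exact (repWith_iff_of_equiv Q x (Stk.ofPshMap (𝟙 ((yon S).obj (base S)) : (yon S).obj (base S) ⟶ _).hom) (BasedFunctor.id _) x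
        isEquivOver_id isEquivOver_toSelf_base (eqToIso (comp_toSelf _))).2
        (repWith_ofSpMap hb (V := spOf (base S)) (W := spOf (base S)) (𝟙 _) hQ)
  refine smoothLocally_of_chart isAlgStack_self.isStack.1
    (fun _ _ b hb hU => by haveI := hb; haveI := hU; exact LocallyOfFiniteType.isLocallyNoetherian b)
    (fun _ _ a ha hs hW => by haveI := ha; haveI := hs; haveI := hW; exact isLocallyNoetherian_of_smooth_surjective a)
    (U := base S) (x := x) (key cls_smooth.bc ?_) (key cls_surjective.bc fun z => ⟨z, ?_⟩) ?_
  · rw [← (yon S).map_id]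
    exact (locP_yon_iff etST_smooth (𝟙 (base S))).2 (inferInstanceAs (Smooth (𝟙 S)))
  · induction z using Quotient.inductionOn with
    | h a => rfl
  · show IsLocallyNoetherian S
    infer_instance

theorem smoothLocally_LN_of_lft [IsLocallyNoetherian S] (𝒳 : AlgSt.Cat S)
    (h𝒳 : IsAlgStack Scheme.fppfPrecoverage 𝒳) (hft : LocQ (LocP @LocallyOfFiniteType) (FibCat.toSelf 𝒳)) :
    AlgSt.SmoothLocally (fun T => IsLocallyNoetherian T) 𝒳 :=
  smoothLocally_noetherian_of_lft h𝒳 isAlgStack_self (FibCat.toSelf 𝒳) hft smoothLocally_LN_self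

end Groth.Agent.RelGen
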