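import Mathlib
import Groth.Agent.RelGen.SEquiv
import Groth.Agent.AlgStLib.GerbeProps
import Groth.Agent.AlgSpLib.DiagCrit

/-!
# Diagonals of stacks and of spaces under universal homeomorphisms
-/

universe u

open CategoryTheory CategoryTheory.Limits AlgebraicGeometry TopologicalSpace Opposite

set_option autoImplicit false
set_option backward.isDefEq.respectTransparency false
set_option backward.isDefEq.respectTransparency.types false
set_option linter.style.haveILetI false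

noncomputable section

namespace Groth.Agent.RelGen

open Groth.Agent.AlgStLib Groth.Agent.AlgStLib.GerbeMor
open _root_.AlgSp _root_.AlgSt

variable {S : Scheme.{u}} {𝒳 𝒴 𝒵 : AlgSt.Cat S}

local notation "AS" => IsAlgStack Scheme.fppfPrecoverage
local notation "T[" X "]" => FibCat.toSelf X

/-- The map of products induced on the second factor. -/
def prodMapRight (𝒵 : AlgSt.Cat S) (f : 𝒳 ⥤ᵇ 𝒴) : FibCat.fp T[𝒵] T[𝒳] ⥤ᵇ FibCat.fp T[𝒵] T[𝒴] :=
  FibCat.fpLift (FibCat.fpFst _ _) (BasedFunctor.comp (FibCat.fpSnd _ _) f)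
    (eqToIso ((comp_toSelf _).trans (comp_toSelf _).symm))

/-- The map of products induced on the first factor. -/
def prodMapLeft (f : 𝒳 ⥤ᵇ 𝒴) (𝒵 : AlgSt.Cat S) : FibCat.fp T[𝒳] T[𝒵] ⥤ᵇ FibCat.fp T[𝒴] T[𝒵] :=
  FibCat.fpLift (BasedFunctor.comp (FibCat.fpFst _ _) f) (FibCat.fpSnd _ _)
    (eqToIso ((comp_toSelf _).trans (comp_toSelf _).symm))

theorem isHomeomorph_of_base_change {P' B' W' : AlgSt.Cat S} (h𝒫 : AS P') (h𝒲 : AS W') (F₁ : P' ⥤ᵇ B')
    (fst : W' ⥤ᵇ B') (hfst : IsHomeomorph (AlgSt.Points.map fst)) (Φ : W' ⥤ᵇ P') (Ψ : P' ⥤ᵇ W')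
    (hΨ : BasedFunctor.comp Ψ fst = F₁) (hr : BasedFunctor.comp Ψ Φ ≅ BasedFunctor.id P')
    (hl : BasedFunctor.comp Φ F₁ ≅ fst) : IsHomeomorph (AlgSt.Points.map F₁) := by
  have h1 : ∀ p, AlgSt.Points.map Φ (AlgSt.Points.map Ψ p) = p := fun p => by
    rw [← map_comp_points, map_congr_points hr, map_id_points]
  have h2 : ∀ p, AlgSt.Points.map Ψ (AlgSt.Points.map Φ p) = p := fun p => by
    refine hfst.injective ?_
    rw [← map_comp_points, ← map_comp_points, hΨ, ← map_congr_points hl, map_comp_points]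
  have hh : IsHomeomorph (AlgSt.Points.map Ψ) :=
    isHomeomorph_iff_exists_inverse.2 ⟨continuous_map h𝒲 Ψ, AlgSt.Points.map Φ, h1, h2, continuous_map h𝒫 Φ⟩
  have e : AlgSt.Points.map F₁ = AlgSt.Points.map fst ∘ AlgSt.Points.map Ψ := funext fun p => by
    show _ = AlgSt.Points.map fst (AlgSt.Points.map Ψ p)
    rw [← map_comp_points, hΨ]
  rw [e]
  exact hfst.comp hh

theorem isHomeomorph_prodMapRight (h𝒳 : AS 𝒳) (h𝒴 : AS 𝒴) (h2X : AS (FibCat.fp T[𝒵] T[𝒳]))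
    (h2Y : AS (FibCat.fp T[𝒵] T[𝒴])) (f : 𝒳 ⥤ᵇ 𝒴) (hf : AlgSt.IsUnivHomeo Scheme.fppfPrecoverage f) :
    IsHomeomorph (AlgSt.Points.map (prodMapRight 𝒵 f)) := by
  let g := FibCat.fpSnd T[𝒵] T[𝒴]
  let Φ : FibCat.fp g f ⥤ᵇ FibCat.fp T[𝒵] T[𝒳] :=
    FibCat.fpLift (BasedFunctor.comp (FibCat.fpFst g f) (FibCat.fpFst _ _)) (FibCat.fpSnd g f)
      (eqToIso ((comp_toSelf _).trans (comp_toSelf _).symm))
  let Ψ : FibCat.fp T[𝒵] T[𝒳] ⥤ᵇ FibCat.fp g f :=
    FibCat.fpLift (prodMapRight 𝒵 f) (FibCat.fpSnd _ _) (Iso.refl _)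
  exact isHomeomorph_of_base_change h2X (algFp h𝒴 h2Y h𝒳 g f) _ (FibCat.fpFst g f) (hf _ h2Y g) Φ Ψ rfl
    (fpExtSelf (Iso.refl _) (Iso.refl _)) (fpExtSelf (Iso.refl _) (FibCat.fpIso g f).symm)

theorem isHomeomorph_prodMapLeft (h𝒳 : AS 𝒳) (h𝒴 : AS 𝒴) (h2X : AS (FibCat.fp T[𝒳] T[𝒵]))
    (h2Y : AS (FibCat.fp T[𝒴] T[𝒵])) (f : 𝒳 ⥤ᵇ 𝒴) (hf : AlgSt.IsUnivHomeo Scheme.fppfPrecoverage f) :
    IsHomeomorph (AlgSt.Points.map (prodMapLeft f 𝒵)) := by
  let g := FibCat.fpFst T[𝒴] T[𝒵]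
  let Φ : FibCat.fp g f ⥤ᵇ FibCat.fp T[𝒳] T[𝒵] :=
    FibCat.fpLift (FibCat.fpSnd g f) (BasedFunctor.comp (FibCat.fpFst g f) (FibCat.fpSnd _ _))
      (eqToIso ((comp_toSelf _).trans (comp_toSelf _).symm))
  let Ψ : FibCat.fp T[𝒳] T[𝒵] ⥤ᵇ FibCat.fp g f :=
    FibCat.fpLift (prodMapLeft f 𝒵) (FibCat.fpFst _ _) (Iso.refl _)
  exact isHomeomorph_of_base_change h2X (algFp h𝒴 h2Y h𝒳 g f) _ (FibCat.fpFst g f) (hf _ h2Y g) Φ Ψ rfl
    (fpExtSelf (Iso.refl _) (Iso.refl _)) (fpExtSelf (FibCat.fpIso g f).symm (Iso.refl _))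

/-- The range of the diagonal is closed on one side of a surjective universal homeomorphism iff on the other. -/
theorem isClosed_range_diag_iff (h𝒳 : AS 𝒳) (h𝒴 : AS 𝒴) (f : 𝒳 ⥤ᵇ 𝒴)
    (hf : AlgSt.IsUnivHomeo Scheme.fppfPrecoverage f) (hs : AlgSt.IsSurjective f) :
    IsClosed (Set.range (AlgSt.Points.map (FibCat.diag T[𝒳]))) ↔
      IsClosed (Set.range (AlgSt.Points.map (FibCat.diag T[𝒴]))) := by
  have hXX := isAlgStack_fp isAlgStack_selfOver repByAlgSp1_diag_selfOver h𝒳 h𝒳 T[𝒳] T[𝒳]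
  have hXY := isAlgStack_fp isAlgStack_selfOver repByAlgSp1_diag_selfOver h𝒳 h𝒴 T[𝒳] T[𝒴]
  have hYY := isAlgStack_fp isAlgStack_selfOver repByAlgSp1_diag_selfOver h𝒴 h𝒴 T[𝒴] T[𝒴]
  let F := BasedFunctor.comp (prodMapRight 𝒳 f) (prodMapLeft f 𝒴)
  have hF : IsHomeomorph (AlgSt.Points.map F) := by
    have e : AlgSt.Points.map F = AlgSt.Points.map (prodMapLeft f 𝒴) ∘ AlgSt.Points.map (prodMapRight 𝒳 f) :=
      funext fun p => map_comp_points _ _ p
    rw [e]
    exact (isHomeomorph_prodMapLeft h𝒳 h𝒴 hXY hYY f hf).comp (isHomeomorph_prodMapRight h𝒳 h𝒴 hXX hXY f hf)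
  let i : BasedFunctor.comp (FibCat.diag T[𝒳]) F ≅ BasedFunctor.comp f (FibCat.diag T[𝒴]) :=
    fpExtSelf (Iso.refl _) (Iso.refl _)
  have e : AlgSt.Points.map F '' Set.range (AlgSt.Points.map (FibCat.diag T[𝒳])) =
      Set.range (AlgSt.Points.map (FibCat.diag T[𝒴])) := by
    rw [← Set.range_comp]
    refine Set.Subset.antisymm ?_ ?_
    · rintro _ ⟨p, rfl⟩
      exact ⟨AlgSt.Points.map f p, by
        rw [← map_comp_points, ← map_congr_points i, map_comp_points]; rfl⟩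
    · rintro _ ⟨q, rfl⟩
      obtain ⟨p, rfl⟩ := hs q
      exact ⟨p, by
        show AlgSt.Points.map F (AlgSt.Points.map _ p) = _
        rw [← map_comp_points, map_congr_points i, map_comp_points]⟩
  rw [← e]
  exact hF.isClosedEmbedding.isClosed_iff_image_isClosed

theorem isAlgSpace_prod_self (M : AlgSp.Space S) : IsAlgSpace (M.obj ⨯ M.obj) :=
  AlgSpLib.isAlgSpace_of_isPullback_space (IsAlgSpace.yon_obj _) M.property M.property
    (IsPullback.of_is_product (prodIsProd M.obj M.obj) Groth.Agent.SpQS.isTerminalBase)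

/-- A locally separated space is separated iff the range of its diagonal is closed among points of stacks. -/
theorem isSeparatedSp_iff_isClosed_range_diag (M : AlgSp.Space S) (hls : AlgSp.IsLocallySeparatedSp M.obj) :
    AlgSp.IsSeparatedSp M.obj ↔ IsClosed (Set.range (AlgSt.Points.map (FibCat.diag T[AlgSt.ofSp M.obj]))) := by
  have hMM := isAlgSpace_prod_self M
  let N : AlgSp.Space S := ⟨_, hMM⟩
  have hN := isAlgStack_ofSp N
  have hM := isAlgStack_ofSp M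
  have h2 := isAlgStack_fp isAlgStack_selfOver repByAlgSp1_diag_selfOver hM hM T[AlgSt.ofSp M.obj] T[AlgSt.ofSp M.obj]
  let H : AlgSt.ofSp N.obj ⥤ᵇ FibCat.fp T[AlgSt.ofSp M.obj] T[AlgSt.ofSp M.obj] :=
    FibCat.fpLift (AlgSt.ofSpMap prod.fst) (AlgSt.ofSpMap prod.snd)
      (eqToIso ((comp_toSelf _).trans (comp_toSelf _).symm))
  let P₁ := FibCat.fpFst T[AlgSt.ofSp M.obj] T[AlgSt.ofSp M.obj]
  let P₂ := FibCat.fpSnd T[AlgSt.ofSp M.obj] T[AlgSt.ofSp M.obj]
  let G : FibCat.fp T[AlgSt.ofSp M.obj] T[AlgSt.ofSp M.obj] ⥤ᵇ AlgSt.ofSp N.obj :=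
    funOfSec (fun a => (AlgSp.J S).uliftYonedaEquiv (prod.lift ((AlgSp.J S).uliftYonedaEquiv.symm (secOf P₁ a))
      ((AlgSp.J S).uliftYonedaEquiv.symm (secOf P₂ a)) : (yon S).obj _ ⟶ N.obj)) fun {a b} m => by
      refine ((AlgSp.J S).uliftYonedaEquiv_naturality _ _).trans (congrArg _ ?_)
      apply prod.hom_ext <;> simp only [Category.assoc, prod.lift_fst, prod.lift_snd] <;>
        rw [← secOf_map _ m] <;> exact ((AlgSp.J S).uliftYonedaEquiv_symm_map _ _).symm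
  have happ : ∀ {F F' : AlgSp.Sp S} (a : F ⟶ F') {T : Over S} (x : (yon S).obj T ⟶ F),
      a.hom.app (op T) ((AlgSp.J S).uliftYonedaEquiv x) = (AlgSp.J S).uliftYonedaEquiv (x ≫ a) := fun a _ x =>
    ((AlgSp.J S).uliftYonedaEquiv_comp x a).symm
  have hG : ∀ a, secOf G a = (AlgSp.J S).uliftYonedaEquiv (prod.lift ((AlgSp.J S).uliftYonedaEquiv.symm (secOf P₁ a))
      ((AlgSp.J S).uliftYonedaEquiv.symm (secOf P₂ a)) : (yon S).obj _ ⟶ N.obj) := fun a =>
    ConcreteCategory.congr_hom (N.obj.obj.map_id _) _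
  let j₁ : BasedFunctor.comp G (AlgSt.ofSpMap (prod.fst : N.obj ⟶ M.obj)) ≅ P₁ := isoOfSec _ _ fun a => by
    refine (secOf_comp_ofPshMap G _ a).trans ?_
    rw [hG]
    refine (happ _ _).trans ?_
    rw [prod.lift_fst, Equiv.apply_symm_apply]
  let j₂ : BasedFunctor.comp G (AlgSt.ofSpMap (prod.snd : N.obj ⟶ M.obj)) ≅ P₂ := isoOfSec _ _ fun a => by
    refine (secOf_comp_ofPshMap G _ a).trans ?_
    rw [hG]
    refine (happ _ _).trans ?_
    rw [prod.lift_snd, Equiv.apply_symm_apply]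
  let kG : BasedFunctor.comp H G ≅ BasedFunctor.id _ := isoOfSec _ _ fun a => by
    refine (secOf_comp H G a).trans ((ConcreteCategory.congr_hom (N.obj.obj.map_id _) _).trans ?_)
    rw [hG, secOf_id]
    have e₁ : secOf P₁ (H.obj a) = (prod.fst : N.obj ⟶ M.obj).hom.app (op a.base) a.sec :=
      ConcreteCategory.congr_hom (M.obj.obj.map_id _) _
    have e₂ : secOf P₂ (H.obj a) = (prod.snd : N.obj ⟶ M.obj).hom.app (op a.base) a.sec :=
      ConcreteCategory.congr_hom (M.obj.obj.map_id _) _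
    refine (Equiv.eq_symm_apply _).1 ?_
    apply prod.hom_ext
    · rw [prod.lift_fst, e₁]
      refine (Equiv.symm_apply_eq _).2 ?_
      rw [← happ, Equiv.apply_symm_apply]
      rfl
    · rw [prod.lift_snd, e₂]
      refine (Equiv.symm_apply_eq _).2 ?_
      rw [← happ, Equiv.apply_symm_apply]
      rfl
  have hH : IsHomeomorph (AlgSt.Points.map H) := by
    refine isHomeomorph_iff_exists_inverse.2 ⟨continuous_map h2 H, AlgSt.Points.map G, fun p => ?_, fun p => ?_,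
      continuous_map hN G⟩
    · rw [← map_comp_points, map_congr_points kG, map_id_points]
    · rw [← map_comp_points, map_congr_points (show BasedFunctor.comp G H ≅ BasedFunctor.id _ from fpExtSelf j₁ j₂),
        map_id_points]
  let k : BasedFunctor.comp (AlgSt.ofSpMap (Limits.diag M.obj : M.obj ⟶ N.obj)) H ≅ FibCat.diag T[AlgSt.ofSp M.obj] :=
    fpExtSelf
      (isoOfSec _ _ fun a => by
        refine (secOf_comp_ofPshMap (AlgSt.ofSpMap (Limits.diag M.obj : M.obj ⟶ N.obj)) _ a).trans ?_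
        rw [secOf_ofPshMap]
        refine (congrArg (fun q : M.obj ⟶ M.obj => q.hom.app (op a.base) a.sec) (prod.lift_fst (𝟙 M.obj) (𝟙 M.obj))).trans ?_
        exact (secOf_id a).symm)
      (isoOfSec _ _ fun a => by
        refine (secOf_comp_ofPshMap (AlgSt.ofSpMap (Limits.diag M.obj : M.obj ⟶ N.obj)) _ a).trans ?_
        rw [secOf_ofPshMap]
        refine (congrArg (fun q : M.obj ⟶ M.obj => q.hom.app (op a.base) a.sec) (prod.lift_snd (𝟙 M.obj) (𝟙 M.obj))).trans ?_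
        exact (secOf_id a).symm)
  have e : AlgSt.Points.map H '' (stPts N.obj '' Set.range (AlgSp.Points.map (Limits.diag M.obj : M.obj ⟶ N.obj))) =
      Set.range (AlgSt.Points.map (FibCat.diag T[AlgSt.ofSp M.obj])) := by
    rw [← Set.image_comp, ← Set.range_comp]
    refine Set.Subset.antisymm ?_ ?_
    · rintro _ ⟨p, rfl⟩
      refine ⟨stPts M.obj p, ?_⟩
      show _ = AlgSt.Points.map H (stPts N.obj (AlgSp.Points.map _ p))
      rw [← map_congr_points k, map_comp_points, map_stPts]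
    · rintro _ ⟨q, rfl⟩
      obtain ⟨p, rfl⟩ := (bijective_stPts _).2 q
      refine ⟨p, ?_⟩
      show AlgSt.Points.map H (stPts N.obj (AlgSp.Points.map _ p)) = _
      rw [← map_congr_points k, map_comp_points, map_stPts]
  rw [← e, ← hH.isClosedEmbedding.isClosed_iff_image_isClosed,
    ← (isHomeomorph_stPts N).isClosedEmbedding.isClosed_iff_image_isClosed]
  exact AlgSpLib.repWith_isClosedImmersion_iff hMM hls

end Groth.Agent.RelGen
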